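import Cfsg.Agent.Lib.GW.EightLinear

/-!
# No linear character of an involution centralizer with a large inverted abelian subgroup
-/

set_option autoImplicit false
set_option linter.unusedSectionVars false
set_option linter.style.haveILetI false

open Cfsg DihedralGroup
open scoped ComplexConjugate

namespace Cfsg.Agent.GW.Eight

universe u

/-- The order formula bounds the weighted count from below. -/
theorem order_arith_low {N r idx x : ℕ} {δ : ℤ} {a : ℕ} (hN : N = 2 ^ (a + 2)) (hro : Odd r)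
    (hidx : Odd idx) (hδ : δ = 1 ∨ δ = -1) (hne : (x : ℤ) ≠ δ)
    (hdiv : (N : ℤ) ∣ (x : ℤ) - δ)
    (heq : (idx : ℤ) * ((x : ℤ) - δ) ^ 2 = 2 * (x : ℤ) * ((x : ℤ) + δ) * (N : ℤ) ^ 2 * (r : ℤ) ^ 2)
    {W : ℚ} (hW : W * idx = 2 * (N : ℚ) ^ 2 * (r : ℚ) ^ 2) : 32 / 45 ≤ W := by
  set d : ℤ := (x : ℤ) - δ with hd
  obtain ⟨m, hm⟩ := hdiv
  have hN4 : 4 ≤ N := by
    rw [hN, pow_add]
    have := Nat.one_le_two_pow (n := a)
    omega
  have hm2 : (2 : ℤ) ∣ m := by
    have h3 : (idx : ℤ) * m ^ 2 = 2 * ((x : ℤ) * ((x : ℤ) + δ) * (r : ℤ) ^ 2) := by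
      refine mul_left_cancel₀ (show ((N : ℤ)) ^ 2 ≠ 0 by positivity) ?_
      rw [hm] at heq
      linear_combination heq
    rcases (Int.prime_two.dvd_mul.mp ⟨_, h3⟩) with h | h
    · exact absurd h (by
        have := Nat.odd_iff.mp hidx
        omega)
    · exact Int.prime_two.dvd_of_dvd_pow h
  obtain ⟨k, rfl⟩ := hm2
  have hd0 : d ≠ 0 := sub_ne_zero.mpr hne
  have hk : k ≠ 0 := fun h => hd0 (by rw [hm, h]; ring)
  have hr1 := hro.pos
  set u : ℤ := δ * d with hu
  have hδ2 : (δ : ℤ) * δ = 1 := by rcases hδ with rfl | rfl <;> norm_num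
  have habs : 8 ≤ u ∨ u ≤ -8 := by
    have h8 : (8 : ℤ) ≤ 2 * (N : ℤ) := by omega
    have hsgn : 1 ≤ δ * k ∨ δ * k ≤ -1 := by
      rcases hδ with rfl | rfl <;> omega
    have e : u = 2 * (N : ℤ) * (δ * k) := by rw [hu, hm]; ring
    rcases hsgn with h | h
    · left; rw [e]; nlinarith
    · right; rw [e]; nlinarith
  have hxx : ((x : ℤ) : ℚ) = (δ : ℚ) * (1 + (u : ℚ)) := by
    have : (x : ℤ) = δ * (1 + u) := by rw [hu, hd]; linear_combination (δ - (x : ℤ)) * hδ2
    exact_mod_cast this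
  have hWu : W * ((1 + (u : ℚ)) * (2 + (u : ℚ))) = (u : ℚ) ^ 2 := by
    have hq : (idx : ℚ) * (d : ℚ) ^ 2 = 2 * (x : ℚ) * ((x : ℚ) + (δ : ℚ)) * (N : ℚ) ^ 2 * (r : ℚ) ^ 2 := by
      exact_mod_cast heq
    have hδq : (δ : ℚ) * δ = 1 := by exact_mod_cast hδ2
    have e1 : (u : ℚ) ^ 2 = (d : ℚ) ^ 2 := by rw [hu]; push_cast; linear_combination (d : ℚ) ^ 2 * hδq
    rw [Int.cast_natCast] at hxx
    have hi : (idx : ℚ) ≠ 0 := Nat.cast_ne_zero.mpr hidx.pos.ne'
    refine mul_left_cancel₀ hi ?_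
    rw [e1, hq, hxx]
    linear_combination ((1 + (u : ℚ)) * (2 + (u : ℚ))) * hW -
      2 * (N : ℚ) ^ 2 * (r : ℚ) ^ 2 * (1 + (u : ℚ)) * (2 + (u : ℚ)) * hδq
  have hpos : 0 < (1 + (u : ℚ)) * (2 + (u : ℚ)) := by
    rcases habs with h | h
    · have : (8 : ℚ) ≤ u := by exact_mod_cast h
      positivity
    · have : (u : ℚ) ≤ -8 := by exact_mod_cast h
      nlinarith
  by_contra hle
  rw [not_le] at hle
  have h5 : (u : ℚ) ^ 2 < 32 / 45 * ((1 + (u : ℚ)) * (2 + (u : ℚ))) := hWu ▸ mul_lt_mul_of_pos_right hle hpos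
  rcases habs with h | h
  · have : (8 : ℚ) ≤ u := by exact_mod_cast h
    nlinarith
  · have : (u : ℚ) ≤ -8 := by exact_mod_cast h
    nlinarith

variable {X : Type*}

open scoped Classical in
/-- Degrees at least twelve bound the weighted count by one half. -/
theorem shape_half [DecidableEq X] {S : Finset X} {w v d : X → ℤ} {x : X → ℕ}
    (hw4 : ∑ c ∈ S, w c * w c = 4) (hv3 : ∑ c ∈ S, v c * v c = 3) (hvw : ∑ c ∈ S, v c * w c = 2)
    (hpar : ∀ c ∈ S, Odd (d c) ↔ Odd (w c)) (h4 : (S.filter fun c => Odd (d c)).card = 4)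
    (h2 : ∀ c ∈ S, ¬ Odd (d c) → d c = 2 ∨ d c = -2)
    (hmass : ∑ c ∈ S, d c * d c = 4 * (S.card : ℤ) - 12)
    (hx1 : ∀ c ∈ S, d c = 1 ∨ d c = -1 → 12 ≤ x c)
    (hx2 : ∀ c ∈ S, d c = 2 ∨ d c = -2 → 12 ≤ x c)
    {W : ℚ}
    (hW : ∑ c ∈ S, (v c : ℚ) * ((d c : ℚ) ^ 2 / (x c : ℚ)) = W) : W ≤ 1 / 2 := by
  -- the odd values are units
  have hone : ∀ c ∈ S, Odd (d c) → d c = 1 ∨ d c = -1 := by
    set T := S.filter fun c => Odd (d c) with hT
    have hsplit := Finset.sum_filter_add_sum_filter_not S (fun c => Odd (d c)) (fun c => d c * d c)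
    have hb : ∑ c ∈ S.filter (fun c => ¬ Odd (d c)), d c * d c = ((S.filter fun c => ¬ Odd (d c)).card : ℤ) * 4 := by
      rw [← nsmul_eq_mul, ← Finset.sum_const]
      refine Finset.sum_congr rfl fun c hc => ?_
      obtain ⟨h1, h1'⟩ := Finset.mem_filter.mp hc
      rcases h2 c h1 h1' with e | e <;> rw [e] <;> norm_num
    rw [hmass, ← hT, hb] at hsplit
    have hcard := Finset.card_filter_add_card_filter_not (s := S) (fun c => Odd (d c))
    rw [← hT, h4] at hcard
    have hsum : ∑ c ∈ T, (d c * d c - 1) = 0 := by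
      rw [Finset.sum_sub_distrib, Finset.sum_const, h4]
      have : (S.card : ℤ) = 4 + ((S.filter fun c => ¬ Odd (d c)).card : ℤ) := by exact_mod_cast hcard.symm
      rw [this] at hsplit
      simp only [nsmul_eq_mul, Nat.cast_ofNat, mul_one]
      linarith
    intro c hc ho
    have hnn : ∀ y ∈ T, 0 ≤ d y * d y - 1 := fun y hy => by
      have h := (Finset.mem_filter.mp hy).2
      have : d y ≠ 0 := fun e => by rw [e] at h; exact absurd h (by decide)
      have : 0 < d y * d y := mul_self_pos.mpr this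
      omega
    have h0 := (Finset.sum_eq_zero_iff_of_nonneg hnn).mp hsum c (Finset.mem_filter.mpr ⟨hc, ho⟩)
    have : (d c - 1) * (d c + 1) = 0 := by linear_combination h0
    rcases mul_eq_zero.mp this with e | e
    · left; omega
    · right; omega
  obtain ⟨c0, hc0⟩ : (S.filter fun c => Odd (d c)).Nonempty := Finset.card_pos.mp (by omega)
  obtain ⟨hw1, hwc⟩ := Char.DihBlock.norm_four hw4
    ⟨c0, (Finset.mem_filter.mp hc0).1, (hpar c0 (Finset.mem_filter.mp hc0).1).mp (Finset.mem_filter.mp hc0).2⟩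
  obtain ⟨Q, f, ε, hQS, hQc, hQw, hf, hfw, hε, hval⟩ := Char.DihBlock.agree_two hw1 (by exact_mod_cast hv3) hvw
  obtain ⟨p, q, hpq, rfl⟩ := Finset.card_eq_two.mp hQc
  have hpS : p ∈ S := hQS (by simp)
  have hqS : q ∈ S := hQS (by simp)
  have hfp : f ≠ p := fun h => hQw p (by simp) (h ▸ hfw)
  have hfq : f ≠ q := fun h => hQw q (by simp) (h ▸ hfw)
  have hwodd : ∀ c ∈ ({p, q} : Finset X), w c = 1 ∨ w c = -1 := fun c hc => by
    rcases hw1 c (hQS hc) with e | e | e
    · exact Or.inr e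
    · exact absurd e (hQw c hc)
    · exact Or.inl e
  have hodd : ∀ c ∈ ({p, q} : Finset X), Odd (d c) := fun c hc => (hpar c (hQS hc)).mpr (by
    rcases hwodd c hc with e | e <;> rw [e] <;> decide)
  have hdf : d f = 2 ∨ d f = -2 := h2 f hf fun h => by
    have := (hpar f hf).mp h
    rw [hfw] at this
    exact absurd this (by decide)
  have hsum : ∀ {A : Type} [CommRing A] (g : X → A), ∑ c ∈ S, (v c : A) * g c =
      (w p : A) * g p + (w q : A) * g q + (ε : A) * g f := by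
    intro A _ g
    have hsub : ({p, q, f} : Finset X) ⊆ S := by
      intro c hc
      simp only [Finset.mem_insert, Finset.mem_singleton] at hc
      rcases hc with rfl | rfl | rfl <;> assumption
    rw [← Finset.sum_subset hsub fun c hc hn => ?_]
    · rw [Finset.sum_insert (by simp [hpq, hfp.symm]), Finset.sum_insert (by simp [hfq.symm]), Finset.sum_singleton,
        hval p hpS, hval q hqS, hval f hf, if_pos (by simp), if_neg hfp.symm, if_pos (by simp), if_neg hfq.symm,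
        if_neg (by simp [hfp, hfq]), if_pos rfl, add_zero, add_zero, zero_add]
      ring
    · simp only [Finset.mem_insert, Finset.mem_singleton, not_or] at hn
      rw [hval c hc, if_neg (by simp [hn.1, hn.2.1]), if_neg hn.2.2, add_zero, Int.cast_zero, zero_mul]
  have hp3 := hx1 p hpS (hone p hpS (hodd p (by simp)))
  have hq3 := hx1 q hqS (hone q hqS (hodd q (by simp)))
  have hf6 := hx2 f hf hdf
  have hsq : ∀ c ∈ ({p, q} : Finset X), (d c : ℚ) ^ 2 = 1 := fun c hc => by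
    rcases hone c (hQS hc) (hodd c hc) with e | e <;> rw [e] <;> norm_num
  have hfsq : (d f : ℚ) ^ 2 = 4 := by rcases hdf with e | e <;> rw [e] <;> norm_num
  have hW' : W = (w p : ℚ) / (x p : ℚ) + (w q : ℚ) / (x q : ℚ) + 4 * (ε : ℚ) / (x f : ℚ) := by
    rw [← hW, hsum fun c => (d c : ℚ) ^ 2 / (x c : ℚ), hsq p (by simp), hsq q (by simp), hfsq]
    ring
  rw [hW']
  have hb : ∀ (a : ℤ) (n : ℕ), (a = 1 ∨ a = -1) → 12 ≤ n → (a : ℚ) / n ≤ 1 / 12 := by
    intro a n ha hn
    have h12 : (12 : ℚ) ≤ n := by exact_mod_cast hn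
    rcases ha with rfl | rfl
    · push_cast
      exact one_div_le_one_div_of_le (by norm_num) h12
    · push_cast
      rw [neg_div]
      linarith [show (0 : ℚ) ≤ 1 / (n : ℚ) by positivity]
  have h1 := hb (w p) (x p) (hwodd p (by simp)) hp3
  have h2 := hb (w q) (x q) (hwodd q (by simp)) hq3
  have h3 := hb ε (x f) hε hf6
  rw [mul_div_assoc]
  linarith

variable {G : Type u} [Group G] [Fintype G] {M : Ideal AlgInt}

open scoped Classical in
/-- A nontrivial character constant on `zA` has degree at least twelve. -/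
theorem twelve_le [IsSimpleGroup G] (χ : IrrCharacter G) (hχ : χ ≠ Char.irrOne) {A : Subgroup G}
    (hAodd : Odd (Nat.card A)) (hAc : ∀ a ∈ A, ∀ b ∈ A, a * b = b * a)
    {z : G} (hz2 : z * z = 1) (hz : ∀ a ∈ A, Commute z a) (δ : ℂ)
    (hval : ∀ a ∈ A, (χ : G → ℂ) (z * a) = δ)
    {u : G} (hu : ∀ a ∈ A, u * a * u⁻¹ = a⁻¹) {p : G} (hp : Odd (orderOf p)) (hpn : ∀ a ∈ A, p * a * p⁻¹ ∈ A)
    (hpA : ¬ ∀ a ∈ A, Commute p a) : 12 ≤ charDegree (χ : G → ℂ) := by
  letI : Fintype A := Fintype.ofFinite A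
  haveI : Finite (A →* ℂˣ) := Finite.of_equiv _ Char.linearEquiv.symm
  letI : Fintype (A →* ℂˣ) := Fintype.ofFinite _
  have hcl := Char.isClassFunction_character (Char.irr_isCharacter χ.2)
  obtain ⟨f, hf⟩ : ∃ f : A → ℂ, f = (χ : G → ℂ) ∘ A.subtype := ⟨_, rfl⟩
  have hfch : IsCharacter A f := hf ▸ Char.isCharacter_comp _ (Char.irr_isCharacter χ.2)
  choose n hn using fun l : A →* ℂˣ => Char.classInner_natCast hfch
    (Char.irr_isCharacter (Char.isIrrCharacter_linear l) : IsCharacter A fun a => (l a : ℂ))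
  -- the expansion
  have hexp : ∀ a : A, f a = ∑ l : A →* ℂˣ, (n l : ℂ) * (l a : ℂ) := by
    intro a
    have hall := (Char.forall_linear_iff_comm (G := A)).1 fun x y => Subtype.ext (hAc x x.2 y y.2)
    conv_lhs => rw [Char.char_expansion hfch]
    rw [Finset.sum_apply]
    refine (Fintype.sum_equiv (Char.linearEquiv.trans (Equiv.subtypeUnivEquiv hall)) _ _ fun l => ?_).symm
    rw [Pi.smul_apply, smul_eq_mul, ← hn l]
    rfl
  have hsum : ∑ l : A →* ℂˣ, n l = charDegree (χ : G → ℂ) := by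
    have h := hexp 1
    rw [hf] at h
    simp only [Function.comp_apply, map_one, Char.charDegree_spec, Units.val_one, mul_one] at h
    exact_mod_cast h.symm
  -- invariance
  have hinv : ∀ (α : MulAut A), (∀ a, f (α a) = f a) → ∀ l : A →* ℂˣ, n (l.comp α.toMonoidHom) = n l := by
    intro α hα l
    have h : classInner f (fun a => ((l.comp α.toMonoidHom) a : ℂ)) = classInner f fun a => (l a : ℂ) := by
      simp only [classInner]
      congr 1
      exact Fintype.sum_equiv α.toEquiv _ _ fun a => by rw [← hα a]; rfl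
    rw [hn, hn] at h
    exact_mod_cast h
  have hAodd' : ∀ a : A, Odd (orderOf a) := fun a => hAodd.of_dvd_nat (orderOf_dvd_natCard a)
  have hne2 : ∀ l : A →* ℂˣ, l ≠ 1 → l⁻¹ ≠ l := by
    intro l hl e
    refine hl (MonoidHom.ext fun a => orderOf_eq_one_iff.1 ?_)
    have h2 : l a ^ 2 = 1 := by
      rw [pow_two]; nth_rewrite 1 [← e]; rw [MonoidHom.inv_apply, inv_mul_cancel]
    exact Nat.eq_one_of_dvd_coprimes (hAodd' a).coprime_two_left (orderOf_dvd_of_pow_eq_one h2) (orderOf_map_dvd l a)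
  obtain ⟨αu, hαu⟩ : ∃ α : MulAut A, ∀ a, α a = a⁻¹ := by
    refine ⟨⟨⟨fun a => a⁻¹, fun a => a⁻¹, inv_inv, inv_inv⟩, fun a b => Subtype.ext ?_⟩, fun a => rfl⟩
    show ((a : G) * b)⁻¹ = (a : G)⁻¹ * (b : G)⁻¹
    rw [mul_inv_rev]
    exact hAc _ (inv_mem b.2) _ (inv_mem a.2)
  have hinvl : ∀ l : A →* ℂˣ, n l⁻¹ = n l := by
    intro l
    have h := hinv αu (fun a => by
      rw [hαu, hf, Function.comp_apply, Function.comp_apply, map_inv]
      show (χ : G → ℂ) (a : G)⁻¹ = (χ : G → ℂ) a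
      rw [← hu a a.2, hcl]) l
    rwa [show l.comp αu.toMonoidHom = l⁻¹ from MonoidHom.ext fun a => by
      show l (αu a) = (l a)⁻¹
      rw [hαu, map_inv]] at h
  have hpn' : ∀ a ∈ A, p⁻¹ * a * p ∈ A := by
    obtain ⟨j, hj⟩ : ∃ j : ℕ, p⁻¹ = p ^ j := by
      exact ⟨orderOf p - 1, by
        rw [eq_comm, eq_inv_iff_mul_eq_one, ← pow_succ, Nat.sub_add_cancel (orderOf_pos p), pow_orderOf_eq_one]⟩
    have key : ∀ j : ℕ, ∀ a ∈ A, p ^ j * a * (p ^ j)⁻¹ ∈ A := by
      intro j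
      induction j with
      | zero => intro a ha; simpa using ha
      | succ j ih =>
        intro a ha
        rw [pow_succ', show p * p ^ j * a * (p * p ^ j)⁻¹ = p * (p ^ j * a * (p ^ j)⁻¹) * p⁻¹ by group]
        exact hpn _ (ih a ha)
    intro a ha
    have := key j a ha
    rwa [← hj, inv_inv] at this
  obtain ⟨α, hα⟩ : ∃ α : MulAut A, ∀ a : A, (α a : G) = p * a * p⁻¹ :=
    ⟨⟨⟨fun a => ⟨p * a * p⁻¹, hpn a a.2⟩, fun a => ⟨p⁻¹ * a * p, hpn' a a.2⟩,
      fun a => Subtype.ext (by group), fun a => Subtype.ext (by group)⟩,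
      fun a b => Subtype.ext (by show p * (a * b : G) * p⁻¹ = p * a * p⁻¹ * (p * b * p⁻¹); group)⟩, fun a => rfl⟩
  have hfα : ∀ a, f (α a) = f a := fun a => by
    rw [hf, Function.comp_apply, Function.comp_apply]
    show (χ : G → ℂ) (α a : G) = _
    rw [hα, hcl]
    rfl
  -- a moved constituent
  obtain ⟨l, hl0, hlα⟩ : ∃ l : A →* ℂˣ, n l ≠ 0 ∧ l.comp α.toMonoidHom ≠ l := by
    by_contra hcon
    push Not at hcon
    refine hpA fun a ha => ?_
    by_contra hc
    refine hχ (Eight.eq_irrOne_of_value χ (t := ((α ⟨a, ha⟩ * (⟨a, ha⟩ : A)⁻¹ : A) : G)) ?_ ?_)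
    · intro e
      rw [Subgroup.coe_mul, InvMemClass.coe_inv, hα, mul_inv_eq_one] at e
      exact hc (mul_inv_eq_iff_eq_mul.1 e)
    · have h := hexp (α ⟨a, ha⟩ * (⟨a, ha⟩ : A)⁻¹)
      rw [Finset.sum_congr rfl (g := fun l : A →* ℂˣ => (n l : ℂ)) fun l _ => by
        by_cases hl : n l = 0
        · rw [hl, Nat.cast_zero, zero_mul]
        · have := DFunLike.congr_fun (hcon l hl) ⟨a, ha⟩
          simp only [MonoidHom.comp_apply, MulEquiv.coe_toMonoidHom] at this
          rw [map_mul, map_inv, this, mul_inv_cancel, Units.val_one, mul_one]] at h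
      rw [hf, Function.comp_apply, ← Nat.cast_sum, hsum, ← Char.charDegree_spec] at h
      exact h
  have hl1 : l ≠ 1 := fun e => hlα (by rw [e, MonoidHom.one_comp])
  obtain ⟨o, ho⟩ : ∃ o, orderOf p = 2 * o + 1 := hp
  have hpow : ∀ (j : ℕ) (a : A), ((α ^ j) a : G) = p ^ j * a * (p ^ j)⁻¹ := by
    intro j
    induction j with
    | zero => intro a; simp
    | succ j ih => intro a; rw [pow_succ', pow_succ', MulAut.mul_apply, hα, ih]; group
  have hid : ∀ a, (α ^ orderOf p) a = a := fun a => Subtype.ext (by rw [hpow, pow_orderOf_eq_one]; group)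
  -- the `j`-th image of `l`
  obtain ⟨L, hL⟩ : ∃ L : ℕ → (A →* ℂˣ), ∀ j a, L j a = l ((α ^ j) a) :=
    ⟨fun j => l.comp (α ^ j : MulAut A).toMonoidHom, fun _ _ => rfl⟩
  have hL0 : L 0 = l := MonoidHom.ext fun a => by rw [hL, pow_zero]; rfl
  have hL1 : L 1 = l.comp α.toMonoidHom := MonoidHom.ext fun a => by rw [hL, pow_one]; rfl
  have hLn : ∀ j, n (L j) = n l := by
    intro j
    induction j with
    | zero => rw [hL0]
    | succ j ih =>
      rw [← ih, ← hinv α hfα (L j)]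
      refine congrArg n (MonoidHom.ext fun a => ?_)
      show L (j + 1) a = L j (α a)
      rw [hL, hL, pow_succ, MulAut.mul_apply]
  -- a power fixing `l` with exponent prime to `2o+1` fixes it
  have hne_inv : ∀ j, L j ≠ l⁻¹ := by
    intro j e
    have h1 : ∀ a, l ((α ^ j) a) = (l a)⁻¹ := fun a => by rw [← hL, e, MonoidHom.inv_apply]
    have h2 : ∀ (i : ℕ) (a : A), l ((α ^ (j * (2 * i))) a) = l a := by
      intro i
      induction i with
      | zero => intro a; rw [mul_zero, mul_zero, pow_zero]; rfl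
      | succ i ih =>
        intro a
        rw [show j * (2 * (i + 1)) = j + (j + j * (2 * i)) by ring, pow_add, pow_add, MulAut.mul_apply,
          MulAut.mul_apply, h1, h1, inv_inv, ih]
    refine hne2 l hl1 (MonoidHom.ext fun a => ?_)
    have h3 : l ((α ^ (j * (2 * o + 1))) a) = l a := by
      rw [mul_comm, pow_mul, ← ho]
      have : (α ^ orderOf p) = 1 := MulEquiv.ext hid
      rw [this, one_pow]; rfl
    rw [show j * (2 * o + 1) = j + j * (2 * o) by ring, pow_add, MulAut.mul_apply, h1, h2] at h3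
    exact h3
  have hL2 : L 2 ≠ l := by
    intro e
    have h1 : ∀ a, l ((α ^ 2) a) = l a := fun a => by rw [← hL, e]
    have h2 : ∀ (i : ℕ) (a : A), l ((α ^ (2 * i)) a) = l a := by
      intro i
      induction i with
      | zero => intro a; rfl
      | succ i ih => intro a; rw [show 2 * (i + 1) = 2 + 2 * i by ring, pow_add, MulAut.mul_apply, h1, ih]
    refine hlα (MonoidHom.ext fun a => ?_)
    show l (α a) = l a
    have h3 := h2 (o + 1) a
    rw [show 2 * (o + 1) = orderOf p + 1 by omega, pow_add, pow_one, MulAut.mul_apply, hid] at h3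
    exact h3
  have hsh : ∀ {i j : ℕ}, L i = L j → i ≤ j → L (j - i) = l := by
    intro i j e hij
    refine MonoidHom.ext fun a => ?_
    have h := DFunLike.congr_fun e ((α ^ i).symm a)
    rw [hL, hL, show j = (j - i) + i by omega, pow_add, MulAut.mul_apply, MulEquiv.apply_symm_apply] at h
    rw [hL, ← h]
  have hsh' : ∀ {i j : ℕ}, (L i)⁻¹ = L j → i ≤ j → L (j - i) = l⁻¹ := by
    intro i j e hij
    refine MonoidHom.ext fun a => ?_
    have h := DFunLike.congr_fun e ((α ^ i).symm a)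
    rw [MonoidHom.inv_apply, hL, hL, show j = (j - i) + i by omega, pow_add, MulAut.mul_apply,
      MulEquiv.apply_symm_apply] at h
    rw [hL, MonoidHom.inv_apply, ← h]
  have hL1' : L 1 ≠ l := hL1 ▸ hlα
  -- even multiplicities
  have htwo : ∀ m : A →* ℂˣ, m ≠ 1 → 2 ∣ n m := by
    intro m hm
    have hz' : z ^ 2 = 1 := by rw [pow_two, hz2]
    let z₀ : Multiplicative (ZMod 2) →* G :=
      MonoidHom.mk' (fun c => z ^ (Multiplicative.toAdd c).val) fun a b => by
        rw [← pow_add, toAdd_mul, ZMod.val_add, ← pow_eq_pow_mod _ hz']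
    let z' : ULift.{u} (Multiplicative (ZMod 2)) →* G := z₀.comp MulEquiv.ulift.toMonoidHom
    have hzc : ∀ c, c ≠ 1 → z' c = z := by
      rintro ⟨c⟩ hc
      have e : (Multiplicative.toAdd c).val = 1 := by
        rcases (show ∀ y : ZMod 2, y = 0 ∨ y.val = 1 by decide) (Multiplicative.toAdd c) with h | h
        · exact absurd (ULift.ext _ _ (toAdd_eq_zero.1 h)) hc
        · exact h
      show z ^ (Multiplicative.toAdd c).val = z
      rw [e, pow_one]
    have hzcomm : ∀ c, ∀ a ∈ A, Commute (z' c) a := by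
      intro c a ha
      by_cases hc : c = 1
      · rw [hc, map_one]; exact Commute.one_left _
      · rw [hzc c hc]; exact hz a ha
    let φ : ULift.{u} (Multiplicative (ZMod 2)) × A →* G :=
      MonoidHom.noncommCoprod z' A.subtype fun c a => hzcomm c a a.2
    let m' : ULift.{u} (Multiplicative (ZMod 2)) × A →* ℂˣ := m.comp (MonoidHom.snd _ _)
    obtain ⟨k, hk⟩ := Char.classInner_natCast (Char.isCharacter_comp φ (Char.irr_isCharacter χ.2))
      (Char.irr_isCharacter (Char.isIrrCharacter_linear m') : IsCharacter _ fun q => (m' q : ℂ))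
    refine ⟨k, ?_⟩
    have h0 : ∑ a : A, conj ((m a : ℂ)) = 0 := by
      have h1 : (Units.coeHom ℂ).comp m ≠ 1 := fun e => hm (MonoidHom.ext fun a => Units.ext (DFunLike.congr_fun e a))
      rw [← map_sum, show ∑ a : A, ((m a : ℂ)) = 0 from sum_hom_units_eq_zero _ h1, map_zero]
    have hn' := hn m
    rw [classInner] at hk hn'
    have hone : ∀ a : A, (χ : G → ℂ) (φ (1, a)) * conj ((m' (1, a) : ℂ)) = f a * conj ((m a : ℂ)) := fun a => by
      show (χ : G → ℂ) (z' 1 * (a : G)) * conj ((m a : ℂ)) = _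
      rw [map_one, one_mul, hf]; rfl
    have hrest : ∀ c, c ≠ 1 → ∑ a : A, (χ : G → ℂ) (φ (c, a)) * conj ((m' (c, a) : ℂ)) = 0 := by
      intro c hc
      have e : ∀ a : A, (χ : G → ℂ) (φ (c, a)) * conj ((m' (c, a) : ℂ)) = δ * conj ((m a : ℂ)) := fun a => by
        show (χ : G → ℂ) (z' c * (a : G)) * conj ((m a : ℂ)) = _
        rw [hzc c hc]
        rw [hval a a.2]
      simp only [e, ← Finset.mul_sum, h0, mul_zero]
    simp only [Function.comp_apply] at hk
    rw [Fintype.sum_prod_type, Fintype.sum_eq_single 1 hrest, Finset.sum_congr rfl fun a _ => hone a,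
      Nat.card_prod, Nat.card_congr Equiv.ulift, Nat.card_congr Multiplicative.toAdd, Nat.card_zmod] at hk
    have hA0 : (Nat.card A : ℂ) ≠ 0 := Nat.cast_ne_zero.2 Nat.card_pos.ne'
    have e : (n m : ℂ) = ((2 * k : ℕ) : ℂ) := by
      rw [← hn', Nat.cast_mul, ← hk, Nat.cast_mul]
      push_cast
      field_simp
    exact_mod_cast e
  -- the count
  have hinvn : ∀ j, n (L j)⁻¹ = n l := fun j => by rw [hinvl, hLn]
  have d01 : L 0 ≠ L 1 := fun e => hL1' (by rw [← hL0]; exact e.symm)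
  have d02 : L 0 ≠ L 2 := fun e => hL2 (by rw [← hL0]; exact e.symm)
  have d12 : L 1 ≠ L 2 := fun e => hL1' (hsh e (by norm_num))
  have di : ∀ i j, i ≤ j → (L i)⁻¹ ≠ L j := fun i j hij e => hne_inv _ (hsh' e hij)
  have dii : ∀ i j, (L i)⁻¹ ≠ L j := fun i j e => by
    rcases le_total i j with hij | hij
    · exact di i j hij e
    · exact di j i hij (MonoidHom.ext fun a => by rw [MonoidHom.inv_apply, ← e, MonoidHom.inv_apply, inv_inv])
  have e01 : (L 0)⁻¹ ≠ (L 1)⁻¹ := fun e => d01 (inv_injective e)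
  have e02 : (L 0)⁻¹ ≠ (L 2)⁻¹ := fun e => d02 (inv_injective e)
  have hsix : ∑ m ∈ ({L 0, L 1, L 2, (L 0)⁻¹, (L 1)⁻¹, (L 2)⁻¹} : Finset (A →* ℂˣ)), n m = 6 * n l := by
    rw [Finset.sum_insert (by simp [d01, d02, (dii 0 0).symm, (dii 1 0).symm, (dii 2 0).symm]),
      Finset.sum_insert (by simp [d12, (dii 0 1).symm, (dii 1 1).symm, (dii 2 1).symm]),
      Finset.sum_insert (by simp [(dii 0 2).symm, (dii 1 2).symm, (dii 2 2).symm]),
      Finset.sum_insert (by simp [e01, e02]), Finset.sum_pair (fun e => d12 (inv_injective e)), hLn, hLn, hLn,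
      hinvn, hinvn, hinvn]
    ring
  have hle : 6 * n l ≤ charDegree (χ : G → ℂ) := by
    rw [← hsix, ← hsum]
    exact Finset.sum_le_sum_of_subset (Finset.subset_univ _)
  have h2 := htwo l hl1
  omega

variable {P : Sylow 2 G} {N : ℕ} [NeZero N] {ι : DihedralGroup N ≃* (P : Subgroup G)} {t : G} {O : Subgroup G}
  {L : Subgroup.centralizer ({t} : Set G) →* ℂˣ}

namespace Data

open Char.DihBlock in
open scoped Classical in
/-- No linear character when an inverted abelian subgroup forces degrees at least twelve. -/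
theorem eight_degree_false [IsSimpleGroup G] (hM : IsPModular 2 M) (D : Data P ι t O L) (hL : L ≠ 1) {r₀ : ℕ}
    {A : Subgroup G} (hAodd : Odd (Nat.card A)) (hAc : ∀ a ∈ A, ∀ b ∈ A, a * b = b * a)
    (hAt : ∀ a ∈ A, a ∈ Subgroup.centralizer ({t} : Set G))
    (hAL : ∀ (c : Subgroup.centralizer ({t} : Set G)), (c : G) ∈ A → L c = 1) {v : G} (hv : ∀ a ∈ A, v * a * v⁻¹ = a⁻¹)
    {p : G} (hp : Odd (orderOf p)) (hpn : ∀ a ∈ A, p * a * p⁻¹ ∈ A) (hpA : ¬ ∀ a ∈ A, Commute p a)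
    (hinv : ∀ i : ZMod N, Nat.card {y : G // y ∈ O ∧ (ι (sr i) : G) * y * (ι (sr i) : G)⁻¹ = y⁻¹} = r₀)
    (hfix : ∀ i : ZMod N, Nat.card (Subgroup.centralizer ({t, (ι (sr i) : G)} : Set G)) * r₀ = 4 * Nat.card O) : False := by
  haveI : Fintype (Subgroup.centralizer ({t} : Set G)) := Fintype.ofFinite _
  obtain ⟨B, hB, hdef, huniq⟩ := D.exists_block hM
  obtain ⟨S, hf, hψ, hd⟩ := D.exists_dblock hM hB hdef
  have huniq' : ∀ β, IsInducedBlock M (Subgroup.centralizer ({t} : Set G)) β B → β = S.f := fun β hβ => by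
    rw [hf]; exact huniq β hβ
  have hζ := Complex.isPrimitiveRoot_exp N (NeZero.ne N)
  set ζ := Complex.exp (2 * Real.pi * Complex.I / N) with hζd
  obtain ⟨a, ha⟩ := D.pow
  have h2 := D.two_dvd
  have hN4 : 4 ≤ N := by
    rw [ha, pow_add]
    have := Nat.one_le_two_pow (n := a)
    omega
  set h : ZMod N := ((N / 2 : ℕ) : ZMod N) with hh
  have hne : h ≠ 0 := half_ne h2
  set j : ZMod N := jz N ⟨0, by omega⟩ with hj
  have gram : ∀ {p q : ZMod N}, p ≠ 0 → q ≠ 0 → ∀ k : ℤ,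
      (2 : ℂ) + ((if p = q then 1 else 0) + if p = -q then (1 : ℂ) else 0) = (k : ℂ) →
        ∑ χ ∈ Char.bset B, S.cf hζ p χ * S.cf hζ q χ = k := fun {p q} hp hq k hk => by
    exact_mod_cast (S.cf_gram hζ p q hp hq).trans hk
  obtain ⟨hcard, h4, h22⟩ := standard hζ S
  -- the mass of the column
  have hmass : ∑ χ ∈ Char.bset B, S.colZ hζ χ * S.colZ hζ χ = 4 * ((Char.bset B).card : ℤ) - 12 := by
    have ho : OnRot ((N : ℂ) • ind h : DihedralGroup N → ℂ) := (onRot_ind hne).smul _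
    have e := S.parseval S.indHalf_isClass ho S.indHalf_isClass ho
    rw [inner_ind S.indHalf_isClass] at e
    have e1 : ((∑ χ ∈ Char.bset B, S.colZ hζ χ * S.colZ hζ χ : ℤ) : ℂ) = (((2 * N : ℕ) : ℤ) : ℂ) := by
      rw [Int.cast_sum]
      refine Eq.trans (Finset.sum_congr rfl fun χ _ => ?_) (e.trans ?_)
      · show _ = S.col χ * (starRingEnd ℂ) (S.col χ)
        rw [S.conj_col hζ, S.col_eq hζ, Int.cast_mul]
        rfl
      · have hhn : h = -h := (neg_half h2).symm
        simp [ind, ← hh, ← hhn]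
        ring
    have e2 : ∑ χ ∈ Char.bset B, S.colZ hζ χ * S.colZ hζ χ = ((2 * N : ℕ) : ℤ) := by exact_mod_cast e1
    rw [e2, hcard]
    have : 2 * (N / 2) = N := Nat.mul_div_cancel' h2
    omega
  have hdeg := fun χ (hχ : χ ∈ Char.bset B) =>
    D.degree_facts hM S hf hψ huniq' hζ hL (Char.mem_bset.mp hχ)
  -- the weighted count
  set W : ℚ := ∑ χ ∈ Char.bset B, (S.cf hζ j χ : ℚ) *
    ((S.colZ hζ χ : ℚ) ^ 2 / (charDegree (χ : G → ℂ) : ℚ)) with hWd
  have hcC := D.card_cent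
  have hgC : Nat.card G = (Subgroup.centralizer ({t} : Set G)).index * (2 * N * Nat.card O) := by
    rw [← hcC, Subgroup.index_mul_card]
  set idx := (Subgroup.centralizer ({t} : Set G)).index with hidx
  have hW : W * idx = 2 * (N : ℚ) ^ 2 * (r₀ : ℚ) ^ 2 := by
    have e := D.weighted_sum S hψ hd hinv (tau_isClass hζ j) (onRot_tau hζ j)
    have hsum : ∑ k : ZMod N, tau hζ j (r k) = 2 * (N : ℂ) := by
      simp only [tau, Pi.sub_apply, dth, zero_mul, neg_zero, AddChar.map_zero_eq_one, Finset.sum_sub_distrib,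
        Finset.sum_add_distrib, ← neg_mul, Char.dihE_sum_left]
      rw [if_neg jz_ne.1, if_neg (neg_ne_zero.mpr jz_ne.1), Finset.sum_const, Finset.card_univ, ZMod.card,
        nsmul_eq_mul]
      ring
    rw [hsum] at e
    have hWc : (W : ℂ) = ∑ χ ∈ Char.bset B, S.v (tau hζ j) χ * ((χ : G → ℂ) t ^ 2 / (χ : G → ℂ) 1) := by
      rw [hWd, Rat.cast_sum]
      refine Finset.sum_congr rfl fun χ hχ => ?_
      rw [S.cf_spec hζ, (hdeg χ hχ).1, Char.charDegree_spec]
      push_cast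
      rfl
    rw [← hWc, hgC, hcC] at e
    have ho0 : ((2 * N * Nat.card O : ℕ) : ℂ) ≠ 0 := Nat.cast_ne_zero.mpr (by
      have := D.hOodd.pos
      positivity)
    have e' : (W : ℂ) * (idx : ℂ) = 2 * (N : ℂ) ^ 2 * (r₀ : ℂ) ^ 2 := by
      refine mul_right_cancel₀ ho0 ?_
      push_cast at e ⊢
      linear_combination e
    exact_mod_cast e'
  -- the degrees
  have htwelve : ∀ χ ∈ Char.bset B, 12 ≤ charDegree (χ : G → ℂ) := fun χ hχ => by
    refine twelve_le χ (fun e => D.irrOne_not_mem hM S hf hψ huniq' hζ hL (e ▸ Char.mem_bset.mp hχ))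
      hAodd hAc (z := t) (by rw [← pow_two, ← D.order_t, pow_orderOf_eq_one]) (fun a ha => (Subgroup.mem_centralizer_singleton_iff.1 (hAt a ha)).symm)
      (S.col χ) (fun a ha => ?_) hv hp hpn hpA
    have hy : ¬ 2 ∣ orderOf (⟨a, hAt a ha⟩ : Subgroup.centralizer ({t} : Set G)) := by
      rw [Subgroup.orderOf_mk]
      exact (hAodd.of_dvd_nat (Subgroup.orderOf_dvd_natCard A ha)).not_two_dvd_nat
    have h := D.purity hM S hf hψ huniq' hζ (Char.mem_bset.mp hχ) ⟨a, hAt a ha⟩ hy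
    rw [hAL ⟨a, hAt a ha⟩ ha, Units.val_one, mul_one] at h
    exact h
  -- the shape
  have hlow := shape_half (S := Char.bset B) (w := S.cf hζ h) (v := S.cf hζ j) (d := S.colZ hζ)
    (x := fun χ => charDegree (χ : G → ℂ))
    (gram hne hne 4 (by rw [if_pos rfl, if_pos (neg_half h2).symm]; norm_num))
    (gram jz_ne.1 jz_ne.1 3 (by rw [if_pos rfl, if_neg jz_pair.2]; norm_num))
    (gram jz_ne.1 hne 2 (by rw [if_neg jz_ne.2, if_neg (by rw [hh, neg_half h2]; exact jz_ne.2)]; norm_num))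
    (fun χ _ => by simp [DBlock.colZ, ← hh, Int.odd_sub, parity_simps]) h4 h22 hmass
    (fun χ hχ _ => htwelve χ hχ) (fun χ hχ _ => htwelve χ hχ) (W := W) rfl
  -- the order formula
  set ι' : DihedralGroup N →* G := (P : Subgroup G).subtype.comp ι.toMonoidHom with hι'
  have hD : Char.DihSyl P ι' := ⟨D.four_dvd, ⟨_, ha⟩, (P : Subgroup G).subtype_injective.comp ι.injective, by
    rw [hι', MonoidHom.range_comp, MonoidHom.range_eq_top.mpr ι.surjective, ← MonoidHom.range_eq_map,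
      Subgroup.range_subtype]⟩
  have hJ : Char.dihJ ι' = t := D.ht.symm
  obtain ⟨χ₁, χ₂, χ₃, χ', δ, δ₂, δ₃, hδ, -, -, -, hne1, -, -, -, -, -, -, hmem, hvals, -⟩ :=
    hD.principal_block hM hζ (N / 2) (Nat.mul_div_cancel' h2).symm
  have hval1 : ∀ l : ℕ, 0 < l → l < N → (χ₁ : G → ℂ) (ι' (r (l : ZMod N))) = δ := fun l h1 h1' =>
    (hvals l h1 h1').1
  have hconj : ∀ i : ZMod N, IsConj (Char.dihJ ι') (ι' (sr i)) := fun i => by
    rw [hJ]
    obtain ⟨g, hg, -⟩ := D.hfus i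
    exact isConj_iff.mpr ⟨g, hg⟩
  obtain ⟨hxδ, hord⟩ := hD.order_formula hM (hconj 0) (hconj (-1)) χ₁ ((hmem χ₁).mpr (Or.inr (Or.inl rfl))) hne1 δ hδ
    hval1
  set x := charDegree (χ₁ : G → ℂ) with hx
  have hdiv : (N : ℤ) ∣ (x : ℤ) - δ := by
    obtain ⟨n, hn⟩ := const_value_dvd (H := ULift.{u} (Multiplicative (ZMod N)))
      ((ι'.comp (MonoidHom.mk' (fun i : Multiplicative (ZMod N) => (r i.toAdd : DihedralGroup N))
        fun p q => (r_mul_r _ _).symm)).comp MulEquiv.ulift.toMonoidHom) χ₁ δ (by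
        rintro ⟨i⟩ hi
        have h0 : i.toAdd ≠ 0 := fun e => hi (by
          rw [show i = 1 from toAdd_eq_zero.mp e]; rfl)
        show (χ₁ : G → ℂ) (ι' (r i.toAdd)) = _
        rw [← ZMod.natCast_zmod_val i.toAdd]
        exact hval1 _ (ZMod.val_pos.mpr h0) (ZMod.val_lt _))
    rw [Nat.card_congr Equiv.ulift, Nat.card_congr Multiplicative.toAdd, Nat.card_zmod] at hn
    exact ⟨(n : ℤ) - δ, by linear_combination hn⟩
  have hr0 : (r₀ : ℚ) ≠ 0 := Nat.cast_ne_zero.mpr (D.sign hfix).pos.ne'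
  have hcent : ∀ i : ZMod N, 1 / (Nat.card (Subgroup.centralizer ({t, ι' (sr i)} : Set G)) : ℚ) =
      (r₀ : ℚ) / (4 * (Nat.card O : ℚ)) := fun i => by
    have e : (Nat.card (Subgroup.centralizer ({t, ι' (sr i)} : Set G)) : ℚ) * r₀ = 4 * (Nat.card O : ℚ) := by
      exact_mod_cast hfix i
    rw [← e]
    field_simp
  rw [hJ, hcent, hcent, hcC, hgC] at hord
  have heq : (idx : ℤ) * ((x : ℤ) - δ) ^ 2 =
      2 * (x : ℤ) * ((x : ℤ) + δ) * (N : ℤ) ^ 2 * (r₀ : ℤ) ^ 2 := by
    have ho0 : (Nat.card O : ℚ) ≠ 0 := Nat.cast_ne_zero.mpr D.hOodd.pos.ne'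
    have hN0 : (N : ℚ) ≠ 0 := Nat.cast_ne_zero.mpr (NeZero.ne N)
    have e : (idx : ℚ) * ((x : ℚ) - δ) ^ 2 = 2 * (x : ℚ) * ((x : ℚ) + δ) * (N : ℚ) ^ 2 * (r₀ : ℚ) ^ 2 := by
      push_cast at hord
      field_simp at hord ⊢
      linear_combination hord / 16
    exact_mod_cast e
  have hhigh := order_arith_low ha (D.sign hfix) D.index_odd hδ hxδ hdiv heq hW
  linarith

end Data

end Cfsg.Agent.GW.Eight
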