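import Mathlib

/-!
# Arithmetic of the degrees in blocks with a four defect group

`S₀ = 1 + 1/x₁ + e/x₂ - 1/x₃` is the pair count of the principal block.
-/

set_option autoImplicit false

namespace Cfsg.Agent.GW

/-- The value of the principal sum for degrees `x y w` and sign `e`. -/
noncomputable def principalSum (e : ℤ) (x y w : ℕ) : ℚ := 1 + 1 / (x : ℚ) + (e : ℚ) / y - 1 / (w : ℚ)

theorem inv_le {a : ℕ} {n : ℕ} (hn : 0 < n) (h : n ≤ a) : 1 / (a : ℚ) ≤ 1 / (n : ℚ) :=
  one_div_le_one_div_of_le (by exact_mod_cast hn) (by exact_mod_cast h)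

theorem principalSum_lower {e : ℤ} {x y w : ℕ} (he : e = 1 ∨ e = -1) (hx : 5 ≤ x) (hy : 5 ≤ y) (hw : 7 ≤ w)
    (hy7 : e = -1 → 7 ≤ y) (hrel : (1 : ℤ) + x + e * y - w = 0) :
    5 / 7 < principalSum e x y w ∧ (e = 1 → 1 < principalSum e x y w) ∧
      (e = -1 → principalSum e x y w < 1) := by
  have hx0 : (0 : ℚ) < x := by exact_mod_cast (by omega : 0 < x)
  have hy0 : (0 : ℚ) < y := by exact_mod_cast (by omega : 0 < y)
  have h1 : (0 : ℚ) < 1 / x := by positivity
  have h2 : (0 : ℚ) < 1 / y := by positivity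
  have hw7 : 1 / (w : ℚ) ≤ 1 / (7 : ℕ) := inv_le (by norm_num) hw
  unfold principalSum
  rcases he with rfl | rfl
  · have hwx : 1 / (w : ℚ) < 1 / x := by
      refine one_div_lt_one_div_of_lt hx0 ?_
      exact_mod_cast (by omega : x < w)
    refine ⟨?_, fun _ => ?_, fun h => absurd h (by norm_num)⟩ <;> push_cast <;> linarith
  · have hy' : 1 / (y : ℚ) ≤ 1 / (7 : ℕ) := inv_le (by norm_num) (hy7 rfl)
    have hyx : 1 / (x : ℚ) < 1 / y := by
      refine one_div_lt_one_div_of_lt hy0 ?_
      exact_mod_cast (by omega : y < x)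
    have hw0 : (0 : ℚ) < 1 / w := by
      have : (0 : ℚ) < w := by exact_mod_cast (by omega : 0 < w)
      positivity
    push_cast at *
    refine ⟨?_, fun h => absurd h (by norm_num), fun _ => ?_⟩ <;> rw [neg_div] <;> linarith

theorem sign_term_le {a : ℤ} {x : ℕ} (ha : a = 1 ∨ a = -1) (hx : 0 < x) (h5 : a = 1 → 5 ≤ x) :
    (a : ℚ) / x ≤ ((a : ℚ) + 1) / 10 ∧ ((a : ℚ) = -1 → (a : ℚ) / x < 0) := by
  have hx0 : (0 : ℚ) < x := by exact_mod_cast hx
  rcases ha with rfl | rfl
  · have := inv_le (by norm_num) (h5 rfl)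
    push_cast at *
    exact ⟨by linarith, fun h => absurd h (by norm_num)⟩
  · push_cast
    have : (0 : ℚ) < 1 / x := by positivity
    rw [neg_div]
    exact ⟨by linarith, fun _ => by linarith⟩

/-- The sum of a block with inertial index three and no degree one is at most `3/5`. -/
theorem signed_sum_le {ι : Type*} (s : Finset ι) (hs : s.card = 4) (a : ι → ℤ) (x : ι → ℕ)
    (ha : ∀ i ∈ s, a i = 1 ∨ a i = -1) (hx : ∀ i ∈ s, 0 < x i) (h5 : ∀ i ∈ s, a i = 1 → 5 ≤ x i)
    (hrel : ∑ i ∈ s, a i * (x i : ℤ) = 0) : ∑ i ∈ s, (a i : ℚ) / x i ≤ 3 / 5 := by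
  classical
  by_cases hall : ∀ i ∈ s, a i = 1
  · have : 0 < ∑ i ∈ s, a i * (x i : ℤ) :=
      Finset.sum_pos (fun i hi => by rw [hall i hi, one_mul]; exact_mod_cast hx i hi)
        (Finset.card_pos.1 (by omega))
    omega
  · push Not at hall
    obtain ⟨j, hj, hj1⟩ := hall
    have hj' : a j = -1 := (ha j hj).resolve_left hj1
    rw [← Finset.add_sum_erase _ _ hj]
    have hneg := (sign_term_le (ha j hj) (hx j hj) (h5 j hj)).2 (by rw [hj']; norm_num)
    have hle : ∑ i ∈ s.erase j, (a i : ℚ) / x i ≤ ∑ _i ∈ s.erase j, (1 / 5 : ℚ) := by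
      refine Finset.sum_le_sum fun i hi => ?_
      have hi' := Finset.mem_of_mem_erase hi
      have h := (sign_term_le (ha i hi') (hx i hi') (h5 i hi')).1
      rcases ha i hi' with h' | h' <;> rw [h'] at h ⊢ <;> push_cast at * <;> linarith
    rw [Finset.sum_const, Finset.card_erase_of_mem hj, hs] at hle
    norm_num at hle
    linarith

/-- The principal sum is not `8/x₀` for a degree `x₀ ≡ 3 (mod 4)` other than three. -/
theorem principalSum_ne {e : ℤ} {x y w x₀ : ℕ} (he : e = 1 ∨ e = -1) (hx : 5 ≤ x) (hy : 5 ≤ y) (hw : 7 ≤ w)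
    (hx4 : x % 4 = 1) (hw4 : w % 4 = 3) (hy4 : e = 1 → y % 4 = 1) (hy4' : e = -1 → y % 4 = 3)
    (hy7 : e = -1 → 7 ≤ y) (hrel : (1 : ℤ) + x + e * y - w = 0) (h0 : 7 ≤ x₀) (h04 : x₀ % 4 = 3) :
    principalSum e x y w * x₀ ≠ 8 := by
  intro h
  obtain ⟨hlo, hp, hm⟩ := principalSum_lower he hx hy hw hy7 hrel
  have hx0q : (0 : ℚ) < x₀ := by exact_mod_cast (by omega : 0 < x₀)
  rcases he with rfl | rfl
  · have h1 := hp rfl
    have hlt : x₀ < 8 := by
      have : (x₀ : ℚ) < 8 := by rw [← h]; nlinarith
      exact_mod_cast this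
    obtain rfl : x₀ = 7 := by omega
    have hw' : (w : ℚ) = 1 + x + y := by exact_mod_cast (by omega : w = 1 + x + y)
    have hx' : (x : ℚ) ≠ 0 := Nat.cast_ne_zero.2 (by omega)
    have hy' : (y : ℚ) ≠ 0 := Nat.cast_ne_zero.2 (by omega)
    have hw0 : (1 : ℚ) + x + y ≠ 0 := by positivity
    unfold principalSum at h
    rw [hw'] at h
    have key : 7 * ((y : ℚ) * (1 + x + y) + x * (1 + x + y) - x * y) = x * y * (1 + x + y) := by
      field_simp at h
      push_cast at h
      linear_combination h
    have key' : 7 * ((y : ℤ) * (1 + x + y) + x * (1 + x + y) - x * y) = x * y * (1 + x + y) := by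
      exact_mod_cast key
    have hbx : x < 17 ∨ y < 17 := by
      by_contra hc
      push Not at hc
      have hcx : (17 : ℤ) ≤ x := by exact_mod_cast hc.1
      have hcy : (17 : ℤ) ≤ y := by exact_mod_cast hc.2
      nlinarith [mul_le_mul_of_nonneg_left hcx (by positivity : (0 : ℤ) ≤ y * (1 + x + y)),
        mul_le_mul_of_nonneg_left hcy (by positivity : (0 : ℤ) ≤ x * (1 + x + y))]
    have h14 := hy4 rfl
    rcases hbx with hb | hb
    · have : x = 5 ∨ x = 9 ∨ x = 13 := by omega
      rcases this with rfl | rfl | rfl <;> push_cast at key'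
      · nlinarith
      · have hyb : y < 40 := by
          by_contra hc; push Not at hc
          have hcy : (40 : ℤ) ≤ y := by exact_mod_cast hc
          nlinarith
        interval_cases y <;> omega
      · have hyb : y < 40 := by
          by_contra hc; push Not at hc
          have hcy : (40 : ℤ) ≤ y := by exact_mod_cast hc
          nlinarith
        interval_cases y <;> omega
    · have : y = 5 ∨ y = 9 ∨ y = 13 := by omega
      rcases this with rfl | rfl | rfl <;> push_cast at key'
      · nlinarith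
      · have hxb : x < 40 := by
          by_contra hc; push Not at hc
          have hcx : (40 : ℤ) ≤ x := by exact_mod_cast hc
          nlinarith
        interval_cases x <;> omega
      · have hxb : x < 40 := by
          by_contra hc; push Not at hc
          have hcx : (40 : ℤ) ≤ x := by exact_mod_cast hc
          nlinarith
        interval_cases x <;> omega
  · have h1 := hm rfl
    have h14 := hy4' rfl
    have hgt : 8 < x₀ := by
      have : (8 : ℚ) < x₀ := by rw [← h]; nlinarith
      exact_mod_cast this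
    have hlt : x₀ < 12 := by
      have : (x₀ : ℚ) < 12 := by nlinarith
      exact_mod_cast this
    obtain rfl : x₀ = 11 := by omega
    have hx' : (x : ℚ) = y + w - 1 := by
      have : (x : ℤ) = y + w - 1 := by omega
      exact_mod_cast this
    have hyw : y = 7 ∧ w = 7 ∨ 11 ≤ y ∨ 11 ≤ w := by omega
    unfold principalSum at h
    have hxp : (0 : ℚ) < 1 / x := by
      have : (0 : ℚ) < x := by exact_mod_cast (by omega : 0 < x)
      positivity
    rw [Int.cast_neg, Int.cast_one, neg_div] at h
    rcases hyw with ⟨rfl, rfl⟩ | h' | h'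
    · rw [hx'] at h; norm_num at h
    · have := inv_le (by norm_num) h'
      have := inv_le (by norm_num) hw
      push_cast at *
      nlinarith
    · have := inv_le (by norm_num) h'
      have := inv_le (by norm_num) (hy7 rfl)
      push_cast at *
      nlinarith

end Cfsg.Agent.GW
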