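import Mathlib

/-!
# Integral columns of norm four

A column of norm four orthogonal to positive degrees has four entries `±1`; three orthogonal such columns force
equal degrees and a constant product of signs.
-/

set_option autoImplicit false

namespace Cfsg.Agent.GW

variable {ι : Type*}

open scoped Classical in
/-- A column of norm four orthogonal to positive degrees has four entries `±1`. -/
theorem column_support (s : Finset ι) (a : ι → ℤ) (d : ι → ℕ) (hd : ∀ i ∈ s, 0 < d i)
    (hsq : ∑ i ∈ s, a i * a i = 4) (hrel : ∑ i ∈ s, a i * (d i : ℤ) = 0) :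
    (∀ i ∈ s, a i = 0 ∨ a i = 1 ∨ a i = -1) ∧ (s.filter fun i => a i ≠ 0).card = 4 := by
  have hle : ∀ i ∈ s, a i * a i ≤ 4 := fun i hi =>
    hsq ▸ Finset.single_le_sum (f := fun j => a j * a j) (fun j _ => mul_self_nonneg (a j)) hi
  have hall : ∀ i ∈ s, a i = 0 ∨ a i = 1 ∨ a i = -1 := by
    intro i hi
    have h := hle i hi
    have hb : -2 ≤ a i ∧ a i ≤ 2 := ⟨by nlinarith, by nlinarith⟩
    by_contra hcon
    have h2 : a i * a i = 4 := by
      rcases (by omega : a i = -2 ∨ a i = 2) with e | e <;> rw [e] <;> norm_num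
    rw [← Finset.add_sum_erase _ _ hi, h2] at hsq
    have h0 : ∀ j ∈ s.erase i, a j = 0 := fun j hj => mul_self_eq_zero.mp
      ((Finset.sum_eq_zero_iff_of_nonneg fun k _ => mul_self_nonneg (a k)).1 (by omega) j hj)
    rw [← Finset.add_sum_erase _ _ hi, Finset.sum_eq_zero (s := s.erase i) fun j hj => by
      rw [h0 j hj, zero_mul], add_zero] at hrel
    rcases mul_eq_zero.mp hrel with e | e
    · rw [e] at h2; norm_num at h2
    · exact (hd i hi).ne' (by exact_mod_cast e)
  refine ⟨hall, ?_⟩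
  have e : ∑ i ∈ s, a i * a i = ∑ i ∈ s, if a i ≠ 0 then (1 : ℤ) else 0 := Finset.sum_congr rfl fun i hi => by
    rcases hall i hi with e | e | e <;> simp [e]
  rw [e, Finset.sum_boole] at hsq
  exact_mod_cast hsq

/-- Three orthogonal sign columns on four entries, orthogonal to positive degrees. -/
theorem columns_const (s : Finset ι) (hs : s.card = 4) (a b c : ι → ℤ) (d : ι → ℕ)
    (ha : ∀ i ∈ s, a i = 1 ∨ a i = -1) (hb : ∀ i ∈ s, b i = 1 ∨ b i = -1) (hc : ∀ i ∈ s, c i = 1 ∨ c i = -1)
    (hab : ∑ i ∈ s, a i * b i = 0) (hac : ∑ i ∈ s, a i * c i = 0) (hbc : ∑ i ∈ s, b i * c i = 0)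
    (hd : ∀ i ∈ s, 0 < d i) (hda : ∑ i ∈ s, a i * (d i : ℤ) = 0) (hdb : ∑ i ∈ s, b i * (d i : ℤ) = 0)
    (hdc : ∑ i ∈ s, c i * (d i : ℤ) = 0) :
    ∃ σ : ℤ, ∃ x : ℕ, (σ = 1 ∨ σ = -1) ∧ (∀ i ∈ s, a i * b i * c i = σ ∧ d i = x) ∧ ∑ i ∈ s, a i = 0 ∧
      ∑ i ∈ s, b i = 0 ∧ ∑ i ∈ s, c i = 0 := by
  classical
  have hu : ∀ {f : ι → ℤ}, (∀ i ∈ s, f i = 1 ∨ f i = -1) → ∀ i ∈ s, f i * f i = 1 := fun hf i hi => by
    rcases hf i hi with e | e <;> rw [e] <;> norm_num
  set E : ℤ := ∑ k ∈ s, a k * b k * c k * (d k : ℤ) with hE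
  have key : ∀ i ∈ s, 4 * (d i : ℤ) = a i * b i * c i * E := by
    intro i hi
    -- the columns with their product form an orthogonal basis
    have hp : ∑ k ∈ s, a k * b k * c k * (a k) = 0 := by
      rw [← hbc]
      exact Finset.sum_congr rfl fun k hk => by linear_combination (b k * c k) * hu ha k hk
    let T : ι → ℤ := fun k => (1 + (a i * b i) * (a k * b k)) * (1 + (a i * c i) * (a k * c k))
    have hT : ∑ k ∈ s, T k = 4 := by
      have e : ∀ k ∈ s, T k = 1 + (a i * b i) * (a k * b k) + (a i * c i) * (a k * c k) + (b i * c i) * (b k * c k) :=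
        fun k hk => by
          simp only [T]
          linear_combination (b i * c i * b k * c k * a k * a k) * hu ha i hi + (b i * c i * b k * c k) * hu ha k hk
      rw [Finset.sum_congr rfl e, Finset.sum_add_distrib, Finset.sum_add_distrib, Finset.sum_add_distrib,
        ← Finset.mul_sum, ← Finset.mul_sum, ← Finset.mul_sum, hab, hac, hbc, Finset.sum_const, hs]
      norm_num
    have hTi : T i = 4 := by
      have e1 : (a i * b i) * (a i * b i) = 1 := by
        linear_combination (b i * b i) * hu ha i hi + hu hb i hi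
      have e2 : (a i * c i) * (a i * c i) = 1 := by
        linear_combination (c i * c i) * hu ha i hi + hu hc i hi
      simp only [T, e1, e2]
      norm_num
    have hT0 : ∀ k ∈ s, 0 ≤ T k := fun k hk => by
      rcases ha i hi with h1 | h1 <;> rcases hb i hi with h2 | h2 <;> rcases hc i hi with h3 | h3 <;>
        rcases ha k hk with h4 | h4 <;> rcases hb k hk with h5 | h5 <;> rcases hc k hk with h6 | h6 <;>
        simp [T, h1, h2, h3, h4, h5, h6]
    have hT' : ∀ k ∈ s.erase i, T k = 0 := by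
      rw [← Finset.add_sum_erase _ _ hi, hTi] at hT
      exact (Finset.sum_eq_zero_iff_of_nonneg fun k hk => hT0 k (Finset.mem_of_mem_erase hk)).1 (by omega)
    have hd' : ∑ k ∈ s, a i * a k * T k * (d k : ℤ) = 4 * d i := by
      rw [Finset.sum_eq_single_of_mem i hi (fun k hk hki => by rw [hT' k (Finset.mem_erase.mpr ⟨hki, hk⟩)]; ring),
        hTi, hu ha i hi, one_mul]
    have he : ∀ k ∈ s, a i * a k * T k * (d k : ℤ) = a i * (a k * (d k : ℤ)) + b i * (b k * (d k : ℤ)) +
        c i * (c k * (d k : ℤ)) + a i * b i * c i * (a k * b k * c k * (d k : ℤ)) := fun k hk => by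
      simp only [T]
      linear_combination (((d k : ℤ) * b i * b k + (d k : ℤ) * c i * c k +
          (d k : ℤ) * a i * b i * c i * a k * b k * c k) * (a k * a k)) * hu ha i hi +
        ((d k : ℤ) * b i * b k + (d k : ℤ) * c i * c k + (d k : ℤ) * a i * b i * c i * a k * b k * c k) * hu ha k hk
    rw [Finset.sum_congr rfl he, Finset.sum_add_distrib, Finset.sum_add_distrib, Finset.sum_add_distrib,
      ← Finset.mul_sum, ← Finset.mul_sum, ← Finset.mul_sum, ← Finset.mul_sum, hda, hdb, hdc] at hd'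
    linear_combination -hd'
  obtain ⟨j, hj⟩ : s.Nonempty := Finset.card_pos.1 (by omega)
  have hconst : ∀ i ∈ s, a i * b i * c i = a j * b j * c j ∧ d i = d j := by
    intro i hi
    have h1 := key i hi
    have h2 := key j hj
    have h3 : (0 : ℤ) < d i := by exact_mod_cast hd i hi
    have h4 : (0 : ℤ) < d j := by exact_mod_cast hd j hj
    rcases ha i hi with e1 | e1 <;> rcases hb i hi with e2 | e2 <;> rcases hc i hi with e3 | e3 <;>
      rcases ha j hj with e4 | e4 <;> rcases hb j hj with e5 | e5 <;> rcases hc j hj with e6 | e6 <;>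
      simp only [e1, e2, e3, e4, e5, e6] at h1 h2 ⊢ <;> norm_num at h1 h2 ⊢ <;> omega
  have hsum : ∀ f : ι → ℤ, ∑ i ∈ s, f i * (d i : ℤ) = 0 → ∑ i ∈ s, f i = 0 := fun f hf => by
    rw [Finset.sum_congr rfl fun i hi => by rw [(hconst i hi).2], ← Finset.sum_mul] at hf
    exact (mul_eq_zero.mp hf).resolve_right (by exact_mod_cast (hd j hj).ne')
  refine ⟨a j * b j * c j, d j, ?_, hconst, hsum a hda, hsum b hdb, hsum c hdc⟩
  rcases ha j hj with e4 | e4 <;> rcases hb j hj with e5 | e5 <;> rcases hc j hj with e6 | e6 <;>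
    simp [e4, e5, e6]

end Cfsg.Agent.GW
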