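import Cfsg.Agent.Lib.GW.FourOrbit
import Cfsg.Agent.Lib.Char.OneClassProducts
import Cfsg.Agent.Lib.Char.BrolineGarrison

/-!
# No character of degree three in the principal block

Such a character restricts to the four group as the sum of the three sign characters, so every element of odd
order centralizing the four group lies in its kernel.
-/

set_option autoImplicit false
set_option linter.unusedSectionVars false

open scoped ComplexConjugate
open Cfsg

namespace Cfsg.Agent.GW

universe u

variable {G : Type u} [Group G] [Fintype G] {M : Ideal AlgInt}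
  {P : Sylow 2 G} {t v : G}
  {π : (Subgroup.centralizer ((P : Subgroup G) : Set G) →* ℂˣ) → (Subgroup.centralizer ({t} : Set G) →* ℂˣ)}
  {θ : Subgroup.centralizer ((P : Subgroup G) : Set G) →* ℂˣ}

local notation "W" => Subgroup.centralizer ((P : Subgroup G) : Set G)
set_option quotPrecheck false in
local notation "C" => Subgroup.centralizer ({t} : Set G)

/-- An idempotent of trace zero is zero. -/
theorem idem_trace_zero {V : Type*} [AddCommGroup V] [Module ℂ V] [FiniteDimensional ℂ V] (e : V →ₗ[ℂ] V)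
    (h : IsIdempotentElem e) (ht : LinearMap.trace ℂ V e = 0) : e = 0 := by
  have := (LinearMap.IsIdempotentElem.isProj_range e h).trace
  rw [ht] at this
  have h0 : Module.finrank ℂ (LinearMap.range e) = 0 := by exact_mod_cast this.symm
  exact LinearMap.range_eq_bot.1 (Submodule.finrank_eq_zero.1 h0)

/-- If a four group has no fixed vectors, an element commuting with it has trace minus the three others. -/
theorem sum_four_zero {χ : G → ℂ} (hχ : IsCharacter G χ) {a b y : G} (ha : a * a = 1) (hb : b * b = 1)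
    (hab : a * b = b * a) (h0 : χ 1 + χ a + χ b + χ (a * b) = 0) :
    χ y + χ (a * y) + χ (b * y) + χ (a * b * y) = 0 := by
  obtain ⟨n, ρ, rfl⟩ := hχ
  set T : (Fin n → ℂ) →ₗ[ℂ] (Fin n → ℂ) := ρ 1 + ρ a + ρ b + ρ (a * b) with hT
  have haa : ρ a * ρ a = 1 := by rw [← map_mul, ha, map_one]
  have hbb : ρ b * ρ b = 1 := by rw [← map_mul, hb, map_one]
  have hba : ρ b * ρ a = ρ a * ρ b := by rw [← map_mul, ← map_mul, hab]
  have hTT : T * T = (4 : ℂ) • T := by
    have e : T = (1 + ρ a) * (1 + ρ b) := by rw [hT, map_one, map_mul]; noncomm_ring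
    have ea : (1 + ρ a) * (1 + ρ a) = (2 : ℂ) • (1 + ρ a) := by
      rw [two_smul]; noncomm_ring; rw [haa]; abel
    have eb : (1 + ρ b) * (1 + ρ b) = (2 : ℂ) • (1 + ρ b) := by
      rw [two_smul]; noncomm_ring; rw [hbb]; abel
    have ec : (1 + ρ b) * (1 + ρ a) = (1 + ρ a) * (1 + ρ b) := by noncomm_ring; rw [hba]
    rw [e, show (1 + ρ a) * (1 + ρ b) * ((1 + ρ a) * (1 + ρ b)) =
      (1 + ρ a) * ((1 + ρ b) * (1 + ρ a)) * (1 + ρ b) by noncomm_ring, ec,
      show (1 + ρ a) * ((1 + ρ a) * (1 + ρ b)) * (1 + ρ b) =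
        (1 + ρ a) * (1 + ρ a) * ((1 + ρ b) * (1 + ρ b)) by noncomm_ring, ea, eb, smul_mul_smul_comm]
    norm_num
  have htr : LinearMap.trace ℂ _ T = 0 := by
    rw [hT, map_add, map_add, map_add]; exact h0
  have hidem : IsIdempotentElem ((4 : ℂ)⁻¹ • T) := by
    rw [IsIdempotentElem, smul_mul_smul_comm, hTT, smul_smul]
    norm_num
  have hz := idem_trace_zero _ hidem (by rw [map_smul, htr, smul_zero])
  have hT0 : T = 0 := (smul_eq_zero.1 hz).resolve_left (by norm_num)
  have : LinearMap.trace ℂ _ (T * ρ y) = 0 := by rw [hT0, zero_mul, map_zero]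
  rw [hT, add_mul, add_mul, add_mul, ← map_mul, ← map_mul, ← map_mul, ← map_mul, one_mul, map_add, map_add,
    map_add] at this
  exact this

open scoped Classical in
/-- A character of the principal block of degree three leaves `C(P)` without elements of odd order. -/
theorem principal_three_W [IsSimpleGroup G] (hM : IsPModular 2 M) (D : LinData P t v π θ)
    {χ : IrrCharacter G} (hχ : χ ∈ principalBlock M G) (h3 : Char.deg (χ : G → ℂ) = 3) :
    ∀ y : W, ¬ 2 ∣ orderOf y → (y : G) = 1 := by
  haveI : Fact (Nat.Prime 2) := ⟨Nat.prime_two⟩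
  letI : Fintype C := Fintype.ofFinite _
  have ht2 := D.order D.tP D.t1
  obtain ⟨η, -, hη1, hKc, hK4⟩ := exists_proj D
  obtain ⟨z, -, hz, hsq⟩ := Char.four_signs hM P D.card D.exp D.one D.tP D.t1
  have hz1 : z χ = -1 := by
    have hm : (4 : ℤ) ∣ (Char.deg (χ : G → ℂ) : ℤ) - z χ := by
      have : Fintype (P : Subgroup G) := Fintype.ofFinite _
      obtain ⟨n, hn⟩ := Char.classInner_natCast (Char.isCharacter_comp (P : Subgroup G).subtype
        (Char.irr_isCharacter χ.2)) (Char.isCharacter_one (G := (P : Subgroup G)))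
      have e' : ∀ x ∈ (Finset.univ : Finset (P : Subgroup G)).erase 1, (χ : G → ℂ) (x : G) = (z χ : ℂ) := by
        intro x hx
        obtain ⟨g, hg⟩ := isConj_iff.mp (D.one t x ht2
          (D.order x.2 fun h => Finset.ne_of_mem_erase hx (Subtype.ext h)))
        rw [← hg, Char.isClassFunction_character (Char.irr_isCharacter χ.2), hz]
      have e : classInner ((χ : G → ℂ) ∘ (P : Subgroup G).subtype) (fun _ => 1) =
          ((χ : G → ℂ) 1 + 3 * z χ) / 4 := by
        simp only [classInner, Function.comp_apply, Subgroup.coe_subtype, map_one, mul_one]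
        rw [← Finset.add_sum_erase _ _ (Finset.mem_univ (1 : (P : Subgroup G))), Finset.sum_congr rfl e',
          Finset.sum_const, Finset.card_erase_of_mem (Finset.mem_univ _), Finset.card_univ,
          ← Nat.card_eq_fintype_card, show Nat.card (P : Subgroup G) = 4 from D.card]
        simp [div_eq_inv_mul]
      rw [e, Char.char_one_eq_deg (Char.irr_isCharacter χ.2), div_eq_iff (by norm_num : (4 : ℂ) ≠ 0)] at hn
      have h' : (Char.deg (χ : G → ℂ) : ℤ) + 3 * z χ = n * 4 := by exact_mod_cast hn
      exact ⟨n - z χ, by linarith⟩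
    rcases sq_eq_one_iff.mp (hsq χ hχ) with h | h
    · rw [h3, h] at hm; norm_num at hm
    · exact h
  have hsec : ∀ y : W, ¬ 2 ∣ orderOf y → (χ : G → ℂ) (t * (y : G)) = -1 := by
    intro y hy
    have h := Char.OneClass.principal_section_const η.ker hM (two_pow_order D) hKc (k := 2) (by rw [hK4]; norm_num) hχ
      (v := (⟨(y : G), D.W_le y.2⟩ : C)) (by
        rw [MonoidHom.mem_ker, hη1, Subgroup.orderOf_mk, Subgroup.orderOf_coe]; exact hy)
    rw [h, hz, hz1]; norm_num
  have hcl := Char.isClassFunction_character (Char.irr_isCharacter χ.2)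
  have hshift : ∀ (k : ℕ) (y : W), ¬ 2 ∣ orderOf y → (χ : G → ℂ) (v ^ k * t * (v ^ k)⁻¹ * (y : G)) = -1 := by
    intro k y hy
    obtain ⟨y', rfl⟩ := (conjV D ^ k).surjective y
    rw [conjV_pow_apply,
      show v ^ k * t * (v ^ k)⁻¹ * (v ^ k * (y' : G) * (v ^ k)⁻¹) = v ^ k * (t * (y' : G)) * (v ^ k)⁻¹ by group,
      hcl]
    exact hsec y' (by rwa [MulEquiv.orderOf_eq] at hy)
  show ∀ y : W, ¬ 2 ∣ orderOf y → (y : G) = 1
  · intro y hy
    set u := v * t * v⁻¹ with hu
    have e1 : ∀ y : W, ¬ 2 ∣ orderOf y → (χ : G → ℂ) (u * (y : G)) = -1 := fun y hy => by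
      simpa [hu] using hshift 1 y hy
    have e2 : ∀ y : W, ¬ 2 ∣ orderOf y → (χ : G → ℂ) (t * u * (y : G)) = -1 := fun y hy => by
      have h := hshift 2 y hy
      rwa [show v ^ 2 * t * (v ^ 2)⁻¹ = v * (v * t * v⁻¹) * v⁻¹ by rw [pow_two]; group, D.cyc] at h
    have hdeg : (χ : G → ℂ) 1 = 3 := by
      rw [Char.char_one_eq_deg (Char.irr_isCharacter χ.2), h3]; norm_num
    have h1W : ¬ 2 ∣ orderOf (1 : W) := by simp
    have h0 := sum_four_zero (Char.irr_isCharacter χ.2) (y := (y : G)) (D.sq D.tP) (D.sq D.uP)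
      (Char.comm_of_exp_two (P := (P : Subgroup G)) D.exp t D.tP u D.uP)
      (by
        have a := hsec 1 h1W; have b := e1 1 h1W; have c := e2 1 h1W
        simp only [OneMemClass.coe_one, mul_one] at a b c
        rw [hdeg, a, b, c]; norm_num)
    rw [hsec y hy, e1 y hy, e2 y hy] at h0
    have hmem : (y : G) ∈ Char.TwoDeg.kerC χ := (Char.BG.mem_kerC_iff χ _).2 (by rw [hdeg]; linear_combination h0)
    rcases IsSimpleGroup.eq_bot_or_eq_top_of_normal _ (Char.TwoDeg.kerC_normal χ) with h | h
    · rw [h] at hmem; exact Subgroup.mem_bot.mp hmem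
    · exfalso
      have htm : t ∈ Char.TwoDeg.kerC χ := h ▸ Subgroup.mem_top t
      have := (Char.BG.mem_kerC_iff χ t).1 htm
      rw [hdeg, hz, hz1] at this
      norm_num at this

open scoped Classical in
/-- A character of the principal block of degree three of a simple group with a four Sylow group. -/
theorem principal_three_false [IsSimpleGroup G] (hM : IsPModular 2 M) (D : LinData P t v π θ) (hne : θ ≠ 1)
    {χ : IrrCharacter G} (hχ : χ ∈ principalBlock M G) (h3 : Char.deg (χ : G → ℂ) = 3) : False := by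
  have hw := principal_three_W hM D hχ h3
  exact hne (hom_eq_of_odd D D.triv (fun _ _ => rfl) fun w hwo => by
    rw [MonoidHom.one_apply, show w = 1 from Subtype.ext (hw w hwo), map_one])

end Cfsg.Agent.GW
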