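import Cfsg.Agent.Lib.GW.FourOrbit
import Cfsg.Agent.Lib.GW.FourDegree
import Cfsg.Agent.Lib.GW.FourColumns
import Cfsg.Agent.Lib.GW.FourArith
import Cfsg.Agent.S0948

/-!
# No nontrivial linear character on the centralizer of a four Sylow group

If a perfect group with a Sylow four group and one class of involutions has no irreducible character of degree
three, then no nontrivial linear character of `C(P)` trivial on `P` has all its conjugates under `N(P)` extendible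
to `C(t)`.
-/

set_option autoImplicit false
set_option linter.unusedSectionVars false

open scoped ComplexConjugate
open Cfsg

namespace Cfsg.Agent.GW

universe u

variable {G : Type u} [Group G] [Fintype G] {M : Ideal AlgInt}
  {P : Sylow 2 G} {t v : G}
  {π : (Subgroup.centralizer ((P : Subgroup G) : Set G) →* ℂˣ) → (Subgroup.centralizer ({t} : Set G) →* ℂˣ)}
  {θ : Subgroup.centralizer ((P : Subgroup G) : Set G) →* ℂˣ}

local notation "W" => Subgroup.centralizer ((P : Subgroup G) : Set G)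
set_option quotPrecheck false in
local notation "C" => Subgroup.centralizer ({t} : Set G)

theorem eq_one_of_deg_one (hperf : ∀ f : G →* ℂˣ, f = 1) {χ : IrrCharacter G}
    (h : Char.deg (χ : G → ℂ) = 1) (g : G) : (χ : G → ℂ) g = 1 := by
  obtain ⟨l, hl⟩ := Char.exists_hom_of_degree_one (Char.irr_isCharacter χ.2)
    (by rw [Char.char_one_eq_deg (Char.irr_isCharacter χ.2), h, Nat.cast_one])
  rw [hl, hperf l]
  simp

open scoped Classical in
/-- A character of degree one has no coefficient. -/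
theorem cf_one_eq_zero (D : LinData P t v π θ) (hperf : ∀ f : G →* ℂˣ, f = 1) (hne : θ ≠ 1) (j : ℕ)
    {χ : IrrCharacter G} (h : Char.deg (χ : G → ℂ) = 1) : cf D j χ = 0 := by
  letI : Fintype C := Fintype.ofFinite _
  obtain ⟨η, -, hη1, hKc, hK4⟩ := exists_proj D
  have hreg : ∀ c, ¬ 2 ∣ orderOf c → c ∈ η.ker := fun c hc => (hη1 c).2 hc
  have h' := linear_orth_regular η.ker hKc hreg hK4 (linPull D j) 1
  simp only [MonoidHom.one_apply, Units.val_one] at h'
  simp only [cf, secCoeff, eq_one_of_deg_one hperf h]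
  rw [h', if_neg fun hk => hne ?_]
  have e : linTheta D j = 1 := hom_eq_of_odd D (linTheta_triv D j) (fun _ _ => rfl) fun w hw => by
    rw [MonoidHom.one_apply, ← linPull_W D j ⟨(w : G), D.W_le w.2⟩ w rfl]
    refine hk _ ?_
    rw [MonoidHom.mem_ker, hη1, Subgroup.orderOf_mk, Subgroup.orderOf_coe]
    exact hw
  refine MonoidHom.ext fun w => ?_
  have := DFunLike.congr_fun e ((conjV D ^ j)⁻¹ w)
  rwa [linTheta_apply, MulAut.apply_inv_self, MonoidHom.one_apply] at this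

/-- The degree is congruent modulo four to the value at an involution. -/
theorem deg_mod_four (hP : Nat.card P = 4) (hexp : ∀ x : P, x * x = 1)
    (hone : ∀ a b : G, orderOf a = 2 → orderOf b = 2 → IsConj a b) (ht2 : orderOf t = 2) (χ : IrrCharacter G)
    {z : ℤ} (hz : (χ : G → ℂ) t = z) : (4 : ℤ) ∣ (Char.deg (χ : G → ℂ) : ℤ) - z := by
  classical
  have : Fintype (P : Subgroup G) := Fintype.ofFinite _
  obtain ⟨n, hn⟩ := Char.classInner_natCast (Char.isCharacter_comp (P : Subgroup G).subtype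
    (Char.irr_isCharacter χ.2)) (Char.isCharacter_one (G := (P : Subgroup G)))
  have e' : ∀ x ∈ (Finset.univ : Finset (P : Subgroup G)).erase 1, (χ : G → ℂ) (x : G) = (z : ℂ) := by
    intro x hx
    have hx2 : orderOf (x : G) = 2 := orderOf_eq_prime
      (by have := congrArg Subtype.val (hexp x); rw [← pow_two] at this; simpa using this)
      (fun h => Finset.ne_of_mem_erase hx (Subtype.ext h))
    obtain ⟨g, hg⟩ := isConj_iff.mp (hone t x ht2 hx2)
    rw [← hg, Char.isClassFunction_character (Char.irr_isCharacter χ.2), hz]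
  have e : classInner ((χ : G → ℂ) ∘ (P : Subgroup G).subtype) (fun _ => 1) =
      ((χ : G → ℂ) 1 + 3 * z) / 4 := by
    simp only [classInner, Function.comp_apply, Subgroup.coe_subtype, map_one, mul_one]
    rw [← Finset.add_sum_erase _ _ (Finset.mem_univ (1 : (P : Subgroup G))), Finset.sum_congr rfl e',
      Finset.sum_const, Finset.card_erase_of_mem (Finset.mem_univ _), Finset.card_univ,
      ← Nat.card_eq_fintype_card, show Nat.card (P : Subgroup G) = 4 from hP]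
    simp [div_eq_inv_mul]
  rw [e, Char.char_one_eq_deg (Char.irr_isCharacter χ.2), div_eq_iff (by norm_num : (4 : ℂ) ≠ 0)] at hn
  have h' : (Char.deg (χ : G → ℂ) : ℤ) + 3 * z = n * 4 := by exact_mod_cast hn
  exact ⟨n - z, by linarith⟩

open scoped Classical in
/-- The principal count. -/
theorem exists_principalSum (hM : IsPModular 2 M) (hP : Nat.card P = 4) (hexp : ∀ x : P, x * x = 1)
    (hone : ∀ a b : G, orderOf a = 2 → orderOf b = 2 → IsConj a b) (ht2 : orderOf t = 2)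
    (hperf : ∀ f : G →* ℂˣ, f = 1) (h3 : ∀ χ ∈ principalBlock M G, Char.deg (χ : G → ℂ) ≠ 3) :
    ∃ (e : ℤ) (x y w : ℕ), (e = 1 ∨ e = -1) ∧ 5 ≤ x ∧ 5 ≤ y ∧ 7 ≤ w ∧ x % 4 = 1 ∧ w % 4 = 3 ∧
      (e = 1 → y % 4 = 1) ∧ (e = -1 → y % 4 = 3) ∧ (e = -1 → 7 ≤ y) ∧ (1 : ℤ) + x + e * y - w = 0 ∧
      ∑ χ : IrrCharacter G with χ ∈ principalBlock M G, (χ : G → ℂ) t ^ 3 / (χ : G → ℂ) 1 =
        ((principalSum e x y w : ℚ) : ℂ) := by
  have hk : IsKleinFour (P : Subgroup G) :=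
    { card_four := hP
      exponent_two := by
        refine (Nat.dvd_prime Nat.prime_two).1 (Monoid.exponent_dvd_of_forall_pow_eq_one fun x => ?_) |>.resolve_left ?_
        · rw [pow_two]; exact hexp x
        · rw [Monoid.exp_eq_one_iff]
          intro hs
          rw [Nat.card_eq_one_iff_unique.2 ⟨hs, ⟨1⟩⟩] at hP
          omega }
  obtain ⟨a, c, d, e, he, ha1, hc1, hac, had, hcd, hset, hval, hma, hmc, hmd, hrel⟩ :=
    S0948.result M hM P hk hone
  obtain ⟨va, vc, vd⟩ := hval t ht2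
  let one : IrrCharacter G := ⟨fun _ => 1, Char.isIrrCharacter_one⟩
  have hd1 : (d : G → ℂ) ≠ fun _ => 1 := fun h => by
    rw [h] at vd; norm_num at vd
  have hdeg : ∀ χ : IrrCharacter G, (χ : G → ℂ) ≠ (fun _ => 1) → Char.deg (χ : G → ℂ) ≠ 1 :=
    fun χ hχ h => hχ (funext (eq_one_of_deg_one hperf h))
  simp only [Char.charDegree_eq_deg] at hma hmc hmd
  have hpos := fun χ : IrrCharacter G => Char.deg_pos χ.2
  set x := Char.deg (a : G → ℂ) with hx
  set y := Char.deg (c : G → ℂ) with hy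
  set w := Char.deg (d : G → ℂ) with hw
  have hx1 := hdeg a ha1; have hy1 := hdeg c hc1; have hw1 := hdeg d hd1
  have hx3 := h3 a (by rw [hset]; exact Or.inr (Or.inl rfl))
  have hy3 := h3 c (by rw [hset]; exact Or.inr (Or.inr (Or.inl rfl)))
  have hw3 := h3 d (by rw [hset]; exact Or.inr (Or.inr (Or.inr rfl)))
  have hx0 := hpos a; have hy0 := hpos c; have hw0 := hpos d
  rw [← hx] at hx1 hx3 hx0; rw [← hy] at hy1 hy3 hy0; rw [← hw] at hw1 hw3 hw0
  have h1 : (1 : ℤ) + x + e * y - w = 0 := by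
    have h := hrel 1 (by simp)
    rw [Char.char_one_eq_deg (Char.irr_isCharacter a.2), Char.char_one_eq_deg (Char.irr_isCharacter c.2),
      Char.char_one_eq_deg (Char.irr_isCharacter d.2), ← hx, ← hy, ← hw] at h
    exact_mod_cast h
  refine ⟨e, x, y, w, he, by omega, by rcases he with rfl | rfl <;> omega, by omega, by omega, by omega,
    fun h => by subst h; omega, fun h => by subst h; omega, fun h => by subst h; omega, h1, ?_⟩
  have hS : (Finset.univ.filter fun χ : IrrCharacter G => χ ∈ principalBlock M G) = {one, a, c, d} := by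
    ext χ
    simp only [Finset.mem_filter, Finset.mem_univ, true_and, hset, Set.mem_setOf_eq, Finset.mem_insert,
      Finset.mem_singleton]
    exact or_congr ⟨fun h => Subtype.ext h, fun h => by rw [h]⟩ Iff.rfl
  have h01 : one ≠ a := fun h => ha1 (by rw [← h])
  have h02 : one ≠ c := fun h => hc1 (by rw [← h])
  have h03 : one ≠ d := fun h => hd1 (by rw [← h])
  rw [hS, Finset.sum_insert (by simp [h01, h02, h03]), Finset.sum_insert (by simp [hac, had]),
    Finset.sum_pair hcd, va, vc, vd, Char.char_one_eq_deg (Char.irr_isCharacter a.2),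
    Char.char_one_eq_deg (Char.irr_isCharacter c.2), Char.char_one_eq_deg (Char.irr_isCharacter d.2),
    ← hx, ← hy, ← hw, show ((one : IrrCharacter G) : G → ℂ) t = 1 from rfl]
  rcases he with rfl | rfl <;> simp [principalSum] <;> ring

open scoped Classical in
/-- The pair count in a column. -/
theorem column_count (hM : IsPModular 2 M) (D : LinData P t v π θ) {B : Set (IrrCharacter G)} {J : Finset ℕ}
    (R : Reps M D B J) (j : ℕ) (S : Finset (IrrCharacter G)) (hS : ∀ χ ∈ S, χ ∈ B)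
    (a z : IrrCharacter G → ℤ) (ha : ∀ χ ∈ B, cf D j χ = a χ) (hz : ∀ χ ∈ S, (χ : G → ℂ) t = z χ)
    (hout : ∀ χ ∈ B, χ ∉ S → a χ = 0) {S₀ : ℚ}
    (h0 : ∑ χ : IrrCharacter G with χ ∈ principalBlock M G, (χ : G → ℂ) t ^ 3 / (χ : G → ℂ) 1 = (S₀ : ℂ)) :
    ∑ χ ∈ S, ((z χ * z χ * a χ : ℤ) : ℚ) / (Char.deg (χ : G → ℂ) : ℚ) = S₀ := by
  letI : Fintype C := Fintype.ofFinite _
  obtain ⟨η, -, hη1, hKc, hK4⟩ := exists_proj D
  have hreg : ∀ c, ¬ 2 ∣ orderOf c → c ∈ η.ker := fun c hc => (hη1 c).2 hc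
  have h := twisted_count η.ker hM (D.order D.tP D.t1) hKc hreg hK4 (linPull D j) (linPull_t D j)
  rw [h0] at h
  have e : ∑ χ : IrrCharacter G, (χ : G → ℂ) t ^ 2 / (χ : G → ℂ) 1 * cf D j χ = (S₀ : ℂ) := h
  rw [← Finset.sum_subset (s₁ := S) (Finset.subset_univ _) fun χ _ hχ => ?_] at e
  · apply (Rat.cast_injective (α := ℂ))
    rw [← e, Rat.cast_sum]
    refine Finset.sum_congr rfl fun χ hχ => ?_
    rw [hz χ hχ, ha χ (hS χ hχ), Char.char_one_eq_deg (Char.irr_isCharacter χ.2)]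
    push_cast
    ring
  · by_cases hB : χ ∈ B
    · rw [ha χ hB, hout χ hB hχ, Int.cast_zero, mul_zero]
    · rw [cf_eq_zero hM D R hB, mul_zero]

open scoped Classical in
theorem false_of_data (hM : IsPModular 2 M) (D : LinData P t v π θ) (hperf : ∀ f : G →* ℂˣ, f = 1)
    (h3 : ∀ χ ∈ principalBlock M G, Char.deg (χ : G → ℂ) ≠ 3) (hne : θ ≠ 1) : False := by
  have ht2 := D.order D.tP D.t1
  obtain ⟨e, x, y, w, he, hx, hy, hw, hx4, hw4, hy4, hy4', hy7, hrel, h0⟩ :=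
    exists_principalSum hM D.card D.exp D.one ht2 hperf h3
  obtain ⟨hlo, -, -⟩ := principalSum_lower he hx hy hw hy7 hrel
  obtain ⟨B, hR⟩ := exists_reps hM D
  obtain ⟨J, R, hJ⟩ : ∃ J, Reps M D B J ∧ ((J = {0}) ∨ J = {0, 1, 2}) := by
    rcases hR with ⟨-, R⟩ | ⟨-, R⟩
    exacts [⟨_, R, Or.inl rfl⟩, ⟨_, R, Or.inr rfl⟩]
  clear hR
  choose a a' ha ha' hpar using fun (j : ℕ) (χ : {χ // χ ∈ B}) => cf_int hM D R χ.2 j
  let A : ℕ → IrrCharacter G → ℤ := fun j χ => if h : χ ∈ B then a j ⟨χ, h⟩ else 0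
  have hA : ∀ j, ∀ χ ∈ B, cf D j χ = A j χ := fun j χ hχ => by simp only [A, dif_pos hχ]; exact ha j ⟨χ, hχ⟩
  have hpar' : ∀ j, ∀ χ ∈ B, (2 : ℤ) ∣ A j χ - A (j + 1) χ := fun j χ hχ => by
    have h := hpar j ⟨χ, hχ⟩
    have e : A (j + 1) χ = a' j ⟨χ, hχ⟩ := by
      have := (hA (j + 1) χ hχ).symm.trans (ha' j ⟨χ, hχ⟩)
      exact_mod_cast this
    rw [e]; simp only [A, dif_pos hχ]; exact h
  set s : Finset (IrrCharacter G) := Finset.univ.filter fun χ => χ ∈ B with hs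
  have hmemB : ∀ {χ}, χ ∈ s → χ ∈ B := fun hχ => (Finset.mem_filter.1 hχ).2
  have horth : ∀ i ∈ J, ∀ k ∈ J, ∑ χ ∈ s, A i χ * A k χ = if i = k then 4 else 0 := by
    intro i hi k hk
    have h := cf_orth hM D R hi hk
    rw [Finset.sum_congr rfl (g := fun χ : IrrCharacter G => ((A i χ * A k χ : ℤ) : ℂ)) fun χ hχ => by
      rw [hA i χ (hmemB hχ), hA k χ (hmemB hχ), map_intCast]; push_cast; ring] at h
    rw [← Int.cast_sum] at h
    split_ifs at h ⊢ <;> exact_mod_cast h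
  have hdegs : ∀ j, ∑ χ ∈ s, A j χ * (Char.deg (χ : G → ℂ) : ℤ) = 0 := fun j => by
    have h := cf_degree hM D R j
    rw [Finset.sum_congr rfl (g := fun χ : IrrCharacter G => ((A j χ * (Char.deg (χ : G → ℂ) : ℤ) : ℤ) : ℂ))
      fun χ hχ => by
      rw [hA j χ (hmemB hχ), Char.char_one_eq_deg (Char.irr_isCharacter χ.2)]; push_cast; ring,
      ← Int.cast_sum] at h
    exact_mod_cast h
  have hcol := fun j (hj : j ∈ J) => column_support s (A j) (fun χ => Char.deg (χ : G → ℂ))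
    (fun χ _ => Char.deg_pos χ.2) ((horth j hj j hj).trans (if_pos rfl)) (hdegs j)
  have h0J : 0 ∈ J := by rcases hJ with rfl | rfl <;> simp
  set S := s.filter fun χ => A 0 χ ≠ 0 with hS
  have hScard : S.card = 4 := (hcol 0 h0J).2
  have hSB : ∀ χ ∈ S, χ ∈ B := fun χ hχ => hmemB (Finset.mem_filter.1 hχ).1
  have hne1 : ∀ χ ∈ S, Char.deg (χ : G → ℂ) ≠ 1 := fun χ hχ h => (Finset.mem_filter.1 hχ).2 (by
    have := (hA 0 χ (hSB χ hχ)).symm.trans (cf_one_eq_zero D hperf hne 0 h)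
    exact_mod_cast this)
  have hout : ∀ χ ∈ B, χ ∉ S → A 0 χ = 0 := fun χ hχ hS' => by
    by_contra h
    exact hS' (Finset.mem_filter.2 ⟨Finset.mem_filter.2 ⟨Finset.mem_univ _, hχ⟩, h⟩)
  have hzt : ∀ χ ∈ B, (χ : G → ℂ) t = ((∑ j ∈ J, A j χ : ℤ) : ℂ) := fun χ hχ => by
    rw [value_t hM D R hχ, Int.cast_sum]; exact Finset.sum_congr rfl fun j _ => hA j χ hχ
  have hmod : ∀ χ ∈ S, (4 : ℤ) ∣ (Char.deg (χ : G → ℂ) : ℤ) - ∑ j ∈ J, A j χ := fun χ hχ =>
    deg_mod_four D.card D.exp D.one ht2 χ (hzt χ (hSB χ hχ))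
  have hA0 : ∀ χ ∈ S, A 0 χ = 1 ∨ A 0 χ = -1 := fun χ hχ =>
    ((hcol 0 h0J).1 χ (Finset.mem_filter.1 hχ).1).resolve_left (Finset.mem_filter.1 hχ).2
  have hcount := column_count hM D R 0 S hSB (A 0) (fun χ => ∑ j ∈ J, A j χ) (hA 0)
    (fun χ hχ => hzt χ (hSB χ hχ)) hout h0
  have hrel0 : ∀ j, (∀ χ ∈ s, χ ∉ S → A j χ = 0) → ∑ χ ∈ S, A j χ * (Char.deg (χ : G → ℂ) : ℤ) = 0 := fun j hj => by
    rw [← hdegs j]
    refine Finset.sum_subset (Finset.filter_subset _ _) fun χ hχ hχS => ?_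
    rw [hj χ hχ hχS, zero_mul]
  rcases hJ with rfl | rfl
  · -- one block: the count is at most `3/5`
    simp only [Finset.sum_singleton] at hcount hmod
    have hle := signed_sum_le S hScard (A 0) (fun χ => Char.deg (χ : G → ℂ)) hA0
      (fun χ _ => Char.deg_pos χ.2) (fun χ hχ h1 => by
        have h := hmod χ hχ
        rw [h1] at h
        have := hne1 χ hχ
        have := Char.deg_pos χ.2
        omega) (hrel0 0 fun χ hχ => hout χ (hmemB hχ))
    have e : ∑ χ ∈ S, (A 0 χ : ℚ) / (Char.deg (χ : G → ℂ) : ℚ) = principalSum e x y w := by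
      rw [← hcount]
      refine Finset.sum_congr rfl fun χ hχ => ?_
      rcases hA0 χ hχ with h | h <;> rw [h] <;> norm_num
    rw [e] at hle
    linarith
  · -- three blocks: the degrees are equal
    have h1J : 1 ∈ ({0, 1, 2} : Finset ℕ) := by simp
    have h2J : 2 ∈ ({0, 1, 2} : Finset ℕ) := by simp
    have hsame : ∀ χ ∈ s, (A 1 χ ≠ 0 ↔ χ ∈ S) ∧ (A 2 χ ≠ 0 ↔ χ ∈ S) := by
      intro χ hχ
      have p1 := hpar' 0 χ (hmemB hχ)
      have p2 : (2 : ℤ) ∣ A 1 χ - A 2 χ := hpar' 1 χ (hmemB hχ)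
      have hm : χ ∈ S ↔ A 0 χ ≠ 0 := ⟨fun h => (Finset.mem_filter.1 h).2, fun h => Finset.mem_filter.2 ⟨hχ, h⟩⟩
      rw [hm]
      rcases (hcol 0 h0J).1 χ hχ with e0 | e0 | e0 <;> rcases (hcol 1 h1J).1 χ hχ with e1 | e1 | e1 <;>
        rcases (hcol 2 h2J).1 χ hχ with e2 | e2 | e2 <;> rw [e0, e1] at p1 <;> rw [e1, e2] at p2 <;>
        simp [e0, e1, e2] <;> omega
    have hu : ∀ χ ∈ S, (A 1 χ = 1 ∨ A 1 χ = -1) ∧ (A 2 χ = 1 ∨ A 2 χ = -1) := fun χ hχ =>
      have h := hsame χ (Finset.mem_filter.1 hχ).1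
      ⟨((hcol 1 h1J).1 χ (Finset.mem_filter.1 hχ).1).resolve_left (h.1.2 hχ),
        ((hcol 2 h2J).1 χ (Finset.mem_filter.1 hχ).1).resolve_left (h.2.2 hχ)⟩
    have hz1 : ∀ χ ∈ s, χ ∉ S → A 1 χ = 0 := fun χ hχ h => by_contra fun h' => h ((hsame χ hχ).1.1 h')
    have hz2 : ∀ χ ∈ s, χ ∉ S → A 2 χ = 0 := fun χ hχ h => by_contra fun h' => h ((hsame χ hχ).2.1 h')
    have horthS : ∀ i k, (∀ χ ∈ s, χ ∉ S → A i χ = 0) → ∑ χ ∈ S, A i χ * A k χ = ∑ χ ∈ s, A i χ * A k χ :=
      fun i k hi => Finset.sum_subset (Finset.filter_subset _ _) fun χ hχ h => by rw [hi χ hχ h, zero_mul]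
    obtain ⟨σ, x₀, hσ, hconst, s0, s1, s2⟩ := columns_const S hScard (A 0) (A 1) (A 2)
      (fun χ => Char.deg (χ : G → ℂ)) hA0 (fun χ hχ => (hu χ hχ).1) (fun χ hχ => (hu χ hχ).2)
      ((horthS 0 1 fun χ hχ => hout χ (hmemB hχ)).trans ((horth 0 h0J 1 h1J).trans (if_neg (by norm_num))))
      ((horthS 0 2 fun χ hχ => hout χ (hmemB hχ)).trans ((horth 0 h0J 2 h2J).trans (if_neg (by norm_num))))
      ((horthS 1 2 hz1).trans ((horth 1 h1J 2 h2J).trans (if_neg (by norm_num))))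
      (fun χ _ => Char.deg_pos χ.2) (hrel0 0 fun χ hχ => hout χ (hmemB hχ)) (hrel0 1 hz1) (hrel0 2 hz2)
    obtain ⟨ψ, hψ⟩ : S.Nonempty := Finset.card_pos.1 (by omega)
    have hx0 : x₀ = Char.deg (ψ : G → ℂ) := (hconst ψ hψ).2.symm
    have hx0pos : 0 < x₀ := hx0 ▸ Char.deg_pos ψ.2
    have hS0 : principalSum e x y w = 8 * (σ : ℚ) / x₀ := by
      rw [← hcount, Finset.sum_congr rfl (g := fun χ : IrrCharacter G =>
          ((3 * A 0 χ + 2 * A 1 χ + 2 * A 2 χ + 2 * σ : ℤ) : ℚ) / x₀) fun χ hχ => by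
        rw [(hconst χ hχ).2, ← (hconst χ hχ).1, show ∑ j ∈ ({0, 1, 2} : Finset ℕ), A j χ =
          A 0 χ + A 1 χ + A 2 χ by simp [add_assoc]]
        congr 2
        rcases hA0 χ hχ with q | q <;> rcases (hu χ hχ).1 with q1 | q1 <;> rcases (hu χ hχ).2 with q2 | q2 <;>
          rw [q, q1, q2] <;> norm_num,
        ← Finset.sum_div, ← Int.cast_sum]
      congr 1
      rw [Finset.sum_add_distrib, Finset.sum_add_distrib, Finset.sum_add_distrib, ← Finset.mul_sum, ← Finset.mul_sum,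
        ← Finset.mul_sum, s0, s1, s2, Finset.sum_const, hScard]
      simp; ring
    have hpos : 0 < principalSum e x y w := by linarith
    rcases hσ with rfl | rfl
    · have h4 : x₀ % 4 = 3 := by
        have h := hmod ψ hψ
        rw [show ∑ j ∈ ({0, 1, 2} : Finset ℕ), A j ψ = A 0 ψ + A 1 ψ + A 2 ψ by simp [add_assoc], ← hx0] at h
        have hp := (hconst ψ hψ).1
        rcases hA0 ψ hψ with q | q <;> rcases (hu ψ hψ).1 with q1 | q1 <;> rcases (hu ψ hψ).2 with q2 | q2 <;>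
          rw [q, q1, q2] at h hp <;> omega
      refine principalSum_ne he hx hy hw hx4 hw4 hy4 hy4' hy7 hrel (x₀ := x₀) ?_ h4 ?_
      · have hx5 : (x : ℚ)⁻¹ ≤ (5 : ℚ)⁻¹ := inv_anti₀ (by norm_num) (by exact_mod_cast hx)
        have hy5 : (y : ℚ)⁻¹ ≤ (5 : ℚ)⁻¹ := inv_anti₀ (by norm_num) (by exact_mod_cast hy)
        have hy0 : (0 : ℚ) ≤ (y : ℚ)⁻¹ := by positivity
        have hw0 : (0 : ℚ) ≤ (w : ℚ)⁻¹ := by positivity
        have hup : principalSum e x y w < 2 := by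
          unfold principalSum
          simp only [one_div, div_eq_mul_inv, one_mul]
          rcases he with rfl | rfl <;> push_cast <;> linarith
        by_contra hlt
        obtain rfl : x₀ = 3 := by omega
        rw [hS0] at hup
        norm_num at hup
      · rw [hS0, Int.cast_one, mul_one, div_mul_cancel₀ _ (Nat.cast_ne_zero.2 hx0pos.ne')]
    · rw [hS0] at hpos
      have : (0 : ℚ) < x₀ := by exact_mod_cast hx0pos
      rw [lt_div_iff₀ this, zero_mul] at hpos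
      norm_num at hpos

/-- A nontrivial linear character of `C(P)` trivial on `P`, all whose conjugates extend to `C(t)`, cannot exist. -/
theorem four_linear_false {G : Type u} [Group G] [Finite G] (P : Sylow 2 G) (hP : Nat.card P = 4)
    (hexp : ∀ x : P, x * x = 1) (hone : ∀ a b : G, orderOf a = 2 → orderOf b = 2 → IsConj a b)
    {t : G} (ht : t ∈ (P : Subgroup G)) (ht1 : t ≠ 1)
    (θ : Subgroup.centralizer ((P : Subgroup G) : Set G) →* ℂˣ) (hne : θ ≠ 1)
    (htriv : ∀ w : Subgroup.centralizer ((P : Subgroup G) : Set G), (w : G) ∈ (P : Subgroup G) → θ w = 1)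
    (hext : ∀ g ∈ Subgroup.normalizer ((P : Subgroup G) : Set G),
      ∃ L : Subgroup.centralizer ({t} : Set G) →* ℂˣ, ∀ (c : Subgroup.centralizer ({t} : Set G))
        (w w' : Subgroup.centralizer ((P : Subgroup G) : Set G)),
        (c : G) = w → (w' : G) = g * w * g⁻¹ → L c = θ w')
    (hperf : ∀ f : G →* ℂˣ, f = 1) (h3 : ∀ χ : IrrCharacter G, Char.deg (χ : G → ℂ) ≠ 3) : False := by
  classical
  have : Fintype G := Fintype.ofFinite G
  obtain ⟨M, hM⟩ := Char.exists_pModular Nat.prime_two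
  obtain ⟨v, hv, h1, h2, h4⟩ := exists_cycle hP hexp hone ht ht1
  let W' := Subgroup.centralizer ((P : Subgroup G) : Set G)
  let C' := Subgroup.centralizer ({t} : Set G)
  let π : (W' →* ℂˣ) → (C' →* ℂˣ) := fun φ =>
    if h : ∃ L : C' →* ℂˣ, ∀ (c : C') (w : W'), (c : G) = w → L c = φ w then h.choose else 1
  refine false_of_data (t := t) (v := v) (π := π) hM ⟨hP, hexp, hone, ht, ht1, hv, h1, h2, h4, ?_, htriv⟩
    hperf (fun χ _ => h3 χ) hne
  intro j φ hφ c w hcw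
  have hex : ∃ L : C' →* ℂˣ, ∀ (c : C') (w : W'), (c : G) = w → L c = φ w := by
    obtain ⟨L, hL⟩ := hext (v ^ j) (pow_mem hv j)
    refine ⟨L, fun c w hcw => ?_⟩
    have hm : v ^ j * w * (v ^ j)⁻¹ ∈ W' := Char.conj_mem_centralizer (pow_mem hv j) w.2
    rw [hL c w ⟨_, hm⟩ hcw rfl, hφ w ⟨_, hm⟩ rfl]
  simp only [π, dif_pos hex]
  exact hex.choose_spec c w hcw

/-- In a simple group no such character exists. -/
theorem four_linear_false_simple {G : Type u} [Group G] [Finite G] [IsSimpleGroup G] (P : Sylow 2 G) (hP : Nat.card P = 4)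
    (hexp : ∀ x : P, x * x = 1) (hone : ∀ a b : G, orderOf a = 2 → orderOf b = 2 → IsConj a b)
    {t : G} (ht : t ∈ (P : Subgroup G)) (ht1 : t ≠ 1)
    (θ : Subgroup.centralizer ((P : Subgroup G) : Set G) →* ℂˣ) (hne : θ ≠ 1)
    (htriv : ∀ w : Subgroup.centralizer ((P : Subgroup G) : Set G), (w : G) ∈ (P : Subgroup G) → θ w = 1)
    (hext : ∀ g ∈ Subgroup.normalizer ((P : Subgroup G) : Set G),
      ∃ L : Subgroup.centralizer ({t} : Set G) →* ℂˣ, ∀ (c : Subgroup.centralizer ({t} : Set G))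
        (w w' : Subgroup.centralizer ((P : Subgroup G) : Set G)),
        (c : G) = w → (w' : G) = g * w * g⁻¹ → L c = θ w') : False := by
  classical
  have : Fintype G := Fintype.ofFinite G
  obtain ⟨M, hM⟩ := Char.exists_pModular Nat.prime_two
  obtain ⟨v, hv, h1, h2, h4⟩ := exists_cycle hP hexp hone ht ht1
  let W' := Subgroup.centralizer ((P : Subgroup G) : Set G)
  let C' := Subgroup.centralizer ({t} : Set G)
  let π : (W' →* ℂˣ) → (C' →* ℂˣ) := fun φ =>
    if h : ∃ L : C' →* ℂˣ, ∀ (c : C') (w : W'), (c : G) = w → L c = φ w then h.choose else 1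
  have hret : ∀ (j : ℕ) (φ : W' →* ℂˣ), (∀ w w' : W', (w' : G) = v ^ j * w * (v ^ j)⁻¹ → φ w = θ w') →
      ∀ (c : C') (w : W'), (c : G) = w → π φ c = φ w := by
    intro j φ hφ c w hcw
    have hex : ∃ L : C' →* ℂˣ, ∀ (c : C') (w : W'), (c : G) = w → L c = φ w := by
      obtain ⟨L, hL⟩ := hext (v ^ j) (pow_mem hv j)
      refine ⟨L, fun c w hcw => ?_⟩
      have hm : v ^ j * w * (v ^ j)⁻¹ ∈ W' := Char.conj_mem_centralizer (pow_mem hv j) w.2
      rw [hL c w ⟨_, hm⟩ hcw rfl, hφ w ⟨_, hm⟩ rfl]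
    simp only [π, dif_pos hex]
    exact hex.choose_spec c w hcw
  have hperf : ∀ f : G →* ℂˣ, f = 1 := by
    intro f
    rcases IsSimpleGroup.eq_bot_or_eq_top_of_normal f.ker inferInstance with h | h
    · exfalso
      refine h1 ?_
      have hcomm : v * t = t * v := (MonoidHom.ker_eq_bot_iff f).1 h (by rw [map_mul, map_mul, mul_comm])
      rw [hcomm, mul_inv_cancel_right]
    · exact MonoidHom.ker_eq_top_iff.1 h
  refine false_of_data (t := t) (v := v) (π := π) hM ⟨hP, hexp, hone, ht, ht1, hv, h1, h2, h4, ?_, htriv⟩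
    hperf ?_ hne
  rotate_left
  · exact fun χ hχ h => principal_three_false (t := t) (v := v) (π := π) hM
      ⟨hP, hexp, hone, ht, ht1, hv, h1, h2, h4, hret, htriv⟩ hne hχ h
  exact hret

/-- An extension along a complement up to the intersection. -/
theorem exists_ext_of_sup {G : Type u} [Group G] (C₀ W₀ R : Subgroup G) (hW : W₀ ≤ C₀) (hR : R ≤ C₀)
    (hn : ∀ w ∈ W₀, ∀ r ∈ R, w * r * w⁻¹ ∈ R) (hsup : ∀ c ∈ C₀, ∃ r ∈ R, ∃ w ∈ W₀, c = r * w)
    (φ : W₀ →* ℂˣ) (hφ : ∀ w : W₀, (w : G) ∈ R → φ w = 1) :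
    ∃ L : C₀ →* ℂˣ, (∀ (c : C₀) (w : W₀), (c : G) = w → L c = φ w) ∧ ∀ c : C₀, (c : G) ∈ R → L c = 1 := by
  choose r hr w hw hrw using hsup
  have key : ∀ (c : C₀) (r' : G), r' ∈ R → ∀ w' : W₀, (c : G) = r' * w' → φ ⟨w c c.2, hw c c.2⟩ = φ w' := by
    intro c r' hr' w' e
    rw [← mul_inv_eq_one, ← map_inv, ← map_mul]
    refine hφ _ ?_
    show w c c.2 * (w' : G)⁻¹ ∈ R
    have e' : w c c.2 * (w' : G)⁻¹ = (r c c.2)⁻¹ * r' := by
      rw [mul_inv_eq_iff_eq_mul, mul_assoc, ← e, eq_inv_mul_iff_mul_eq]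
      exact (hrw c c.2).symm
    rw [e']
    exact mul_mem (inv_mem (hr c c.2)) hr'
  refine ⟨MonoidHom.mk' (fun c => φ ⟨w c c.2, hw c c.2⟩) (fun a b => ?_), fun c w' e => ?_, fun c hc => ?_⟩
  · rw [← map_mul]
    refine key (a * b) (r a a.2 * (w a a.2 * r b b.2 * (w a a.2)⁻¹)) (mul_mem (hr a a.2) (hn _ (hw a a.2) _ (hr b b.2)))
      _ ?_
    rw [Subgroup.coe_mul, Subgroup.coe_mul]
    nth_rewrite 1 [hrw a a.2, hrw b b.2]
    group
  · exact key c 1 (one_mem R) w' (by rw [e, one_mul])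
  · exact (key c (c : G) hc 1 (by simp)).trans (map_one φ)

/-- The same with a normal supplement of `C(P)` in `C(t)`. -/
theorem four_linear_false_sup {G : Type u} [Group G] [Finite G] (P : Sylow 2 G) (hP : Nat.card P = 4)
    (hexp : ∀ x : P, x * x = 1) (hone : ∀ a b : G, orderOf a = 2 → orderOf b = 2 → IsConj a b)
    {t : G} (ht : t ∈ (P : Subgroup G)) (ht1 : t ≠ 1)
    (θ : Subgroup.centralizer ((P : Subgroup G) : Set G) →* ℂˣ) (hne : θ ≠ 1)
    (htriv : ∀ w : Subgroup.centralizer ((P : Subgroup G) : Set G), (w : G) ∈ (P : Subgroup G) → θ w = 1)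
    (R : Subgroup G) (hR : R ≤ Subgroup.centralizer ({t} : Set G))
    (hn : ∀ w ∈ Subgroup.centralizer ((P : Subgroup G) : Set G), ∀ r ∈ R, w * r * w⁻¹ ∈ R)
    (hsup : ∀ c ∈ Subgroup.centralizer ({t} : Set G),
      ∃ r ∈ R, ∃ w ∈ Subgroup.centralizer ((P : Subgroup G) : Set G), c = r * w)
    (hconj : ∀ g ∈ Subgroup.normalizer ((P : Subgroup G) : Set G),
      ∀ w w' : Subgroup.centralizer ((P : Subgroup G) : Set G),
        (w : G) ∈ R → (w' : G) = g * w * g⁻¹ → θ w' = 1)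
    (hperf : ∀ f : G →* ℂˣ, f = 1) (h3 : ∀ χ : IrrCharacter G, Char.deg (χ : G → ℂ) ≠ 3) : False := by
  refine four_linear_false P hP hexp hone ht ht1 θ hne htriv (fun g hg => ?_) hperf h3
  obtain ⟨L, hL, -⟩ := exists_ext_of_sup _ _ R
    (Subgroup.centralizer_le (Set.singleton_subset_iff.mpr ht)) hR hn hsup
    (θ.comp (Char.conjC (P : Subgroup G) ⟨g, hg⟩).toMonoidHom) (fun w hw => hconj g hg w _ hw rfl)
  refine ⟨L, fun c w w' hcw hw' => (hL c w hcw).trans ?_⟩
  show θ _ = θ w'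
  exact congrArg θ (Subtype.ext hw'.symm)

/-- The same with a normal supplement of `C(P)` in `C(t)`. -/
theorem four_linear_false_simple_sup {G : Type u} [Group G] [Finite G] [IsSimpleGroup G] (P : Sylow 2 G) (hP : Nat.card P = 4)
    (hexp : ∀ x : P, x * x = 1) (hone : ∀ a b : G, orderOf a = 2 → orderOf b = 2 → IsConj a b)
    {t : G} (ht : t ∈ (P : Subgroup G)) (ht1 : t ≠ 1)
    (θ : Subgroup.centralizer ((P : Subgroup G) : Set G) →* ℂˣ) (hne : θ ≠ 1)
    (htriv : ∀ w : Subgroup.centralizer ((P : Subgroup G) : Set G), (w : G) ∈ (P : Subgroup G) → θ w = 1)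
    (R : Subgroup G) (hR : R ≤ Subgroup.centralizer ({t} : Set G))
    (hn : ∀ w ∈ Subgroup.centralizer ((P : Subgroup G) : Set G), ∀ r ∈ R, w * r * w⁻¹ ∈ R)
    (hsup : ∀ c ∈ Subgroup.centralizer ({t} : Set G),
      ∃ r ∈ R, ∃ w ∈ Subgroup.centralizer ((P : Subgroup G) : Set G), c = r * w)
    (hconj : ∀ g ∈ Subgroup.normalizer ((P : Subgroup G) : Set G),
      ∀ w w' : Subgroup.centralizer ((P : Subgroup G) : Set G),
        (w : G) ∈ R → (w' : G) = g * w * g⁻¹ → θ w' = 1) : False := by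
  refine four_linear_false_simple P hP hexp hone ht ht1 θ hne htriv (fun g hg => ?_)
  obtain ⟨L, hL, -⟩ := exists_ext_of_sup _ _ R
    (Subgroup.centralizer_le (Set.singleton_subset_iff.mpr ht)) hR hn hsup
    (θ.comp (Char.conjC (P : Subgroup G) ⟨g, hg⟩).toMonoidHom) (fun w hw => hconj g hg w _ hw rfl)
  refine ⟨L, fun c w w' hcw hw' => (hL c w hcw).trans ?_⟩
  show θ _ = θ w'
  exact congrArg θ (Subtype.ext hw'.symm)

end Cfsg.Agent.GW
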