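import Cfsg.Agent.Lib.Char.DihedralBlock.Combin
import Mathlib.Tactic.Linarith
import Mathlib.Tactic.Positivity
import Mathlib.Tactic.FieldSimp
import Mathlib.Data.Rat.Cast.Order
import Mathlib.RingTheory.Coprime.Lemmas

/-!
# Arithmetic of the degrees

The order formula confines the weighted count to a short interval around one, and the degrees of a block of the
dihedral shape give less.
-/

set_option autoImplicit false

namespace Cfsg.Agent.GW.Eight

/-- The order formula puts the weighted count near one. -/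
theorem order_arith {N r idx x : ℕ} {δ : ℤ} {a : ℕ} (hN : N = 2 ^ (a + 2)) (hr : 1 < r) (hro : Odd r)
    (hidx : Odd idx) (hcop : idx.Coprime r) (hδ : δ = 1 ∨ δ = -1) (hne : (x : ℤ) ≠ δ)
    (hdiv : (N : ℤ) ∣ (x : ℤ) - δ)
    (heq : (idx : ℤ) * ((x : ℤ) - δ) ^ 2 = 2 * (x : ℤ) * ((x : ℤ) + δ) * (N : ℤ) ^ 2 * (r : ℤ) ^ 2)
    {W : ℚ} (hW : W * idx = 2 * (N : ℚ) ^ 2 * (r : ℚ) ^ 2) : 22 / 25 < W ∧ W ≠ 8 / 9 := by
  set d : ℤ := (x : ℤ) - δ with hd
  have hcr : IsCoprime ((r : ℤ) ^ 2) (idx : ℤ) :=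
    (Int.isCoprime_iff_nat_coprime.mpr (by simpa using hcop.symm)).pow_left
  have h1 : (r : ℤ) ^ 2 ∣ d ^ 2 := hcr.dvd_of_dvd_mul_left
    ⟨2 * (x : ℤ) * ((x : ℤ) + δ) * (N : ℤ) ^ 2, by rw [heq]; ring⟩
  have h2 : (r : ℤ) ∣ d := (Int.pow_dvd_pow_iff two_ne_zero).mp h1
  have hNr : IsCoprime (N : ℤ) (r : ℤ) := by
    refine Int.isCoprime_iff_nat_coprime.mpr ?_
    simp only [Int.natAbs_natCast]
    rw [hN]
    exact (Nat.coprime_two_left.mpr hro).pow_left _
  obtain ⟨m, hm⟩ := hNr.mul_dvd hdiv h2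
  have hN4 : 4 ≤ N := by
    rw [hN, pow_add]
    have := Nat.one_le_two_pow (n := a)
    omega
  have hm2 : (2 : ℤ) ∣ m := by
    have h3 : (idx : ℤ) * m ^ 2 = 2 * ((x : ℤ) * ((x : ℤ) + δ)) := by
      refine mul_left_cancel₀ (show ((N : ℤ) * r) ^ 2 ≠ 0 by positivity) ?_
      rw [hm] at heq
      linear_combination heq
    rcases (Int.prime_two.dvd_mul.mp ⟨_, h3⟩) with h | h
    · exact absurd h (by
        have := Nat.odd_iff.mp hidx
        omega)
    · exact Int.prime_two.dvd_of_dvd_pow h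
  obtain ⟨k, rfl⟩ := hm2
  have hd0 : d ≠ 0 := sub_ne_zero.mpr hne
  have hk : k ≠ 0 := fun h => hd0 (by rw [hm, h]; ring)
  have hr3 : 3 ≤ r := by obtain ⟨q, rfl⟩ := hro; omega
  set u : ℤ := δ * d with hu
  have hδ2 : (δ : ℤ) * δ = 1 := by rcases hδ with rfl | rfl <;> norm_num
  have habs : 24 ≤ u ∨ u ≤ -24 := by
    have h24 : (24 : ℤ) ≤ 2 * ((N : ℤ) * r) := by
      have : (4 : ℤ) * 3 ≤ (N : ℤ) * r := mul_le_mul (by exact_mod_cast hN4) (by exact_mod_cast hr3) (by norm_num) (by positivity)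
      linarith
    have hsgn : 1 ≤ δ * k ∨ δ * k ≤ -1 := by
      rcases hδ with rfl | rfl <;> omega
    have e : u = 2 * ((N : ℤ) * r) * (δ * k) := by rw [hu, hm]; ring
    rcases hsgn with h | h
    · left; rw [e]; nlinarith
    · right; rw [e]; nlinarith
  have hxx : ((x : ℤ) : ℚ) = (δ : ℚ) * (1 + (u : ℚ)) := by
    have : (x : ℤ) = δ * (1 + u) := by rw [hu, hd]; linear_combination (δ - (x : ℤ)) * hδ2
    exact_mod_cast this
  have hWu : W * ((1 + (u : ℚ)) * (2 + (u : ℚ))) = (u : ℚ) ^ 2 := by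
    have hq : (idx : ℚ) * (d : ℚ) ^ 2 = 2 * (x : ℚ) * ((x : ℚ) + (δ : ℚ)) * (N : ℚ) ^ 2 * (r : ℚ) ^ 2 := by
      exact_mod_cast heq
    have hδq : (δ : ℚ) * δ = 1 := by exact_mod_cast hδ2
    have e1 : (u : ℚ) ^ 2 = (d : ℚ) ^ 2 := by rw [hu]; push_cast; linear_combination (d : ℚ) ^ 2 * hδq
    rw [Int.cast_natCast] at hxx
    have hi : (idx : ℚ) ≠ 0 := Nat.cast_ne_zero.mpr hidx.pos.ne'
    refine mul_left_cancel₀ hi ?_
    rw [e1, hq, hxx]
    linear_combination ((1 + (u : ℚ)) * (2 + (u : ℚ))) * hW -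
      2 * (N : ℚ) ^ 2 * (r : ℚ) ^ 2 * (1 + (u : ℚ)) * (2 + (u : ℚ)) * hδq
  have hpos : 0 < (1 + (u : ℚ)) * (2 + (u : ℚ)) := by
    rcases habs with h | h
    · have : (24 : ℚ) ≤ u := by exact_mod_cast h
      positivity
    · have : (u : ℚ) ≤ -24 := by exact_mod_cast h
      nlinarith
  constructor
  · by_contra hle
    rw [not_lt] at hle
    have h5 : (u : ℚ) ^ 2 ≤ 22 / 25 * ((1 + (u : ℚ)) * (2 + (u : ℚ))) :=
      hWu ▸ mul_le_mul_of_nonneg_right hle hpos.le
    rcases habs with h | h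
    · have : (24 : ℚ) ≤ u := by exact_mod_cast h
      nlinarith
    · have : (u : ℚ) ≤ -24 := by exact_mod_cast h
      nlinarith
  · intro h89
    rw [h89] at hWu
    have h5 : (u : ℚ) ^ 2 - 24 * u - 16 = 0 := by linear_combination (-9 : ℚ) * hWu
    have h6 : u ^ 2 - 24 * u - 16 = 0 := by exact_mod_cast h5
    rcases habs with h | h
    · rcases h.eq_or_lt with h' | h'
      · rw [← h'] at h6; norm_num at h6
      · nlinarith
    · nlinarith

/-- The bound for three signed degrees. -/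
theorem three_degrees {p q s : ℕ} (hp : Odd p) (hp3 : 3 ≤ p) (hq : Odd q) (hq3 : 3 ≤ q) (hs : s % 4 = 2)
    (hs6 : 6 ≤ s) {a b c : ℤ} (ha : a = 1 ∨ a = -1) (hb : b = 1 ∨ b = -1) (hc : c = 1 ∨ c = -1)
    (hsum : a * p + b * q + c * s = 0) :
    (a : ℚ) / p + (b : ℚ) / q + 4 * (c : ℚ) / s ≤ 22 / 25 ∨ (a : ℚ) / p + (b : ℚ) / q + 4 * (c : ℚ) / s = 8 / 9 := by
  have key : ∀ {p q s : ℕ}, Odd p → 3 ≤ p → q = p + s → s % 4 = 2 → 6 ≤ s →
      (1 : ℚ) / p - 1 / q + 4 / s ≤ 22 / 25 ∨ (1 : ℚ) / p - 1 / q + 4 / s = 8 / 9 := by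
    intro p q s hp hp3 hq hs hs6
    subst hq
    have hp0 : (0 : ℚ) < p := by exact_mod_cast (show 0 < p by omega)
    rcases (show s = 6 ∨ 10 ≤ s by omega) with rfl | h10
    · rcases (show p = 3 ∨ 5 ≤ p by obtain ⟨k, rfl⟩ := hp; omega) with rfl | h5
      · right; norm_num
      · left
        have h5' : (5 : ℚ) ≤ p := by exact_mod_cast h5
        have e : (1 : ℚ) / p - 1 / ((p + 6 : ℕ) : ℚ) = 6 / (p * (p + 6)) := by
          push_cast; field_simp; ring
        have h55 : (6 : ℚ) / (p * (p + 6)) ≤ 6 / 55 :=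
          div_le_div_of_nonneg_left (by norm_num) (by norm_num) (by nlinarith)
        rw [e]
        push_cast
        linarith
    · left
      have h1 : (1 : ℚ) / p ≤ 1 / 3 := one_div_le_one_div_of_le (by norm_num) (by exact_mod_cast hp3)
      have h2 : (0 : ℚ) ≤ 1 / ((p + s : ℕ) : ℚ) := by positivity
      have h3 : (4 : ℚ) / s ≤ 4 / 10 :=
        div_le_div_of_nonneg_left (by norm_num) (by norm_num) (by exact_mod_cast h10)
      linarith
  have hpq : (1 : ℚ) / p ≤ 1 / 3 := one_div_le_one_div_of_le (by norm_num) (by exact_mod_cast hp3)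
  have hqq : (1 : ℚ) / q ≤ 1 / 3 := one_div_le_one_div_of_le (by norm_num) (by exact_mod_cast hq3)
  have hp0 : (0 : ℚ) ≤ 1 / p := by positivity
  have hq0 : (0 : ℚ) ≤ 1 / q := by positivity
  have hs0 : (0 : ℚ) ≤ 4 / s := by positivity
  have hs1 : (4 : ℚ) / s ≤ 4 / 6 := div_le_div_of_nonneg_left (by norm_num) (by norm_num) (by exact_mod_cast hs6)
  rcases ha with rfl | rfl <;> rcases hb with rfl | rfl <;> rcases hc with rfl | rfl <;>
    simp only [one_mul, neg_mul, Int.cast_one, Int.cast_neg, mul_one, mul_neg, neg_div] at hsum ⊢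
  · omega
  · left; linarith
  · rcases key hp hp3 (q := q) (by omega) hs hs6 with h | h
    · left; linarith
    · right; linarith
  · left; linarith
  · rcases key hq hq3 (q := p) (by omega) hs hs6 with h | h
    · left; linarith
    · right; linarith
  · left; linarith
  · left; linarith
  · left; linarith

variable {X : Type*}

/-- The degrees of the dihedral shape bound the weighted count. -/
theorem shape_bound [DecidableEq X] {S : Finset X} {w v d : X → ℤ} {x : X → ℕ}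
    (hw4 : ∑ c ∈ S, w c * w c = 4) (hv3 : ∑ c ∈ S, v c * v c = 3) (hvw : ∑ c ∈ S, v c * w c = 2)
    (hpar : ∀ c ∈ S, Odd (d c) ↔ Odd (w c)) (h4 : (S.filter fun c => Odd (d c)).card = 4)
    (h2 : ∀ c ∈ S, ¬ Odd (d c) → d c = 2 ∨ d c = -2)
    (hmass : ∑ c ∈ S, d c * d c = 4 * (S.card : ℤ) - 12)
    (hx1 : ∀ c ∈ S, d c = 1 ∨ d c = -1 → Odd (x c) ∧ 3 ≤ x c)
    (hx2 : ∀ c ∈ S, d c = 2 ∨ d c = -2 → x c % 4 = 2 ∧ 6 ≤ x c)
    (hzero : ∑ c ∈ S, v c * (x c : ℤ) = 0) {W : ℚ}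
    (hW : ∑ c ∈ S, (v c : ℚ) * ((d c : ℚ) ^ 2 / (x c : ℚ)) = W) : W ≤ 22 / 25 ∨ W = 8 / 9 := by
  -- the odd values are units
  have hone : ∀ c ∈ S, Odd (d c) → d c = 1 ∨ d c = -1 := by
    set T := S.filter fun c => Odd (d c) with hT
    have hsplit := Finset.sum_filter_add_sum_filter_not S (fun c => Odd (d c)) (fun c => d c * d c)
    have hb : ∑ c ∈ S.filter (fun c => ¬ Odd (d c)), d c * d c = ((S.filter fun c => ¬ Odd (d c)).card : ℤ) * 4 := by
      rw [← nsmul_eq_mul, ← Finset.sum_const]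
      refine Finset.sum_congr rfl fun c hc => ?_
      obtain ⟨h1, h1'⟩ := Finset.mem_filter.mp hc
      rcases h2 c h1 h1' with e | e <;> rw [e] <;> norm_num
    rw [hmass, ← hT, hb] at hsplit
    have hcard := Finset.card_filter_add_card_filter_not (s := S) (fun c => Odd (d c))
    rw [← hT, h4] at hcard
    have hsum : ∑ c ∈ T, (d c * d c - 1) = 0 := by
      rw [Finset.sum_sub_distrib, Finset.sum_const, h4]
      have : (S.card : ℤ) = 4 + ((S.filter fun c => ¬ Odd (d c)).card : ℤ) := by exact_mod_cast hcard.symm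
      rw [this] at hsplit
      simp only [nsmul_eq_mul, Nat.cast_ofNat, mul_one]
      linarith
    intro c hc ho
    have hnn : ∀ y ∈ T, 0 ≤ d y * d y - 1 := fun y hy => by
      have h := (Finset.mem_filter.mp hy).2
      have : d y ≠ 0 := fun e => by rw [e] at h; exact absurd h (by decide)
      have : 0 < d y * d y := mul_self_pos.mpr this
      omega
    have h0 := (Finset.sum_eq_zero_iff_of_nonneg hnn).mp hsum c (Finset.mem_filter.mpr ⟨hc, ho⟩)
    have : (d c - 1) * (d c + 1) = 0 := by linear_combination h0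
    rcases mul_eq_zero.mp this with e | e
    · left; omega
    · right; omega
  obtain ⟨c0, hc0⟩ : (S.filter fun c => Odd (d c)).Nonempty := Finset.card_pos.mp (by omega)
  obtain ⟨hw1, hwc⟩ := Char.DihBlock.norm_four hw4
    ⟨c0, (Finset.mem_filter.mp hc0).1, (hpar c0 (Finset.mem_filter.mp hc0).1).mp (Finset.mem_filter.mp hc0).2⟩
  obtain ⟨Q, f, ε, hQS, hQc, hQw, hf, hfw, hε, hval⟩ := Char.DihBlock.agree_two hw1 (by exact_mod_cast hv3) hvw
  obtain ⟨p, q, hpq, rfl⟩ := Finset.card_eq_two.mp hQc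
  have hpS : p ∈ S := hQS (by simp)
  have hqS : q ∈ S := hQS (by simp)
  have hfp : f ≠ p := fun h => hQw p (by simp) (h ▸ hfw)
  have hfq : f ≠ q := fun h => hQw q (by simp) (h ▸ hfw)
  have hwodd : ∀ c ∈ ({p, q} : Finset X), w c = 1 ∨ w c = -1 := fun c hc => by
    rcases hw1 c (hQS hc) with e | e | e
    · exact Or.inr e
    · exact absurd e (hQw c hc)
    · exact Or.inl e
  have hodd : ∀ c ∈ ({p, q} : Finset X), Odd (d c) := fun c hc => (hpar c (hQS hc)).mpr (by
    rcases hwodd c hc with e | e <;> rw [e] <;> decide)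
  have hdf : d f = 2 ∨ d f = -2 := h2 f hf fun h => by
    have := (hpar f hf).mp h
    rw [hfw] at this
    exact absurd this (by decide)
  have hsum : ∀ {A : Type} [CommRing A] (g : X → A), ∑ c ∈ S, (v c : A) * g c =
      (w p : A) * g p + (w q : A) * g q + (ε : A) * g f := by
    intro A _ g
    have hsub : ({p, q, f} : Finset X) ⊆ S := by
      intro c hc
      simp only [Finset.mem_insert, Finset.mem_singleton] at hc
      rcases hc with rfl | rfl | rfl <;> assumption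
    rw [← Finset.sum_subset hsub fun c hc hn => ?_]
    · rw [Finset.sum_insert (by simp [hpq, hfp.symm]), Finset.sum_insert (by simp [hfq.symm]), Finset.sum_singleton,
        hval p hpS, hval q hqS, hval f hf, if_pos (by simp), if_neg hfp.symm, if_pos (by simp), if_neg hfq.symm,
        if_neg (by simp [hfp, hfq]), if_pos rfl, add_zero, add_zero, zero_add]
      ring
    · simp only [Finset.mem_insert, Finset.mem_singleton, not_or] at hn
      rw [hval c hc, if_neg (by simp [hn.1, hn.2.1]), if_neg hn.2.2, add_zero, Int.cast_zero, zero_mul]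
  obtain ⟨hp1, hp3⟩ := hx1 p hpS (hone p hpS (hodd p (by simp)))
  obtain ⟨hq1, hq3⟩ := hx1 q hqS (hone q hqS (hodd q (by simp)))
  obtain ⟨hf2, hf6⟩ := hx2 f hf hdf
  have hz : w p * (x p : ℤ) + w q * (x q : ℤ) + ε * (x f : ℤ) = 0 := by
    have h := hsum (A := ℤ) fun c => (x c : ℤ)
    simp only [Int.cast_id] at h
    rw [← h, hzero]
  have hsq : ∀ c ∈ ({p, q} : Finset X), (d c : ℚ) ^ 2 = 1 := fun c hc => by
    rcases hone c (hQS hc) (hodd c hc) with e | e <;> rw [e] <;> norm_num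
  have hfsq : (d f : ℚ) ^ 2 = 4 := by rcases hdf with e | e <;> rw [e] <;> norm_num
  have hW' : W = (w p : ℚ) / (x p : ℚ) + (w q : ℚ) / (x q : ℚ) + 4 * (ε : ℚ) / (x f : ℚ) := by
    rw [← hW, hsum fun c => (d c : ℚ) ^ 2 / (x c : ℚ), hsq p (by simp), hsq q (by simp), hfsq]
    ring
  rw [hW']
  exact three_degrees hp1 hp3 hq1 hq3 hf2 hf6 (hwodd p (by simp)) (hwodd q (by simp)) hε hz

end Cfsg.Agent.GW.Eight
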