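import Cfsg.Agent.Lib.GW.EightCount
import Cfsg.Agent.Lib.GW.EightArith
import Cfsg.Agent.Lib.Char.TwoDegreesPrime

/-!
# No linear character of the centralizer: dihedral Sylow 2-subgroups of order at least eight

In a simple group with dihedral Sylow 2-subgroups of order at least eight, the order formula contradicts the block of
a non-trivial linear character of the involution centralizer that is fixed by the fusion of the four groups, when the
reflections invert a non-trivial number of elements of the core, prime to the index of the centralizer.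
-/

set_option autoImplicit false
set_option linter.unusedSectionVars false
set_option linter.style.haveILetI false

open Cfsg DihedralGroup

namespace Cfsg.Agent.GW.Eight

universe u

section Values

variable {G : Type u} [Group G] [Fintype G]

open scoped Classical in
/-- Only the principal character has an element outside the identity in its kernel. -/
theorem eq_irrOne_of_value [IsSimpleGroup G] (χ : IrrCharacter G) {t : G} (ht : t ≠ 1)
    (h : (χ : G → ℂ) t = (χ : G → ℂ) 1) : χ = Char.irrOne := by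
  have hk : t ∈ Char.TwoDeg.kerC χ := Char.TwoDeg.mem_kerC_of_eq χ h
  have htop : Char.TwoDeg.kerC χ = ⊤ :=
    ((Char.TwoDeg.kerC_normal χ).eq_bot_or_eq_top).resolve_left fun e => ht (by simpa [e] using hk)
  have hval : ∀ g, (χ : G → ℂ) g = (χ : G → ℂ) 1 := fun g => by
    have hg : g ∈ Char.TwoDeg.kerC χ := htop ▸ Subgroup.mem_top g
    have h1 := hg 1
    rwa [mul_one] at h1
  by_contra hne
  have h0 : classInner (χ : G → ℂ) (Char.irrOne : IrrCharacter G) = 0 := by
    rw [Char.irr_orth χ.2 Char.irrOne.2, if_neg fun e => hne (Subtype.ext e)]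
  rw [classInner, Finset.sum_congr rfl (g := fun _ => (χ : G → ℂ) 1) fun g _ => by
    rw [hval g, Char.irrOne_apply, map_one, mul_one], Finset.sum_const, Finset.card_univ, nsmul_eq_mul,
    Nat.card_eq_fintype_card] at h0
  have hc : (Fintype.card G : ℂ) ≠ 0 := Nat.cast_ne_zero.mpr Fintype.card_ne_zero
  rw [← mul_assoc, inv_mul_cancel₀ hc, one_mul] at h0
  exact Char.irr_one_ne_zero χ.2 h0

open scoped Classical in
/-- A character with a constant value off the identity of a subgroup. -/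
theorem const_value_dvd {H : Type u} [Group H] [Fintype H] (φ : H →* G) (χ : IrrCharacter G) (c : ℤ)
    (hval : ∀ y, y ≠ 1 → (χ : G → ℂ) (φ y) = c) :
    ∃ n : ℕ, (charDegree (χ : G → ℂ) : ℤ) + ((Nat.card H : ℤ) - 1) * c = (Nat.card H : ℤ) * n := by
  obtain ⟨n, hn⟩ := Char.classInner_natCast (Char.isCharacter_comp φ (Char.irr_isCharacter χ.2))
    (Char.isCharacter_one (G := H))
  refine ⟨n, ?_⟩
  rw [classInner, ← Finset.add_sum_erase _ _ (Finset.mem_univ (1 : H)),
    Finset.sum_congr rfl (g := fun _ => (c : ℂ)) fun y hy => by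
      simp [Function.comp_apply, hval y (Finset.ne_of_mem_erase hy)], Finset.sum_const,
    Finset.card_erase_of_mem (Finset.mem_univ _), Finset.card_univ, nsmul_eq_mul] at hn
  simp only [Function.comp_apply, map_one, mul_one, Nat.card_eq_fintype_card] at hn ⊢
  rw [Char.charDegree_spec, Nat.cast_sub Fintype.card_pos, Nat.cast_one] at hn
  have hc : (Fintype.card H : ℂ) ≠ 0 := Nat.cast_ne_zero.mpr Fintype.card_ne_zero
  rw [inv_mul_eq_iff_eq_mul₀ hc] at hn
  exact_mod_cast hn

end Values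

variable {G : Type u} [Group G] [Fintype G] {M : Ideal AlgInt}
variable {P : Sylow 2 G} {N : ℕ} [NeZero N] {ι : DihedralGroup N ≃* (P : Subgroup G)} {t : G} {O : Subgroup G}
  {L : Subgroup.centralizer ({t} : Set G) →* ℂˣ}

namespace Data

theorem card_cent (D : Data P ι t O L) :
    Nat.card (Subgroup.centralizer ({t} : Set G)) = 2 * N * Nat.card O := by
  have hsur : Function.Surjective D.proj := fun y => ⟨⟨_, D.le_cent (ι y).2⟩, D.proj_of_eq rfl⟩
  rw [← D.proj.ker.index_mul_card, Subgroup.index_ker, MonoidHom.range_eq_top.mpr hsur,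
    Nat.card_congr Subgroup.topEquiv.toEquiv, DihedralGroup.nat_card]
  congr 1
  exact Nat.card_congr ⟨fun c => ⟨((c : Subgroup.centralizer ({t} : Set G)) : G), (D.proj_eq_one_iff _).mp c.2⟩,
    fun y => ⟨⟨y.1, D.hOle y.2⟩, (D.proj_eq_one_iff _).mpr y.2⟩, fun _ => rfl, fun _ => rfl⟩

theorem index_odd (D : Data P ι t O L) : Odd (Subgroup.centralizer ({t} : Set G)).index := by
  haveI := Fact.mk Nat.prime_two
  rw [Nat.odd_iff]
  have h : ¬ 2 ∣ (Subgroup.centralizer ({t} : Set G)).index := fun h =>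
    P.not_dvd_index (h.trans (Subgroup.index_dvd_of_le D.le_cent))
  omega

theorem sign (D : Data P ι t O L) {r₀ : ℕ}
    (hfix : ∀ i : ZMod N, Nat.card (Subgroup.centralizer ({t, (ι (sr i) : G)} : Set G)) * r₀ = 4 * Nat.card O) :
    Odd r₀ := by
  have hle : (Fusion.DihedralFours.four N (0 : ZMod N)).map ((P : Subgroup G).subtype.comp ι.toMonoidHom) ≤
      Subgroup.centralizer ({t, (ι (sr 0) : G)} : Set G) := by
    rintro _ ⟨d, hd, rfl⟩
    refine Subgroup.mem_centralizer_iff.mpr fun x hx => ?_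
    rcases hx with rfl | rfl
    · exact (Subgroup.mem_centralizer_singleton_iff.mp (D.le_cent (ι d).2)).symm
    · have h := congrArg (fun y => ((ι y : (P : Subgroup G)) : G)) (Subgroup.mem_centralizer_singleton_iff.mp hd)
      simp only [map_mul, Subgroup.coe_mul] at h
      exact h.symm
  have h4 := Subgroup.card_dvd_of_le hle
  rw [Subgroup.card_map_of_injective (f := (P : Subgroup G).subtype.comp ι.toMonoidHom)
    ((P : Subgroup G).subtype_injective.comp ι.injective), (Fusion.DihedralFours.four_klein D.two_dvd 0).card_four]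
    at h4
  obtain ⟨k, hk⟩ := h4
  have h := hfix 0
  rw [hk, mul_assoc] at h
  have hkr : k * r₀ = Nat.card O := by omega
  exact (Nat.odd_mul.mp (hkr ▸ D.hOodd)).2

open Char.DihBlock in
open scoped Classical in
/-- The values of the block on the section of `t`. -/
theorem purity (hM : IsPModular 2 M) (D : Data P ι t O L) [Fintype (Subgroup.centralizer ({t} : Set G))]
    {B : Set (IrrCharacter G)} (S : DBlock M B N t)
    (hf : S.f = blockOf M (linIrr L : Subgroup.centralizer ({t} : Set G) → ℂ)) (hψ : S.ψ = linIrr L)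
    (huniq : ∀ β, IsInducedBlock M (Subgroup.centralizer ({t} : Set G)) β B → β = S.f)
    {ζ : ℂ} (hζ : IsPrimitiveRoot ζ N) {χ : IrrCharacter G} (hχ : χ ∈ B)
    (y : Subgroup.centralizer ({t} : Set G)) (hy : ¬ 2 ∣ orderOf y) :
    (χ : G → ℂ) (t * (y : G)) = S.col χ * (L y : ℂ) := by
  show Char.secFun t (χ : G → ℂ) y = _
  rw [Char.eq_sum_blockPart (Char.pmod_prime hM)
    (Char.isClassFunction_secFun (Char.isClassFunction_character (Char.irr_isCharacter χ.2))),
    Finset.sum_eq_single S.f]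
  · rw [S.blockPart_section hζ χ y hy, hψ, linIrr_apply, map_mul, D.L_t S.zC rfl, one_mul]
  · intro b hb hne
    obtain ⟨ξ, -, rfl⟩ := Finset.mem_image.mp hb
    exact Char.blockPart_secFun_eq_zero hM ⟨1, by rw [D.order_t, pow_one]⟩ S.hB χ hχ
      (Char.isPBlock_blockOf M ξ) (fun h => hne (huniq _ h)) y hy
  · intro h
    exact absurd (Finset.mem_image.mpr ⟨linIrr L, Finset.mem_univ _, hf.symm⟩) h

open Char.DihBlock in
open scoped Classical in
theorem irrOne_not_mem (hM : IsPModular 2 M) (D : Data P ι t O L) [Fintype (Subgroup.centralizer ({t} : Set G))]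
    {B : Set (IrrCharacter G)} (S : DBlock M B N t)
    (hf : S.f = blockOf M (linIrr L : Subgroup.centralizer ({t} : Set G) → ℂ)) (hψ : S.ψ = linIrr L)
    (huniq : ∀ β, IsInducedBlock M (Subgroup.centralizer ({t} : Set G)) β B → β = S.f)
    {ζ : ℂ} (hζ : IsPrimitiveRoot ζ N) (hL : L ≠ 1) : (Char.irrOne : IrrCharacter G) ∉ B := by
  intro h
  have h1 := D.purity hM S hf hψ huniq hζ h 1 (by rw [orderOf_one]; exact Nat.prime_two.not_dvd_one)
  rw [Char.irrOne_apply, map_one, Units.val_one, mul_one] at h1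
  refine hL (MonoidHom.ext fun c => ?_)
  have hm : ((ι (D.proj c) : (P : Subgroup G)) : G) ∈ Subgroup.centralizer ({t} : Set G) := D.le_cent (ι _).2
  set o : Subgroup.centralizer ({t} : Set G) := (⟨_, hm⟩ : Subgroup.centralizer ({t} : Set G))⁻¹ * c with ho
  have hLo : L c = L o := by rw [ho, map_mul, map_inv, D.hLP ⟨_, hm⟩ (ι _).2, inv_one, one_mul]
  have hor : ¬ 2 ∣ orderOf o := by rw [← Subgroup.orderOf_coe]; exact D.regular_O (D.decomp c)
  have h2 := D.purity hM S hf hψ huniq hζ h o hor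
  rw [Char.irrOne_apply, ← h1, one_mul] at h2
  rw [MonoidHom.one_apply, hLo]
  exact Units.ext h2.symm

open Char.DihBlock in
open scoped Classical in
/-- The degrees of the block. -/
theorem degree_facts [IsSimpleGroup G] (hM : IsPModular 2 M) (D : Data P ι t O L)
    [Fintype (Subgroup.centralizer ({t} : Set G))] {B : Set (IrrCharacter G)} (S : DBlock M B N t)
    (hf : S.f = blockOf M (linIrr L : Subgroup.centralizer ({t} : Set G) → ℂ)) (hψ : S.ψ = linIrr L)
    (huniq : ∀ β, IsInducedBlock M (Subgroup.centralizer ({t} : Set G)) β B → β = S.f)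
    {ζ : ℂ} (hζ : IsPrimitiveRoot ζ N) (hL : L ≠ 1) {χ : IrrCharacter G} (hχ : χ ∈ B) :
    (χ : G → ℂ) t = (S.colZ hζ χ : ℂ) ∧
      (S.colZ hζ χ = 1 ∨ S.colZ hζ χ = -1 →
        Odd (charDegree (χ : G → ℂ)) ∧ 3 ≤ charDegree (χ : G → ℂ)) ∧
      (S.colZ hζ χ = 2 ∨ S.colZ hζ χ = -2 →
        charDegree (χ : G → ℂ) % 4 = 2 ∧ 6 ≤ charDegree (χ : G → ℂ)) := by
  have hval : (χ : G → ℂ) t = (S.colZ hζ χ : ℂ) := by
    have h := D.purity hM S hf hψ huniq hζ hχ 1 (by rw [orderOf_one]; exact Nat.prime_two.not_dvd_one)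
    rw [OneMemClass.coe_one, mul_one, map_one, Units.val_one, mul_one] at h
    rw [h, S.col_eq hζ]
    rfl
  set c := S.colZ hζ χ
  set x := charDegree (χ : G → ℂ) with hx
  have hne : (x : ℤ) ≠ c := fun e => by
    have ht1 : t ≠ 1 := fun e1 => by
      have := D.order_t
      rw [e1, orderOf_one] at this
      omega
    have hv : (χ : G → ℂ) t = (χ : G → ℂ) 1 := by
      rw [hval, Char.charDegree_spec, ← hx, ← e]
      norm_num
    exact D.irrOne_not_mem hM S hf hψ huniq hζ hL (eq_irrOne_of_value χ ht1 hv ▸ hχ)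
  have hK := Fusion.DihedralFours.four_klein D.two_dvd (0 : ZMod N)
  obtain ⟨n, hn⟩ := const_value_dvd (H := ULift.{u} (Fusion.DihedralFours.four N (0 : ZMod N)))
    ((((P : Subgroup G).subtype.comp ι.toMonoidHom).comp
      (Fusion.DihedralFours.four N (0 : ZMod N)).subtype).comp MulEquiv.ulift.toMonoidHom) χ c (by
      rintro ⟨d⟩ hd
      show (χ : G → ℂ) ((ι (d : DihedralGroup N) : (P : Subgroup G)) : G) = _
      have ho : orderOf ((ι (d : DihedralGroup N) : (P : Subgroup G)) : G) = 2 := by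
        rw [Subgroup.orderOf_coe, MulEquiv.orderOf_eq, Subgroup.orderOf_coe]
        refine orderOf_eq_prime ?_ fun e => hd (by rw [e]; rfl)
        rw [← hK.exponent_two]
        exact Monoid.pow_exponent_eq_one d
      obtain ⟨g, hg⟩ := isConj_iff.mp (D.isConj_t ho)
      rw [← hg, Char.isClassFunction_character (Char.irr_isCharacter χ.2), hval])
  rw [Nat.card_congr Equiv.ulift, hK.card_four] at hn
  push_cast at hn
  refine ⟨hval, fun hc => ?_, fun hc => ?_⟩
  · rw [Nat.odd_iff]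
    omega
  · omega

end Data

open Char.DihBlock in
open scoped Classical in
/-- No linear character: the finite form. -/
theorem eight_false [IsSimpleGroup G] (hM : IsPModular 2 M) (D : Data P ι t O L) (hL : L ≠ 1) {r₀ : ℕ} (hr : 1 < r₀)
    (hinv : ∀ i : ZMod N, Nat.card {y : G // y ∈ O ∧ (ι (sr i) : G) * y * (ι (sr i) : G)⁻¹ = y⁻¹} = r₀)
    (hfix : ∀ i : ZMod N, Nat.card (Subgroup.centralizer ({t, (ι (sr i) : G)} : Set G)) * r₀ = 4 * Nat.card O)
    (hcop : (Subgroup.centralizer ({t} : Set G)).index.Coprime r₀) : False := by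
  haveI : Fintype (Subgroup.centralizer ({t} : Set G)) := Fintype.ofFinite _
  obtain ⟨B, hB, hdef, huniq⟩ := D.exists_block hM
  obtain ⟨S, hf, hψ, hd⟩ := D.exists_dblock hM hB hdef
  have huniq' : ∀ β, IsInducedBlock M (Subgroup.centralizer ({t} : Set G)) β B → β = S.f := fun β hβ => by
    rw [hf]; exact huniq β hβ
  have hζ := Complex.isPrimitiveRoot_exp N (NeZero.ne N)
  set ζ := Complex.exp (2 * Real.pi * Complex.I / N) with hζd
  obtain ⟨a, ha⟩ := D.pow
  have h2 := D.two_dvd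
  have hN4 : 4 ≤ N := by
    rw [ha, pow_add]
    have := Nat.one_le_two_pow (n := a)
    omega
  set h : ZMod N := ((N / 2 : ℕ) : ZMod N) with hh
  have hne : h ≠ 0 := half_ne h2
  set j : ZMod N := jz N ⟨0, by omega⟩ with hj
  have gram : ∀ {p q : ZMod N}, p ≠ 0 → q ≠ 0 → ∀ k : ℤ,
      (2 : ℂ) + ((if p = q then 1 else 0) + if p = -q then (1 : ℂ) else 0) = (k : ℂ) →
        ∑ χ ∈ Char.bset B, S.cf hζ p χ * S.cf hζ q χ = k := fun {p q} hp hq k hk => by
    exact_mod_cast (S.cf_gram hζ p q hp hq).trans hk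
  obtain ⟨hcard, h4, h22⟩ := standard hζ S
  -- the mass of the column
  have hmass : ∑ χ ∈ Char.bset B, S.colZ hζ χ * S.colZ hζ χ = 4 * ((Char.bset B).card : ℤ) - 12 := by
    have ho : OnRot ((N : ℂ) • ind h : DihedralGroup N → ℂ) := (onRot_ind hne).smul _
    have e := S.parseval S.indHalf_isClass ho S.indHalf_isClass ho
    rw [inner_ind S.indHalf_isClass] at e
    have e1 : ((∑ χ ∈ Char.bset B, S.colZ hζ χ * S.colZ hζ χ : ℤ) : ℂ) = (((2 * N : ℕ) : ℤ) : ℂ) := by
      rw [Int.cast_sum]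
      refine Eq.trans (Finset.sum_congr rfl fun χ _ => ?_) (e.trans ?_)
      · show _ = S.col χ * (starRingEnd ℂ) (S.col χ)
        rw [S.conj_col hζ, S.col_eq hζ, Int.cast_mul]
        rfl
      · have hhn : h = -h := (neg_half h2).symm
        simp [ind, ← hh, ← hhn]
        ring
    have e2 : ∑ χ ∈ Char.bset B, S.colZ hζ χ * S.colZ hζ χ = ((2 * N : ℕ) : ℤ) := by exact_mod_cast e1
    rw [e2, hcard]
    have : 2 * (N / 2) = N := Nat.mul_div_cancel' h2
    omega
  have hdeg := fun χ (hχ : χ ∈ Char.bset B) =>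
    D.degree_facts hM S hf hψ huniq' hζ hL (Char.mem_bset.mp hχ)
  -- the weighted count
  set W : ℚ := ∑ χ ∈ Char.bset B, (S.cf hζ j χ : ℚ) *
    ((S.colZ hζ χ : ℚ) ^ 2 / (charDegree (χ : G → ℂ) : ℚ)) with hWd
  have hcC := D.card_cent
  have hgC : Nat.card G = (Subgroup.centralizer ({t} : Set G)).index * (2 * N * Nat.card O) := by
    rw [← hcC, Subgroup.index_mul_card]
  set idx := (Subgroup.centralizer ({t} : Set G)).index with hidx
  have hW : W * idx = 2 * (N : ℚ) ^ 2 * (r₀ : ℚ) ^ 2 := by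
    have e := D.weighted_sum S hψ hd hinv (tau_isClass hζ j) (onRot_tau hζ j)
    have hsum : ∑ k : ZMod N, tau hζ j (r k) = 2 * (N : ℂ) := by
      simp only [tau, Pi.sub_apply, dth, zero_mul, neg_zero, AddChar.map_zero_eq_one, Finset.sum_sub_distrib,
        Finset.sum_add_distrib, ← neg_mul, Char.dihE_sum_left]
      rw [if_neg jz_ne.1, if_neg (neg_ne_zero.mpr jz_ne.1), Finset.sum_const, Finset.card_univ, ZMod.card,
        nsmul_eq_mul]
      ring
    rw [hsum] at e
    have hWc : (W : ℂ) = ∑ χ ∈ Char.bset B, S.v (tau hζ j) χ * ((χ : G → ℂ) t ^ 2 / (χ : G → ℂ) 1) := by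
      rw [hWd, Rat.cast_sum]
      refine Finset.sum_congr rfl fun χ hχ => ?_
      rw [S.cf_spec hζ, (hdeg χ hχ).1, Char.charDegree_spec]
      push_cast
      rfl
    rw [← hWc, hgC, hcC] at e
    have ho0 : ((2 * N * Nat.card O : ℕ) : ℂ) ≠ 0 := Nat.cast_ne_zero.mpr (by
      have := D.hOodd.pos
      positivity)
    have e' : (W : ℂ) * (idx : ℂ) = 2 * (N : ℂ) ^ 2 * (r₀ : ℂ) ^ 2 := by
      refine mul_right_cancel₀ ho0 ?_
      push_cast at e ⊢
      linear_combination e
    exact_mod_cast e'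
  -- the shape
  have hlow := shape_bound (S := Char.bset B) (w := S.cf hζ h) (v := S.cf hζ j) (d := S.colZ hζ)
    (x := fun χ => charDegree (χ : G → ℂ))
    (gram hne hne 4 (by rw [if_pos rfl, if_pos (neg_half h2).symm]; norm_num))
    (gram jz_ne.1 jz_ne.1 3 (by rw [if_pos rfl, if_neg jz_pair.2]; norm_num))
    (gram jz_ne.1 hne 2 (by rw [if_neg jz_ne.2, if_neg (by rw [hh, neg_half h2]; exact jz_ne.2)]; norm_num))
    (fun χ _ => by simp [DBlock.colZ, ← hh, Int.odd_sub, parity_simps]) h4 h22 hmass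
    (fun χ hχ => (hdeg χ hχ).2.1) (fun χ hχ => (hdeg χ hχ).2.2)
    (by
      have e := S.sum_v_value (tau_isClass hζ j) (onRot_tau hζ j) 1
      rw [S.L_regular (tau_isClass hζ j) (onRot_tau hζ j) (by rw [orderOf_one]; exact Nat.prime_two.not_dvd_one),
        Finset.sum_congr rfl (g := fun χ : IrrCharacter G => ((S.cf hζ j χ * (charDegree (χ : G → ℂ) : ℤ) : ℤ) : ℂ))
          (fun χ _ => by rw [S.cf_spec hζ, Char.charDegree_spec]; push_cast; rfl)] at e
      exact_mod_cast e)
    (W := W) rfl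
  -- the order formula
  set ι' : DihedralGroup N →* G := (P : Subgroup G).subtype.comp ι.toMonoidHom with hι'
  have hD : Char.DihSyl P ι' := ⟨D.four_dvd, ⟨_, ha⟩, (P : Subgroup G).subtype_injective.comp ι.injective, by
    rw [hι', MonoidHom.range_comp, MonoidHom.range_eq_top.mpr ι.surjective, ← MonoidHom.range_eq_map,
      Subgroup.range_subtype]⟩
  have hJ : Char.dihJ ι' = t := D.ht.symm
  obtain ⟨χ₁, χ₂, χ₃, χ', δ, δ₂, δ₃, hδ, -, -, -, hne1, -, -, -, -, -, -, hmem, hvals, -⟩ :=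
    hD.principal_block hM hζ (N / 2) (Nat.mul_div_cancel' h2).symm
  have hval1 : ∀ l : ℕ, 0 < l → l < N → (χ₁ : G → ℂ) (ι' (r (l : ZMod N))) = δ := fun l h1 h1' =>
    (hvals l h1 h1').1
  have hconj : ∀ i : ZMod N, IsConj (Char.dihJ ι') (ι' (sr i)) := fun i => by
    rw [hJ]
    obtain ⟨g, hg, -⟩ := D.hfus i
    exact isConj_iff.mpr ⟨g, hg⟩
  obtain ⟨hxδ, hord⟩ := hD.order_formula hM (hconj 0) (hconj (-1)) χ₁ ((hmem χ₁).mpr (Or.inr (Or.inl rfl))) hne1 δ hδ
    hval1
  set x := charDegree (χ₁ : G → ℂ) with hx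
  have hdiv : (N : ℤ) ∣ (x : ℤ) - δ := by
    obtain ⟨n, hn⟩ := const_value_dvd (H := ULift.{u} (Multiplicative (ZMod N)))
      ((ι'.comp (MonoidHom.mk' (fun i : Multiplicative (ZMod N) => (r i.toAdd : DihedralGroup N))
        fun p q => (r_mul_r _ _).symm)).comp MulEquiv.ulift.toMonoidHom) χ₁ δ (by
        rintro ⟨i⟩ hi
        have h0 : i.toAdd ≠ 0 := fun e => hi (by
          rw [show i = 1 from toAdd_eq_zero.mp e]; rfl)
        show (χ₁ : G → ℂ) (ι' (r i.toAdd)) = _
        rw [← ZMod.natCast_zmod_val i.toAdd]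
        exact hval1 _ (ZMod.val_pos.mpr h0) (ZMod.val_lt _))
    rw [Nat.card_congr Equiv.ulift, Nat.card_congr Multiplicative.toAdd, Nat.card_zmod] at hn
    exact ⟨(n : ℤ) - δ, by linear_combination hn⟩
  have hr0 : (r₀ : ℚ) ≠ 0 := Nat.cast_ne_zero.mpr (by omega)
  have hcent : ∀ i : ZMod N, 1 / (Nat.card (Subgroup.centralizer ({t, ι' (sr i)} : Set G)) : ℚ) =
      (r₀ : ℚ) / (4 * (Nat.card O : ℚ)) := fun i => by
    have e : (Nat.card (Subgroup.centralizer ({t, ι' (sr i)} : Set G)) : ℚ) * r₀ = 4 * (Nat.card O : ℚ) := by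
      exact_mod_cast hfix i
    rw [← e]
    field_simp
  rw [hJ, hcent, hcent, hcC, hgC] at hord
  have heq : (idx : ℤ) * ((x : ℤ) - δ) ^ 2 =
      2 * (x : ℤ) * ((x : ℤ) + δ) * (N : ℤ) ^ 2 * (r₀ : ℤ) ^ 2 := by
    have ho0 : (Nat.card O : ℚ) ≠ 0 := Nat.cast_ne_zero.mpr D.hOodd.pos.ne'
    have hN0 : (N : ℚ) ≠ 0 := Nat.cast_ne_zero.mpr (NeZero.ne N)
    have e : (idx : ℚ) * ((x : ℚ) - δ) ^ 2 = 2 * (x : ℚ) * ((x : ℚ) + δ) * (N : ℚ) ^ 2 * (r₀ : ℚ) ^ 2 := by
      push_cast at hord
      field_simp at hord ⊢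
      linear_combination hord / 16
    exact_mod_cast e
  obtain ⟨hhigh, hne89⟩ := order_arith ha hr (D.sign hfix) D.index_odd hcop hδ hxδ hdiv heq hW
  rcases hlow with hlow | hlow
  · linarith
  · exact hne89 hlow

end Cfsg.Agent.GW.Eight

namespace Cfsg.Agent.GW

universe u

/-- No linear character of the centralizer, for dihedral Sylow 2-subgroups of order at least eight. -/
theorem eightLinear_false {G : Type u} [Group G] [Finite G] [IsSimpleGroup G] (P : Sylow 2 G) {N : ℕ} [NeZero N]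
    {a : ℕ} (hN : N = 2 ^ (a + 2)) (ι : DihedralGroup N ≃* (P : Subgroup G)) {t : G}
    (ht : t = ι (DihedralGroup.r ((N / 2 : ℕ) : ZMod N)))
    (O : Subgroup G) (hOodd : Odd (Nat.card O)) (hOle : O ≤ Subgroup.centralizer ({t} : Set G))
    (hOn : ∀ c ∈ Subgroup.centralizer ({t} : Set G), ∀ y ∈ O, c * y * c⁻¹ ∈ O)
    (hC : O ⊔ (P : Subgroup G) = Subgroup.centralizer ({t} : Set G))
    (L : Subgroup.centralizer ({t} : Set G) →* ℂˣ)
    (hLP : ∀ c : Subgroup.centralizer ({t} : Set G), (c : G) ∈ (P : Subgroup G) → L c = 1) (hL : L ≠ 1)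
    (hfus : ∀ i : ZMod N, ∃ g : G, g * t * g⁻¹ = (ι (DihedralGroup.sr i) : G) ∧
      g ∈ Subgroup.normalizer
        ((Subgroup.zpowers t ⊔ Subgroup.zpowers ((ι (DihedralGroup.sr i) : G)) : Subgroup G) : Set G) ∧
      ∀ k k' : Subgroup.centralizer ({t} : Set G),
        (k : G) * (ι (DihedralGroup.sr i) : G) = (ι (DihedralGroup.sr i) : G) * k →
        (k' : G) = g * k * g⁻¹ → L k' = L k)
    (r : ℕ) (hr : 1 < r)
    (hinv : ∀ i : ZMod N, Nat.card {y : G // y ∈ O ∧
      (ι (DihedralGroup.sr i) : G) * y * (ι (DihedralGroup.sr i) : G)⁻¹ = y⁻¹} = r)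
    (hfix : ∀ i : ZMod N,
      Nat.card (Subgroup.centralizer ({t, (ι (DihedralGroup.sr i) : G)} : Set G)) * r = 4 * Nat.card O)
    (hcop : (Subgroup.centralizer ({t} : Set G)).index.Coprime r) : False := by
  haveI := Fintype.ofFinite G
  obtain ⟨M, hM⟩ := Char.exists_pModular Nat.prime_two
  exact Eight.eight_false hM ⟨⟨a, hN⟩, ht, hOodd, hOle, hOn, hC, hLP, hfus⟩ hL hr hinv hfix hcop

end Cfsg.Agent.GW
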