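import Cfsg.Agent.Lib.GW.MaxControlCount
import Cfsg.Agent.Lib.GW.EightLinear
import Cfsg.Agent.Lib.Char.Linear

/-!
# Sylow subgroups of order eight whose two classes of reflections invert unevenly

If the reflections of one class invert three times as many elements of the core as those of the other, the principal
block has a character of degree `15`; it cannot restrict faithfully to an abelian group of odd order centralised by
the rotations, inverted by a reflection and moved by an element of odd order.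
-/

set_option autoImplicit false
set_option linter.unusedSectionVars false
set_option linter.style.haveILetI false

namespace Cfsg.Agent.GW.Uneven

open Cfsg DihedralGroup
open scoped ComplexConjugate

universe u

/-- The Diophantine problem. -/
theorem degree_arith {idx r : ℕ} {X Y W : ℤ} (hidx : Odd idx) (hr : Odd r) (hX : X % 4 = 1)
    (hsum : Y + W = X + 1) (h1 : (idx : ℤ) * (X - 1) ^ 2 = 128 * (r : ℤ) ^ 2 * (X * (X + 1)))
    (h2 : (idx : ℤ) * ((X + 1) * (Y * W - X)) = 96 * (r : ℤ) ^ 2 * (X * Y * W)) : X = -15 := by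
  have _ := hsum
  have hr2 : (0 : ℤ) < (r : ℤ) ^ 2 := pow_pos (by exact_mod_cast hr.pos) 2
  have hi : (0 : ℤ) < (idx : ℤ) := by exact_mod_cast hidx.pos
  have hX0 : X ≠ 0 := by omega
  have h3 : 3 * (X - 1) ^ 2 * (Y * W) = 4 * (X + 1) ^ 2 * (Y * W - X) := by
    refine mul_left_cancel₀ (mul_ne_zero (mul_ne_zero hi.ne' hr2.ne') (mul_ne_zero hX0 (by norm_num : (32 : ℤ) ≠ 0))) ?_
    linear_combination (96 * (r : ℤ) ^ 2 * (X * Y * W)) * h1 - (128 * (r : ℤ) ^ 2 * (X * (X + 1))) * h2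
  have hD : Y * W * (X * X + 14 * X + 1) = 4 * X * (X + 1) ^ 2 := by linear_combination -h3
  obtain ⟨D, hDd⟩ : ∃ D, D = X * X + 14 * X + 1 := ⟨_, rfl⟩
  rw [← hDd] at hD
  have e1 : D ∣ 4 * (X + 1) ^ 2 := ⟨4 * (X + 1) ^ 2 - Y * W * (X + 14), by
    linear_combination (X + 14) * hD - 4 * (X + 1) ^ 2 * hDd⟩
  have e2 : D ∣ 48 * X := by
    rw [show 48 * X = D * 4 - 4 * (X + 1) ^ 2 by rw [hDd]; ring]
    exact dvd_sub (dvd_mul_right _ _) e1
  have e3 : D ∣ 48 := by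
    rw [show (48 : ℤ) = D * 48 - 48 * X * (X + 14) by rw [hDd]; ring]
    exact dvd_sub (dvd_mul_right _ _) (e2.mul_right _)
  have hle : D ≤ 48 := Int.le_of_dvd (by norm_num) e3
  have hu : X ≤ 2 := by nlinarith
  have hl : -16 ≤ X := by nlinarith
  interval_cases X <;> first
    | rfl
    | (exfalso; omega)
    | (exfalso; subst hDd; norm_num at e3; done)
    | (exfalso; obtain ⟨c, hc⟩ := hidx; generalize hR : (r : ℤ) ^ 2 = R at h1; have hc' : (idx : ℤ) = 2 * c + 1 := (by exact_mod_cast hc); norm_num at h1; omega)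

theorem neg_cases : ∀ i : ZMod 4, (-i = 0 ↔ i = 0) ∧ (-i = 2 ↔ i = 2) := by decide

variable {G : Type u} [Group G] [Fintype G] [IsSimpleGroup G] {M : Ideal AlgInt}

open scoped Classical in
/-- A character constant on the nontrivial cosets of a four-cycle times `A`, of degree `15`. -/
theorem fifteen_false (χ : IrrCharacter G) (hχ : χ ≠ Char.irrOne) (hdeg : (χ : G → ℂ) 1 = 15) {A : Subgroup G}
    (hAodd : Odd (Nat.card A)) (hAc : ∀ a ∈ A, ∀ b ∈ A, a * b = b * a)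
    (z : Multiplicative (ZMod 4) →* G) (hz : ∀ c, ∀ a ∈ A, Commute (z c) a) (δ : ℤ)
    (hval : ∀ c, c ≠ 1 → ∀ a ∈ A, (χ : G → ℂ) (z c * a) = δ)
    {u : G} (hu : ∀ a ∈ A, u * a * u⁻¹ = a⁻¹) {p : G} (hp : Odd (orderOf p)) (hpn : ∀ a ∈ A, p * a * p⁻¹ ∈ A)
    (hpA : ¬ ∀ a ∈ A, Commute p a) : False := by
  letI : Fintype A := Fintype.ofFinite A
  haveI : Finite (A →* ℂˣ) := Finite.of_equiv _ Char.linearEquiv.symm
  letI : Fintype (A →* ℂˣ) := Fintype.ofFinite _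
  have hcl := Char.isClassFunction_character (Char.irr_isCharacter χ.2)
  obtain ⟨f, hf⟩ : ∃ f : A → ℂ, f = (χ : G → ℂ) ∘ A.subtype := ⟨_, rfl⟩
  have hfch : IsCharacter A f := hf ▸ Char.isCharacter_comp _ (Char.irr_isCharacter χ.2)
  choose n hn using fun l : A →* ℂˣ => Char.classInner_natCast hfch
    (Char.irr_isCharacter (Char.isIrrCharacter_linear l) : IsCharacter A fun a => (l a : ℂ))
  -- the expansion
  have hexp : ∀ a : A, f a = ∑ l : A →* ℂˣ, (n l : ℂ) * (l a : ℂ) := by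
    intro a
    have hall := (Char.forall_linear_iff_comm (G := A)).1 fun x y => Subtype.ext (hAc x x.2 y y.2)
    conv_lhs => rw [Char.char_expansion hfch]
    rw [Finset.sum_apply]
    refine (Fintype.sum_equiv (Char.linearEquiv.trans (Equiv.subtypeUnivEquiv hall)) _ _ fun l => ?_).symm
    rw [Pi.smul_apply, smul_eq_mul, ← hn l]
    rfl
  have hsum : ∑ l : A →* ℂˣ, n l = 15 := by
    have h := hexp 1
    rw [hf] at h
    simp only [Function.comp_apply, map_one, hdeg, Units.val_one, mul_one] at h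
    exact_mod_cast h.symm
  -- invariance
  have hinv : ∀ (α : MulAut A), (∀ a, f (α a) = f a) → ∀ l : A →* ℂˣ, n (l.comp α.toMonoidHom) = n l := by
    intro α hα l
    have h : classInner f (fun a => ((l.comp α.toMonoidHom) a : ℂ)) = classInner f fun a => (l a : ℂ) := by
      simp only [classInner]
      congr 1
      exact Fintype.sum_equiv α.toEquiv _ _ fun a => by rw [← hα a]; rfl
    rw [hn, hn] at h
    exact_mod_cast h
  have hAodd' : ∀ a : A, Odd (orderOf a) := fun a => hAodd.of_dvd_nat (orderOf_dvd_natCard a)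
  have hne2 : ∀ l : A →* ℂˣ, l ≠ 1 → l⁻¹ ≠ l := by
    intro l hl e
    refine hl (MonoidHom.ext fun a => orderOf_eq_one_iff.1 ?_)
    have h2 : l a ^ 2 = 1 := by
      rw [pow_two]; nth_rewrite 1 [← e]; rw [MonoidHom.inv_apply, inv_mul_cancel]
    exact Nat.eq_one_of_dvd_coprimes (hAodd' a).coprime_two_left (orderOf_dvd_of_pow_eq_one h2) (orderOf_map_dvd l a)
  obtain ⟨αu, hαu⟩ : ∃ α : MulAut A, ∀ a, α a = a⁻¹ := by
    refine ⟨⟨⟨fun a => a⁻¹, fun a => a⁻¹, inv_inv, inv_inv⟩, fun a b => Subtype.ext ?_⟩, fun a => rfl⟩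
    show ((a : G) * b)⁻¹ = (a : G)⁻¹ * (b : G)⁻¹
    rw [mul_inv_rev]
    exact hAc _ (inv_mem b.2) _ (inv_mem a.2)
  have hinvl : ∀ l : A →* ℂˣ, n l⁻¹ = n l := by
    intro l
    have h := hinv αu (fun a => by
      rw [hαu, hf, Function.comp_apply, Function.comp_apply, map_inv]
      show (χ : G → ℂ) (a : G)⁻¹ = (χ : G → ℂ) a
      rw [← hu a a.2, hcl]) l
    rwa [show l.comp αu.toMonoidHom = l⁻¹ from MonoidHom.ext fun a => by
      show l (αu a) = (l a)⁻¹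
      rw [hαu, map_inv]] at h
  have hpn' : ∀ a ∈ A, p⁻¹ * a * p ∈ A := by
    obtain ⟨j, hj⟩ : ∃ j : ℕ, p⁻¹ = p ^ j := by
      exact ⟨orderOf p - 1, by
        rw [eq_comm, eq_inv_iff_mul_eq_one, ← pow_succ, Nat.sub_add_cancel (orderOf_pos p), pow_orderOf_eq_one]⟩
    have key : ∀ j : ℕ, ∀ a ∈ A, p ^ j * a * (p ^ j)⁻¹ ∈ A := by
      intro j
      induction j with
      | zero => intro a ha; simpa using ha
      | succ j ih =>
        intro a ha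
        rw [pow_succ', show p * p ^ j * a * (p * p ^ j)⁻¹ = p * (p ^ j * a * (p ^ j)⁻¹) * p⁻¹ by group]
        exact hpn _ (ih a ha)
    intro a ha
    have := key j a ha
    rwa [← hj, inv_inv] at this
  obtain ⟨α, hα⟩ : ∃ α : MulAut A, ∀ a : A, (α a : G) = p * a * p⁻¹ :=
    ⟨⟨⟨fun a => ⟨p * a * p⁻¹, hpn a a.2⟩, fun a => ⟨p⁻¹ * a * p, hpn' a a.2⟩,
      fun a => Subtype.ext (by group), fun a => Subtype.ext (by group)⟩,
      fun a b => Subtype.ext (by show p * (a * b : G) * p⁻¹ = p * a * p⁻¹ * (p * b * p⁻¹); group)⟩, fun a => rfl⟩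
  have hfα : ∀ a, f (α a) = f a := fun a => by
    rw [hf, Function.comp_apply, Function.comp_apply]
    show (χ : G → ℂ) (α a : G) = _
    rw [hα, hcl]
    rfl
  -- a moved constituent
  obtain ⟨l, hl0, hlα⟩ : ∃ l : A →* ℂˣ, n l ≠ 0 ∧ l.comp α.toMonoidHom ≠ l := by
    by_contra hcon
    push Not at hcon
    refine hpA fun a ha => ?_
    by_contra hc
    refine hχ (Eight.eq_irrOne_of_value χ (t := ((α ⟨a, ha⟩ * (⟨a, ha⟩ : A)⁻¹ : A) : G)) ?_ ?_)
    · intro e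
      rw [Subgroup.coe_mul, InvMemClass.coe_inv, hα, mul_inv_eq_one] at e
      exact hc (mul_inv_eq_iff_eq_mul.1 e)
    · have h := hexp (α ⟨a, ha⟩ * (⟨a, ha⟩ : A)⁻¹)
      rw [Finset.sum_congr rfl (g := fun l : A →* ℂˣ => (n l : ℂ)) fun l _ => by
        by_cases hl : n l = 0
        · rw [hl, Nat.cast_zero, zero_mul]
        · have := DFunLike.congr_fun (hcon l hl) ⟨a, ha⟩
          simp only [MonoidHom.comp_apply, MulEquiv.coe_toMonoidHom] at this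
          rw [map_mul, map_inv, this, mul_inv_cancel, Units.val_one, mul_one]] at h
      rw [hf, Function.comp_apply, ← Nat.cast_sum, hsum, Nat.cast_ofNat] at h
      exact h.trans hdeg.symm
  have hl1 : l ≠ 1 := fun e => hlα (by rw [e, MonoidHom.one_comp])
  have hla1 : l.comp α.toMonoidHom ≠ 1 := fun e => hl1 (MonoidHom.ext fun a => by
    have := DFunLike.congr_fun e (α.symm a)
    simpa using this)
  have hlinv : l.comp α.toMonoidHom ≠ l⁻¹ := by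
    intro e
    have h1 : ∀ a, l (α a) = (l a)⁻¹ := fun a => DFunLike.congr_fun e a
    have h2 : ∀ (j : ℕ) (a : A), l ((α ^ (2 * j)) a) = l a := by
      intro j
      induction j with
      | zero => intro a; rfl
      | succ j ih =>
        intro a
        rw [show 2 * (j + 1) = 2 * j + 1 + 1 by ring, pow_succ', pow_succ', MulAut.mul_apply, MulAut.mul_apply,
          h1, h1, inv_inv, ih]
    have hpow : ∀ (j : ℕ) (a : A), ((α ^ j) a : G) = p ^ j * a * (p ^ j)⁻¹ := by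
      intro j
      induction j with
      | zero => intro a; simp
      | succ j ih => intro a; rw [pow_succ', pow_succ', MulAut.mul_apply, hα, ih]; group
    obtain ⟨j, hj⟩ := hp
    refine hne2 l hl1 (MonoidHom.ext fun a => ?_)
    have hid : (α ^ (2 * j + 1)) a = a := Subtype.ext (by rw [hpow, ← hj, pow_orderOf_eq_one]; group)
    have h3 : (l ((α ^ (2 * j)) a))⁻¹ = l a := by rw [← h1, ← MulAut.mul_apply, ← pow_succ', hid]
    rw [h2 j] at h3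
    exact h3
  -- multiples of four
  have hfour : ∀ m : A →* ℂˣ, m ≠ 1 → 4 ∣ n m := by
    intro m hm
    let z' : ULift.{u} (Multiplicative (ZMod 4)) →* G := z.comp MulEquiv.ulift.toMonoidHom
    let φ : ULift.{u} (Multiplicative (ZMod 4)) × A →* G :=
      MonoidHom.noncommCoprod z' A.subtype fun c a => hz _ a a.2
    let m' : ULift.{u} (Multiplicative (ZMod 4)) × A →* ℂˣ := m.comp (MonoidHom.snd _ _)
    obtain ⟨k, hk⟩ := Char.classInner_natCast (Char.isCharacter_comp φ (Char.irr_isCharacter χ.2))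
      (Char.irr_isCharacter (Char.isIrrCharacter_linear m') : IsCharacter _ fun q => (m' q : ℂ))
    refine ⟨k, ?_⟩
    have h0 : ∑ a : A, conj ((m a : ℂ)) = 0 := by
      have h1 : (Units.coeHom ℂ).comp m ≠ 1 := fun e => hm (MonoidHom.ext fun a => Units.ext (DFunLike.congr_fun e a))
      rw [← map_sum, show ∑ a : A, ((m a : ℂ)) = 0 from sum_hom_units_eq_zero _ h1, map_zero]
    have hn' := hn m
    rw [classInner] at hk hn'
    have hone : ∀ a : A, (χ : G → ℂ) (φ (1, a)) * conj ((m' (1, a) : ℂ)) = f a * conj ((m a : ℂ)) := fun a => by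
      show (χ : G → ℂ) (z' 1 * (a : G)) * conj ((m a : ℂ)) = _
      rw [map_one, one_mul, hf]; rfl
    have hrest : ∀ c, c ≠ 1 → ∑ a : A, (χ : G → ℂ) (φ (c, a)) * conj ((m' (c, a) : ℂ)) = 0 := by
      intro c hc
      have e : ∀ a : A, (χ : G → ℂ) (φ (c, a)) * conj ((m' (c, a) : ℂ)) = (δ : ℂ) * conj ((m a : ℂ)) := fun a => by
        show (χ : G → ℂ) (z c.down * (a : G)) * conj ((m a : ℂ)) = _
        rw [hval c.down (fun e => hc (ULift.ext _ _ e)) a a.2]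
      simp only [e, ← Finset.mul_sum, h0, mul_zero]
    simp only [Function.comp_apply] at hk
    rw [Fintype.sum_prod_type, Fintype.sum_eq_single 1 hrest, Finset.sum_congr rfl fun a _ => hone a,
      Nat.card_prod, Nat.card_congr Equiv.ulift, Nat.card_congr Multiplicative.toAdd, Nat.card_zmod] at hk
    have hA0 : (Nat.card A : ℂ) ≠ 0 := Nat.cast_ne_zero.2 Nat.card_pos.ne'
    have e : (n m : ℂ) = ((4 * k : ℕ) : ℂ) := by
      rw [← hn', Nat.cast_mul, ← hk, Nat.cast_mul]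
      push_cast
      field_simp
    exact_mod_cast e
  -- the count
  have hm : n (l.comp α.toMonoidHom) = n l := hinv α hfα l
  have h4 := hfour l hl1
  have hle : n l + n l⁻¹ + n (l.comp α.toMonoidHom) + n (l.comp α.toMonoidHom)⁻¹ ≤ 15 := by
    obtain ⟨l', hl'⟩ : ∃ l', l' = l.comp α.toMonoidHom := ⟨_, rfl⟩
    rw [← hl'] at hlα hla1 hlinv ⊢
    have d1 := (hne2 l hl1).symm
    have d2 := (hne2 l' hla1).symm
    have d3 : l ≠ l'⁻¹ := fun e => hlinv (by rw [e]; exact (inv_inv l').symm)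
    have d4 : l⁻¹ ≠ l'⁻¹ := fun e => hlα (inv_injective e).symm
    calc n l + n l⁻¹ + n l' + n l'⁻¹ = ∑ m ∈ ({l, l⁻¹, l', l'⁻¹} : Finset (A →* ℂˣ)), n m := by
          rw [Finset.sum_insert (by simp [d1, Ne.symm hlα, d3]), Finset.sum_insert (by simp [Ne.symm hlinv, d4]),
            Finset.sum_pair d2, add_assoc, add_assoc]
      _ ≤ ∑ m, n m := Finset.sum_le_sum_of_subset (Finset.subset_univ _)
      _ = 15 := hsum
  rw [hinvl l, hinvl (l.comp α.toMonoidHom), hm] at hle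
  omega

variable {P : Sylow 2 G} {N : ℕ} [NeZero N] {ι : DihedralGroup N →* G}

open scoped Classical in
/-- The exclusion. -/
theorem uneven_false (hM : IsPModular 2 M) (hN : N = 4) (h : Char.DihSyl P ι)
    (hconj : ∀ u : G, orderOf u = 2 → IsConj (Char.dihJ ι) u) {O : Subgroup G}
    (hOC : O ≤ Subgroup.centralizer ({Char.dihJ ι} : Set G)) (hOodd : ¬ 2 ∣ Nat.card O)
    (hOn : ∀ c ∈ Subgroup.centralizer ({Char.dihJ ι} : Set G), ∀ w ∈ O, c * w * c⁻¹ ∈ O)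
    (hOreg : ∀ y ∈ Subgroup.centralizer ({Char.dihJ ι} : Set G), ¬ 2 ∣ orderOf y → y ∈ O)
    (hOcard : Nat.card (Subgroup.centralizer ({Char.dihJ ι} : Set G)) = 2 * N * Nat.card O)
    {r₀ : ℕ} (hr : Odd r₀) (i₀ : ZMod N)
    (h0 : ∀ j : ZMod N, Nat.card {w : O // ι (sr (i₀ + (j + j))) * (w : G) * (ι (sr (i₀ + (j + j))))⁻¹ = (w : G)⁻¹} = r₀)
    (h1 : ∀ j : ZMod N,
      Nat.card {w : O // ι (sr (i₀ + 1 + (j + j))) * (w : G) * (ι (sr (i₀ + 1 + (j + j))))⁻¹ = (w : G)⁻¹} = 3 * r₀)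
    {A : Subgroup G} (hAodd : Odd (Nat.card A)) (hAc : ∀ a ∈ A, ∀ b ∈ A, a * b = b * a)
    (hz : ∀ a ∈ A, Commute (ι (r 1)) a) {u : G} (hu : ∀ a ∈ A, u * a * u⁻¹ = a⁻¹) {p : G} (hp : Odd (orderOf p))
    (hpn : ∀ a ∈ A, p * a * p⁻¹ ∈ A) (hpA : ¬ ∀ a ∈ A, Commute p a) : False := by
  subst hN
  obtain ⟨ζ, hζ⟩ : ∃ ζ : ℂ, IsPrimitiveRoot ζ 4 := ⟨_, Complex.isPrimitiveRoot_exp 4 (by norm_num)⟩
  obtain ⟨χ₁, χ₂, χ₃, f, δ, δ₂, δ₃, hδ, hδ₂, hδ₃, -, hne1, -, -, -, -, -, -, hmem, hvals, hreg⟩ :=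
    h.principal_block hM hζ 2 (by norm_num)
  have hζ2 : ζ ^ 2 = -1 := (hζ.pow (by norm_num) (show 4 = 2 * 2 by norm_num)).eq_neg_one_of_two_right
  let j₀ : Fin (2 - 1) := ⟨0, by norm_num⟩
  have hd2 : (δ : ℂ) * δ = 1 := by rcases hδ with rfl | rfl <;> simp
  have hd22 : (δ₂ : ℂ) * δ₂ = 1 := by rcases hδ₂ with rfl | rfl <;> simp
  have hd33 : (δ₃ : ℂ) * δ₃ = 1 := by rcases hδ₃ with rfl | rfl <;> simp
  have hB : ∀ χ, (χ = χ₁ ∨ χ = χ₂ ∨ χ = χ₃ ∨ χ = f j₀) → χ ∈ principalBlock M G := fun χ hχ => (hmem χ).2 (by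
    rcases hχ with e | e | e | e
    exacts [Or.inr (Or.inl e), Or.inr (Or.inr (Or.inl e)), Or.inr (Or.inr (Or.inr (Or.inl e))),
      Or.inr (Or.inr (Or.inr (Or.inr ⟨j₀, e⟩)))])
  -- values on the sections
  have hsec : ∀ χ ∈ principalBlock M G, ∀ i : ZMod 4, i ≠ 0 → ∀ y, Commute (ι (r i)) y → ¬ 2 ∣ orderOf y →
      (χ : G → ℂ) (ι (r i) * y) = (χ : G → ℂ) (ι (r i)) := by
    intro χ hχ i hi y hc hy
    refine (Char.nilp_section hM (h.ppower (r i)) ?_).1 χ hχ y hc hy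
    by_cases hii : i + i = 0
    · rcases Fusion.zmod_double_eq_zero hii with e | e
      · exact absurd e hi
      · subst e; exact h.cent_J.1
    · exact (h.cent_rot hii).1
  have hv : ∀ l : ℕ, 0 < l → l < 4 → (χ₁ : G → ℂ) (ι (r (l : ZMod 4))) = δ ∧
      (χ₂ : G → ℂ) (ι (r (l : ZMod 4))) = δ₂ * (-1) ^ (l + 1) ∧
      (χ₃ : G → ℂ) (ι (r (l : ZMod 4))) = δ₃ * (-1) ^ (l + 1) ∧
      (f j₀ : G → ℂ) (ι (r (l : ZMod 4))) = δ * (ζ ^ l + (ζ ^ l)⁻¹) := fun l a b => by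
    obtain ⟨v1, v2, v3, v4⟩ := hvals l a b
    exact ⟨v1, v2, v3, by rw [v4 j₀]; simp [j₀]⟩
  obtain ⟨μ₀, hμ₀⟩ : ∃ μ : ZMod 4 → ℂ, μ = fun i => if i = 0 then 0 else if i = 2 then 4 else 2 := ⟨_, rfl⟩
  obtain ⟨μ₁, hμ₁⟩ : ∃ μ : ZMod 4 → ℂ, μ = fun i => if i = 0 then 0 else if i = 2 then 0 else 4 := ⟨_, rfl⟩
  obtain ⟨Θ₀, hΘ₀⟩ : ∃ Θ : G → ℂ, Θ = fun g => 1 + (δ : ℂ) * (χ₁ : G → ℂ) g - δ * (f j₀ : G → ℂ) g := ⟨_, rfl⟩
  obtain ⟨Θ₁, hΘ₁⟩ : ∃ Θ : G → ℂ, Θ = fun g => 1 + (δ : ℂ) * (χ₁ : G → ℂ) g + δ₂ * (χ₂ : G → ℂ) g +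
      δ₃ * (χ₃ : G → ℂ) g := ⟨_, rfl⟩
  have hcf : ∀ (χ : IrrCharacter G) (g t : G), (χ : G → ℂ) (t * g * t⁻¹) = (χ : G → ℂ) g := fun χ g t =>
    Char.isClassFunction_character (Char.irr_isCharacter χ.2) g t
  have hcases : ∀ i : ZMod 4, i ≠ 0 → i = 1 ∨ i = 2 ∨ i = 3 := by decide
  have hz1 : ζ ^ 1 + (ζ ^ 1)⁻¹ = 0 := by
    rw [pow_one, inv_eq_of_mul_eq_one_right (show ζ * -ζ = 1 by rw [mul_neg, ← pow_two, hζ2, neg_neg]), add_neg_cancel]
  have hz2 : ζ ^ 2 + (ζ ^ 2)⁻¹ = -2 := by rw [hζ2]; norm_num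
  have hz3 : ζ ^ 3 + (ζ ^ 3)⁻¹ = 0 := by
    rw [pow_succ, hζ2, inv_eq_of_mul_eq_one_right (show -1 * ζ * ζ = 1 by rw [mul_assoc, ← pow_two, hζ2]; ring)]
    ring
  have hΘ0v : ∀ i : ZMod 4, i ≠ 0 → ∀ y, Commute (ι (r i)) y → ¬ 2 ∣ orderOf y →
      Θ₀ (ι (r i) * y) = μ₀ i ∧ Θ₁ (ι (r i) * y) = μ₁ i := by
    intro i hi y hc hy
    rw [hΘ₀, hΘ₁, hμ₀, hμ₁]
    simp only [hsec _ (hB χ₁ (Or.inl rfl)) i hi y hc hy, hsec _ (hB χ₂ (Or.inr (Or.inl rfl))) i hi y hc hy,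
      hsec _ (hB χ₃ (Or.inr (Or.inr (Or.inl rfl)))) i hi y hc hy,
      hsec _ (hB _ (Or.inr (Or.inr (Or.inr rfl)))) i hi y hc hy, if_neg hi]
    rcases hcases i hi with rfl | rfl | rfl
    · obtain ⟨v1, v2, v3, v4⟩ := hv 1 (by norm_num) (by norm_num)
      rw [Nat.cast_one] at v1 v2 v3 v4
      rw [v1, v2, v3, v4, hz1, if_neg (by decide), if_neg (by decide)]
      constructor
      · linear_combination hd2
      · linear_combination hd2 + hd22 + hd33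
    · obtain ⟨v1, v2, v3, v4⟩ := hv 2 (by norm_num) (by norm_num)
      rw [Nat.cast_ofNat] at v1 v2 v3 v4
      rw [v1, v2, v3, v4, hz2, if_pos rfl, if_pos rfl]
      constructor
      · linear_combination 3 * hd2
      · linear_combination hd2 - hd22 - hd33
    · obtain ⟨v1, v2, v3, v4⟩ := hv 3 (by norm_num) (by norm_num)
      rw [Nat.cast_ofNat] at v1 v2 v3 v4
      rw [v1, v2, v3, v4, hz3, if_neg (by decide), if_neg (by decide)]
      constructor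
      · linear_combination hd2
      · linear_combination hd2 + hd22 + hd33
  obtain ⟨m, hm⟩ : ∃ m : ZMod 4 → ℕ,
      ∀ i, Nat.card {w : O // ι (sr i) * (w : G) * (ι (sr i))⁻¹ = (w : G)⁻¹} = m i := ⟨_, fun _ => rfl⟩
  have hmv : (m 0 = r₀ ∧ m 2 = r₀ ∧ m 1 = 3 * r₀ ∧ m 3 = 3 * r₀) ∨
      (m 0 = 3 * r₀ ∧ m 2 = 3 * r₀ ∧ m 1 = r₀ ∧ m 3 = r₀) := by
    have a0 := (hm _).symm.trans (h0 0)
    have a1 := (hm _).symm.trans (h0 1)
    have b0 := (hm _).symm.trans (h1 0)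
    have b1 := (hm _).symm.trans (h1 1)
    have hi : i₀ = 0 ∨ i₀ = 1 ∨ i₀ = 2 ∨ i₀ = 3 := (by decide : ∀ i : ZMod 4, i = 0 ∨ i = 1 ∨ i = 2 ∨ i = 3) i₀
    rcases hi with rfl | rfl | rfl | rfl
    · exact Or.inl ⟨a0, a1, b0, b1⟩
    · exact Or.inr ⟨b1, b0, a0, a1⟩
    · exact Or.inl ⟨a1, a0, b1, b0⟩
    · exact Or.inr ⟨b0, b1, a1, a0⟩
  have hg0 : (Nat.card G : ℂ) ≠ 0 := Nat.cast_ne_zero.2 Nat.card_pos.ne'
  have hCc : (Nat.card (Subgroup.centralizer ({Char.dihJ ι} : Set G)) : ℂ) ≠ 0 := Nat.cast_ne_zero.2 Nat.card_pos.ne'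
  set idx := (Subgroup.centralizer ({Char.dihJ ι} : Set G)).index with hidx
  have hgi : (Nat.card G : ℂ) = (idx : ℂ) * (Nat.card (Subgroup.centralizer ({Char.dihJ ι} : Set G)) : ℂ) := by
    rw [← Nat.cast_mul, hidx, Subgroup.index_mul_card]
  have hsum4 : ∀ F : ZMod 4 → ℂ, ∑ i, F i = F 0 + F 1 + F 2 + F 3 := fun F => Fin.sum_univ_four F
  -- the two equations
  have hJ : ∀ (χ : IrrCharacter G) (v : ℂ), (χ : G → ℂ) (ι (r ((2 : ℕ) : ZMod 4))) = v →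
      ∑ a : G, ∑ b : G, (χ : G → ℂ) (a * Char.dihJ ι * a⁻¹ * (b * Char.dihJ ι * b⁻¹)) =
        (Nat.card G : ℂ) ^ 2 * v ^ 2 / (χ : G → ℂ) 1 := by
    intro χ v hχ
    rw [Char.sum_pair_irr, show Char.dihJ ι = ι (r ((2 : ℕ) : ZMod 4)) from rfl, hχ]
  obtain ⟨w1, w2, w3, w4⟩ := hv 2 (by norm_num) (by norm_num)
  rw [hz2] at w4
  set x := charDegree (χ₁ : G → ℂ) with hx
  set y := charDegree (χ₂ : G → ℂ) with hy
  set w := charDegree (χ₃ : G → ℂ) with hw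
  have hrel := hreg 1 (by rw [orderOf_one]; exact Nat.prime_two.not_dvd_one) j₀
  simp only [Char.charDegree_spec, ← hx, ← hy, ← hw] at hrel
  have hfd : (f j₀ : G → ℂ) 1 = (x : ℂ) + δ := by
    rw [Char.charDegree_spec]
    linear_combination (-(δ : ℂ)) * hrel.2 + ((x : ℂ) - (charDegree (f j₀ : G → ℂ) : ℂ)) * hd2
  have e0 := pair_count h hconj Θ₀ (fun g t => by rw [hΘ₀]; simp only [hcf]) (fun g hg => by
      rw [hΘ₀]
      linear_combination (hreg g hg j₀).2) μ₀ (by simp [hμ₀]) (fun i => by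
      have := neg_cases i
      simp only [hμ₀, this.1, this.2])
    (fun i hi y hc hy' => (hΘ0v i hi y hc hy').1) hOC hOodd hOn hOreg hOcard m hm
  have e1 := pair_count h hconj Θ₁ (fun g t => by rw [hΘ₁]; simp only [hcf]) (fun g hg => by
      rw [hΘ₁]
      linear_combination (hreg g hg j₀).1) μ₁ (by simp [hμ₁]) (fun i => by
      have := neg_cases i
      simp only [hμ₁, this.1, this.2])
    (fun i hi y hc hy' => (hΘ0v i hi y hc hy').2) hOC hOodd hOn hOreg hOcard m hm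
  simp only [hΘ₀, Finset.sum_add_distrib, Finset.sum_sub_distrib, ← Finset.mul_sum, Finset.sum_const,
    Finset.card_univ, nsmul_eq_mul, mul_one, ← Nat.card_eq_fintype_card, hJ _ _ w1, hJ _ _ w4, hfd,
    Char.charDegree_spec, ← hx] at e0
  simp only [hΘ₁, Finset.sum_add_distrib, ← Finset.mul_sum, Finset.sum_const,
    Finset.card_univ, nsmul_eq_mul, mul_one, ← Nat.card_eq_fintype_card, hJ _ _ w1, hJ _ _ w2, hJ _ _ w3,
    Char.charDegree_spec, ← hx, ← hy, ← hw] at e1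
  have dec : ((0 : ZMod 4) - 1 = 3) ∧ ((0 : ZMod 4) - 2 = 2) ∧ ((0 : ZMod 4) - 3 = 1) ∧ ((1 : ZMod 4) - 2 = 3) ∧
      ((1 : ZMod 4) - 3 = 2) ∧ ((2 : ZMod 4) - 3 = 3) ∧ ((2 : ZMod 4) - 1 = 1) ∧ ((3 : ZMod 4) - 1 = 2) ∧
      ((3 : ZMod 4) - 2 = 1) := by decide
  obtain ⟨q1, q2, q3, q4, q5, q6, q7, q8, q9⟩ := dec
  have n1 : (1 : ZMod 4) ≠ 0 ∧ (1 : ZMod 4) ≠ 2 ∧ (2 : ZMod 4) ≠ 0 ∧ (3 : ZMod 4) ≠ 0 ∧ (3 : ZMod 4) ≠ 2 := by decide
  have hR0 : ∑ i : ZMod 4, ∑ j : ZMod 4, (m i : ℂ) * (m j : ℂ) * μ₀ (j - i) = 128 * (r₀ : ℂ) ^ 2 := by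
    simp only [hsum4, hμ₀, sub_self, sub_zero, q1, q2, q3, q4, q5, q6, q7, q8, q9, n1, if_true, if_false]
    rcases hmv with ⟨a, b, c, d⟩ | ⟨a, b, c, d⟩ <;> rw [a, b, c, d] <;> push_cast <;> ring
  have hR1 : ∑ i : ZMod 4, ∑ j : ZMod 4, (m i : ℂ) * (m j : ℂ) * μ₁ (j - i) = 96 * (r₀ : ℂ) ^ 2 := by
    simp only [hsum4, hμ₁, sub_self, sub_zero, q1, q2, q3, q4, q5, q6, q7, q8, q9, n1, if_true, if_false]
    rcases hmv with ⟨a, b, c, d⟩ | ⟨a, b, c, d⟩ <;> rw [a, b, c, d] <;> push_cast <;> ring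
  rw [hR0] at e0
  rw [hR1] at e1
  have hx0 : (x : ℂ) ≠ 0 := by rw [hx, ← Char.charDegree_spec]; exact Char.irr_one_ne_zero χ₁.2
  have hy0 : (y : ℂ) ≠ 0 := by rw [hy, ← Char.charDegree_spec]; exact Char.irr_one_ne_zero χ₂.2
  have hw0 : (w : ℂ) ≠ 0 := by rw [hw, ← Char.charDegree_spec]; exact Char.irr_one_ne_zero χ₃.2
  have hxd0 : (x : ℂ) + δ ≠ 0 := hfd ▸ Char.irr_one_ne_zero (f j₀).2
  obtain ⟨X, hX⟩ : ∃ X : ℤ, X = δ * x := ⟨_, rfl⟩
  obtain ⟨Y, hY⟩ : ∃ Y : ℤ, Y = -(δ₂ * y) := ⟨_, rfl⟩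
  obtain ⟨W, hW⟩ : ∃ W : ℤ, W = -(δ₃ * w) := ⟨_, rfl⟩
  have hXc : (X : ℂ) = δ * x := by rw [hX]; push_cast; rfl
  have hYc : (Y : ℂ) = -(δ₂ * y) := by rw [hY]; push_cast; rfl
  have hWc : (W : ℂ) = -(δ₃ * w) := by rw [hW]; push_cast; rfl
  have hsumW : Y + W = X + 1 := by
    have : ((Y + W : ℤ) : ℂ) = ((X + 1 : ℤ) : ℂ) := by push_cast; rw [hXc, hYc, hWc]; linear_combination -hrel.1
    exact_mod_cast this
  have sq1 : ∀ (s a : ℂ), a ≠ 0 → s * s = 1 → s / a = 1 / (s * a) := fun s a ha hs => by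
    have hs0 : s ≠ 0 := fun e => by simp [e] at hs
    field_simp
    linear_combination hs
  have hX0 : (X : ℂ) ≠ 0 := hXc ▸ mul_ne_zero (fun e => by simp [e] at hd2) hx0
  have hY0 : (Y : ℂ) ≠ 0 := hYc ▸ neg_ne_zero.2 (mul_ne_zero (fun e => by simp [e] at hd22) hy0)
  have hW0 : (W : ℂ) ≠ 0 := hWc ▸ neg_ne_zero.2 (mul_ne_zero (fun e => by simp [e] at hd33) hw0)
  have hX1 : (X : ℂ) + 1 ≠ 0 := by
    intro e
    refine hxd0 ?_
    rw [hXc] at e
    linear_combination (δ : ℂ) * e - (x : ℂ) * hd2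
  have f0 : (idx : ℂ) * (1 + 1 / (X : ℂ) - 4 / ((X : ℂ) + 1)) = 128 * (r₀ : ℂ) ^ 2 := by
    have e : (Nat.card G : ℂ) * (1 + (δ : ℂ) / x - 4 * δ / (x + δ)) =
        (Nat.card (Subgroup.centralizer ({Char.dihJ ι} : Set G)) : ℂ) * (128 * (r₀ : ℂ) ^ 2) := by
      refine mul_left_cancel₀ hg0 ?_
      refine Eq.trans ?_ (e0.trans (mul_assoc _ _ _))
      linear_combination
        (-(δ : ℂ) * (Nat.card G : ℂ) ^ 2 / (x : ℂ) + 4 * δ * (Nat.card G : ℂ) ^ 2 / ((x : ℂ) + δ)) * hd2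
    rw [sq1 _ _ hx0 hd2, mul_div_assoc, sq1 _ _ hxd0 hd2, ← hXc,
      show (δ : ℂ) * (x + δ) = X + 1 by rw [hXc]; linear_combination hd2, hgi] at e
    refine mul_right_cancel₀ hCc ?_
    linear_combination e
  have f1 : (idx : ℂ) * (1 + 1 / (X : ℂ) - 1 / (Y : ℂ) - 1 / (W : ℂ)) = 96 * (r₀ : ℂ) ^ 2 := by
    have e : (Nat.card G : ℂ) * (1 + (δ : ℂ) / x + δ₂ / y + δ₃ / w) =
        (Nat.card (Subgroup.centralizer ({Char.dihJ ι} : Set G)) : ℂ) * (96 * (r₀ : ℂ) ^ 2) := by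
      refine mul_left_cancel₀ hg0 ?_
      refine Eq.trans ?_ (e1.trans (mul_assoc _ _ _))
      linear_combination
        (-(δ : ℂ) * (Nat.card G : ℂ) ^ 2 / (x : ℂ)) * hd2 - (δ₂ : ℂ) * (Nat.card G : ℂ) ^ 2 / (y : ℂ) * hd22 -
          (δ₃ : ℂ) * (Nat.card G : ℂ) ^ 2 / (w : ℂ) * hd33
    rw [sq1 _ _ hx0 hd2, sq1 _ _ hy0 hd22, sq1 _ _ hw0 hd33, ← hXc,
      show (δ₂ : ℂ) * y = -Y by rw [hYc, neg_neg], show (δ₃ : ℂ) * w = -W by rw [hWc, neg_neg], hgi] at e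
    refine mul_right_cancel₀ hCc ?_
    linear_combination e
  have g0 : (idx : ℤ) * (X - 1) ^ 2 = 128 * (r₀ : ℤ) ^ 2 * (X * (X + 1)) := by
    have : (((idx : ℤ) * (X - 1) ^ 2 : ℤ) : ℂ) = ((128 * (r₀ : ℤ) ^ 2 * (X * (X + 1)) : ℤ) : ℂ) := by
      push_cast; field_simp at f0; linear_combination f0
    exact_mod_cast this
  have g1 : (idx : ℤ) * ((X + 1) * (Y * W - X)) = 96 * (r₀ : ℤ) ^ 2 * (X * Y * W) := by
    have hs : (Y : ℂ) + W = X + 1 := by exact_mod_cast hsumW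
    have : (((idx : ℤ) * ((X + 1) * (Y * W - X)) : ℤ) : ℂ) = ((96 * (r₀ : ℤ) ^ 2 * (X * Y * W) : ℤ) : ℂ) := by
      push_cast; field_simp at f1; linear_combination f1 + (idx : ℂ) * X * hs
    exact_mod_cast this
  -- the congruence
  let z : Multiplicative (ZMod 4) →* G :=
    ι.comp (MonoidHom.mk' (fun i : Multiplicative (ZMod 4) => (r i.toAdd : DihedralGroup 4)) fun _ _ => (r_mul_r _ _).symm)
  have hzne : ∀ c : Multiplicative (ZMod 4), c ≠ 1 → c.toAdd ≠ 0 := fun c hc e => hc (toAdd_eq_zero.1 e)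
  have hz4 : ∀ c : Multiplicative (ZMod 4), c ≠ 1 → (χ₁ : G → ℂ) (z c) = δ := fun c hc => by
    show (χ₁ : G → ℂ) (ι (r c.toAdd)) = δ
    rw [← ZMod.natCast_zmod_val c.toAdd]
    exact (hv _ (ZMod.val_pos.2 (hzne c hc)) (ZMod.val_lt _)).1
  obtain ⟨k, hk⟩ := Eight.const_value_dvd (H := ULift.{u} (Multiplicative (ZMod 4)))
    (z.comp MulEquiv.ulift.toMonoidHom) χ₁ δ (by
      rintro ⟨c⟩ hc
      exact hz4 c fun e => hc (by rw [e]; rfl))
  rw [Nat.card_congr Equiv.ulift, Nat.card_congr Multiplicative.toAdd, Nat.card_zmod] at hk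
  have hodd : Odd idx := by
    haveI := Fact.mk Nat.prime_two
    have hle : (P : Subgroup G) ≤ Subgroup.centralizer ({Char.dihJ ι} : Set G) := by
      rw [← h.range]; rintro _ ⟨e, rfl⟩; exact h.mem_cent e
    exact Nat.not_even_iff_odd.1 fun he => P.not_dvd_index (he.two_dvd.trans (Subgroup.index_dvd_of_le hle))
  have hX4 : X % 4 = 1 := by rcases hδ with rfl | rfl <;> omega
  have hX15 := degree_arith hodd hr hX4 hsumW g0 g1
  have hx15 : x = 15 := by rcases hδ with rfl | rfl <;> omega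
  refine fifteen_false χ₁ hne1 (by rw [Char.charDegree_spec, ← hx, hx15, Nat.cast_ofNat]) hAodd hAc z
    (fun c a ha => ?_) δ (fun c hc a ha => ?_) hu hp hpn hpA
  · show Commute (ι (r c.toAdd)) a
    rw [Char.rot_pow_val]
    exact (hz a ha).pow_left _
  · have hcom : Commute (ι (r c.toAdd)) a := by rw [Char.rot_pow_val]; exact (hz a ha).pow_left _
    show (χ₁ : G → ℂ) (ι (r c.toAdd) * a) = δ
    rw [hsec _ (hB χ₁ (Or.inl rfl)) _ (hzne c hc) a hcom fun hd => Nat.not_even_iff_odd.2 hAodd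
      (even_iff_two_dvd.2 (hd.trans (Subgroup.orderOf_dvd_natCard _ ha)))]
    exact hz4 c hc

end Cfsg.Agent.GW.Uneven
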