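import Cfsg.Agent.Lib.GW.NormalFour
import Cfsg.Agent.Lib.GW.FourLinear
import Cfsg.Agent.S4479
import Cfsg.Agent.Lib.Small.SimpleOrderTools
import Cfsg.Agent.Lib.Lie.OrderSixty
import Cfsg.Agent.S0493

/-!
# A four group as Sylow subgroup: no proper subgroup over `C(t)` fuses it

The order formula in `G` and in the subgroup bounds the index by five.
-/

set_option autoImplicit false
set_option linter.style.haveILetI false
set_option linter.unusedSectionVars false

open scoped ComplexConjugate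

namespace Cfsg.Agent.GW

open Cfsg Cfsg.Agent

universe u

/-- The degrees of a principal block with a four group as defect group. -/
structure FourDegrees (e : ℤ) (x y w : ℕ) : Prop where
  sign : e = 1 ∨ e = -1
  x1 : 1 ≤ x
  y1 : 1 ≤ y
  y3 : e = -1 → 3 ≤ y
  w3 : 3 ≤ w
  x4 : x % 4 = 1
  rel : (1 : ℤ) + x + e * y - w = 0

/-- The ratio in the order formula. -/
def ratio (e : ℤ) (x y w : ℕ) : ℚ := (x * y * w : ℚ) / (((x : ℚ) + 1) * ((y : ℚ) + e) * ((w : ℚ) - 1))

theorem FourDegrees.den_pos {e : ℤ} {x y w : ℕ} (h : FourDegrees e x y w) :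
    0 < ((x : ℚ) + 1) * ((y : ℚ) + e) * ((w : ℚ) - 1) := by
  have hw : (3 : ℚ) ≤ w := by exact_mod_cast h.w3
  have hy : (1 : ℚ) ≤ y := by exact_mod_cast h.y1
  have hye : 0 < (y : ℚ) + e := by
    rcases h.sign with he | he
    · subst he; push_cast; linarith
    · have : (3 : ℚ) ≤ y := by exact_mod_cast h.y3 he
      subst he; push_cast; linarith
  have : 0 < (w : ℚ) - 1 := by linarith
  positivity

theorem FourDegrees.lower {e : ℤ} {x y w : ℕ} (h : FourDegrees e x y w) : 3 / 8 ≤ ratio e x y w := by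
  rw [ratio, le_div_iff₀ h.den_pos]
  have hx : (1 : ℚ) ≤ x := by exact_mod_cast h.x1
  have hy : (1 : ℚ) ≤ y := by exact_mod_cast h.y1
  have hw : (3 : ℚ) ≤ w := by exact_mod_cast h.w3
  have hr : (1 : ℚ) + x + e * y - w = 0 := by exact_mod_cast h.rel
  rcases h.sign with he | he
  · subst he
    push_cast at hr ⊢
    rw [show (w : ℚ) = 1 + x + y by linarith]
    obtain ⟨a, ha, hxa⟩ : ∃ a : ℚ, 0 ≤ a ∧ (x : ℚ) = a + 1 := ⟨x - 1, by linarith, by ring⟩
    obtain ⟨b, hb, hyb⟩ : ∃ b : ℚ, 0 ≤ b ∧ (y : ℚ) = b + 1 := ⟨y - 1, by linarith, by ring⟩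
    rw [hxa, hyb]
    nlinarith [mul_nonneg ha hb, mul_nonneg (mul_nonneg ha hb) ha, mul_nonneg (mul_nonneg ha hb) hb,
      mul_nonneg ha ha, mul_nonneg hb hb]
  · have hy3 : (3 : ℚ) ≤ y := by exact_mod_cast h.y3 he
    subst he
    push_cast at hr ⊢
    rw [show (x : ℚ) = y + w - 1 by linarith]
    obtain ⟨a, ha, hya⟩ : ∃ a : ℚ, 0 ≤ a ∧ (y : ℚ) = a + 3 := ⟨y - 3, by linarith, by ring⟩
    obtain ⟨b, hb, hwb⟩ : ∃ b : ℚ, 0 ≤ b ∧ (w : ℚ) = b + 3 := ⟨w - 3, by linarith, by ring⟩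
    rw [hya, hwb]
    nlinarith [mul_nonneg ha hb, mul_nonneg (mul_nonneg ha hb) ha, mul_nonneg (mul_nonneg ha hb) hb,
      mul_nonneg ha ha, mul_nonneg hb hb]

theorem FourDegrees.upper {e : ℤ} {x y w : ℕ} (h : FourDegrees e x y w) : ratio e x y w ≤ 15 / 8 := by
  rw [ratio, div_le_iff₀ h.den_pos]
  have hx : (1 : ℚ) ≤ x := by exact_mod_cast h.x1
  have hy : (1 : ℚ) ≤ y := by exact_mod_cast h.y1
  have hw : (3 : ℚ) ≤ w := by exact_mod_cast h.w3
  have hr : (1 : ℚ) + x + e * y - w = 0 := by exact_mod_cast h.rel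
  rcases h.sign with he | he
  · subst he
    push_cast at hr ⊢
    obtain ⟨b, hb, hwb⟩ : ∃ b : ℚ, 0 ≤ b ∧ (w : ℚ) = b + 3 := ⟨w - 3, by linarith, by ring⟩
    rw [hwb]
    nlinarith [mul_nonneg (sub_nonneg.2 hx) (sub_nonneg.2 hy), mul_nonneg (mul_nonneg (sub_nonneg.2 hx) (sub_nonneg.2 hy)) hb,
      mul_nonneg (sub_nonneg.2 hx) hb, mul_nonneg (sub_nonneg.2 hy) hb]
  · have hy3 : (3 : ℚ) ≤ y := by exact_mod_cast h.y3 he
    subst he
    push_cast at hr ⊢
    rw [show (x : ℚ) = y + w - 1 by linarith]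
    obtain ⟨a, ha, hya⟩ : ∃ a : ℚ, 0 ≤ a ∧ (y : ℚ) = a + 3 := ⟨y - 3, by linarith, by ring⟩
    obtain ⟨b, hb, hwb⟩ : ∃ b : ℚ, 0 ≤ b ∧ (w : ℚ) = b + 3 := ⟨w - 3, by linarith, by ring⟩
    rw [hya, hwb]
    nlinarith [mul_nonneg ha hb, mul_nonneg (mul_nonneg ha hb) ha, mul_nonneg (mul_nonneg ha hb) hb,
      mul_nonneg ha ha, mul_nonneg hb hb]

variable {G : Type u} [Group G] [Finite G]

/-- The order formula for a group with a four group as Sylow subgroup and one class of involutions. -/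
theorem order_formula (P : Sylow 2 G) (hP : IsKleinFour (P : Subgroup G))
    (hone : ∀ a b : G, orderOf a = 2 → orderOf b = 2 → IsConj a b)
    (hnc : ¬ ∃ N : Subgroup G, N.Normal ∧ Nat.card N * 4 = Nat.card G) {t : G} (ht : t ∈ (P : Subgroup G))
    (ht2 : orderOf t = 2) :
    ∃ (e : ℤ) (x y w : ℕ), FourDegrees e x y w ∧
      (Nat.card G : ℚ) = 8 * ratio e x y w * (Nat.card (Subgroup.centralizer ({t} : Set G)) : ℚ) ^ 3 /
        (Nat.card (Subgroup.centralizer ((P : Subgroup G) : Set G)) : ℚ) ^ 2 := by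
  classical
  haveI : Fact (Nat.Prime 2) := ⟨Nat.prime_two⟩
  haveI : Fintype G := Fintype.ofFinite G
  obtain ⟨M, hM⟩ := Char.exists_pModular Nat.prime_two
  obtain ⟨a, c, d, e, he, ha1, hc1, hac, had, hcd, hset, hval, hma, hmc, hmd, hrel⟩ := S0948.result M hM P hP hone
  obtain ⟨va, vc, vd⟩ := hval t ht2
  have hd1 : (d : G → ℂ) ≠ fun _ => 1 := fun h => by
    rw [h] at vd; norm_num at vd
  have hdvd : 4 ∣ Nat.card G := IsKleinFour.card_four (G := (P : Subgroup G)) ▸ (P : Subgroup G).card_subgroup_dvd_card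
  obtain ⟨g₀, hg₀⟩ := hdvd
  have hodd : Odd g₀ := by
    rw [Nat.odd_iff]
    have h := P.not_dvd_index
    have h1 := (P : Subgroup G).card_mul_index
    rw [IsKleinFour.card_four (G := (P : Subgroup G)), hg₀] at h1
    omega
  have hform := S4479.result M hM g₀ hodd hg₀
    (fun ⟨N, hN, hc⟩ => hnc ⟨N, hN, by rw [hc, hg₀, mul_comm]⟩) P t ht ht2 a c d 1 e (-1) hset
    ⟨ha1, hc1, hd1, hac, had, hcd⟩ ⟨Or.inl rfl, he, Or.inr rfl⟩
    ⟨by rw [va]; norm_num, vc, by rw [vd]; norm_num⟩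
  simp only [Char.charDegree_eq_deg] at hma hmc hmd hform
  set x := Char.deg (a : G → ℂ) with hx
  set y := Char.deg (c : G → ℂ) with hy
  set w := Char.deg (d : G → ℂ) with hw
  have h1 : (1 : ℤ) + x + e * y - w = 0 := by
    have h := hrel 1 (by simp)
    rw [Char.char_one_eq_deg (Char.irr_isCharacter a.2), Char.char_one_eq_deg (Char.irr_isCharacter c.2),
      Char.char_one_eq_deg (Char.irr_isCharacter d.2), ← hx, ← hy, ← hw] at h
    exact_mod_cast h
  have hx0 : 0 < x := Char.deg_pos a.2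
  have hy0 : 0 < y := Char.deg_pos c.2
  have hw0 : 0 < w := Char.deg_pos d.2
  refine ⟨e, x, y, w, ⟨he, hx0, hy0, fun h => ?_, by omega, by omega, h1⟩, ?_⟩
  · subst h; omega
  · rw [hform, ratio]
    push_cast
    ring

namespace Minimal

variable (hG : Minimal G)
include hG

/-- With a four group as Sylow subgroup, no proper subgroup over `C(t)` fuses it. -/
theorem fused_four (Φ : Frame G) (hk : Φ.k = 1) (i : ZMod (2 ^ Φ.k)) (M : Subgroup G) (hM : IsCoatom M)
    (hC : Subgroup.centralizer ({Φ.t} : Set G) ≤ M) (hf : Fused Φ.t (Φ.refl i) M) : False := by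
  classical
  haveI := hG.simple
  haveI : Fact (Nat.Prime 2) := ⟨Nat.prime_two⟩
  haveI : NeZero (2 ^ Φ.k) := ⟨by positivity⟩
  have hSM : (Φ.S : Subgroup G) ≤ M := Φ.S_le.trans hC
  obtain ⟨ρ, hρ, hρt, hρu⟩ := hf
  set t := Φ.t
  set u := Φ.refl i
  have hS4 : Nat.card (Φ.S : Subgroup G) = 4 := by
    rw [Nat.card_congr Φ.ι.symm.toEquiv, DihedralGroup.nat_card, hk]; norm_num
  haveI hKG : IsKleinFour (Φ.S : Subgroup G) := ⟨hS4, by
    rw [Monoid.exponent_eq_of_mulEquiv Φ.ι.symm, DihedralGroup.exponent, hk]; decide⟩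
  have hUS : Φ.U i = (Φ.S : Subgroup G) := by
    have hle : Φ.U i ≤ (Φ.S : Subgroup G) :=
      sup_le (Subgroup.zpowers_le.2 Φ.t_mem) (Subgroup.zpowers_le.2 (Φ.refl_mem i))
    refine Subgroup.eq_of_le_of_card_ge hle ?_
    rw [hS4]
    let v : Fin 4 → Φ.U i := ![⟨1, Subgroup.one_mem _⟩, ⟨t, (Φ.mem_U_iff i).2 (Or.inr (Or.inl rfl))⟩,
      ⟨u, (Φ.mem_U_iff i).2 (Or.inr (Or.inr (Or.inl rfl)))⟩,
      ⟨t * u, (Φ.mem_U_iff i).2 (Or.inr (Or.inr (Or.inr rfl)))⟩]
    have hv : Function.Injective v := by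
      have h1 : t * u ≠ 1 := fun e => Φ.refl_ne i
        ((eq_inv_of_mul_eq_one_right e).trans (inv_eq_of_mul_eq_one_right Φ.tt))
      have h2 : t * u ≠ t := fun e => Φ.refl_ne_one i (mul_eq_left.1 e)
      have h3 : t * u ≠ u := fun e => Φ.t_ne (mul_eq_right.1 e)
      intro a b hab
      fin_cases a <;> fin_cases b <;> first
        | rfl
        | exfalso
          simp [v, Subtype.ext_iff] at hab
          first
            | exact Φ.t_ne hab | exact Φ.t_ne hab.symm | exact Φ.refl_ne_one i hab | exact Φ.refl_ne_one i hab.symm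
            | exact Φ.refl_ne i hab | exact Φ.refl_ne i hab.symm | exact h1 hab | exact h1 hab.symm
            | exact h2 hab | exact h2 hab.symm | exact h3 hab | exact h3 hab.symm
    simpa using Nat.card_le_card_of_injective v hv
  -- the Sylow subgroup and the class of involutions of `M`
  let T : Sylow 2 M := Φ.S.subtype hSM
  let eT : (T : Subgroup M) ≃* (Φ.S : Subgroup G) := Subgroup.subgroupOfEquivOfLe hSM
  haveI hKT : IsKleinFour (T : Subgroup M) :=
    ⟨by rw [Nat.card_congr eT.toEquiv, hS4], by rw [Monoid.exponent_eq_of_mulEquiv eT, IsKleinFour.exponent_two]⟩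
  let tM : M := ⟨t, hSM Φ.t_mem⟩
  have htM : orderOf tM = 2 := by rw [← Subgroup.orderOf_coe]; exact Φ.t_order
  have hone : ∀ a b : M, orderOf a = 2 → orderOf b = 2 → IsConj a b := by
    suffices h : ∀ a : M, orderOf a = 2 → IsConj tM a from fun a b ha hb => (h a ha).symm.trans (h b hb)
    intro a ha
    obtain ⟨Q, hQ⟩ := (IsPGroup.of_card (p := 2) (n := 1) (G := Subgroup.zpowers a)
      (by rw [Nat.card_zpowers, ha, pow_one])).exists_le_sylow
    obtain ⟨g, hg⟩ := MulAction.exists_smul_eq M Q T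
    have hmem : g * a * g⁻¹ ∈ (T : Subgroup M) := by
      rw [← hg, Sylow.coe_subgroup_smul]
      exact ⟨a, hQ (Subgroup.mem_zpowers a), rfl⟩
    have hU : ((g * a * g⁻¹ : M) : G) ∈ Φ.U i := hUS ▸ Subgroup.mem_subgroupOf.1 hmem
    refine IsConj.trans ?_ (isConj_iff.2 ⟨g⁻¹, by group⟩ : IsConj (g * a * g⁻¹) a)
    rcases (Φ.mem_U_iff i).1 hU with h | h | h | h
    · rw [conj_eq_one_iff.1 (Subtype.ext h : g * a * g⁻¹ = 1), orderOf_one] at ha
      omega
    · exact (Subtype.ext h.symm : tM = g * a * g⁻¹) ▸ IsConj.refl _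
    · exact isConj_iff.2 ⟨⟨ρ, hρ⟩, Subtype.ext (hρt.trans h.symm)⟩
    · refine isConj_iff.2 ⟨⟨ρ, hρ⟩ * ⟨ρ, hρ⟩, Subtype.ext ?_⟩
      show ρ * ρ * t * (ρ * ρ)⁻¹ = _
      rw [show ρ * ρ * t * (ρ * ρ)⁻¹ = ρ * (ρ * t * ρ⁻¹) * ρ⁻¹ by group, hρt, hρu]
      exact h.symm
  have hncM : ¬ ∃ N : Subgroup M, N.Normal ∧ Nat.card N * 4 = Nat.card M := by
    rintro ⟨N, hN, hc⟩
    haveI := hN
    have hQ : Nat.card (M ⧸ N) = 4 := by
      have h := Subgroup.card_eq_card_quotient_mul_card_subgroup N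
      rw [← hc, mul_comm] at h
      exact (Nat.eq_of_mul_eq_mul_right Nat.card_pos h).symm
    haveI : IsMulCommutative (M ⧸ N) := IsPGroup.isMulCommutative_of_card_eq_prime_sq (p := 2) (by rw [hQ]; norm_num)
    have hodd : ¬ 2 ∣ Nat.card N := fun h => by
      have h8 : 8 ∣ Nat.card M := by obtain ⟨j, hj⟩ := h; exact ⟨j, by rw [← hc, hj]; ring⟩
      have h1 := (T : Subgroup M).card_mul_index
      rw [IsKleinFour.card_four (G := (T : Subgroup M))] at h1
      have := T.not_dvd_index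
      obtain ⟨j, hj⟩ := h8
      omega
    let uM : M := ⟨u, hSM (Φ.refl_mem i)⟩
    have htu : tM * uM ∈ N := by
      rw [← QuotientGroup.eq_one_iff]
      have e1 : (QuotientGroup.mk' N) uM = (QuotientGroup.mk' N) tM := by
        rw [← show (⟨ρ, hρ⟩ : M) * tM * (⟨ρ, hρ⟩ : M)⁻¹ = uM from Subtype.ext hρt, map_mul, map_mul, map_inv,
          (inferInstance : IsMulCommutative (M ⧸ N)).is_comm.comm _ ((QuotientGroup.mk' N) tM), mul_inv_cancel_right]
      show (QuotientGroup.mk' N) (tM * uM) = 1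
      rw [map_mul, e1, ← map_mul, show tM * tM = 1 from Subtype.ext Φ.tt, map_one]
    refine hodd ?_
    have ho : orderOf (tM * uM) = 2 := by
      refine orderOf_eq_prime ?_ fun h => ?_
      · rw [pow_two]
        refine Subtype.ext ?_
        show t * u * (t * u) = 1
        rw [mul_assoc, ← mul_assoc u, (Φ.commute i).symm.eq, mul_assoc t u u, Φ.uu, mul_one, Φ.tt]
      · exact Φ.refl_ne i ((eq_inv_of_mul_eq_one_right (congrArg Subtype.val h : t * u = 1)).trans
          (inv_eq_of_mul_eq_one_right Φ.tt))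
    rw [← ho]
    exact Subgroup.orderOf_dvd_natCard _ htu
  have hncG : ¬ ∃ N : Subgroup G, N.Normal ∧ Nat.card N * 4 = Nat.card G := by
    rintro ⟨N, hN, hc⟩
    rcases hN.eq_bot_or_eq_top with h | h
    · rw [h, Subgroup.card_bot, one_mul] at hc
      haveI : IsMulCommutative G := IsPGroup.isMulCommutative_of_card_eq_prime_sq (p := 2) (by rw [← hc]; norm_num)
      exact hG.nonab ‹_›
    · rw [h, Subgroup.card_top] at hc
      have := Nat.card_pos (α := G)
      omega
  obtain ⟨e, x, y, w, hd, hcard⟩ := order_formula Φ.S hKG hG.oneClass hncG Φ.t_mem Φ.t_order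
  obtain ⟨e', x', y', w', hd', hcard'⟩ := order_formula T hKT hone hncM (Subgroup.mem_subgroupOf.2 Φ.t_mem) htM
  -- the centralisers agree
  have hc1 : Nat.card (Subgroup.centralizer ({tM} : Set M)) = Nat.card (Subgroup.centralizer ({t} : Set G)) :=
    Nat.card_congr
      { toFun := fun g => ⟨(g.1 : G), Subgroup.mem_centralizer_singleton_iff.2
          (congrArg Subtype.val (Subgroup.mem_centralizer_singleton_iff.1 g.2))⟩
        invFun := fun g => ⟨⟨g.1, hC g.2⟩, Subgroup.mem_centralizer_singleton_iff.2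
          (Subtype.ext (Subgroup.mem_centralizer_singleton_iff.1 g.2))⟩
        left_inv := fun _ => rfl
        right_inv := fun _ => rfl }
  have hc2 : Nat.card (Subgroup.centralizer ((T : Subgroup M) : Set M)) =
      Nat.card (Subgroup.centralizer ((Φ.S : Subgroup G) : Set G)) :=
    Nat.card_congr
      { toFun := fun g => ⟨(g.1 : G), Subgroup.mem_centralizer_iff.2 fun s hs => congrArg Subtype.val
          (Subgroup.mem_centralizer_iff.1 g.2 ⟨s, hSM hs⟩ (Subgroup.mem_subgroupOf.2 hs))⟩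
        invFun := fun g => ⟨⟨g.1, hC (Subgroup.mem_centralizer_singleton_iff.2
          (Subgroup.mem_centralizer_iff.1 g.2 t Φ.t_mem).symm)⟩, Subgroup.mem_centralizer_iff.2 fun s hs =>
          Subtype.ext (Subgroup.mem_centralizer_iff.1 g.2 s (Subgroup.mem_subgroupOf.1 hs))⟩
        left_inv := fun _ => rfl
        right_inv := fun _ => rfl }
  rw [hc1, hc2] at hcard'
  set X : ℚ := (Nat.card (Subgroup.centralizer ({t} : Set G)) : ℚ) ^ 3 /
    (Nat.card (Subgroup.centralizer ((Φ.S : Subgroup G) : Set G)) : ℚ) ^ 2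
  have hX : 0 < X := div_pos (pow_pos (by exact_mod_cast Nat.card_pos) 3) (pow_pos (by exact_mod_cast Nat.card_pos) 2)
  have hG' : (Nat.card G : ℚ) = 8 * ratio e x y w * X := by rw [hcard, mul_div_assoc]
  have hM' : (Nat.card M : ℚ) = 8 * ratio e' x' y' w' * X := by rw [hcard', mul_div_assoc]
  have hidx : M.index ≤ 5 := by
    have h1 : (Nat.card M : ℚ) * (M.index : ℚ) = Nat.card G := by exact_mod_cast M.card_mul_index
    rw [hG', hM'] at h1
    have h2 : ratio e' x' y' w' * (M.index : ℚ) = ratio e x y w :=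
      mul_left_cancel₀ (show (8 : ℚ) * X ≠ 0 by positivity) (by linear_combination h1)
    have h3 := hd.upper
    have h4 := hd'.lower
    have h5 : (M.index : ℚ) ≤ 5 := by nlinarith [(Nat.cast_nonneg M.index : (0 : ℚ) ≤ M.index)]
    exact_mod_cast h5
  have hdvd := Small.SmallOrders.card_dvd_index_factorial M hM.1
  have h4 : 4 ∣ Nat.card G := hS4 ▸ (Φ.S : Subgroup G).card_subgroup_dvd_card
  have h120 : Nat.card G ∣ 120 := hdvd.trans (Nat.factorial_dvd_factorial hidx)
  have h60 : Nat.card G = 60 := by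
    have hge : 60 ≤ Nat.card G := by
      by_contra hlt
      have := Cfsg.Agent.S0493.result (G := G) (fun hc => hG.nonab (by
        letI := IsCyclic.commGroup (α := G)
        exact ⟨⟨mul_comm⟩⟩)) (by omega)
      omega
    have h8 : ¬ 8 ∣ Nat.card G := fun h8 => by
      obtain ⟨j, hj⟩ := h8
      have h1 := (Φ.S : Subgroup G).card_mul_index
      have h2 := Φ.S.not_dvd_index
      rw [hS4, hj] at h1
      omega
    have := Nat.le_of_dvd (by norm_num) h120
    obtain ⟨j, hj⟩ := h120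
    have hj0 : j ≤ 2 := by nlinarith
    interval_cases j <;> omega
  haveI : Fact (Nat.Prime 5) := ⟨by norm_num⟩
  haveI : IsSimpleGroup (Matrix.ProjectiveSpecialLinearGroup (Fin 2) (ZMod 5)) :=
    Matrix.ProjectiveSpecialLinearGroup.rank_two_simple (by rw [Nat.card_zmod]; norm_num)
  have hc := Classical.Dickson.card_psl (ZMod 5)
  rw [ZMod.card, show Nat.gcd 2 (5 - 1) = 2 from rfl] at hc
  obtain ⟨e₁⟩ := Lie.simple_sixty h60
  obtain ⟨e₂⟩ := Lie.simple_sixty (G := Matrix.ProjectiveSpecialLinearGroup (Fin 2) (ZMod 5)) (by norm_num at hc ⊢; omega)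
  exact hG.notModel (Or.inl ⟨ZMod 5, inferInstance, inferInstance, by rw [ZMod.card]; decide,
    by rw [ZMod.card]; norm_num, ⟨e₁.trans e₂.symm⟩⟩)

end Minimal

end Cfsg.Agent.GW
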