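import Cfsg.Agent.Lib.GW.EightLinear
import Cfsg.Agent.Lib.GW.FourFused

/-!
# The order formula bounds the index of an involution centraliser

Dihedral Sylow `2`-subgroups and one class of involutions: if the centralisers of the two kinds of four groups
have at least `4 |O| / a` and `4 |O| / b` elements, then `64 |G : C(t)| ≤ 45 m² (a + b)²`, `m = max (|P| / 2, 4)`.
-/

set_option autoImplicit false
set_option linter.unusedSectionVars false
set_option linter.style.haveILetI false

namespace Cfsg.Agent.GW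

open Cfsg Cfsg.Agent DihedralGroup

universe w

variable {G : Type w} [Group G] [Finite G]

/-- conjugate pairs have centralisers of one order -/
theorem card_cent_pair_conj (g x y : G) :
    Nat.card (Subgroup.centralizer ({g * x * g⁻¹, g * y * g⁻¹} : Set G)) =
      Nat.card (Subgroup.centralizer ({x, y} : Set G)) := by
  refine Nat.card_congr (((MulAut.conj g⁻¹).toEquiv).subtypeEquiv fun z => ?_)
  show z ∈ Subgroup.centralizer ({g * x * g⁻¹, g * y * g⁻¹} : Set G) ↔
    g⁻¹ * z * g⁻¹⁻¹ ∈ Subgroup.centralizer ({x, y} : Set G)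
  simp only [Subgroup.mem_centralizer_iff, Set.mem_insert_iff, Set.mem_singleton_iff, forall_eq_or_imp, forall_eq]
  constructor
  · rintro ⟨h1, h2⟩
    constructor
    · calc x * (g⁻¹ * z * g⁻¹⁻¹) = g⁻¹ * ((g * x * g⁻¹) * z) * g := by group
        _ = g⁻¹ * (z * (g * x * g⁻¹)) * g := by rw [h1]
        _ = _ := by group
    · calc y * (g⁻¹ * z * g⁻¹⁻¹) = g⁻¹ * ((g * y * g⁻¹) * z) * g := by group
        _ = g⁻¹ * (z * (g * y * g⁻¹)) * g := by rw [h2]
        _ = _ := by group
  · rintro ⟨h1, h2⟩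
    constructor
    · calc g * x * g⁻¹ * z = g * (x * (g⁻¹ * z * g⁻¹⁻¹)) * g⁻¹ := by group
        _ = g * ((g⁻¹ * z * g⁻¹⁻¹) * x) * g⁻¹ := by rw [h1]
        _ = _ := by group
    · calc g * y * g⁻¹ * z = g * (y * (g⁻¹ * z * g⁻¹⁻¹)) * g⁻¹ := by group
        _ = g * ((g⁻¹ * z * g⁻¹⁻¹) * y) * g⁻¹ := by rw [h2]
        _ = _ := by group

section Order

variable {t : G} {P : Sylow 2 G} {O : Subgroup G}

/-- `|C(t)| = |P| |O|` -/
theorem card_cent_prod (hOodd : Odd (Nat.card ↥O))
    (hOn : Subgroup.centralizer ({t} : Set G) ≤ Subgroup.normalizer (O : Set G))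
    (hOP : O ⊔ (P : Subgroup G) = Subgroup.centralizer ({t} : Set G)) :
    Nat.card (Subgroup.centralizer ({t} : Set G)) = Nat.card (P : Subgroup G) * Nat.card O := by
  haveI : Fact (Nat.Prime 2) := ⟨Nat.prime_two⟩
  obtain ⟨j, hj⟩ := IsPGroup.iff_card.1 P.isPGroup'
  have hdisj : Disjoint O (P : Subgroup G) := by
    rw [disjoint_iff, eq_bot_iff]
    intro x hx
    rw [Subgroup.mem_inf] at hx
    refine Subgroup.mem_bot.2 (orderOf_eq_one_iff.1 (Nat.eq_one_of_dvd_coprimes
      (show Nat.Coprime (Nat.card O) (Nat.card (P : Subgroup G)) from ?_)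
      (Subgroup.orderOf_dvd_natCard _ hx.1) (Subgroup.orderOf_dvd_natCard _ hx.2)))
    rw [hj]
    exact Nat.Coprime.pow_right j (Nat.coprime_two_right.2 hOodd)
  have hn : (P : Subgroup G) ≤ Subgroup.normalizer (O : Set G) := (hOP ▸ le_sup_right).trans hOn
  let f : O × (P : Subgroup G) → Subgroup.centralizer ({t} : Set G) := fun p =>
    ⟨(p.1 : G) * p.2, hOP ▸ mul_mem (Subgroup.mem_sup_left p.1.2) (Subgroup.mem_sup_right p.2.2)⟩
  have hf : Function.Bijective f := by
    refine ⟨fun p q h => Subgroup.mul_injective_of_disjoint hdisj (congrArg Subtype.val h), fun x => ?_⟩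
    have hx : (x : G) ∈ ((O ⊔ (P : Subgroup G) : Subgroup G) : Set G) := by rw [hOP]; exact x.2
    rw [Subgroup.coe_mul_of_right_le_normalizer_left O (P : Subgroup G) hn] at hx
    obtain ⟨y, hy, z, hz, e⟩ := hx
    exact ⟨(⟨y, hy⟩, ⟨z, hz⟩), Subtype.ext e⟩
  rw [← Nat.card_eq_of_bijective f hf, Nat.card_prod, mul_comm]

/-- a second involution of `C(t)` is conjugate under `C(t)` into `P` -/
theorem exists_conj_into (hP : (P : Subgroup G) ≤ Subgroup.centralizer ({t} : Set G)) {v : G} (hv : v * v = 1)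
    (hv1 : v ≠ 1) (hvt : v ≠ t) (hvc : Commute v t) :
    ∃ p ∈ (P : Subgroup G), orderOf p = 2 ∧ p ≠ t ∧
      Nat.card (Subgroup.centralizer ({t, p} : Set G)) = Nat.card (Subgroup.centralizer ({t, v} : Set G)) := by
  haveI : Fact (Nat.Prime 2) := ⟨Nat.prime_two⟩
  have hvC : v ∈ Subgroup.centralizer ({t} : Set G) := Subgroup.mem_centralizer_singleton_iff.2 hvc.eq
  have hvo : orderOf v = 2 := orderOf_eq_prime (by rw [pow_two, hv]) hv1
  obtain ⟨Q, hQ⟩ := (IsPGroup.of_card (p := 2) (n := 1)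
    (G := Subgroup.zpowers (⟨v, hvC⟩ : Subgroup.centralizer ({t} : Set G)))
    (by rw [Nat.card_zpowers, Subgroup.orderOf_mk, hvo, pow_one])).exists_le_sylow
  obtain ⟨c, hcQ⟩ := MulAction.exists_smul_eq (Subgroup.centralizer ({t} : Set G)) Q (P.subtype hP)
  have hmem : c * ⟨v, hvC⟩ * c⁻¹ ∈ ((P.subtype hP : Sylow 2 _) : Subgroup (Subgroup.centralizer ({t} : Set G))) := by
    rw [← hcQ, Sylow.coe_subgroup_smul]
    exact ⟨_, hQ (Subgroup.mem_zpowers _), rfl⟩
  have hct : (c : G) * t * (c : G)⁻¹ = t :=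
    mul_inv_eq_iff_eq_mul.2 (Subgroup.mem_centralizer_singleton_iff.1 c.2)
  refine ⟨(c : G) * v * (c : G)⁻¹, Subgroup.mem_subgroupOf.1 hmem, ?_, fun e => hvt ?_, ?_⟩
  · rw [← hvo]
    simpa using orderOf_injective (MulAut.conj (c : G)).toMonoidHom (MulAut.conj (c : G)).injective v
  · calc v = (c : G)⁻¹ * ((c : G) * v * (c : G)⁻¹) * c := by group
      _ = (c : G)⁻¹ * ((c : G) * t * (c : G)⁻¹) * c := by rw [e, hct]
      _ = t := by group
  · have h := card_cent_pair_conj (c : G) t v
    rwa [hct] at h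

end Order

/-- **the index bound** -/
theorem index_bound [IsSimpleGroup G] (hG : ¬ IsMulCommutative G) (P : Sylow 2 G) {n : ℕ} (hn : 2 ≤ n)
    (ι : DihedralGroup n ≃* (P : Subgroup G)) (hone : ∀ a b : G, orderOf a = 2 → orderOf b = 2 → IsConj a b)
    {t : G} (ht : t * t = 1) (ht1 : t ≠ 1) (htP : t ∈ (P : Subgroup G))
    (htZ : ∀ s ∈ (P : Subgroup G), s * t = t * s) (O : Subgroup G)
    (_hO : O ≤ Subgroup.centralizer ({t} : Set G)) (hOodd : Odd (Nat.card ↥O))
    (hOn : Subgroup.centralizer ({t} : Set G) ≤ Subgroup.normalizer (O : Set G))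
    (hOP : O ⊔ (P : Subgroup G) = Subgroup.centralizer ({t} : Set G)) {v : G} (hv : v * v = 1) (hv1 : v ≠ 1)
    (hvt : v ≠ t) (hvc : Commute v t) {a b : ℕ}
    (ha : 4 * Nat.card ↥O ≤ Nat.card (Subgroup.centralizer ({t, v} : Set G)) * a)
    (hb : ∀ z : G, z * z = 1 → z ≠ 1 → z ≠ t → Commute z t →
      4 * Nat.card ↥O ≤ Nat.card (Subgroup.centralizer ({t, z} : Set G)) * b) :
    64 * (Subgroup.centralizer ({t} : Set G)).index ≤
      45 * (max (Nat.card (P : Subgroup G) / 2) 4) ^ 2 * (a + b) ^ 2 := by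
  classical
  haveI : Fact (Nat.Prime 2) := ⟨Nat.prime_two⟩
  haveI : NeZero n := ⟨by omega⟩
  letI : Fintype G := Fintype.ofFinite G
  have hP : (P : Subgroup G) ≤ Subgroup.centralizer ({t} : Set G) := fun s hs =>
    Subgroup.mem_centralizer_singleton_iff.2 (htZ s hs)
  have hcardP : Nat.card (P : Subgroup G) = 2 * n := by
    rw [← Nat.card_congr ι.toEquiv, DihedralGroup.nat_card]
  have hC := card_cent_prod hOodd hOn hOP
  rw [hcardP] at hC
  have hidx := (Subgroup.centralizer ({t} : Set G)).card_mul_index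
  rw [hC] at hidx
  obtain ⟨I, hI⟩ : ∃ I, I = (Subgroup.centralizer ({t} : Set G)).index := ⟨_, rfl⟩
  rw [← hI] at hidx ⊢
  obtain ⟨o, ho⟩ : ∃ o, o = Nat.card ↥O := ⟨_, rfl⟩
  rw [← ho] at hidx hC ha hb
  have hopos : 0 < o := ho ▸ Nat.card_pos
  have hoQ : (0 : ℚ) < o := by exact_mod_cast hopos
  have hgQ : (Nat.card G : ℚ) = 2 * n * o * I := by rw [← hidx]; push_cast; ring
  have hCQ : (Nat.card (Subgroup.centralizer ({t} : Set G)) : ℚ) = 2 * n * o := by rw [hC]; push_cast; ring
  obtain ⟨k, hk⟩ : ∃ k, n = 2 ^ k := by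
    obtain ⟨j, hj⟩ := IsPGroup.iff_card.1 P.isPGroup'
    rw [hcardP] at hj
    obtain ⟨k, -, hk⟩ := (Nat.dvd_prime_pow Nat.prime_two).1 (Dvd.intro_left 2 hj)
    exact ⟨k, hk⟩
  have horder : ∀ x : G, x * x = 1 → x ≠ 1 → orderOf x = 2 := fun x h1 h2 =>
    orderOf_eq_prime (by rw [pow_two, h1]) h2
  have htC : Commute t t := Commute.refl t
  rcases Nat.eq_or_lt_of_le (show 1 ≤ k by
    rcases k with _ | k
    · rw [hk] at hn; norm_num at hn
    · omega) with hk1 | hk2
  · -- a four group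
    have hn2 : n = 2 := by rw [hk, ← hk1, pow_one]
    subst hn2
    have hklein : IsKleinFour (P : Subgroup G) :=
      { card_four := by rw [hcardP]
        exponent_two := by
          rw [← Monoid.exponent_eq_of_mulEquiv ι]
          exact IsKleinFour.exponent_two }
    obtain ⟨p, hp, hp2, hpt, hpc⟩ := exists_conj_into hP hv hv1 hvt hvc
    have hcentP : Subgroup.centralizer ({t, p} : Set G) = Subgroup.centralizer ((P : Subgroup G) : Set G) := by
      refine le_antisymm (fun x hx => Subgroup.mem_centralizer_iff.2 fun q hq => ?_)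
        (Subgroup.centralizer_le fun x hx => ?_)
      · rw [Subgroup.mem_centralizer_iff] at hx
        have hxt : t * x = x * t := hx t (by simp)
        have hxp : p * x = x * p := hx p (by simp)
        have hall : (⟨q, hq⟩ : (P : Subgroup G)) = 1 ∨ (⟨q, hq⟩ : (P : Subgroup G)) = ⟨t, htP⟩ ∨
            (⟨q, hq⟩ : (P : Subgroup G)) = ⟨p, hp⟩ ∨
            (⟨q, hq⟩ : (P : Subgroup G)) = ⟨t, htP⟩ * ⟨p, hp⟩ := by
          by_contra hcon
          push Not at hcon
          obtain ⟨h1, h2, h3, h4⟩ := hcon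
          refine h4 ?_
          exact IsKleinFour.eq_mul_of_ne_all (x := (⟨t, htP⟩ : (P : Subgroup G))) (y := ⟨p, hp⟩)
            (fun e => ht1 (congrArg Subtype.val e))
            (fun e => by
              have e' : p = 1 := congrArg Subtype.val e
              rw [e', orderOf_one] at hp2
              norm_num at hp2)
            (fun e => hpt (congrArg Subtype.val e).symm) h1 h2 h3
        rcases hall with e | e | e | e <;> have e' : q = _ := congrArg Subtype.val e <;> subst e'
        · simp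
        · exact hxt
        · exact hxp
        · show t * p * x = x * (t * p)
          rw [mul_assoc, hxp, ← mul_assoc, hxt, mul_assoc]
      · rcases hx with rfl | rfl
        exacts [htP, hp]
    have hnc : ¬ ∃ N : Subgroup G, N.Normal ∧ Nat.card N * 4 = Nat.card G := by
      rintro ⟨N, hN, hc⟩
      rcases IsSimpleGroup.eq_bot_or_eq_top_of_normal N hN with rfl | rfl
      · rw [Subgroup.card_bot, one_mul] at hc
        have h4 : (P : Subgroup G) = ⊤ := Subgroup.eq_top_of_card_eq _ (by rw [hcardP, ← hc])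
        refine hG ⟨⟨fun x y => ?_⟩⟩
        exact congrArg Subtype.val (IsKleinFour.isMulCommutative.is_comm.comm
          (⟨x, h4 ▸ Subgroup.mem_top x⟩ : (P : Subgroup G)) ⟨y, h4 ▸ Subgroup.mem_top y⟩)
      · rw [Subgroup.card_top] at hc
        have : 0 < Nat.card G := Nat.card_pos
        omega
    obtain ⟨e, x, y, w, hd, hform⟩ := order_formula P hklein hone hnc htP (horder t ht ht1)
    have hup := hd.upper
    rw [← hcentP, hpc, hgQ, hCQ] at hform
    obtain ⟨c, hcdef⟩ : ∃ c, c = Nat.card (Subgroup.centralizer ({t, v} : Set G)) := ⟨_, rfl⟩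
    rw [← hcdef] at hform ha
    have hb' := hb v hv hv1 hvt hvc
    rw [← hcdef] at hb'
    have hcQ : (0 : ℚ) < c := by
      have : 0 < c := hcdef ▸ Nat.card_pos
      exact_mod_cast this
    have hI' : (I : ℚ) * (c : ℚ) ^ 2 = 8 * ratio e x y w * (4 * o) ^ 2 := by
      push_cast at hform
      field_simp at hform
      linear_combination hform
    obtain ⟨m, hm, hma, hmb⟩ : ∃ m : ℕ, 4 * o ≤ c * m ∧ m ≤ a ∧ m ≤ b := by
      rcases le_total a b with h | h
      · exact ⟨a, ha, le_rfl, h⟩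
      · exact ⟨b, hb', h, le_rfl⟩
    have hmQ : 4 * (o : ℚ) ≤ c * m := by exact_mod_cast hm
    have h15 : (I : ℚ) ≤ 15 * (m : ℚ) ^ 2 := by
      refine le_of_mul_le_mul_right ?_ (pow_pos hcQ 2)
      calc (I : ℚ) * (c : ℚ) ^ 2 = 8 * ratio e x y w * (4 * o) ^ 2 := hI'
        _ ≤ 15 * (4 * (o : ℚ)) ^ 2 := by nlinarith [sq_nonneg (4 * (o : ℚ))]
        _ ≤ 15 * ((c : ℚ) * m) ^ 2 := by
            refine mul_le_mul_of_nonneg_left ?_ (by norm_num)
            exact pow_le_pow_left₀ (by positivity) hmQ 2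
        _ = _ := by ring
    have h15' : I ≤ 15 * m ^ 2 := by exact_mod_cast h15
    have h4 : (2 * m) ^ 2 ≤ (a + b) ^ 2 := Nat.pow_le_pow_left (by omega) 2
    rw [hcardP, show max (2 * 2 / 2) 4 = 4 from rfl]
    nlinarith
  · -- at least eight
    obtain ⟨j, hj⟩ : ∃ j, k = j + 2 := ⟨k - 2, by omega⟩
    subst hj
    have hn4 : 4 ≤ n := by
      rw [hk, pow_add]
      have := Nat.one_le_two_pow (n := j)
      omega
    have h2n : 2 ∣ n := by rw [hk, pow_succ]; exact dvd_mul_left _ _
    set ι' : DihedralGroup n →* G := (P : Subgroup G).subtype.comp ι.toMonoidHom with hι'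
    have hD : Char.DihSyl P ι' := ⟨by rw [hk, pow_add]; exact dvd_mul_left _ _, ⟨_, hk⟩,
      (P : Subgroup G).subtype_injective.comp ι.injective, by
        rw [hι', MonoidHom.range_comp, MonoidHom.range_eq_top.mpr ι.surjective, ← MonoidHom.range_eq_map,
          Subgroup.range_subtype]⟩
    have hι'mem : ∀ d, ι' d ∈ (P : Subgroup G) := hD.mem
    have htwo : (2 : ZMod n) ≠ 0 := by
      intro h0
      have h' : ((2 : ℕ) : ZMod n) = 0 := by exact_mod_cast h0
      rw [ZMod.natCast_eq_zero_iff] at h'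
      have := Nat.le_of_dvd two_pos h'
      omega
    -- `t` is the half turn
    have hJ : Char.dihJ ι' = t := by
      obtain ⟨d, hd⟩ : ∃ d, ι' d = t := ⟨ι.symm ⟨t, htP⟩, by simp [hι']⟩
      have hcomm : ∀ d', d' * d = d * d' := fun d' => hD.inj (by
        rw [map_mul, map_mul, hd]; exact htZ _ (hι'mem d'))
      rcases d with i | i
      · have e := hcomm (sr 0)
        rw [sr_mul_r, r_mul_sr, zero_add, zero_sub] at e
        have e' : i + i = 0 := by
          have := DihedralGroup.sr.inj e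
          calc i + i = -i + i := by nth_rw 1 [this]
            _ = 0 := neg_add_cancel i
        rcases Fusion.zmod_double_eq_zero e' with h0 | h0
        · exfalso
          rw [h0, ← DihedralGroup.one_def, map_one] at hd
          exact ht1 hd.symm
        · rw [Char.dihJ, ← h0]; exact hd
      · exfalso
        have e := hcomm (r 1)
        rw [r_mul_sr, sr_mul_r] at e
        have e' := DihedralGroup.sr.inj e
        refine htwo ?_
        calc (2 : ZMod n) = (i + 1) - (i - 1) := by ring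
          _ = 0 := by rw [e']; ring
    have hto : orderOf t = 2 := horder t ht ht1
    have hsr : ∀ i : ZMod n, orderOf (ι' (sr i)) = 2 := fun i => by
      rw [orderOf_injective ι' hD.inj, DihedralGroup.orderOf_sr]
    have hsrt : ∀ i : ZMod n, ι' (sr i) ≠ t := fun i e => by
      rw [← hJ] at e
      have := hD.inj e
      simp at this
    have hsrc : ∀ i : ZMod n, Commute (ι' (sr i)) t := fun i => htZ _ (hι'mem _)
    -- centralisers of the two reflections
    obtain ⟨c, hcdef⟩ : ∃ c : ZMod n → ℕ, c = fun i =>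
        Nat.card (Subgroup.centralizer ({t, ι' (sr i)} : Set G)) := ⟨_, rfl⟩
    have hcpos : ∀ i, (0 : ℚ) < c i := fun i => by
      have : 0 < c i := by rw [hcdef]; exact Nat.card_pos
      exact_mod_cast this
    have hbc : ∀ i, 4 * o ≤ c i * b := fun i => by
      have h1 : ι' (sr i) * ι' (sr i) = 1 := by
        rw [← pow_two, ← hsr i, pow_orderOf_eq_one]
      have h2 : ι' (sr i) ≠ 1 := fun e => by
        have := hsr i
        rw [e, orderOf_one] at this
        omega
      rw [hcdef]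
      exact hb _ h1 h2 (hsrt i) (hsrc i)
    have hshift : ∀ i l : ZMod n, c (i - (l + l)) = c i := fun i l => by
      have e : ι' (sr (i - (l + l))) = ι' (r l) * ι' (sr i) * (ι' (r l))⁻¹ := by
        rw [← map_inv, ← map_mul, ← map_mul, r_mul_sr, inv_r, sr_mul_r]
        congr 2
        ring
      have et : ι' (r l) * t * (ι' (r l))⁻¹ = t := mul_inv_eq_iff_eq_mul.2 (htZ _ (hι'mem _))
      rw [hcdef]
      show Nat.card (Subgroup.centralizer ({t, ι' (sr (i - (l + l)))} : Set G)) = _
      rw [e]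
      have h := card_cent_pair_conj (ι' (r l)) t (ι' (sr i))
      rwa [et] at h
    have hsum : (1 : ℚ) / c 0 + 1 / c (-1) ≤ ((a : ℚ) + b) / (4 * o) := by
      obtain ⟨p, hp, hp2, hpt, hpc⟩ := exists_conj_into hP hv hv1 hvt hvc
      obtain ⟨d, hd⟩ : ∃ d, ι' d = p := ⟨ι.symm ⟨p, hp⟩, by simp [hι']⟩
      have hi : ∃ i, d = sr i := by
        rcases d with i | i
        · exfalso
          have h1 : ι' (r i) * ι' (r i) = 1 := by rw [hd, ← pow_two, ← hp2, pow_orderOf_eq_one]
          rw [← map_mul, r_mul_r] at h1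
          have h2 := hD.rot_eq_one h1
          rcases Fusion.zmod_double_eq_zero h2 with h0 | h0
          · rw [h0, ← DihedralGroup.one_def, map_one] at hd
            rw [← hd, orderOf_one] at hp2
            omega
          · exact hpt (by rw [← hd, ← hJ, h0])
        · exact ⟨i, rfl⟩
      obtain ⟨i, rfl⟩ := hi
      have hva : 4 * o ≤ c i * a := by
        rw [← hd] at hpc
        rw [hcdef]
        show 4 * o ≤ Nat.card (Subgroup.centralizer ({t, ι' (sr i)} : Set G)) * a
        rw [hpc]; exact ha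
      have hclass : c i = c 0 ∨ c i = c (-1) := by
        rcases Nat.even_or_odd' i.val with ⟨l, hl | hl⟩
        · left
          have e : i - ((l : ZMod n) + l) = 0 := by
            rw [← ZMod.natCast_zmod_val i, hl]; push_cast; ring
          rw [← e, hshift]
        · right
          have e : i - (((l + 1 : ℕ) : ZMod n) + ((l + 1 : ℕ) : ZMod n)) = -1 := by
            rw [← ZMod.natCast_zmod_val i, hl]; push_cast; ring
          rw [← e, hshift]
      have key : ∀ (q : ℕ) (m : ℕ), 0 < (q : ℚ) → 4 * o ≤ q * m → (1 : ℚ) / q ≤ (m : ℚ) / (4 * o) := by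
        intro q m hq h
        have h' : 4 * (o : ℚ) ≤ q * m := by exact_mod_cast h
        rw [div_le_div_iff₀ hq (by positivity)]
        linarith
      rcases hclass with e | e
      · rw [e] at hva
        have h1 := key _ _ (hcpos 0) hva
        have h2 := key _ _ (hcpos (-1)) (hbc (-1))
        rw [add_div]; linarith
      · rw [e] at hva
        have h1 := key _ _ (hcpos (-1)) hva
        have h2 := key _ _ (hcpos 0) (hbc 0)
        rw [add_div]; linarith
    -- the principal block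
    obtain ⟨M, hM⟩ := Char.exists_pModular Nat.prime_two
    have hζ := Complex.isPrimitiveRoot_exp n (NeZero.ne n)
    obtain ⟨χ₁, χ₂, χ₃, χ', δ, δ₂, δ₃, hδ, -, -, -, hne1, -, -, -, -, -, -, hmem, hvals, -⟩ :=
      hD.principal_block hM hζ (n / 2) (Nat.mul_div_cancel' h2n).symm
    have hval1 : ∀ l : ℕ, 0 < l → l < n → (χ₁ : G → ℂ) (ι' (r (l : ZMod n))) = δ := fun l h1 h1' =>
      (hvals l h1 h1').1
    have hconj : ∀ i : ZMod n, IsConj (Char.dihJ ι') (ι' (sr i)) := fun i => by
      rw [hJ]; exact hone t _ hto (hsr i)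
    obtain ⟨hxδ, hord⟩ := hD.order_formula hM (hconj 0) (hconj (-1)) χ₁ ((hmem χ₁).mpr (Or.inr (Or.inl rfl)))
      hne1 δ hδ hval1
    set x := charDegree (χ₁ : G → ℂ) with hx
    have hdvd : (2 * n : ℤ) ∣ (x : ℤ) - δ := by
      obtain ⟨q, hq⟩ := Eight.const_value_dvd (H := ULift.{w} (DihedralGroup n))
        (ι'.comp MulEquiv.ulift.toMonoidHom) χ₁ δ (by
        rintro ⟨d⟩ hd
        show (χ₁ : G → ℂ) (ι' d) = _
        rcases d with i | i
        · have h0 : i ≠ 0 := fun e => hd (by rw [e]; rfl)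
          rw [← ZMod.natCast_zmod_val i]
          exact hval1 _ (ZMod.val_pos.mpr h0) (ZMod.val_lt _)
        · obtain ⟨g, hg⟩ := isConj_iff.mp (hconj i)
          rw [← hg, Char.isClassFunction_character (Char.irr_isCharacter χ₁.2)]
          exact hval1 _ (by omega) (by omega))
      rw [Nat.card_congr Equiv.ulift, DihedralGroup.nat_card] at hq
      push_cast at hq
      exact ⟨(q : ℤ) - δ, by linear_combination hq⟩
    have h8 : (8 : ℤ) ∣ (x : ℤ) - δ := by
      refine dvd_trans ?_ hdvd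
      have h4 : 4 ∣ n := by rw [hk, pow_add]; exact dvd_mul_left _ _
      obtain ⟨q, hq⟩ := h4
      exact ⟨q, by rw [hq]; push_cast; ring⟩
    rw [hJ, hgQ, hCQ] at hord
    have hs0 : (0 : ℚ) ≤ 1 / c 0 + 1 / c (-1) := by
      have := hcpos 0
      have := hcpos (-1)
      positivity
    have hord' : (I : ℚ) * ((x : ℚ) - δ) ^ 2 =
        2 * x * ((x : ℚ) + δ) * (2 * n * o) ^ 2 * (1 / (c 0 : ℚ) + 1 / (c (-1) : ℚ)) ^ 2 := by
      refine mul_left_cancel₀ (show (2 * (n : ℚ) * o) ≠ 0 by positivity) ?_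
      rw [hcdef]
      linear_combination hord
    have hxδQ : (0 : ℚ) < ((x : ℚ) - δ) ^ 2 := by
      refine sq_pos_of_ne_zero (sub_ne_zero.2 fun e => hxδ ?_)
      exact_mod_cast e
    have hxx : 32 * ((x : ℚ) * ((x : ℚ) + δ)) ≤ 45 * ((x : ℚ) - δ) ^ 2 := by
      rcases hδ with rfl | rfl
      · have hx9 : 9 ≤ x := by omega
        have : (9 : ℚ) ≤ x := by exact_mod_cast hx9
        push_cast
        nlinarith
      · have hx7 : 7 ≤ x := by omega
        have : (7 : ℚ) ≤ x := by exact_mod_cast hx7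
        push_cast
        nlinarith
    have hxpos : (0 : ℚ) ≤ (x : ℚ) * ((x : ℚ) + δ) := by
      refine mul_nonneg (Nat.cast_nonneg x) ?_
      rcases hδ with rfl | rfl
      · push_cast; positivity
      · have hx7 : 7 ≤ x := by omega
        have : (7 : ℚ) ≤ x := by exact_mod_cast hx7
        push_cast; linarith
    have hq : (2 * (n : ℚ) * o) ^ 2 * (1 / (c 0 : ℚ) + 1 / (c (-1) : ℚ)) ^ 2 ≤
        (n : ℚ) ^ 2 * ((a : ℚ) + b) ^ 2 / 4 := by
      calc (2 * (n : ℚ) * o) ^ 2 * (1 / (c 0 : ℚ) + 1 / (c (-1) : ℚ)) ^ 2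
          ≤ (2 * (n : ℚ) * o) ^ 2 * (((a : ℚ) + b) / (4 * o)) ^ 2 :=
            mul_le_mul_of_nonneg_left (pow_le_pow_left₀ hs0 hsum 2) (sq_nonneg _)
        _ = _ := by field_simp; ring
    have hfin : 64 * (I : ℚ) ≤ 45 * (n : ℚ) ^ 2 * ((a : ℚ) + b) ^ 2 := by
      refine le_of_mul_le_mul_right ?_ hxδQ
      calc 64 * (I : ℚ) * ((x : ℚ) - δ) ^ 2
          = 128 * ((x : ℚ) * ((x : ℚ) + δ)) * ((2 * (n : ℚ) * o) ^ 2 * (1 / (c 0 : ℚ) + 1 / (c (-1) : ℚ)) ^ 2) := by
            linear_combination 64 * hord'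
        _ ≤ 128 * ((x : ℚ) * ((x : ℚ) + δ)) * ((n : ℚ) ^ 2 * ((a : ℚ) + b) ^ 2 / 4) :=
            mul_le_mul_of_nonneg_left hq (by positivity)
        _ ≤ _ := by nlinarith [mul_nonneg (sq_nonneg (n : ℚ)) (sq_nonneg ((a : ℚ) + b))]
    rw [hcardP, Nat.mul_div_cancel_left n two_pos, max_eq_left hn4]
    exact_mod_cast hfin

end Cfsg.Agent.GW
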