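import Cfsg.Agent.Lib.Fusion.ZJApply
import Cfsg.Agent.Lib.Solv.HallHigman
import Cfsg.Agent.Lib.Solv.PGroupPhi
import Cfsg.Agent.Lib.Solv.MaxCentralizer
import Cfsg.Agent.Lib.Solv.Zipper

/-!
# An element inverted by an involution and centralising its fixed points

If `x` has odd order, is inverted by the involution `w` and centralises `C_P(w)` for a normal subgroup `P` of odd
order, then `x` is quadratic on `P / Φ(P)`.  In a group without an `SL₂(q)` section a `q`-element of this kind for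
every normal `O_r` lies in `O_q`.
-/

set_option autoImplicit false
set_option linter.unusedSectionVars false
set_option linter.style.haveILetI false

namespace Cfsg.Agent.GW

open Cfsg Cfsg.Agent Cfsg.Agent.Fusion
open scoped commutatorElement

universe u

variable {M : Type u} [Group M] [Finite M]

/-- the abelian case -/
theorem quadratic_abelian {P : Subgroup M} [hPn : P.Normal] (hab : ∀ a ∈ P, ∀ b ∈ P, a * b = b * a)
    (hodd : Odd (Nat.card ↥P)) {w x : M} (hw : w * w = 1) (hwx : w * x * w⁻¹ = x⁻¹)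
    (hfix : ∀ v ∈ P, w * v * w⁻¹ = v → x * v = v * x) {v : M} (hv : v ∈ P) :
    Commute (x * x) (⁅x * x, v⁆) := by
  obtain ⟨y, hy⟩ : ∃ y, y = x * x := ⟨_, rfl⟩
  rw [← hy]
  obtain ⟨φ, hφ⟩ : ∃ φ : M → M, φ = fun a => ⁅y, ⁅y, a⁆⁆ := ⟨_, rfl⟩
  have hmem : ∀ a ∈ P, ∀ g : M, ⁅g, a⁆ ∈ P := fun a ha g => by
    rw [commutatorElement_def]
    exact P.mul_mem (hPn.conj_mem a ha g) (P.inv_mem ha)
  have hmul1 : ∀ a ∈ P, ∀ b ∈ P, ⁅y, a * b⁆ = ⁅y, a⁆ * ⁅y, b⁆ := by
    intro a ha b hb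
    have h := hab a ha _ (hmem b hb y)
    calc ⁅y, a * b⁆ = ⁅y, a⁆ * (a * ⁅y, b⁆ * a⁻¹) := by simp only [commutatorElement_def]; group
      _ = _ := by rw [h, mul_inv_cancel_right]
  have hmul : ∀ a ∈ P, ∀ b ∈ P, φ (a * b) = φ a * φ b := by
    intro a ha b hb
    rw [hφ]
    show ⁅y, ⁅y, a * b⁆⁆ = _
    rw [hmul1 a ha b hb, hmul1 _ (hmem a ha y) _ (hmem b hb y)]
  have hzero : ∀ a ∈ P, w * a * w⁻¹ = a → φ a = 1 := by
    intro a ha haf
    have h : Commute y a := hy ▸ (show Commute x a from hfix a ha haf).mul_left (hfix a ha haf)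
    rw [hφ]
    show ⁅y, ⁅y, a⁆⁆ = 1
    rw [commutatorElement_eq_one_iff_commute.2 h, commutatorElement_one_right]
  have hinvd : ∀ a ∈ P, w * a * w⁻¹ = a⁻¹ → φ a = 1 := by
    intro a ha hai
    obtain ⟨d, hd⟩ : ∃ d, d = x * a * x⁻¹ * (x⁻¹ * a * x)⁻¹ := ⟨_, rfl⟩
    have hb : x * a * x⁻¹ ∈ P := hPn.conj_mem a ha x
    have hc : x⁻¹ * a * x ∈ P := by simpa using hPn.conj_mem a ha x⁻¹
    have hdP : d ∈ P := hd ▸ P.mul_mem hb (P.inv_mem hc)
    have hwb : w * (x * a * x⁻¹) * w⁻¹ = (x⁻¹ * a * x)⁻¹ := by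
      calc w * (x * a * x⁻¹) * w⁻¹ = w * x * w⁻¹ * (w * a * w⁻¹) * (w * x * w⁻¹)⁻¹ := by group
        _ = _ := by rw [hwx, hai]; group
    have hwc : w * (x⁻¹ * a * x) * w⁻¹ = (x * a * x⁻¹)⁻¹ := by
      calc w * (x⁻¹ * a * x) * w⁻¹ = (w * x * w⁻¹)⁻¹ * (w * a * w⁻¹) * (w * x * w⁻¹) := by group
        _ = _ := by rw [hwx, hai]; group
    have hdf : w * d * w⁻¹ = d := by
      calc w * d * w⁻¹ = w * (x * a * x⁻¹) * w⁻¹ * (w * (x⁻¹ * a * x) * w⁻¹)⁻¹ := by rw [hd]; group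
        _ = (x⁻¹ * a * x)⁻¹ * (x * a * x⁻¹) := by rw [hwb, hwc, inv_inv]
        _ = _ := by rw [hd, hab _ (P.inv_mem hc) _ hb]
    have hxd := hfix d hdP hdf
    have hcd : ⁅y, a⁆ = d := by
      calc ⁅y, a⁆ = x * d * x⁻¹ := by rw [hd, hy, commutatorElement_def]; group
        _ = d := by rw [hxd, mul_inv_cancel_right]
    rw [hφ]
    show ⁅y, ⁅y, a⁆⁆ = 1
    rw [hcd, commutatorElement_eq_one_iff_commute]
    exact hy ▸ (show Commute x d from hxd).mul_left hxd
  obtain ⟨v', hv'⟩ : ∃ v', v' = w * v * w⁻¹ := ⟨_, rfl⟩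
  have hv'P : v' ∈ P := hv' ▸ hPn.conj_mem v hv w
  have hwv' : w * v' * w⁻¹ = v := by
    rw [hv']
    calc w * (w * v * w⁻¹) * w⁻¹ = (w * w) * v * (w * w)⁻¹ := by group
      _ = v := by rw [hw]; group
  have h1 : φ (v * v') = 1 := hzero _ (P.mul_mem hv hv'P) (by
    calc w * (v * v') * w⁻¹ = w * v * w⁻¹ * (w * v' * w⁻¹) := by group
      _ = v * v' := by rw [← hv', hwv', hab v' hv'P v hv])
  have h2 : φ (v * v'⁻¹) = 1 := hinvd _ (P.mul_mem hv (P.inv_mem hv'P)) (by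
    calc w * (v * v'⁻¹) * w⁻¹ = w * v * w⁻¹ * (w * v' * w⁻¹)⁻¹ := by group
      _ = _ := by rw [← hv', hwv', mul_inv_rev, inv_inv])
  have h3 : φ v * φ v = 1 := by
    rw [← hmul v hv v hv]
    have : v * v = v * v' * (v * v'⁻¹) := by
      rw [hab v hv v' hv'P]
      calc v * v = v' * (v'⁻¹ * (v * v)) := by group
        _ = v' * (v * v * v'⁻¹) := by rw [hab _ (P.inv_mem hv'P) _ (P.mul_mem hv hv)]
        _ = _ := by group
    rw [this, hmul _ (P.mul_mem hv hv'P) _ (P.mul_mem hv (P.inv_mem hv'P)), h1, h2, one_mul]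
  have h4 : φ v = 1 := by
    have hP : φ v ∈ P := by rw [hφ]; exact hmem _ (hmem v hv y) y
    have hdv : orderOf (φ v) ∣ 2 := orderOf_dvd_of_pow_eq_one (by rw [pow_two, h3])
    have hdc : orderOf (φ v) ∣ Nat.card ↥P := by
      rw [← Subgroup.orderOf_coe (⟨φ v, hP⟩ : ↥P) |>.symm]
      exact orderOf_dvd_natCard _
    exact orderOf_eq_one_iff.1 (Nat.eq_one_of_dvd_coprimes hodd.coprime_two_left hdv hdc)
  rw [hφ] at h4
  exact commutatorElement_eq_one_iff_commute.1 h4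

variable (q : ℕ) [hq : Fact q.Prime]

/-- the square of `x` acts quadratically on the Frattini factor of `O_r` -/
theorem quadratic_frattini {r : ℕ} [Fact r.Prime] (hr : r ≠ 2) {w x : M} (hw : w * w = 1)
    (hwx : w * x * w⁻¹ = x⁻¹)
    (hfix : ∀ v ∈ Cfsg.pCore r M, w * v * w⁻¹ = v → x * v = v * x)
    {N : Subgroup M} [N.Normal] (hN : N = (frattini ↥(Cfsg.pCore r M)).map (Cfsg.pCore r M).subtype) :
    ∀ v ∈ Cfsg.pCore r M, Commute ((x * x : M) : M ⧸ N) ⁅((x * x : M) : M ⧸ N), (v : M ⧸ N)⁆ := by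
  haveI := Solv.pCore_normal (G := M) r
  have hP := Solv.pCore_isPGroup (G := M) r
  haveI hPn : ((Cfsg.pCore r M).map (QuotientGroup.mk' N)).Normal :=
    Subgroup.Normal.map inferInstance _ (QuotientGroup.mk'_surjective N)
  intro v hv
  have hodd : Odd (Nat.card ↥((Cfsg.pCore r M).map (QuotientGroup.mk' N))) := by
    obtain ⟨n, hn⟩ := IsPGroup.iff_card.1 (hP.map (QuotientGroup.mk' N))
    rw [hn]
    exact ((Fact.out : r.Prime).odd_of_ne_two hr).pow
  have hab : ∀ a ∈ (Cfsg.pCore r M).map (QuotientGroup.mk' N), ∀ b ∈ (Cfsg.pCore r M).map (QuotientGroup.mk' N),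
      a * b = b * a := by
    rintro _ ⟨a, ha, rfl⟩ _ ⟨b, hb, rfl⟩
    rw [← commutatorElement_eq_one_iff_mul_comm, ← map_commutatorElement, QuotientGroup.mk'_apply,
      QuotientGroup.eq_one_iff, hN]
    exact ⟨⁅(⟨a, ha⟩ : ↥(Cfsg.pCore r M)), ⟨b, hb⟩⁆, Solv.commutatorElement_mem_frattini hP _ _, rfl⟩
  refine quadratic_abelian hab hodd (w := (w : M ⧸ N)) (x := (x : M ⧸ N))
    (by rw [← QuotientGroup.mk_mul, hw, QuotientGroup.mk_one])
    (by rw [← QuotientGroup.mk_mul, ← QuotientGroup.mk_inv, ← QuotientGroup.mk_mul, hwx, QuotientGroup.mk_inv])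
    ?_ (Subgroup.mem_map_of_mem (QuotientGroup.mk' N) hv)
  rintro _ ⟨c, hc, rfl⟩ hcw
  -- lift the fixed coset to a fixed element
  have hNle : N ≤ Cfsg.pCore r M := hN ▸ Subgroup.map_subtype_le _
  obtain ⟨e, he⟩ : ∃ e, e = c⁻¹ * (w * c * w⁻¹) := ⟨_, rfl⟩
  have heN : e ∈ N := by
    rw [← QuotientGroup.eq_one_iff, he]
    rw [QuotientGroup.mk'_apply] at hcw
    rw [QuotientGroup.mk_mul, QuotientGroup.mk_mul, QuotientGroup.mk_mul, QuotientGroup.mk_inv,
      QuotientGroup.mk_inv, hcw, inv_mul_cancel]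
  have hewi : w * e * w⁻¹ = e⁻¹ := by
    rw [he]
    calc w * (c⁻¹ * (w * c * w⁻¹)) * w⁻¹ = w * c⁻¹ * w⁻¹ * ((w * w) * c * (w * w)⁻¹) := by group
      _ = _ := by rw [hw]; group
  have heo : Odd (orderOf e) := by
    obtain ⟨n, hn⟩ := IsPGroup.iff_orderOf.1 hP ⟨e, hNle heN⟩
    rw [← Subgroup.orderOf_coe] at hn
    rw [show orderOf e = r ^ n from hn]
    exact ((Fact.out : r.Prime).odd_of_ne_two hr).pow
  obtain ⟨k, hk⟩ := heo
  have hff : e ^ (k + 1) * e ^ (k + 1) = e := by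
    rw [← pow_add, show k + 1 + (k + 1) = orderOf e + 1 by omega, pow_succ, pow_orderOf_eq_one, one_mul]
  have hfw : w * e ^ (k + 1) * w⁻¹ = (e ^ (k + 1))⁻¹ := by
    rw [← conj_pow, hewi, inv_pow]
  have hfN : e ^ (k + 1) ∈ N := pow_mem heN _
  have hfx := hfix (c * e ^ (k + 1)) (mul_mem hc (hNle hfN)) (by
    calc w * (c * e ^ (k + 1)) * w⁻¹ = c * (c⁻¹ * (w * c * w⁻¹)) * (w * e ^ (k + 1) * w⁻¹) := by group
      _ = c * (e ^ (k + 1) * e ^ (k + 1)) * (e ^ (k + 1))⁻¹ := by rw [← he, hfw, hff]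
      _ = _ := by group)
  have h := congrArg (QuotientGroup.mk (s := N)) hfx
  simp only [QuotientGroup.mk_mul, (QuotientGroup.eq_one_iff _).2 hfN, mul_one] at h
  rw [QuotientGroup.mk'_apply]
  exact h

omit hq in
/-- the Frattini subgroup of `O_r` is normal in the whole group -/
theorem frattini_core_normal (r : ℕ) [Fact r.Prime] :
    ((frattini ↥(Cfsg.pCore r M)).map (Cfsg.pCore r M).subtype).Normal := by
  haveI := Solv.pCore_normal (G := M) r
  refine ⟨fun n hn g => ?_⟩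
  obtain ⟨u, hu, rfl⟩ := hn
  refine ⟨MulAut.conjNormal g u, ?_, MulAut.conjNormal_apply g u⟩
  rw [← Subgroup.characteristic_iff_map_eq.1 (inferInstance : (frattini ↥(Cfsg.pCore r M)).Characteristic)
    (MulAut.conjNormal g)]
  exact ⟨u, hu, rfl⟩

/-- an `r'`-element of this kind centralises `O_r` -/
theorem centralizes_core {r : ℕ} [Fact r.Prime] (hr : r ≠ 2) (hrq : r ≠ q) {w x : M} (hw : w * w = 1)
    (hwx : w * x * w⁻¹ = x⁻¹) (hx : ∃ k : ℕ, orderOf x = q ^ k) (hqo : q ≠ 2)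
    (hfix : ∀ v ∈ Cfsg.pCore r M, w * v * w⁻¹ = v → x * v = v * x) :
    x ∈ Subgroup.centralizer (Cfsg.pCore r M : Set M) := by
  haveI := Solv.pCore_normal (G := M) r
  obtain ⟨N, hN⟩ : ∃ N, N = (frattini ↥(Cfsg.pCore r M)).map (Cfsg.pCore r M).subtype := ⟨_, rfl⟩
  haveI : N.Normal := hN ▸ frattini_core_normal r
  have hquad := quadratic_frattini hr hw hwx hfix hN
  obtain ⟨k, hk⟩ := hx
  have hy : x * x ∈ Subgroup.centralizer (Cfsg.pCore r M : Set M) := by
    refine Solv.centralizes_of_frattini _ (Solv.pCore_isPGroup r) (x * x) (by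
      rw [Subgroup.normalizer_eq_top]; trivial) ?_ fun v hv => ?_
    · refine Nat.Coprime.coprime_dvd_left (?_ : orderOf (x * x) ∣ q ^ k) (Nat.Coprime.pow_left k
        ((Nat.coprime_primes hq.out Fact.out).2 (Ne.symm hrq)))
      refine orderOf_dvd_of_pow_eq_one ?_
      rw [← pow_two, ← pow_mul, mul_comm, pow_mul, ← hk, pow_orderOf_eq_one, one_pow]
    · rw [← hN, ← QuotientGroup.eq_one_iff, ← QuotientGroup.mk'_apply, map_commutatorElement,
        commutatorElement_eq_one_iff_commute, QuotientGroup.mk'_apply, QuotientGroup.mk'_apply]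
      obtain ⟨y, hy⟩ : ∃ y : M ⧸ N, y = ((x * x : M) : M ⧸ N) := ⟨_, rfl⟩
      obtain ⟨d, hd⟩ : ∃ d : M ⧸ N, d = ⁅y, (v : M ⧸ N)⁆ := ⟨_, rfl⟩
      have hyd : Commute y d := hd ▸ hy ▸ hquad v hv
      have hn : ∀ n : ℕ, y ^ n * (v : M ⧸ N) * (y ^ n)⁻¹ = d ^ n * v := by
        intro n
        induction n with
        | zero => simp
        | succ n ih =>
          calc y ^ (n + 1) * (v : M ⧸ N) * (y ^ (n + 1))⁻¹
              = y * (y ^ n * (v : M ⧸ N) * (y ^ n)⁻¹) * y⁻¹ := by rw [pow_succ']; group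
            _ = (y * d ^ n * y⁻¹) * (y * (v : M ⧸ N) * y⁻¹) := by rw [ih]; group
            _ = d ^ n * (d * (v : M ⧸ N)) := by
              rw [(hyd.pow_right n).eq, mul_inv_cancel_right, hd, commutatorElement_def]; group
            _ = _ := by rw [pow_succ]; group
      have hyk : y ^ (q ^ k) = 1 := by
        rw [hy, ← QuotientGroup.mk_pow, ← hk, ← pow_two, ← pow_mul, mul_comm, pow_mul, pow_orderOf_eq_one,
          one_pow, QuotientGroup.mk_one]
      have hdk : d ^ (q ^ k) = 1 := by simpa [hyk] using (hn (q ^ k)).symm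
      have hdr : d ∈ (Cfsg.pCore r M).map (QuotientGroup.mk' N) :=
        ⟨⁅x * x, v⁆, by
          rw [SetLike.mem_coe, commutatorElement_def]
          exact mul_mem ((inferInstance : (Cfsg.pCore r M).Normal).conj_mem v hv _) (inv_mem hv),
          by rw [map_commutatorElement, hd, hy]; rfl⟩
      obtain ⟨j, hj⟩ := IsPGroup.iff_orderOf.1 ((Solv.pCore_isPGroup (G := M) r).map (QuotientGroup.mk' N)) ⟨d, hdr⟩
      rw [← Subgroup.orderOf_coe] at hj
      have h1 : d = 1 := orderOf_eq_one_iff.1 (Nat.eq_one_of_dvd_coprimes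
        (((Nat.coprime_primes (Fact.out : r.Prime) hq.out).2 hrq).pow j k) (hj.dvd)
        (orderOf_dvd_of_pow_eq_one hdk))
      rw [hd, hy] at h1
      exact (commutatorElement_eq_one_iff_commute.1 h1).symm
  have hodd : Odd (orderOf x) := hk ▸ (hq.out.odd_of_ne_two hqo).pow
  obtain ⟨j, hj⟩ := exists_pow_eq_self_of_coprime (G := M) (x := x) hodd.coprime_two_left
  rw [← hj, pow_two]
  exact pow_mem hy j

/-- Without an `SL₂(q)` section a `q`-element inverted by an involution `w` and centralising the fixed points of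
`w` in every `O_r` lies in `O_q`, provided the Fitting subgroup has odd order and contains its centraliser. -/
theorem mem_pCore (hq2 : q ≠ 2) (hfree : ¬ Cfsg.Involves (Matrix.SpecialLinearGroup (Fin 2) (ZMod q)) M)
    (hC : Subgroup.centralizer (Cfsg.fittingSubgroup M : Set M) ≤ Cfsg.fittingSubgroup M)
    (hFodd : Odd (Nat.card ↥(Cfsg.fittingSubgroup M))) {w x : M} (hw : w * w = 1)
    (hwx : w * x * w⁻¹ = x⁻¹) (hx : ∃ k : ℕ, orderOf x = q ^ k)
    (hfix : ∀ r : ℕ, r.Prime → ∀ v ∈ Cfsg.pCore r M, w * v * w⁻¹ = v → x * v = v * x) :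
    x ∈ Cfsg.pCore q M := by
  haveI := Solv.pCore_normal (G := M) q
  have hcore2 : ∀ r : ℕ, r.Prime → Cfsg.pCore r M ≠ ⊥ → r ≠ 2 := by
    intro r hr hne
    haveI := Fact.mk hr
    haveI : Nontrivial ↥(Cfsg.pCore r M) := (Subgroup.nontrivial_iff_ne_bot _).2 hne
    obtain ⟨j, hj, hj'⟩ := (IsPGroup.nontrivial_iff_card (Solv.pCore_isPGroup (G := M) r)).1 inferInstance
    rintro rfl
    exact Nat.not_even_iff_odd.2 (hFodd.of_dvd_nat (hj' ▸ Subgroup.card_dvd_of_le (Solv.pCore_le_fitting 2)))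
      (Nat.even_pow.2 ⟨even_two, hj.ne'⟩)
  -- the part acting on the Frattini factor of `O_q`
  obtain ⟨N, hN⟩ : ∃ N, N = (frattini ↥(Cfsg.pCore q M)).map (Cfsg.pCore q M).subtype := ⟨_, rfl⟩
  haveI : N.Normal := hN ▸ frattini_core_normal q
  obtain ⟨f, hf⟩ : ∃ f : M →* M ⧸ N, f = QuotientGroup.mk' N := ⟨_, rfl⟩
  obtain ⟨V, hV⟩ : ∃ V, V = (Cfsg.pCore q M).map f := ⟨_, rfl⟩
  haveI : V.Normal := hV ▸ Subgroup.Normal.map inferInstance f (hf ▸ QuotientGroup.mk'_surjective N)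
  obtain ⟨g, hg⟩ : ∃ g : M →* (M ⧸ N) ⧸ Subgroup.centralizer (V : Set (M ⧸ N)),
      g = (QuotientGroup.mk' _).comp f := ⟨_, rfl⟩
  obtain ⟨D, hD⟩ : ∃ D, D = (Cfsg.pCore q ((M ⧸ N) ⧸ Subgroup.centralizer (V : Set (M ⧸ N)))).comap g := ⟨_, rfl⟩
  obtain ⟨k, hk⟩ := hx
  have hxD : x * x ∈ D := by
    rw [hD, Subgroup.mem_comap, hg, MonoidHom.comp_apply]
    refine isPStableOn_of_not_involves_sl2 hq2
      (fun h => hfree (involves_trans h (involves_surjective involves_refl f (hf ▸ QuotientGroup.mk'_surjective N))))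
      V (hV ▸ (Solv.pCore_isPGroup q).map f) (f (x * x)) ?_
    rw [eq_bot_iff, Subgroup.commutator_le]
    intro c hc b hb
    obtain ⟨i, rfl⟩ := Subgroup.mem_zpowers_iff.1 hb
    suffices h : Commute c (f (x * x)) by
      rw [Subgroup.mem_bot, commutatorElement_eq_one_iff_commute]
      exact h.zpow_right i
    have hcomm : ⁅V, Subgroup.zpowers (f (x * x))⁆ ≤ Subgroup.centralizer ({f (x * x)} : Set (M ⧸ N)) := by
      by_cases h0 : Cfsg.pCore q M = ⊥
      · rw [hV, h0, Subgroup.map_bot, Subgroup.commutator_bot_left]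
        exact bot_le
      have hquad := quadratic_frattini (hcore2 q hq.out h0) hw hwx (hfix q hq.out) hN
      rw [Subgroup.commutator_le]
      rintro v hv b' hb'
      obtain ⟨n, rfl⟩ : ∃ n : ℕ, b' = f (x * x) ^ n := by
        obtain ⟨n, hn⟩ := (isOfFinOrder_of_finite _).mem_powers_iff_mem_zpowers.2 hb'
        exact ⟨n, hn.symm⟩
      rw [hV] at hv
      obtain ⟨v₀, hv₀, rfl⟩ := hv
      obtain ⟨y, hy⟩ : ∃ y : M ⧸ N, y = f (x * x) := ⟨_, rfl⟩
      obtain ⟨d, hd⟩ : ∃ d : M ⧸ N, d = ⁅y, f v₀⁆ := ⟨_, rfl⟩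
      have hyd : Commute y d := by
        rw [hd, hy, hf]; exact hquad v₀ hv₀
      rw [← hy, Subgroup.mem_centralizer_singleton_iff]
      have hn : y ^ n * f v₀ * (y ^ n)⁻¹ = d ^ n * f v₀ := by
        clear hb'
        induction n with
        | zero => simp
        | succ n ih =>
          calc y ^ (n + 1) * f v₀ * (y ^ (n + 1))⁻¹ = y * (y ^ n * f v₀ * (y ^ n)⁻¹) * y⁻¹ := by rw [pow_succ']; group
            _ = (y * d ^ n * y⁻¹) * (y * f v₀ * y⁻¹) := by rw [ih]; group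
            _ = d ^ n * (d * f v₀) := by
              rw [(hyd.pow_right n).eq, mul_inv_cancel_right, hd, commutatorElement_def]; group
            _ = _ := by rw [pow_succ]; group
      have hc' : ⁅f v₀, y ^ n⁆ = (d ^ n)⁻¹ := by
        calc ⁅f v₀, y ^ n⁆ = f v₀ * (y ^ n * f v₀ * (y ^ n)⁻¹)⁻¹ := by rw [commutatorElement_def]; group
          _ = _ := by rw [hn]; group
      rw [hc']
      exact ((hyd.pow_right n).inv_right.eq).symm
    exact Subgroup.mem_centralizer_singleton_iff.1 (hcomm hc)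
  have hodd : Odd (orderOf x) := hk ▸ (hq.out.odd_of_ne_two hq2).pow
  obtain ⟨j, hj⟩ := exists_pow_eq_self_of_coprime (G := M) (x := x) hodd.coprime_two_left
  have hxD' : x ∈ D := by rw [← hj, pow_two]; exact pow_mem hxD j
  -- the elements of `D` centralising the other cores form a nilpotent normal subgroup
  obtain ⟨K, hK⟩ : ∃ K, K = D ⊓ ⨅ r : {r : Nat.Primes // (r : ℕ) ≠ q},
      Subgroup.centralizer (Cfsg.pCore (r.1 : ℕ) M : Set M) := ⟨_, rfl⟩
  haveI : (Cfsg.pCore q ((M ⧸ N) ⧸ Subgroup.centralizer (V : Set (M ⧸ N)))).Normal := Solv.pCore_normal q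
  haveI hDn : D.Normal := hD ▸ Subgroup.Normal.comap inferInstance g
  haveI hKn : K.Normal := by
    rw [hK]
    haveI : (⨅ r : {r : Nat.Primes // (r : ℕ) ≠ q},
        Subgroup.centralizer (Cfsg.pCore (r.1 : ℕ) M : Set M)).Normal :=
      Subgroup.normal_iInf_normal fun r => by
        haveI := Solv.pCore_normal (G := M) (r.1 : ℕ)
        infer_instance
    infer_instance
  have hxK : x ∈ K := by
    rw [hK, Subgroup.mem_inf, Subgroup.mem_iInf]
    refine ⟨hxD', fun r => ?_⟩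
    haveI := Fact.mk r.1.2
    by_cases h0 : Cfsg.pCore (r.1 : ℕ) M = ⊥
    · rw [h0]
      exact Subgroup.mem_centralizer_iff.2 fun v hv => by
        rw [SetLike.mem_coe, Subgroup.mem_bot] at hv; rw [hv, one_mul, mul_one]
    · exact centralizes_core q (hcore2 _ r.1.2 h0) r.2 hw hwx ⟨k, hk⟩ hq2 (hfix _ r.1.2)
  haveI hnil : Group.IsNilpotent ↥K := by
    refine Solv.MaxCentralizer.nilpotent_of_central (p := q) fun s hs hsq z m hz => ?_
    rw [← Subgroup.orderOf_coe] at hz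
    have hz2 := hK.le z.2
    rw [Subgroup.mem_inf, Subgroup.mem_iInf] at hz2
    have hzD : (z : M) ∈ D := hz2.1
    have hzC : ∀ r : {r : Nat.Primes // (r : ℕ) ≠ q}, (z : M) ∈ Subgroup.centralizer (Cfsg.pCore (r.1 : ℕ) M : Set M) :=
      hz2.2
    have hco : (orderOf (z : M)).Coprime q :=
      hz ▸ Nat.Coprime.pow_left m ((Nat.coprime_primes hs.out hq.out).2 hsq)
    have hzP : (z : M) ∈ Subgroup.centralizer (Cfsg.pCore q M : Set M) := by
      refine Solv.centralizes_of_frattini _ (Solv.pCore_isPGroup q) _ (by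
        rw [Subgroup.normalizer_eq_top]; trivial) hco fun v hv => ?_
      rw [hD, Subgroup.mem_comap] at hzD
      obtain ⟨i, hi⟩ := IsPGroup.iff_orderOf.1 (Solv.pCore_isPGroup q) ⟨g (z : M), hzD⟩
      rw [← Subgroup.orderOf_coe] at hi
      have h1 : g (z : M) = 1 := orderOf_eq_one_iff.1 (Nat.eq_one_of_dvd_coprimes
        (hco.pow_right i) (orderOf_map_dvd g _) hi.dvd)
      rw [hg, MonoidHom.comp_apply, QuotientGroup.mk'_apply, QuotientGroup.eq_one_iff] at h1
      have h2 := Subgroup.mem_centralizer_iff.1 h1 (f v) (hV ▸ Subgroup.mem_map_of_mem f hv)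
      rw [← hN, ← QuotientGroup.eq_one_iff, ← QuotientGroup.mk'_apply, map_commutatorElement,
        commutatorElement_eq_one_iff_mul_comm]
      exact hf ▸ h2
    have hzF : (z : M) ∈ Cfsg.fittingSubgroup M := hC <| by
      have hle : Cfsg.fittingSubgroup M ≤ Subgroup.centralizer ({(z : M)} : Set M) := by
        rw [Solv.fitting_eq_iSup_pCore, iSup_le_iff]
        intro r v hv
        refine Subgroup.mem_centralizer_singleton_iff.2 ?_
        by_cases hr : (r : ℕ) = q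
        · exact Subgroup.mem_centralizer_iff.1 hzP v (hr ▸ hv)
        · exact Subgroup.mem_centralizer_iff.1 (hzC ⟨r, hr⟩) v hv
      exact Subgroup.mem_centralizer_iff.2 fun v hv => Subgroup.mem_centralizer_singleton_iff.1 (hle hv)
    have hzs : (z : M) ∈ Cfsg.pCore s M :=
      Solv.pgroup_le_pCore_of_le_fitting (A := Subgroup.zpowers (z : M))
        (IsPGroup.of_card (n := m) (by rw [Nat.card_zpowers, hz])) (Subgroup.zpowers_le.2 hzF)
        (Subgroup.mem_zpowers _)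
    rw [Subgroup.mem_center_iff]
    intro b
    refine Subtype.ext ?_
    have hb2 := hK.le b.2
    rw [Subgroup.mem_inf, Subgroup.mem_iInf] at hb2
    have hbC := hb2.2 ⟨⟨s, hs.out⟩, hsq⟩
    exact (Subgroup.mem_centralizer_iff.1 hbC (z : M) hzs).symm
  have hxF : x ∈ Cfsg.fittingSubgroup M := Solv.normal_le_fitting hnil hxK
  exact Solv.pgroup_le_pCore_of_le_fitting (A := Subgroup.zpowers x)
    (IsPGroup.of_card (n := k) (by rw [Nat.card_zpowers, hk])) (Subgroup.zpowers_le.2 hxF)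
    (Subgroup.mem_zpowers x)

end Cfsg.Agent.GW
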