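import Cfsg.Agent.Lib.GW.GoodMax
import Cfsg.Agent.Lib.GW.Quadratic
import Cfsg.Agent.Lib.Solv.Generation
import Cfsg.Agent.Lib.Fusion.Cores

/-!
# The Fitting subgroups of `M` and of its conjugate by `ρ²` meet

Step (4) of the uniqueness argument for dihedral Sylow `2`-subgroups.
-/

set_option autoImplicit false
set_option linter.unusedSectionVars false
set_option linter.style.haveILetI false

namespace Cfsg.Agent.GW

open Cfsg Cfsg.Agent
open scoped commutatorElement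

universe w

variable {G : Type w} [Group G] [Finite G] [IsSimpleGroup G]

/-- conjugation carries `O_q(M)` to `O_q` of the conjugate -/
theorem fq_map (q : ℕ) [Fact q.Prime] (g : G) (M : Subgroup G) :
    fq q (M.map (MulAut.conj g).toMonoidHom) = (fq q M).map (MulAut.conj g).toMonoidHom := by
  have h := Fusion.map_pCore_equiv (p := q)
    (M.equivMapOfInjective (MulAut.conj g).toMonoidHom (MulAut.conj g).injective)
  unfold fq
  rw [← h, Subgroup.map_map, Subgroup.map_map]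
  rfl

/-- a group of odd order normalised by a four group is generated by the three centralisers -/
theorem four_gen {t u : G} (ht2 : t * t = 1) (hu2 : u * u = 1) (htu : Commute t u) (ht1 : t ≠ 1) (hu1 : u ≠ 1)
    (hne : u ≠ t) {Q : Subgroup G} (hodd : Odd (Nat.card ↥Q)) (htQ : t ∈ Subgroup.normalizer (Q : Set G))
    (huQ : u ∈ Subgroup.normalizer (Q : Set G)) (h1 : ∀ x ∈ Q, Commute x u → Commute x t)
    (h2 : ∀ x ∈ Q, Commute x (t * u) → Commute x t) : Q ≤ Subgroup.centralizer ({t} : Set G) := by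
  obtain ⟨U, hUdef⟩ : ∃ U, U = Subgroup.closure ({t, u} : Set G) := ⟨_, rfl⟩
  have hUc : IsMulCommutative U := by
    rw [hUdef]
    refine Subgroup.isMulCommutative_closure ?_
    rintro a (rfl | rfl) b (rfl | rfl)
    exacts [rfl, htu.eq, htu.eq.symm, rfl]
  have hUQ : U ≤ Subgroup.normalizer (Q : Set G) := by
    rw [hUdef, Subgroup.closure_le]
    rintro a (rfl | rfl)
    exacts [htQ, huQ]
  have hU4 : IsPGroup 2 U := fun ⟨a, ha⟩ => ⟨1, by
    rw [pow_one, pow_two]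
    refine Subtype.ext ?_
    show a * a = 1
    revert ha
    rw [hUdef]
    intro ha
    induction ha using Subgroup.closure_induction with
    | mem b hb => exact hb.elim (fun h => h ▸ ht2) fun h => (Set.mem_singleton_iff.1 h) ▸ hu2
    | one => rw [mul_one]
    | mul b c hb hc ihb ihc =>
      have hbc : b * c = c * b :=
        congrArg Subtype.val (hUc.is_comm.comm (⟨b, hUdef ▸ hb⟩ : U) ⟨c, hUdef ▸ hc⟩)
      calc b * c * (b * c) = b * (c * b) * c := by group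
        _ = b * b * (c * c) := by rw [← hbc]; group
        _ = 1 := by rw [ihb, ihc, one_mul]
    | inv b _ ih => rw [← mul_inv_rev, ih, inv_one]⟩
  have hco : (Nat.card U).Coprime (Nat.card Q) := by
    haveI : Fact (Nat.Prime 2) := ⟨Nat.prime_two⟩
    obtain ⟨k, hk⟩ := IsPGroup.iff_card.1 hU4
    rw [hk]
    exact Nat.Coprime.pow_left k hodd.coprime_two_left
  have htu2 : t * u * (t * u) = 1 := by
    rw [mul_assoc, ← mul_assoc u, ← htu.eq, mul_assoc t u, hu2, mul_one, ht2]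
  rw [← Solv.gen_eq U Q hUc hUQ hco]
  refine iSup₂_le fun B hB x hx => ?_
  obtain ⟨hBU, a, ha, hBa⟩ := hB
  have hinv : ∀ b ∈ U, b = 1 ∨ b = t ∨ b = u ∨ b = t * u := by
    intro b hb
    rw [hUdef] at hb
    have hti : t⁻¹ = t := inv_eq_of_mul_eq_one_right ht2
    have hui : u⁻¹ = u := inv_eq_of_mul_eq_one_right hu2
    induction hb using Subgroup.closure_induction with
    | mem b hb => exact hb.elim (fun h => Or.inr (Or.inl h)) fun h => Or.inr (Or.inr (Or.inl h))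
    | one => simp
    | mul a b _ _ iha ihb =>
      rcases iha with h | h | h | h <;> rcases ihb with h' | h' | h' | h' <;> rw [h, h'] <;>
        first
          | exact Or.inr (Or.inl (by rw [← mul_assoc, ← htu.eq, mul_assoc, hu2, mul_one]))
          | simp [ht2, hu2, htu2, htu.eq.symm, mul_assoc, ← mul_assoc t t, ← mul_assoc u u]
    | inv a _ iha =>
      rcases iha with h | h | h | h <;> rw [h] <;> simp [hti, hui, htu.eq]
  have hBne : ∃ b ∈ B, b = t ∨ b = u ∨ b = t * u := by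
    by_contra hcon
    push Not at hcon
    have hB1 : B = ⊥ := (Subgroup.eq_bot_iff_forall B).2 fun b hb => by
      rcases hinv b (hBU hb) with h | h | h | h
      · exact h
      all_goals exact absurd h (by have := hcon b hb; tauto)
    rw [hB1, bot_sup_eq] at hBa
    have htm : t ∈ Subgroup.zpowers a := hBa ▸ hUdef ▸ Subgroup.subset_closure (Or.inl rfl)
    have hum : u ∈ Subgroup.zpowers a := hBa ▸ hUdef ▸ Subgroup.subset_closure (Or.inr rfl)
    have ha2 : a ^ (2 : ℤ) = 1 := by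
      rw [zpow_two]
      rcases hinv a ha with rfl | rfl | rfl | rfl <;> simp [ht2, hu2, htu2]
    have key : ∀ b ∈ Subgroup.zpowers a, b = 1 ∨ b = a := by
      rintro b ⟨i, rfl⟩
      rcases Int.even_or_odd i with ⟨j, rfl⟩ | ⟨j, rfl⟩
      · left
        show a ^ (j + j) = 1
        rw [← two_mul, zpow_mul, ha2, one_zpow]
      · right
        show a ^ (2 * j + 1) = a
        rw [zpow_add, zpow_mul, ha2, one_zpow, one_mul, zpow_one]
    exact hne (((key u hum).resolve_left hu1).trans ((key t htm).resolve_left ht1).symm)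
  obtain ⟨b, hbB, hb⟩ := hBne
  have hxb : Commute x b := (Subgroup.mem_centralizer_iff.1 hx.2 b hbB).symm
  refine Subgroup.mem_centralizer_singleton_iff.2 ?_
  rcases hb with rfl | rfl | rfl
  · exact hxb.eq
  · exact (h1 x hx.1 hxb).eq
  · exact (h2 x hx.1 hxb).eq

/-- the involution relations of `ρ` -/
theorem rho_sq {t u ρ : G} (hu : u * u = 1) (htu : Commute t u) (hρt : ρ * t * ρ⁻¹ = u)
    (hρu : ρ * u * ρ⁻¹ = t * u) :
    ρ * (t * u) * ρ⁻¹ = t ∧ ρ * ρ * t * (ρ * ρ)⁻¹ = t * u ∧ ρ * ρ * u * (ρ * ρ)⁻¹ = t ∧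
      ρ * ρ * (t * u) * (ρ * ρ)⁻¹ = u := by
  have h3 : ρ * (t * u) * ρ⁻¹ = t := by
    calc ρ * (t * u) * ρ⁻¹ = (ρ * t * ρ⁻¹) * (ρ * u * ρ⁻¹) := by group
      _ = u * t * u := by rw [hρt, hρu, mul_assoc]
      _ = t := by rw [← htu.eq, mul_assoc, hu, mul_one]
  refine ⟨h3, ?_, ?_, ?_⟩
  · calc ρ * ρ * t * (ρ * ρ)⁻¹ = ρ * (ρ * t * ρ⁻¹) * ρ⁻¹ := by group
      _ = _ := by rw [hρt, hρu]
  · calc ρ * ρ * u * (ρ * ρ)⁻¹ = ρ * (ρ * u * ρ⁻¹) * ρ⁻¹ := by group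
      _ = _ := by rw [hρu, h3]
  · calc ρ * ρ * (t * u) * (ρ * ρ)⁻¹ = ρ * (ρ * (t * u) * ρ⁻¹) * ρ⁻¹ := by group
      _ = _ := by rw [h3, hρt]

/-- an element of `O_q(M^ρ²) ∩ C(t)` inverted by `u` -/
theorem exists_moved {t u ρ : G} (ht : t * t = 1) (hu : u * u = 1) (htu : Commute t u)
    (hρt : ρ * t * ρ⁻¹ = u) (hρu : ρ * u * ρ⁻¹ = t * u) {M : Subgroup G}
    (hC : Subgroup.centralizer ({t} : Set G) ≤ M) {q : ℕ} [Fact q.Prime]
    (hnc : ¬ ∀ v ∈ fq q M, Commute v u → Commute v t) :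
    ∃ x ∈ (fq q M).map (MulAut.conj (ρ * ρ)).toMonoidHom, x ≠ 1 ∧ Commute x t ∧ u * x * u⁻¹ = x⁻¹ ∧
      (t * u) * x * (t * u)⁻¹ = x⁻¹ := by
  obtain ⟨-, hσt, hσu, hσtu⟩ := rho_sq hu htu hρt hρu
  simp only [not_forall] at hnc
  obtain ⟨v, hv, hvu, hvt⟩ := hnc
  obtain ⟨σ, hσ⟩ : ∃ σ, σ = ρ * ρ := ⟨_, rfl⟩
  rw [← hσ] at hσt hσu hσtu ⊢
  obtain ⟨y, hy⟩ : ∃ y, y = σ * v * σ⁻¹ := ⟨_, rfl⟩
  have hyt : Commute y t := by
    have := (Commute.conj_iff σ).2 hvu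
    rwa [hσu, ← hy] at this
  have hyu : ¬ Commute y u := by
    intro h
    have hvtu : Commute v (t * u) := (Commute.conj_iff σ).1 (by rwa [hσtu, ← hy])
    refine hvt ?_
    have := hvtu.mul_right hvu
    rwa [mul_assoc, hu, mul_one] at this
  have hui : u⁻¹ = u := inv_eq_of_mul_eq_one_right hu
  obtain ⟨x, hx⟩ : ∃ x, x = y⁻¹ * (u * y * u⁻¹) := ⟨_, rfl⟩
  have huM : t * u ∈ M := by
    refine hC (Subgroup.mem_centralizer_singleton_iff.2 ?_)
    exact ((Commute.refl t).mul_right htu).eq.symm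
  have hxQ : x ∈ (fq q M).map (MulAut.conj σ).toMonoidHom := by
    refine ⟨v⁻¹ * ((t * u) * v * (t * u)⁻¹), mul_mem (inv_mem hv) (conj_fq Fact.out huM hv), ?_⟩
    show σ * (v⁻¹ * ((t * u) * v * (t * u)⁻¹)) * σ⁻¹ = x
    calc σ * (v⁻¹ * ((t * u) * v * (t * u)⁻¹)) * σ⁻¹ = (σ * v * σ⁻¹)⁻¹ *
          ((σ * (t * u) * σ⁻¹) * (σ * v * σ⁻¹) * (σ * (t * u) * σ⁻¹)⁻¹) := by group
      _ = x := by rw [hσtu, ← hy, hx]
  have hxt : Commute x t := hx ▸ (hyt.inv_left.mul_left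
    ((htu.symm.mul_left hyt).mul_left htu.symm.inv_left))
  have hxu : u * x * u⁻¹ = x⁻¹ := by
    rw [hx]
    calc u * (y⁻¹ * (u * y * u⁻¹)) * u⁻¹ = u * y⁻¹ * u⁻¹ * ((u * u) * y * (u * u)⁻¹) := by group
      _ = _ := by rw [hu]; group
  refine ⟨x, hxQ, ?_, hxt, hxu, ?_⟩
  · intro h
    rw [hx, inv_mul_eq_one] at h
    refine hyu ?_
    show y * u = u * y
    nth_rw 1 [h]
    rw [inv_mul_cancel_right]
  · calc (t * u) * x * (t * u)⁻¹ = t * (u * x * u⁻¹) * t⁻¹ := by group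
      _ = x⁻¹ := by rw [hxu, ← hxt.inv_left.eq, mul_inv_cancel_right]

/-- Step (4): `O_q(M) ∩ O_q(M^ρ²) ≠ 1`. -/
theorem meet_ne_bot {t u ρ : G} (ht : t * t = 1) (hu : u * u = 1) (htu : Commute t u)
    (hρt : ρ * t * ρ⁻¹ = u) (hρu : ρ * u * ρ⁻¹ = t * u) {M : Subgroup G} (hM : Over t M) {q : ℕ} [hq : Fact q.Prime]
    (hq2 : q ≠ 2) (hfree : ¬ Cfsg.Involves (Matrix.SpecialLinearGroup (Fin 2) (ZMod q)) G)
    (hnc : ¬ ∀ v ∈ fq q M, Commute v u → Commute v t) :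
    fq q M ⊓ (fq q M).map (MulAut.conj (ρ * ρ)).toMonoidHom ≠ ⊥ := by
  intro hD
  obtain ⟨x, hxQ, hx1, hxt, -, hxtu⟩ := exists_moved ht hu htu hρt hρu hM.le hnc
  obtain ⟨-, hσt, -, -⟩ := rho_sq hu htu hρt hρu
  obtain ⟨σ, hσ⟩ : ∃ σ, σ = ρ * ρ := ⟨_, rfl⟩
  rw [← hσ] at hxQ hD hσt
  have htuM : t * u ∈ M := hM.le (Subgroup.mem_centralizer_singleton_iff.2 ((Commute.refl t).mul_right htu).eq.symm)
  have hxM : x ∈ M := hM.le (Subgroup.mem_centralizer_singleton_iff.2 hxt.eq)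
  have hQp : IsPGroup q ↥((fq q M).map (MulAut.conj σ).toMonoidHom) :=
    ((Solv.pCore_isPGroup q).map _).map _
  have hfix : ∀ r : ℕ, r.Prime → ∀ v ∈ Cfsg.pCore r ↥M,
      (⟨t * u, htuM⟩ : ↥M) * v * (⟨t * u, htuM⟩ : ↥M)⁻¹ = v → (⟨x, hxM⟩ : ↥M) * v = v * ⟨x, hxM⟩ := by
    intro r hr v hv hvw
    haveI := Fact.mk hr
    haveI := Solv.pCore_normal (G := ↥M) r
    have hvw' : t * u * (v : G) = v * (t * u) := by
      have := congrArg Subtype.val hvw
      exact mul_inv_eq_iff_eq_mul.1 this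
    -- `v` lies in the conjugate of `M`
    have hv2 : σ⁻¹ * (v : G) * σ ∈ M := by
      refine hM.le (Subgroup.mem_centralizer_singleton_iff.2 ?_)
      calc σ⁻¹ * (v : G) * σ * t = σ⁻¹ * ((v : G) * (σ * t * σ⁻¹)) * σ := by group
        _ = σ⁻¹ * (σ * t * σ⁻¹ * v) * σ := by rw [hσt, hvw']
        _ = _ := by group
    refine Subtype.ext ?_
    obtain ⟨c, hc⟩ : ∃ c, c = x * (v : G) * x⁻¹ * (v : G)⁻¹ := ⟨_, rfl⟩
    have hcQ : c ∈ (fq q M).map (MulAut.conj σ).toMonoidHom := by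
      rw [hc, mul_assoc, mul_assoc]
      refine mul_mem hxQ ?_
      obtain ⟨x₀, hx₀, hxe⟩ := inv_mem hxQ
      refine ⟨σ⁻¹ * (v : G) * σ * x₀ * (σ⁻¹ * (v : G) * σ)⁻¹, conj_fq hq.out hv2 hx₀, ?_⟩
      rw [← hxe]
      simp [MulAut.conj_apply, mul_assoc]
    have hcv : c ∈ fq r M := hc ▸ mul_mem (conj_fq hr hxM ⟨v, hv, rfl⟩) (inv_mem ⟨v, hv, rfl⟩)
    have hc1 : c = 1 := by
      by_cases hrq : r = q
      · subst hrq
        exact Subgroup.mem_bot.1 (hD ▸ ⟨hcv, hcQ⟩)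
      obtain ⟨i, hi⟩ := hQp ⟨c, hcQ⟩
      obtain ⟨j, hj⟩ := (Solv.pCore_isPGroup (G := ↥M) r).map M.subtype ⟨c, hcv⟩
      exact orderOf_eq_one_iff.1 (Nat.eq_one_of_dvd_coprimes
        (((Nat.coprime_primes hr hq.out).2 hrq).pow j i)
        (orderOf_dvd_of_pow_eq_one (by simpa [SubgroupClass.coe_pow] using congrArg Subtype.val hj))
        (orderOf_dvd_of_pow_eq_one (by have := congrArg Subtype.val hi; rwa [SubgroupClass.coe_pow] at this)))
    rw [hc, mul_inv_eq_one, mul_inv_eq_iff_eq_mul] at hc1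
    exact hc1
  have hord : ∃ k : ℕ, orderOf (⟨x, hxM⟩ : ↥M) = q ^ k := by
    obtain ⟨k, hk⟩ := IsPGroup.iff_orderOf.1 hQp ⟨x, hxQ⟩
    exact ⟨k, by rw [← hk, Subgroup.orderOf_mk, Subgroup.orderOf_mk]⟩
  have hcen : Subgroup.centralizer (Cfsg.fittingSubgroup ↥M : Set ↥M) ≤ Cfsg.fittingSubgroup ↥M := by
    exact fit_self_centralizing hM.nolayer
  have hmem := mem_pCore q hq2 (fun h => hfree (Fusion.involves_trans h (Fusion.involves_subgroup Fusion.involves_refl M)))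
    hcen hM.odd (w := ⟨t * u, htuM⟩) (x := ⟨x, hxM⟩)
    (Subtype.ext (by show t * u * (t * u) = 1; rw [mul_assoc, ← mul_assoc u, ← htu.eq, mul_assoc t u, hu, mul_one, ht]))
    (Subtype.ext hxtu) hord hfix
  exact hx1 (Subgroup.mem_bot.1 (hD ▸ ⟨⟨_, hmem, rfl⟩, hxQ⟩))

end Cfsg.Agent.GW
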