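import Cfsg.Agent.Lib.GW.Reduce
import Cfsg.Agent.Lib.Fusion.Sections
import Cfsg.Agent.Lib.Small.PSL2
import Cfsg.Agent.S0206
import Cfsg.Agent.S1254
import Cfsg.Agent.Lib.Lie.CoreFunctor
import Cfsg.Prelude.Def_Classification2

/-!
# Facts about the minimal counterexample: sections, `K`-properness, no `SL₂(q)`, one class of involutions
-/

set_option autoImplicit false
set_option linter.style.haveILetI false
set_option linter.unusedSectionVars false
set_option linter.unusedSimpArgs false

namespace Cfsg.Agent.GW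

open Cfsg Cfsg.Agent Cfsg.Agent.GW.Reduced

universe u v

variable {G : Type u} [Group G] [Finite G]

/-- A homomorphic image of a dihedral group is cyclic or dihedral of order at least four. -/
theorem dihedral_image {m : ℕ} [NeZero m] {Y : Type v} [Group Y] [Finite Y] (f : DihedralGroup m →* Y)
    (hf : Function.Surjective f) : IsCyclic Y ∨ ∃ k, 2 ≤ k ∧ Nonempty (Y ≃* DihedralGroup k) := by
  set a := f (DihedralGroup.sr 0) with ha
  set b := f (DihedralGroup.sr 1) with hb
  have ha2 : a * a = 1 := by rw [ha, ← map_mul, DihedralGroup.sr_mul_sr, sub_self, ← DihedralGroup.one_def, map_one]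
  have hb2 : b * b = 1 := by rw [hb, ← map_mul, DihedralGroup.sr_mul_sr, sub_self, ← DihedralGroup.one_def, map_one]
  have hgen : Subgroup.closure ({a, b} : Set Y) = ⊤ := by
    rw [eq_top_iff]
    intro y _
    obtain ⟨d, rfl⟩ := hf y
    have hr : f (DihedralGroup.r 1) ∈ Subgroup.closure ({a, b} : Set Y) := by
      rw [show (DihedralGroup.r 1 : DihedralGroup m) = DihedralGroup.sr 0 * DihedralGroup.sr 1 by
        rw [DihedralGroup.sr_mul_sr, sub_zero], map_mul]
      exact Subgroup.mul_mem _ (Subgroup.subset_closure (Or.inl rfl)) (Subgroup.subset_closure (Or.inr rfl))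
    rcases d with i | i
    · rw [← ZMod.natCast_rightInverse i, ← DihedralGroup.r_one_pow, map_pow]
      exact Subgroup.pow_mem _ hr _
    · rw [show (DihedralGroup.sr i : DihedralGroup m) = DihedralGroup.sr 0 * DihedralGroup.r 1 ^ i.val by
        rw [DihedralGroup.r_one_pow, DihedralGroup.sr_mul_r, zero_add, ZMod.natCast_rightInverse], map_mul, map_pow]
      exact Subgroup.mul_mem _ (Subgroup.subset_closure (Or.inl rfl)) (Subgroup.pow_mem _ hr _)
  by_cases hcyc : a = 1 ∨ b = 1 ∨ a = b
  · left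
    obtain ⟨c, hc⟩ : ∃ c : Y, Subgroup.closure ({a, b} : Set Y) ≤ Subgroup.zpowers c := by
      rcases hcyc with h | h | h
      · exact ⟨b, (Subgroup.closure_le _).2 (by rintro x (rfl | rfl); exacts [h ▸ Subgroup.one_mem _, Subgroup.mem_zpowers _])⟩
      · exact ⟨a, (Subgroup.closure_le _).2 (by rintro x (rfl | rfl); exacts [Subgroup.mem_zpowers _, h ▸ Subgroup.one_mem _])⟩
      · exact ⟨a, (Subgroup.closure_le _).2 (by rintro x (rfl | rfl); exacts [Subgroup.mem_zpowers _, h ▸ Subgroup.mem_zpowers _])⟩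
    exact ⟨⟨c, fun y => hc (hgen ▸ Subgroup.mem_top y)⟩⟩
  · push Not at hcyc
    have hao : orderOf a = 2 := orderOf_eq_prime (by rw [pow_two, ha2]) hcyc.1
    have hbo : orderOf b = 2 := orderOf_eq_prime (by rw [pow_two, hb2]) hcyc.2.1
    obtain ⟨e⟩ := S0206.result a b hao hbo hcyc.2.2
    refine Or.inr ⟨orderOf (a * b), ?_, ⟨(Subgroup.topEquiv.symm.trans (MulEquiv.subgroupCongr hgen.symm)).trans e⟩⟩
    have h0 := orderOf_pos (a * b)
    by_contra h
    have h1 : orderOf (a * b) = 1 := by omega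
    rw [orderOf_eq_one_iff, mul_eq_one_iff_eq_inv, inv_eq_of_mul_eq_one_right hb2] at h1
    exact hcyc.2.2 h1

/-- The Sylow subgroups of a section: cyclic, or dihedral, and then images of noncyclic subgroups of `S`. -/
theorem section_sylow (S : Sylow 2 G) {n : ℕ} (e : (S : Subgroup G) ≃* DihedralGroup n) {X : Type v} [Group X]
    [Finite X] {K : Subgroup G} (f : K →* X) (hf : Function.Surjective f) (T : Sylow 2 X) :
    IsCyclic (T : Subgroup X) ∨ ∃ k, 2 ≤ k ∧ Nonempty ((T : Subgroup X) ≃* DihedralGroup k) := by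
  haveI : Fact (Nat.Prime 2) := ⟨Nat.prime_two⟩
  obtain ⟨R⟩ := (inferInstance : Nonempty (Sylow 2 K))
  obtain ⟨U, hU⟩ := (R.isPGroup'.map K.subtype).exists_le_sylow
  let g : (R : Subgroup K) ≃* (R : Subgroup K).map K.subtype := (R : Subgroup K).equivMapOfInjective _ K.subtype_injective
  let π : (R : Subgroup K) →* (R.mapSurjective hf : Subgroup X) := f.subgroupMap (R : Subgroup K)
  have hπ : Function.Surjective π := f.subgroupMap_surjective _
  let τ : (R.mapSurjective hf : Subgroup X) ≃* (T : Subgroup X) := Sylow.equiv _ T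
  let φ : (R : Subgroup K) →* (T : Subgroup X) := τ.toMonoidHom.comp π
  have hφ : Function.Surjective φ := τ.surjective.comp hπ
  rcases two_subgroup_cases ((U.equiv S).trans e) _ hU with h | ⟨h1, h4⟩ | ⟨k, hk, ⟨d⟩⟩
  · haveI := g.isCyclic.2 h
    exact Or.inl (isCyclic_of_surjective φ hφ)
  · haveI : IsKleinFour (R : Subgroup K) := ⟨by rw [Nat.card_congr g.toEquiv, h4],
      Nat.dvd_antisymm (Monoid.exponent_dvd_of_forall_pow_eq_one fun x => g.injective (by
        rw [map_pow, map_one, pow_two]; exact Subtype.ext (h1 _ (g x).2))) (by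
        obtain ⟨x, hx⟩ := exists_prime_orderOf_dvd_card' (G := (R : Subgroup K)) 2
          (by rw [Nat.card_congr g.toEquiv, h4]; norm_num)
        simpa only [hx] using Monoid.order_dvd_exponent x)⟩
    obtain ⟨d⟩ : Nonempty ((R : Subgroup K) ≃* DihedralGroup 2) := IsKleinFour.nonempty_mulEquiv
    exact dihedral_image (φ.comp d.symm.toMonoidHom) (hφ.comp d.symm.surjective)
  · haveI : NeZero k := ⟨by omega⟩
    exact dihedral_image (φ.comp (g.trans d).symm.toMonoidHom) (hφ.comp (g.trans d).symm.surjective)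

theorem perfect_of_simple {X : Type u} [Group X] [IsSimpleGroup X] (hX : ¬ IsMulCommutative X) :
    Group.IsPerfect X :=
  ⟨((inferInstance : (commutator X).Normal).eq_bot_or_eq_top).resolve_left fun h => hX
    ⟨⟨fun a b => commutatorElement_eq_one_iff_mul_comm.1 (Subgroup.mem_bot.1 (h ▸
      Subgroup.commutator_mem_commutator (Subgroup.mem_top a) (Subgroup.mem_top b)))⟩⟩⟩

theorem even_of_simple {X : Type u} [Group X] [Finite X] [IsSimpleGroup X] (hX : ¬ IsMulCommutative X) :
    2 ∣ Nat.card X := by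
  by_contra h
  haveI : Group.IsSolvable X :=
    OddFT.odd_solvable_of_no_min (fun G _ _ h => OddFT.no_minSimple G h) (Nat.odd_iff.2 (Nat.two_dvd_ne_zero.1 h))
  exact hX ⟨⟨fun a b => IsSimpleGroup.comm_iff_isSolvable.2 inferInstance a b⟩⟩

/-- A perfect group with a four group as Sylow two-subgroup has one class of involutions. -/
theorem conj_of_four [Group.IsPerfect G] (S : Sylow 2 G) (hS4 : Nat.card (S : Subgroup G) = 4)
    (e : (S : Subgroup G) ≃* DihedralGroup (2 ^ 1)) (a b : G) (ha : orderOf a = 2) (hb : orderOf b = 2) :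
    IsConj a b := by
  classical
  haveI : Fact (Nat.Prime 2) := ⟨Nat.prime_two⟩
  haveI hK : IsKleinFour (S : Subgroup G) :=
    ⟨hS4, by rw [Monoid.exponent_eq_of_mulEquiv e]; simp [DihedralGroup.exponent]⟩
  set N := Subgroup.normalizer ((S : Subgroup G) : Set G) with hN
  let P := {s : (S : Subgroup G) // s ≠ 1}
  let act : N →* Equiv.Perm P :=
    { toFun := fun x => Equiv.Perm.subtypePerm ((S : Subgroup G).normalizerMonoidHom x).toEquiv (fun q => by simp)
      map_one' := by ext q; simp
      map_mul' := fun x y => by ext q; simp }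
  have hker : (S : Subgroup G).subgroupOf N ≤ act.ker := fun x hx => by
    refine MonoidHom.mem_ker.2 (Equiv.ext fun q => Subtype.ext (Subtype.ext ?_))
    show (x : G) * (q.1 : G) * (x : G)⁻¹ = q.1
    rw [show (x : G) * (q.1 : G) = q.1 * x from congrArg Subtype.val
      (mul_comm_of_exponent_two (IsKleinFour.exponent_two (G := (S : Subgroup G))) ⟨(x : G), hx⟩ q.1),
      mul_inv_cancel_right]
  have hodd : Odd (Nat.card act.range) := by
    refine Odd.of_dvd_nat (Nat.odd_iff.2 (Nat.two_dvd_ne_zero.1 S.not_dvd_index)) ?_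
    rw [← Subgroup.index_ker]
    exact (Subgroup.index_dvd_of_le hker).trans (Subgroup.relIndex_dvd_index_of_le Subgroup.le_normalizer)
  -- some element permutes the involutions
  obtain ⟨g, hg⟩ : ∃ g, act g ≠ 1 := by
    by_contra hno
    push Not at hno
    have hNC : N = Subgroup.centralizer ((S : Subgroup G) : Set G) := by
      refine le_antisymm (fun x hx => Subgroup.mem_centralizer_iff.2 fun y hy => ?_) ?_
      · by_cases hy1 : (⟨y, hy⟩ : (S : Subgroup G)) = 1
        · rw [show y = 1 from congrArg Subtype.val hy1, one_mul, mul_one]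
        · have h2 : x * y * x⁻¹ = y :=
            congrArg (fun p : P => ((p.1 : (S : Subgroup G)) : G)) (Equiv.Perm.congr_fun (hno ⟨x, hx⟩) ⟨⟨y, hy⟩, hy1⟩)
          exact (mul_inv_eq_iff_eq_mul.1 h2).symm
      · exact fun x hx => Subgroup.mem_normalizer_iff.2 fun y => by
          constructor
          · intro hy
            rwa [← Subgroup.mem_centralizer_iff.1 hx y hy, mul_inv_cancel_right]
          · intro hy
            have h3 : x * (x * y * x⁻¹) = x * y * x⁻¹ * x := (Subgroup.mem_centralizer_iff.1 hx _ hy).symm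
            rw [inv_mul_cancel_right] at h3
            have h4 : x * y * x⁻¹ = y := mul_left_cancel h3
            rwa [h4] at hy
    have hn := (S1254.result S 2 le_rfl e).2 fun U hUS hU => by
      have hUe : U = (S : Subgroup G) := Subgroup.eq_of_le_of_card_ge hUS (by rw [hS4, hU.card_four])
      rw [hUe]
      exact le_antisymm (hNC.le.trans le_sup_left) (sup_le hNC.ge inf_le_right)
    have h := Fusion.hnpc_iff.1 hn
    rw [pResidual_perfect, Subgroup.card_top] at h
    exact (Nat.prime_two.coprime_iff_not_dvd.1 h.symm)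
      ((show 2 ∣ Nat.card (S : Subgroup G) by rw [hS4]; exact ⟨2, rfl⟩).trans (S : Subgroup G).card_subgroup_dvd_card)
  haveI : Fintype P := Fintype.ofFinite P
  have hP : Nat.card P = 3 := by
    haveI : Fintype (S : Subgroup G) := Fintype.ofFinite _
    rw [Nat.card_eq_fintype_card, Fintype.card_subtype_compl, Fintype.card_subtype_eq, ← Nat.card_eq_fintype_card, hS4]
  let ε : P ≃ Fin 3 := Finite.equivFinOfCardEq hP
  let σ := Equiv.permCongrHom ε (act g)
  have hσ1 : σ ≠ 1 := fun h => hg ((Equiv.permCongrHom ε).injective (h.trans (map_one _).symm))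
  have hσ3 : σ ^ 3 = 1 := by
    have h1 : orderOf (act g) ∣ Nat.card act.range := Subgroup.orderOf_dvd_natCard _ ⟨g, rfl⟩
    have h2 : orderOf σ ∣ 6 := by
      have := orderOf_dvd_natCard σ
      rwa [Nat.card_perm, Nat.card_fin] at this
    have h3 : orderOf σ = orderOf (act g) := MulEquiv.orderOf_eq _ _
    refine orderOf_dvd_iff_pow_eq_one.1 ?_
    refine Nat.Coprime.dvd_of_dvd_mul_left ?_ (show orderOf σ ∣ 2 * 3 from h2)
    rw [h3]
    exact Nat.coprime_two_right.2 (hodd.of_dvd_nat h1)
  have trans : ∀ τ : Equiv.Perm (Fin 3), τ ^ 3 = 1 → τ ≠ 1 → ∀ i j, ∃ k : Fin 3, (τ ^ (k : ℕ)) i = j := by decide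
  have key : ∀ c : G, orderOf c = 2 → ∃ p : P, IsConj c (p.1 : G) := by
    intro c hc
    obtain ⟨T, hT⟩ := (IsPGroup.of_card (p := 2) (n := 1) (G := Subgroup.zpowers c)
      (by rw [Nat.card_zpowers, hc, pow_one])).exists_le_sylow
    obtain ⟨x, hx⟩ := MulAction.exists_smul_eq G T S
    have hmem : x * c * x⁻¹ ∈ (S : Subgroup G) := by
      rw [← hx, Sylow.coe_subgroup_smul]
      exact ⟨c, hT (Subgroup.mem_zpowers c), rfl⟩
    refine ⟨⟨⟨_, hmem⟩, fun h => ?_⟩, isConj_iff.2 ⟨x, rfl⟩⟩
    rw [conj_eq_one_iff.1 (congrArg Subtype.val h), orderOf_one] at hc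
    omega
  obtain ⟨p, hp⟩ := key a ha
  obtain ⟨r, hr⟩ := key b hb
  obtain ⟨k, hk⟩ := trans σ hσ3 hσ1 (ε p) (ε r)
  have hpr : (act (g ^ (k : ℕ))) p = r := by
    rw [show σ ^ (k : ℕ) = Equiv.permCongrHom ε (act (g ^ (k : ℕ))) by rw [map_pow, map_pow]] at hk
    simpa [Equiv.permCongrHom, Equiv.permCongr_apply] using hk
  exact hp.trans ((isConj_iff.2 ⟨((g ^ (k : ℕ) : N) : G),
    congrArg (fun q : P => ((q.1 : (S : Subgroup G)) : G)) hpr⟩).trans hr.symm)

namespace Minimal

variable (hG : Minimal G)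
include hG

/-- A nonabelian simple section of smaller order is a model. -/
theorem section_model {X : Type u} [Group X] [Finite X] [IsSimpleGroup X] (hX : ¬ IsMulCommutative X)
    {K : Subgroup G} (f : K →* X) (hf : Function.Surjective f) (hlt : Nat.card X < Nat.card G) : IsModel X := by
  haveI : Fact (Nat.Prime 2) := ⟨Nat.prime_two⟩
  obtain ⟨S, n, hn, ⟨e⟩⟩ := hG.sylow
  haveI := perfect_of_simple hX
  obtain ⟨T⟩ := (inferInstance : Nonempty (Sylow 2 X))
  rcases section_sylow S e f hf T with h | ⟨k, hk, hT⟩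
  · exact absurd h (not_cyclic_of_perfect T (even_of_simple hX))
  · have hO : Cfsg.oddCore X = ⊥ := by
      haveI : (Cfsg.oddCore X).Characteristic := Fusion.pPrimeCore_characteristic
      refine ((inferInstance : (Cfsg.oddCore X).Normal).eq_bot_or_eq_top).resolve_right fun h => ?_
      have h1 := Nat.coprime_two_right.1 (Fusion.card_pPrimeCore_coprime 2 X)
      rw [show Nat.card (Cfsg.oddCore X) = Nat.card X by rw [h, Subgroup.card_top]] at h1
      exact (Nat.not_even_iff_odd.2 h1) (even_iff_two_dvd.2 (even_of_simple hX))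
    let q : X ⧸ Cfsg.oddCore X ≃* X := (QuotientGroup.quotientMulEquivOfEq hO).trans QuotientGroup.quotientBot
    rcases hG.below X T k hlt hk hT with ⟨F, hF, hFt, ho, h3, ⟨j⟩⟩ | hj
    · exact Or.inl ⟨F, hF, hFt, ho, h3, ⟨q.symm.trans j⟩⟩
    · exact Or.inr (hj.map fun j => q.symm.trans j)

theorem kProper : Cfsg.IsKProper G := by
  intro H hH L N _ hs hna
  haveI := hs
  have hlt : Nat.card (L ⧸ N) < Nat.card G := by
    refine lt_of_le_of_lt (Nat.le_of_dvd Nat.card_pos N.card_quotient_dvd_card) ?_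
    refine lt_of_le_of_lt L.card_le_card_group (lt_of_le_of_ne H.card_le_card_group fun h => hH ?_)
    exact (Subgroup.card_eq_iff_eq_top H).1 h
  let g : L.map H.subtype ≃* L := (L.equivMapOfInjective _ H.subtype_injective).symm
  rcases section_model hG hna ((QuotientGroup.mk' N).comp g.toMonoidHom)
      ((QuotientGroup.mk'_surjective N).comp g.surjective) hlt with ⟨F, hF, hFt, -, h3, he⟩ | he
  · exact Or.inr (Or.inr (Or.inl ⟨F, hF, hFt, 2, le_rfl, fun _ => h3, he⟩))
  · exact Or.inr (Or.inl ⟨7, by norm_num, he⟩)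

open Cfsg.Agent.Small in
/-- No section `SL₂(q)`, `q` an odd prime. -/
theorem free (q : ℕ) (hq : q.Prime) (hq2 : q ≠ 2) :
    ¬ Cfsg.Involves (Matrix.SpecialLinearGroup (Fin 2) (ZMod q)) G := by
  haveI : Fact q.Prime := ⟨hq⟩
  haveI : Fact (Nat.Prime 2) := ⟨Nat.prime_two⟩
  intro hI
  obtain ⟨S, n, hn, ⟨e⟩⟩ := hG.sylow
  obtain ⟨K, f, hf⟩ := Fusion.involves_exists_surjective hI
  obtain ⟨a, b, hab⟩ := ZMod.sq_add_sq q (-1)
  have h2 : (2 : ZMod q) ≠ 0 := fun h => by
    have h' : ((2 : ℕ) : ZMod q) = 0 := by exact_mod_cast h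
    rw [ZMod.natCast_eq_zero_iff] at h'
    exact hq2 ((Nat.prime_dvd_prime_iff_eq hq Nat.prime_two).1 h')
  let w : Matrix.SpecialLinearGroup (Fin 2) (ZMod q) := PSL2.wS
  let x : Matrix.SpecialLinearGroup (Fin 2) (ZMod q) :=
    ⟨!![a, b; b, -a], by simp [Matrix.det_fin_two]; linear_combination -hab⟩
  have hxw : x * w ≠ w * x := fun h => by
    have hm : x.1 * w.1 = w.1 * x.1 := congrArg Subtype.val h
    have h00 := congrFun (congrFun hm 0) 0
    have h01 := congrFun (congrFun hm 0) 1
    simp [x, w, PSL2.val_mul, Matrix.mul_apply, Fin.sum_univ_two] at h00 h01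
    have hb0 : b = 0 := mul_left_cancel₀ h2 (by linear_combination -h00)
    have ha0 : a = 0 := mul_left_cancel₀ h2 (by linear_combination h01)
    rw [ha0, hb0] at hab
    simp at hab
  have hw2 : (w * w).1 = -1 := by
    rw [PSL2.val_mul]
    ext i j
    fin_cases i <;> fin_cases j <;> simp [w, PSL2.val_mul, Matrix.mul_apply, Fin.sum_univ_two]
  have hx2 : (x * x).1 = -1 := by
    rw [PSL2.val_mul]
    ext i j
    fin_cases i <;> fin_cases j <;> simp [x, PSL2.val_mul, Matrix.mul_apply, Fin.sum_univ_two] <;>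
      first
        | linear_combination hab
        | ring
  have hwx : w * x * w⁻¹ = x⁻¹ := by
    rw [mul_inv_eq_iff_eq_mul, eq_inv_mul_iff_mul_eq]
    apply Subtype.ext
    simp only [PSL2.val_mul]
    ext i j
    fin_cases i <;> fin_cases j <;> simp [x, w, PSL2.val_mul, Matrix.mul_apply, Fin.sum_univ_two] <;>
      first
        | linear_combination hab
        | linear_combination -hab
        | ring
  -- the quaternion group generated by `w` and `x`
  have hx4 : x ^ 4 = 1 := Subtype.ext (by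
    rw [show x ^ 4 = (x * x) * (x * x) by rw [pow_succ, pow_succ, pow_two, mul_assoc], PSL2.val_mul, hx2]; simp)
  have hw4 : w ^ 4 = 1 := Subtype.ext (by
    rw [show w ^ 4 = (w * w) * (w * w) by rw [pow_succ, pow_succ, pow_two, mul_assoc], PSL2.val_mul, hw2]; simp)
  have hP : ∀ {y : Matrix.SpecialLinearGroup (Fin 2) (ZMod q)}, y ^ 4 = 1 → IsPGroup 2 (Subgroup.zpowers y) := by
    intro y hy
    obtain ⟨j, -, hj⟩ := (Nat.dvd_prime_pow Nat.prime_two).1 (orderOf_dvd_of_pow_eq_one (show y ^ 2 ^ 2 = 1 from hy))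
    exact IsPGroup.of_card (n := j) (by rw [Nat.card_zpowers, hj])
  have hnorm : Subgroup.zpowers w ≤ Subgroup.normalizer (Subgroup.zpowers x : Set _) := by
    rw [Subgroup.zpowers_le, Subgroup.mem_normalizer_iff_map_conj_eq, MonoidHom.map_zpowers]
    show Subgroup.zpowers (w * x * w⁻¹) = Subgroup.zpowers x
    rw [hwx, Subgroup.zpowers_inv]
  obtain ⟨T, hT⟩ := ((hP hw4).to_sup_of_normal_right' (hP hx4) hnorm).exists_le_sylow
  have hxT : x ∈ (T : Subgroup (Matrix.SpecialLinearGroup (Fin 2) (ZMod q))) := hT (Subgroup.mem_sup_right (Subgroup.mem_zpowers _))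
  have hwT : w ∈ (T : Subgroup (Matrix.SpecialLinearGroup (Fin 2) (ZMod q))) := hT (Subgroup.mem_sup_left (Subgroup.mem_zpowers _))
  rcases section_sylow S e f hf T with h | ⟨k, hk, ⟨d⟩⟩
  · haveI := h
    letI : CommGroup (T : Subgroup (Matrix.SpecialLinearGroup (Fin 2) (ZMod q))) := IsCyclic.commGroup
    exact hxw (congrArg Subtype.val (mul_comm (⟨x, hxT⟩ : (T : Subgroup (Matrix.SpecialLinearGroup (Fin 2) (ZMod q)))) ⟨w, hwT⟩))
  · haveI : NeZero k := ⟨by omega⟩
    -- the involutions are central, so `T` is abelian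
    have hcen : ∀ i : ZMod k, (d.symm (DihedralGroup.sr i) : Matrix.SpecialLinearGroup (Fin 2) (ZMod q)).1 =
        1 ∨ (d.symm (DihedralGroup.sr i) : Matrix.SpecialLinearGroup (Fin 2) (ZMod q)).1 = -1 := by
      intro i
      set y := (d.symm (DihedralGroup.sr i) : Matrix.SpecialLinearGroup (Fin 2) (ZMod q))
      have hy : (y * y).1 = 1 := by
        have : d.symm (DihedralGroup.sr i) * d.symm (DihedralGroup.sr i) = 1 := by
          rw [← map_mul, DihedralGroup.sr_mul_sr, sub_self, ← DihedralGroup.one_def, map_one]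
        have hyy : y * y = 1 := congrArg Subtype.val this
        rw [hyy]
        rfl
      have h00 := congrFun (congrFun hy 0) 0
      have h01 := congrFun (congrFun hy 0) 1
      have h10 := congrFun (congrFun hy 1) 0
      have h11 := congrFun (congrFun hy 1) 1
      simp [PSL2.val_mul, Matrix.mul_apply, Fin.sum_univ_two] at h00 h01 h10 h11
      have hd := PSL2.det_two y
      have had : y.1 0 0 + y.1 1 1 ≠ 0 := fun h0 => by
        have h1 : (2 : ZMod q) = 0 := by linear_combination -h00 - hd + (y.1 0 0) * h0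
        exact h2 h1
      have hb' : y.1 0 1 = 0 := mul_left_cancel₀ had (by linear_combination h01)
      have hc' : y.1 1 0 = 0 := mul_left_cancel₀ had (by linear_combination h10)
      rw [hb', hc', mul_zero, add_zero] at h00
      rw [hb', hc', mul_zero, sub_zero] at hd
      have h11' : y.1 1 1 = y.1 0 0 :=
        mul_left_cancel₀ (left_ne_zero_of_mul_eq_one h00) (hd.trans h00.symm)
      rcases mul_self_eq_one_iff.1 h00 with h1 | h1 <;> [left; right] <;>
      · have : y.1 1 1 = y.1 0 0 := h11'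
        ext i j
        fin_cases i <;> fin_cases j <;> simp [hb', hc', this, h1]
    have hcomm : ∀ i j : ZMod k, d.symm (DihedralGroup.sr i) * d.symm (DihedralGroup.sr j) =
        d.symm (DihedralGroup.sr j) * d.symm (DihedralGroup.sr i) := fun i j => Subtype.ext (Subtype.ext (by
      rw [Subgroup.coe_mul, Subgroup.coe_mul, PSL2.val_mul, PSL2.val_mul]
      rcases hcen i with h | h <;> rw [h] <;> simp))
    have hk2 : k = 2 := by
      by_contra hne
      have := d.symm.injective ((map_mul d.symm _ _).trans ((hcomm 0 1).trans (map_mul d.symm _ _).symm))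
      rw [DihedralGroup.sr_mul_sr, DihedralGroup.sr_mul_sr] at this
      have h20 : ((2 : ℕ) : ZMod k) = 0 := by push_cast; linear_combination DihedralGroup.r.inj this
      rw [ZMod.natCast_eq_zero_iff] at h20
      have := Nat.le_of_dvd two_pos h20
      omega
    subst hk2
    exact hxw (congrArg Subtype.val (d.injective (a₁ := ⟨x, hxT⟩ * ⟨w, hwT⟩) (a₂ := ⟨w, hwT⟩ * ⟨x, hxT⟩) (by
      rw [map_mul, map_mul]
      generalize d ⟨x, hxT⟩ = p
      generalize d ⟨w, hwT⟩ = r
      revert p r
      decide)))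

/-- One class of involutions. -/
theorem oneClass (a b : G) (ha : orderOf a = 2) (hb : orderOf b = 2) : IsConj a b := by
  haveI : Fact (Nat.Prime 2) := ⟨Nat.prime_two⟩
  obtain ⟨S, n, hn, ⟨e⟩⟩ := hG.sylow
  haveI := hG.simple
  haveI := perfect_of_simple hG.nonab
  obtain ⟨k, hk1, rfl⟩ := dihedral_pow S hn e
  by_cases hk : k = 1
  · subst hk
    have hS4 : Nat.card (S : Subgroup G) = 4 := by rw [Nat.card_congr e.toEquiv, DihedralGroup.nat_card]; norm_num
    exact conj_of_four S hS4 e a b ha hb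
  · exact isConj_iff.2 (S0107.result S k (by omega) ⟨e⟩ pResidual_perfect a b ha hb)

end Minimal

end Cfsg.Agent.GW
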