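import Cfsg.Agent.Lib.GW.MaxControlSection
import Cfsg.Agent.Lib.GW.MaxControlEight
import Cfsg.Agent.Lib.GW.ProperStructure
import Cfsg.Agent.Lib.GW.MaxOrder
import Cfsg.Agent.Lib.GW.Meet
import Cfsg.Agent.Lib.Char.LocalRing

/-!
# A central element of a core fixed by a reflection: the residual configuration does not occur

`W = O(C(p))` is centralised by `S` and the centralisers in `O` of two neighbouring reflections are `W⟨x⟩` and `W`,
so their inverted sets are in the ratio `1 : 3`.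
-/

set_option autoImplicit false
set_option linter.unusedSectionVars false
set_option linter.style.haveILetI false

namespace Cfsg.Agent.GW

open Cfsg Cfsg.Agent DihedralGroup

universe u

variable {G : Type u} [Group G] [Finite G]

/-- the elements of a group of odd order inverted and centralised by an involution -/
theorem inv_count {O : Subgroup G} (hO : Odd (Nat.card ↥O)) {s : G} (hs : s * s = 1)
    (hn : s ∈ Subgroup.normalizer (O : Set G)) :
    Nat.card {w : ↥O // s * (w : G) * s⁻¹ = (w : G)⁻¹} * Nat.card ↥(O ⊓ Subgroup.centralizer ({s} : Set G)) =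
      Nat.card ↥O := by
  obtain ⟨m, hm⟩ := hO
  have hsq : ∀ a ∈ O, (a ^ (m + 1)) * (a ^ (m + 1)) = a := by
    intro a ha
    have h1 : a ^ Nat.card ↥O = 1 := orderOf_dvd_iff_pow_eq_one.1 (Subgroup.orderOf_dvd_natCard O ha)
    rw [← pow_add, show m + 1 + (m + 1) = Nat.card ↥O + 1 by omega, pow_succ, h1, one_mul]
  rw [mul_comm, ← Nat.card_prod]
  refine Nat.card_eq_of_bijective
    (fun c => (⟨(c.1 : G) * ((c.2 : ↥O) : G), mul_mem c.1.2.1 c.2.1.2⟩ : ↥O)) ⟨?_, ?_⟩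
  · rintro ⟨⟨c, hc⟩, ⟨⟨w, hw⟩, hwi⟩⟩ ⟨⟨c', hc'⟩, ⟨⟨w', hw'⟩, hwi'⟩⟩ e
    have e1 : c * w = c' * w' := congrArg Subtype.val e
    have key : ∀ {c w : G}, c ∈ O ⊓ Subgroup.centralizer ({s} : Set G) → s * w * s⁻¹ = w⁻¹ →
        (c * w)⁻¹ * (s * (c * w) * s⁻¹) = w⁻¹ * w⁻¹ := by
      intro c w hc hw
      have h2 : s * c * s⁻¹ = c := by
        rw [← (show Commute c s from Subgroup.mem_centralizer_singleton_iff.1 hc.2).eq, mul_inv_cancel_right]
      rw [show s * (c * w) * s⁻¹ = (s * c * s⁻¹) * (s * w * s⁻¹) by group, h2, hw]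
      group
    have e2 : w⁻¹ * w⁻¹ = w'⁻¹ * w'⁻¹ := by rw [← key hc hwi, ← key hc' hwi', e1]
    have e3 : w⁻¹ = w'⁻¹ := by
      rw [← hsq _ (inv_mem hw), ← hsq _ (inv_mem hw')]
      simp only [← (Commute.refl _).mul_pow, e2]
    obtain rfl := inv_injective e3
    obtain rfl := mul_right_cancel e1
    rfl
  · rintro ⟨a, ha⟩
    obtain ⟨b, hb⟩ : ∃ b, b = a⁻¹ * (s * a * s⁻¹) := ⟨_, rfl⟩
    have hbO : b ∈ O := hb ▸ mul_mem (inv_mem ha) ((Subgroup.mem_normalizer_iff.1 hn a).1 ha)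
    have hbi : s * b * s⁻¹ = b⁻¹ := by
      rw [hb, show s * (a⁻¹ * (s * a * s⁻¹)) * s⁻¹ = s * a⁻¹ * (s * a * (s * s)⁻¹) by group, hs,
        inv_eq_of_mul_eq_one_right hs]
      group
      rw [show s ^ (-1 : ℤ) = s by rw [zpow_neg_one, inv_eq_of_mul_eq_one_right hs]]
    have hzi : s * b ^ (m + 1) * s⁻¹ = (b ^ (m + 1))⁻¹ := by rw [← conj_pow, hbi, inv_pow]
    refine ⟨(⟨a * b ^ (m + 1), mul_mem ha (pow_mem hbO _), Subgroup.mem_centralizer_singleton_iff.2 ?_⟩,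
      ⟨⟨(b ^ (m + 1))⁻¹, inv_mem (pow_mem hbO _)⟩, ?_⟩), Subtype.ext ?_⟩
    · refine (mul_inv_eq_iff_eq_mul.1 (?_ : s * (a * b ^ (m + 1)) * s⁻¹ = a * b ^ (m + 1))).symm
      rw [show s * (a * b ^ (m + 1)) * s⁻¹ = a * (a⁻¹ * (s * a * s⁻¹)) * (s * b ^ (m + 1) * s⁻¹) by group, hzi,
        ← hb]
      nth_rewrite 1 [← hsq b hbO]
      group
    · show s * (b ^ (m + 1))⁻¹ * s⁻¹ = (b ^ (m + 1))⁻¹⁻¹
      rw [← conj_inv, hzi]
    · show a * b ^ (m + 1) * (b ^ (m + 1))⁻¹ = a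
      rw [mul_inv_cancel_right]

/-- an involution in a coset of a subgroup of odd order centralised by it -/
theorem eq_of_coset {W : Subgroup G} (hW : Odd (Nat.card ↥W)) {s b : G} (hs : s * s = 1) (hb : b * b = 1)
    (hc : ∀ w ∈ W, Commute w b) (h : s * b ∈ W) : s = b := by
  have h1 : (s * b) ^ 2 = 1 := by
    have : s * b * b = b * (s * b) → (s * b) * (s * b) = 1 := fun e => by
      rw [show s * b * (s * b) = s * (b * (s * b)) by group, ← e, mul_assoc s b b, hb, mul_one, hs]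
    rw [pow_two]
    exact this (hc _ h).eq
  have h2 := orderOf_eq_one_iff.1 (Nat.eq_one_of_dvd_coprimes
    (odd_orderOf hW h).coprime_two_left (orderOf_dvd_of_pow_eq_one h1) dvd_rfl)
  rw [mul_eq_one_iff_eq_inv.1 h2, inv_eq_of_mul_eq_one_right hb]

variable [IsSimpleGroup G] {Φ : Frame G}

theorem PData.q_three (hG : Minimal G) (h : MaxCent Φ.t Φ.O) (hrot : Rotates Φ.t) {i : ZMod (2 ^ Φ.k)} {q : ℕ}
    {Q : Subgroup G} {x ρ p : G} (d : PData Φ i q Q x ρ p) : q = 3 := by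
  haveI := Fact.mk d.prime
  obtain ⟨W, hS⟩ := d.exists_sect hG h hrot
  have h3 : orderOf x = 3 := orderOf_eq_prime hS.x_three d.x_ne
  obtain ⟨a, ha⟩ := IsPGroup.iff_card.1 (d.syl.isPGroup.to_le (Subgroup.zpowers_le.2 d.x_facts.1))
  rw [Nat.card_zpowers, h3] at ha
  have hd : q ∣ 3 := by
    rcases a with _ | a
    · simp at ha
    · exact ha ▸ dvd_pow_self q (Nat.succ_ne_zero a)
  exact (Nat.prime_dvd_prime_iff_eq d.prime Nat.prime_three).1 hd

/-- **the residual configuration does not occur** -/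
theorem PData.false (hG : Minimal G) (h : MaxCent Φ.t Φ.O) (hrot : Rotates Φ.t) (hno : NoLayer Φ.t)
    {i : ZMod (2 ^ Φ.k)} {q : ℕ} {Q : Subgroup G} {x ρ p : G} (d : PData Φ i q Q x ρ p) : False := by
  have hq3 := d.q_three hG h hrot
  obtain ⟨W, hS⟩ := d.exists_sect hG h hrot
  haveI := Fact.mk d.prime
  obtain ⟨hxQ, hxO, hxt, hxu, hxp, hxodd, hpO, hpt, hpodd⟩ := d.x_facts
  obtain ⟨t, ht⟩ : ∃ t, t = Φ.t := ⟨_, rfl⟩
  obtain ⟨u, hu⟩ : ∃ u, u = Φ.refl i := ⟨_, rfl⟩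
  obtain ⟨v, hv⟩ : ∃ v, v = Φ.refl (i + 1) := ⟨_, rfl⟩
  have htt : t * t = 1 := ht ▸ Φ.tt
  have huu : u * u = 1 := hu ▸ Φ.uu i
  have hvv : v * v = 1 := hv ▸ Φ.uu (i + 1)
  have htu : Commute t u := ht ▸ hu ▸ Φ.commute i
  have htv : Commute t v := ht ▸ hv ▸ Φ.commute (i + 1)
  have htu2 : t * u * (t * u) = 1 := by rw [htu.symm.mul_mul_mul_comm, htt, huu, one_mul]
  have htv2 : t * v * (t * v) = 1 := by rw [htv.symm.mul_mul_mul_comm, htt, hvv, one_mul]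
  obtain ⟨ρt, ρu⟩ : ρ * t * ρ⁻¹ = u ∧ ρ * u * ρ⁻¹ = t * u := ht ▸ hu ▸ ⟨d.rho_t, d.rho_u⟩
  have hvu : v * u * v⁻¹ = t * u := by
    rw [hv, hu, ht, Φ.refl_conj, Φ.refl_add_two hS.k_two]
  have hOt : ∀ a ∈ Φ.O, Commute a t := fun a ha => ht ▸ h.core_commute ha
  have hcore : ∀ a, Commute a t → Odd (orderOf a) → a ∈ Φ.O := fun a ha => h.core a (ht ▸ ha)
  have hconjo : ∀ g a : G, orderOf (g * a * g⁻¹) = orderOf a := fun g a => by
    rw [show g * a * g⁻¹ = MulAut.conj g a from rfl, MulEquiv.orderOf_eq]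
  -- `x` is central in `O`
  have hx3 : x * x = x⁻¹ := eq_inv_of_mul_eq_one_left (by rw [← pow_two, ← pow_succ]; exact hS.x_three)
  have hOx : ∀ a ∈ Φ.O, Commute a x := by
    intro a ha
    have haC : a ∈ Subgroup.centralizer ({Φ.t} : Set G) := Φ.O_le ha
    have hm : a * x * a⁻¹ = 1 ∨ a * x * a⁻¹ = x ∨ a * x * a⁻¹ = x * x := by
      refine hS.centre _ (conj_fq d.prime haC d.x_mem) fun w hw => ?_
      have h5 := (Commute.conj_iff a).2 (d.x_cent _ (conj_fq d.prime (inv_mem haC) hw))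
      rwa [inv_inv, show a * (a⁻¹ * w * a) * a⁻¹ = w by group] at h5
    rcases hm with e | e | e
    · exact absurd (conj_eq_one_iff.1 e) d.x_ne
    · exact mul_inv_eq_iff_eq_mul.1 e
    · rw [hx3] at e
      have h2 : Commute (a * a) x := by
        refine mul_inv_eq_iff_eq_mul.1 ?_
        rw [show a * a * x * (a * a)⁻¹ = a * (a * x * a⁻¹) * a⁻¹ by group, e, ← conj_inv, e, inv_inv]
      obtain ⟨m, hm⟩ := odd_orderOf Φ.O_odd ha
      have h3 := h2.pow_left (m + 1)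
      rwa [← pow_two, ← pow_mul, show 2 * (m + 1) = orderOf a + 1 by omega, pow_succ, pow_orderOf_eq_one,
        one_mul] at h3
  have hxC : ∀ a, Commute a x → Commute a t := fun a ha => ht ▸ Subgroup.mem_centralizer_singleton_iff.1
    ((d.centre x d.x_mem d.x_cent d.x_ne).1 (Subgroup.mem_centralizer_singleton_iff.2 ha.eq))
  -- `x'` and `w₀`
  obtain ⟨x', hx'⟩ : ∃ x', x' = ρ * x * ρ⁻¹ := ⟨_, rfl⟩
  have hx'C : ∀ a, Commute a x' → Commute a u := by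
    intro a ha
    have h1 : Commute (ρ⁻¹ * a * ρ) x := by
      have := (Commute.conj_iff ρ⁻¹).2 ha
      rwa [inv_inv, show ρ⁻¹ * x' * ρ = x by rw [hx']; group] at this
    have h2 := (Commute.conj_iff ρ).2 (hxC _ h1)
    rwa [ρt, show ρ * (ρ⁻¹ * a * ρ) * ρ⁻¹ = a by group] at h2
  have hx'Q : x' ∈ Q := hx' ▸ d.rho_Q x hxQ
  have hxv : v * x * v⁻¹ = x⁻¹ := hv ▸ (d.centre x d.x_mem d.x_cent d.x_ne).2
  obtain ⟨j, -, hjW⟩ := hS.split x' (d.p_cent x' hx'Q).symm (odd_orderOf Φ.O_odd (d.syl.1 hx'Q))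
    (h.core_commute (d.syl.1 hx'Q))
  obtain ⟨w₀, hw₀⟩ : ∃ w₀, w₀ = (x ^ j)⁻¹ * x' := ⟨_, rfl⟩
  rw [← hw₀] at hjW
  have hw₀Q : w₀ ∈ Q := hw₀ ▸ mul_mem (inv_mem (pow_mem hxQ j)) hx'Q
  obtain ⟨g, hgp, hge⟩ := hS.fus
  rw [← hv, ← ht] at hge
  have hpv : Commute v p := hv ▸ (d.p_S _ (Φ.refl_mem _)).symm
  have hp_S : ∀ s ∈ (Φ.S : Subgroup G), Commute s p := fun s hs => (d.p_S s hs).symm
  have htp : Commute t p := ht ▸ hp_S _ Φ.t_mem
  have hup : Commute u p := hu ▸ hp_S _ (Φ.refl_mem _)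
  have hw₀v : Commute w₀ v := by
    have he : Commute w₀ (t * v) := by
      refine invariant_centralised_conj (hS.norm g hgp) hge (q := q) (ht ▸ hS.fixed) inf_le_left
        (d.syl.isPGroup.to_le inf_le_right) (mem_normalizer_of_conj fun a ha => ?_) w₀
        (show w₀ ∈ W ⊓ Q from ⟨hjW, hw₀Q⟩)
      have htvS : t * v ∈ (Φ.S : Subgroup G) := ht ▸ hv ▸ mul_mem Φ.t_mem (Φ.refl_mem _)
      exact ⟨(Subgroup.mem_normalizer_iff.1 (hS.norm _ (hp_S _ htvS)) a).1 ha.1,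
        (Subgroup.mem_normalizer_iff.1 (d.norm htvS) a).1 ha.2⟩
    have := (hOt _ (d.syl.1 hw₀Q)).mul_right he
    rwa [← mul_assoc, htt, one_mul] at this
  have hp2 : p = w₀ * w₀ := by
    have hc : Commute (x ^ j) w₀ := (d.x_Q _ hw₀Q).pow_left j
    have hxe : x' = x ^ j * w₀ := by rw [hw₀, mul_inv_cancel_left]
    rw [d.p_def, ← hx', ← hv, hxe]
    rw [show v * (x ^ j * w₀) * v⁻¹ = (v * x * v⁻¹) ^ j * (v * w₀ * v⁻¹) by rw [conj_pow]; group, hxv,
      hw₀v.symm.eq, mul_inv_cancel_right, inv_pow, show x ^ j * w₀ * ((x ^ j)⁻¹ * w₀) =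
        x ^ j * (w₀ * (x ^ j)⁻¹) * w₀ by group, ← hc.inv_left.eq, mul_inv_cancel_left]
  have hw₀c : ∀ a, Commute a p → Commute a w₀ := by
    intro a ha
    obtain ⟨m, hm⟩ := odd_orderOf hS.odd hjW
    have := ha.pow_right (m + 1)
    rwa [hp2, ← pow_two, ← pow_mul, show 2 * (m + 1) = orderOf w₀ + 1 by omega, pow_succ, pow_orderOf_eq_one,
      one_mul] at this
  -- `S` centralises `W`
  have hWu : ∀ c ∈ W, Commute c t → Commute c u := fun c hc hct => by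
    refine hx'C c ?_
    rw [show x' = x ^ j * w₀ by rw [hw₀, mul_inv_cancel_left]]
    exact ((hOx c (hcore c hct (odd_orderOf hS.odd hc))).pow_right j).mul_right (hw₀c c (hS.le c hc))
  have hsame : ∀ b, b * b = 1 → (∃ n, Commute n p ∧ n * t * n⁻¹ * b ∈ W) →
      (∀ c ∈ W, Commute c t → Commute c b) → ∀ c ∈ W, Commute c b → Commute c t := by
    rintro b hb ⟨n, hnp, hn⟩ hsub c hc hcb
    obtain ⟨m, hm⟩ := conj_of_odd_prod (s := n * t * n⁻¹) (v := b)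
      (by rw [conj_mul, htt, mul_one, mul_inv_cancel]) hb (odd_orderOf hS.odd hn)
    obtain ⟨k, hk⟩ : ∃ k, k = (n * t * n⁻¹ * b) ^ m * n := ⟨_, rfl⟩
    have hkp : Commute k p := hk ▸ ((hS.le _ hn).pow_left m).mul_left hnp
    have hkt : k * t * k⁻¹ = b := Eq.trans (by rw [hk]; group) hm
    obtain ⟨A, hA⟩ : ∃ A, A = W ⊓ Subgroup.centralizer ({t} : Set G) := ⟨_, rfl⟩
    obtain ⟨B, hB⟩ : ∃ B, B = W ⊓ Subgroup.centralizer ({b} : Set G) := ⟨_, rfl⟩
    have hmA : ∀ a, a ∈ A ↔ a ∈ W ∧ Commute a t := fun a => by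
      rw [hA, Subgroup.mem_inf, Subgroup.mem_centralizer_singleton_iff]; exact Iff.rfl
    have hmB : ∀ a, a ∈ B ↔ a ∈ W ∧ Commute a b := fun a => by
      rw [hB, Subgroup.mem_inf, Subgroup.mem_centralizer_singleton_iff]; exact Iff.rfl
    have hle : A ≤ B := fun a ha => (hmB a).2 ⟨((hmA a).1 ha).1, hsub a ((hmA a).1 ha).1 ((hmA a).1 ha).2⟩
    have hcard : Nat.card ↥B ≤ Nat.card ↥A := by
      refine Nat.card_le_card_of_injective (fun a : ↥B => (⟨k⁻¹ * (a : G) * k, (hmA _).2 ⟨?_, ?_⟩⟩ : ↥A))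
        fun a a' e => Subtype.ext (mul_left_cancel (mul_right_cancel (congrArg Subtype.val e)))
      · have := (Subgroup.mem_normalizer_iff.1 (inv_mem (hS.norm k hkp)) (a : G)).1 ((hmB _).1 a.2).1
        rwa [inv_inv] at this
      · have := (Commute.conj_iff k⁻¹).2 ((hmB _).1 a.2).2
        rwa [inv_inv, show k⁻¹ * b * k = t by rw [← hkt]; group] at this
    rw [← Subgroup.eq_of_le_of_card_ge hle hcard] at hmB
    exact ((hmA c).1 ((hmB c).2 ⟨hc, hcb⟩)).2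
  have hWt : ∀ c ∈ W, Commute c t := by
    intro c hc
    refine Subgroup.mem_centralizer_singleton_iff.1 (four_gen htt huu htu (ht ▸ Φ.t_ne) (hu ▸ Φ.refl_ne_one i)
      (ht ▸ hu ▸ Φ.refl_ne i) hS.odd (hS.norm t htp) (hS.norm u hup)
      (fun a ha => hsame u huu (ht ▸ hu ▸ hS.move_u) hWu a ha)
      (fun a ha => hsame (t * u) htu2 (ht ▸ hu ▸ hS.move_tu) (fun c hc hct => hct.mul_right (hWu c hc hct)) a ha)
      hc)
  have hWO : W ≤ Φ.O := fun c hc => hcore c (hWt c hc) (odd_orderOf hS.odd hc)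
  have hWu' : ∀ c ∈ W, Commute c u := fun c hc => hWu c hc (hWt c hc)
  have hWe : ∀ c ∈ W, Commute c (t * v) := by
    intro c hc
    refine (Commute.conj_iff g).1 ?_
    rw [hge]
    exact hWt _ ((Subgroup.mem_normalizer_iff.1 (hS.norm g hgp) c).1 hc)
  have hWv : ∀ c ∈ W, Commute c v := fun c hc => by
    have := (hWt c hc).mul_right (hWe c hc)
    rwa [← mul_assoc, htt, one_mul] at this
  -- the centraliser of `u` in `O`
  have hρe : ρ * (t * u) * ρ⁻¹ = t := by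
    rw [← conj_mul, ρt, ρu, ← mul_assoc, ← htu.eq, mul_assoc, huu, mul_one]
  have hfromtu : ∀ b, Commute b u → Commute b (t * u) → Commute b t := fun b h1 h2 => by
    have := h2.mul_right h1
    rwa [mul_assoc, huu, mul_one] at this
  have hρK : ∀ a ∈ Φ.O, Commute a u → ρ⁻¹ * a * ρ ∈ Φ.O ∧ Commute (ρ⁻¹ * a * ρ) u := by
    intro a ha hau
    have h1 := (Commute.conj_iff ρ⁻¹).2 hau
    have h2 := (Commute.conj_iff ρ⁻¹).2 ((hOt a ha).mul_right hau)
    rw [inv_inv, show ρ⁻¹ * u * ρ = t by rw [← ρt]; group] at h1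
    rw [inv_inv, show ρ⁻¹ * (t * u) * ρ = u by rw [← ρu]; group] at h2
    refine ⟨hcore _ h1 ?_, h2⟩
    have := hconjo ρ⁻¹ a
    rw [inv_inv] at this
    rw [this]
    exact odd_orderOf Φ.O_odd ha
  have hvK : ∀ a ∈ Φ.O, Commute a u → v * a * v⁻¹ ∈ Φ.O ∧ Commute (v * a * v⁻¹) u := by
    intro a ha hau
    have hm := h.core_conj (u := v) (ht ▸ htv) ha
    refine ⟨hm, ?_⟩
    have h2 := (Commute.conj_iff v).2 hau
    rw [hvu] at h2
    have := (hOt _ hm).mul_right h2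
    rwa [← mul_assoc, htt, one_mul] at this
  have hKp : ∀ a ∈ Φ.O, Commute a u → Commute a p := by
    intro a ha hau
    have h1 : ∀ b ∈ Φ.O, Commute b u → Commute b x' := fun b hb hbu => by
      have := (Commute.conj_iff ρ).2 (hOx _ (hρK b hb hbu).1)
      rwa [← hx', show ρ * (ρ⁻¹ * b * ρ) * ρ⁻¹ = b by group] at this
    rw [d.p_def, ← hx', ← hv]
    refine (h1 a ha hau).mul_right ?_
    obtain ⟨hb, hbu⟩ := hvK a ha hau
    have := (Commute.conj_iff v).2 (h1 _ hb hbu)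
    rwa [show v * (v * a * v⁻¹) * v⁻¹ = v * v * a * (v * v)⁻¹ by group, hvv, one_mul, inv_one, mul_one] at this
  have hK : ∀ a ∈ Φ.O, Commute a u → ∃ l : ℕ, l < 3 ∧ (x ^ l)⁻¹ * a ∈ W := fun a ha hau =>
    hS.split a (hKp a ha hau) (odd_orderOf Φ.O_odd ha) (ht ▸ hOt a ha)
  -- the centraliser of `v` in `O`
  obtain ⟨n, hnp, hnt, hnv, e₀, he₀, hword⟩ := hS.word
  rw [← ht, ← hv] at hnt hnv
  rw [← ht, ← hu] at hword
  have hnt' : n * t * n⁻¹ = v :=
    eq_of_coset hS.odd (by rw [conj_mul, htt, mul_one, mul_inv_cancel]) hvv hWv hnt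
  have hnv' : n * v * n⁻¹ = t * v :=
    eq_of_coset hS.odd (by rw [conj_mul, hvv, mul_one, mul_inv_cancel]) htv2 hWe hnv
  have hnK : ∀ a ∈ Φ.O, Commute a v → n⁻¹ * a * n ∈ Φ.O ∧ Commute (n⁻¹ * a * n) v := by
    intro a ha hav
    have h1 := (Commute.conj_iff n⁻¹).2 hav
    have h2 := (Commute.conj_iff n⁻¹).2 ((hOt a ha).mul_right hav)
    rw [inv_inv, show n⁻¹ * v * n = t by rw [← hnt']; group] at h1
    rw [inv_inv, show n⁻¹ * (t * v) * n = v by rw [← hnv']; group] at h2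
    refine ⟨hcore _ h1 ?_, h2⟩
    have := hconjo n⁻¹ a
    rw [inv_inv] at this
    rw [this]
    exact odd_orderOf Φ.O_odd ha
  have hKv : ∀ a ∈ Φ.O, Commute a v → a ∈ W := by
    intro a ha hav
    have hx1 : ∀ b ∈ Φ.O, Commute b v → Commute b (n * x * n⁻¹) := fun b hb hbv => by
      have := (Commute.conj_iff n).2 (hOx _ (hnK b hb hbv).1)
      rwa [show n * (n⁻¹ * b * n) * n⁻¹ = b by group] at this
    have hx2 : Commute a (n * (n * x * n⁻¹) * n⁻¹) := by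
      obtain ⟨hb, hbv⟩ := hnK a ha hav
      have := (Commute.conj_iff n).2 (hx1 _ hb hbv)
      rwa [show n * (n⁻¹ * a * n) * n⁻¹ = a by group] at this
    have hae : Commute a e₀ := by
      have h1 := hx1 a ha hav
      rw [he₀]
      exact (((h1.mul_right hx2).mul_right h1).mul_right hx2).mul_right h1
    have hab : ∀ b, b * b = 1 → (∀ c ∈ W, Commute c b) → e₀ * b ∈ W → Commute a b := by
      intro b hb hc hm
      have he : e₀ = e₀ * b * b := by rw [mul_assoc, hb, mul_one]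
      obtain ⟨m, hm'⟩ := hS.odd
      have h1 : e₀ ^ Nat.card ↥W = b := by
        rw [he, (hc _ hm).mul_pow, orderOf_dvd_iff_pow_eq_one.1 (Subgroup.orderOf_dvd_natCard W hm), one_mul, hm',
          pow_succ, pow_mul, pow_two, hb, one_pow, one_mul]
      exact h1 ▸ hae.pow_right _
    have hau : Commute a u := by
      rcases hword with e | e
      · exact hab u huu hWu' e
      · have := (hOt a ha).mul_right (hab (t * u) htu2 (fun c hc => (hWt c hc).mul_right (hWu' c hc)) e)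
        rwa [← mul_assoc, htt, one_mul] at this
    obtain ⟨l, -, hl⟩ := hK a ha hau
    have hlv : Commute v (x ^ l) := by
      have := (hav.mul_left (hWv _ hl).inv_left).symm
      rwa [show a * ((x ^ l)⁻¹ * a)⁻¹ = x ^ l by group] at this
    have h1 : x ^ l = 1 := eq_one_of_inv_fix (hxodd.of_dvd_nat (orderOf_pow_dvd l))
      (by rw [← conj_pow, hxv, inv_pow]) hlv
    rwa [h1, inv_one, one_mul] at hl
  -- orders
  have hcardW : Nat.card ↥(Φ.O ⊓ Subgroup.centralizer ({v} : Set G)) = Nat.card ↥W := by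
    refine congrArg (fun K : Subgroup G => Nat.card ↥K) (le_antisymm (fun a ha => ?_) fun a ha => ?_)
    · exact hKv a ha.1 (Subgroup.mem_centralizer_singleton_iff.1 ha.2)
    · exact ⟨hWO ha, Subgroup.mem_centralizer_singleton_iff.2 (hWv a ha).eq⟩
  have hcardK : Nat.card ↥(Φ.O ⊓ Subgroup.centralizer ({u} : Set G)) = 3 * Nat.card ↥W := by
    have hpow : ∀ m : ℕ, x ^ m = x ^ (m % 3) := fun m => by
      conv_lhs => rw [← Nat.div_add_mod m 3, pow_add, pow_mul, hS.x_three, one_pow, one_mul]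
    have hmem : ∀ m : ℕ, x ^ m ∈ W → m % 3 = 0 := fun m hm => by
      rw [hpow] at hm
      have : m % 3 < 3 := Nat.mod_lt _ (by norm_num)
      interval_cases hh : m % 3
      · rfl
      · rw [pow_one] at hm
        exact absurd hm hS.x_out
      · rw [pow_two, hx3] at hm
        exact absurd (inv_mem_iff.1 hm) hS.x_out
    rw [← Nat.card_fin 3, ← Nat.card_prod]
    refine (Nat.card_eq_of_bijective (fun c : Fin 3 × ↥W => (⟨x ^ (c.1 : ℕ) * (c.2 : G),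
      mul_mem (pow_mem hxO _) (hWO c.2.2), Subgroup.mem_centralizer_singleton_iff.2
        (((hu ▸ hxu : Commute x u).pow_left _).mul_left (hWu' _ c.2.2)).eq⟩ :
      ↥(Φ.O ⊓ Subgroup.centralizer ({u} : Set G)))) ⟨?_, ?_⟩).symm
    · rintro ⟨⟨a, ha⟩, ⟨w, hw⟩⟩ ⟨⟨b, hb⟩, ⟨w', hw'⟩⟩ e
      have e1 : x ^ a * w = x ^ b * w' := congrArg Subtype.val e
      have h1 : x ^ (a + 2 * b) ∈ W := by
        have e2 : x ^ (2 * b) * x ^ b = 1 := by
          rw [← pow_add, show 2 * b + b = 3 * b by ring, pow_mul, hS.x_three, one_pow]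
        have : x ^ (a + 2 * b) = w' * w⁻¹ := by
          rw [add_comm, pow_add, eq_mul_inv_iff_mul_eq, mul_assoc, e1, ← mul_assoc, e2, one_mul]
        rw [this]
        exact mul_mem hw' (inv_mem hw)
      have h2 := hmem _ h1
      obtain rfl : a = b := by omega
      obtain rfl := mul_left_cancel e1
      rfl
    · rintro ⟨a, ha⟩
      obtain ⟨l, hl3, hl⟩ := hK a ha.1 (Subgroup.mem_centralizer_singleton_iff.1 ha.2)
      exact ⟨(⟨l, hl3⟩, ⟨_, hl⟩), Subtype.ext (mul_inv_cancel_left _ _)⟩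
  obtain ⟨r₀, hr₀⟩ : ∃ r₀, r₀ = Nat.card {w : ↥Φ.O // u * (w : G) * u⁻¹ = (w : G)⁻¹} := ⟨_, rfl⟩
  have hcu := inv_count Φ.O_odd huu (h.core_norm (Subgroup.mem_centralizer_singleton_iff.2 (ht ▸ htu.symm.eq)))
  rw [← hr₀, hcardK] at hcu
  have hcv := inv_count Φ.O_odd hvv (h.core_norm (Subgroup.mem_centralizer_singleton_iff.2 (ht ▸ htv.symm.eq)))
  rw [hcardW] at hcv
  have hcv' : Nat.card {w : ↥Φ.O // v * (w : G) * v⁻¹ = (w : G)⁻¹} = 3 * r₀ :=
    Nat.eq_of_mul_eq_mul_right Nat.card_pos (hcv.trans (by rw [← hcu]; ring))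
  have hr : Odd r₀ := Φ.O_odd.of_dvd_nat (hcu ▸ dvd_mul_right r₀ _)
  have hsame2 : ∀ (b : ZMod (2 ^ Φ.k)) (l : ZMod (2 ^ Φ.k)),
      Nat.card {w : ↥Φ.O // Φ.hom (sr (b + (l + l))) * (w : G) * (Φ.hom (sr (b + (l + l))))⁻¹ = (w : G)⁻¹} =
        Nat.card {w : ↥Φ.O // Φ.refl b * (w : G) * (Φ.refl b)⁻¹ = (w : G)⁻¹} := by
    intro b l
    haveI : NeZero (2 ^ Φ.k) := ⟨by positivity⟩
    have hcases : l + l = 0 ∨ l + l = 2 := by
      have h4 := Φ.four_zero hS.k_two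
      rw [← ZMod.natCast_zmod_val l]
      obtain ⟨m, hm | hm⟩ := Nat.even_or_odd' l.val <;> rw [hm]
      · exact Or.inl (by push_cast; linear_combination (m : ZMod (2 ^ Φ.k)) * h4)
      · exact Or.inr (by push_cast; linear_combination (m : ZMod (2 ^ Φ.k)) * h4)
    rcases hcases with e | e
    · rw [e, add_zero]; rfl
    · rw [e, Φ.hom_sr, Φ.refl_add_two hS.k_two]
      refine Nat.card_congr (Equiv.subtypeEquivRight fun w => ?_)
      have hwt : Φ.t * (w : G) * Φ.t⁻¹ = w := by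
        rw [← (h.core_commute w.2).eq, mul_inv_cancel_right]
      have : Φ.t * Φ.refl b * (w : G) * (Φ.t * Φ.refl b)⁻¹ = Φ.refl b * (w : G) * (Φ.refl b)⁻¹ := by
        rw [(Φ.commute b).eq, show Φ.refl b * Φ.t * (w : G) * (Φ.refl b * Φ.t)⁻¹ =
          Φ.refl b * (Φ.t * (w : G) * Φ.t⁻¹) * (Φ.refl b)⁻¹ by group, hwt]
      rw [this]
  -- an abelian subgroup inverted by all reflections
  obtain ⟨C, hC⟩ : ∃ C, C = Subgroup.centralizer ({Φ.t} : Set G) := ⟨_, rfl⟩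
  obtain ⟨s, hs, hs2, hs3, z, hz, hz1⟩ : ∃ s : ℕ, s.Prime ∧ s ≠ 2 ∧ s ≠ 3 ∧ ∃ z ∈ fq s C, z ≠ 1 := by
    by_contra hcon
    push Not at hcon
    refine h.cores_not_fixed (Φ.uu i) (Φ.commute i) (Φ.refl_ne i) d.rho_t d.rho_u fun s hs hs2 z hz => ?_
    by_cases hsq : s = q
    · exact d.fix z (d.fq_le (hsq ▸ hz))
    · rw [hcon s hs hs2 (hq3 ▸ hsq) z (hC ▸ hz)]
      exact Commute.one_left _
  haveI := Fact.mk hs
  obtain ⟨A, hA⟩ : ∃ A, A = fq s C ⊓ Subgroup.centralizer (fq s C : Set G) := ⟨_, rfl⟩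
  have hmA : ∀ {a : G}, a ∈ A ↔ a ∈ fq s C ∧ ∀ w ∈ fq s C, Commute a w := fun {a} => by
    rw [hA, Subgroup.mem_inf, Subgroup.mem_centralizer_iff]
    exact ⟨fun hh => ⟨hh.1, fun w hw => (hh.2 w hw).symm⟩, fun hh => ⟨hh.1, fun w hw => (hh.2 w hw).symm⟩⟩
  have hAO : A ≤ Φ.O := fun a ha => h.fq_odd_le_core hs hs2 (hC ▸ (hmA.1 ha).1)
  have hAn : ∀ c ∈ C, ∀ a ∈ A, c * a * c⁻¹ ∈ A := by
    intro c hc a ha
    obtain ⟨h1, h2⟩ := hmA.1 ha
    refine hmA.2 ⟨conj_fq hs hc h1, fun w hw => ?_⟩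
    have h5 := (Commute.conj_iff c).2 (h2 _ (conj_fq hs (inv_mem hc) hw))
    rwa [inv_inv, show c * (c⁻¹ * w * c) * c⁻¹ = w by group] at h5
  have hAfix : ∀ l, ∀ a ∈ A, Commute a (Φ.refl l) → a = 1 := by
    intro l a ha hal
    by_contra ha1
    obtain ⟨h1, h2⟩ := hmA.1 ha
    rw [hC] at h1 h2
    obtain ⟨Q', x₂, ρ₂, p₂, d'⟩ := h.exists_pdata hG hrot hno d.hk l hs hs2 h1 h2 hal ha1
    exact hs3 (d'.q_three hG h hrot)
  have hAinv : ∀ l, ∀ a ∈ A, Φ.refl l * a * (Φ.refl l)⁻¹ = a⁻¹ := by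
    intro l a ha
    have hl : Φ.refl l ∈ C := hC ▸ Φ.S_le (Φ.refl_mem l)
    have hb := hAn _ hl a ha
    refine (inv_eq_of_mul_eq_one_right (hAfix l _ (mul_mem ha hb) ?_)).symm
    refine (mul_inv_eq_iff_eq_mul.1 ?_ : Φ.refl l * _ = _ * Φ.refl l).symm
    calc Φ.refl l * (a * (Φ.refl l * a * (Φ.refl l)⁻¹)) * (Φ.refl l)⁻¹
        = (Φ.refl l * a * (Φ.refl l)⁻¹) * (Φ.refl l * Φ.refl l * a * (Φ.refl l * Φ.refl l)⁻¹) := by group
      _ = (Φ.refl l * a * (Φ.refl l)⁻¹) * a := by rw [Φ.uu]; group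
      _ = _ := ((hmA.1 ha).2 _ (hmA.1 hb).1).symm.eq
  have hApos : ∃ a ∈ A, a ≠ 1 := by
    obtain ⟨a, -, ha1, hac⟩ := exists_central_mem (fq_isPGroup s C) ⊤ (fun e => hz1 (by
      have hm := Subgroup.mem_top (⟨z, hz⟩ : ↥(fq s C))
      rw [e, Subgroup.mem_bot] at hm
      exact congrArg Subtype.val hm))
    exact ⟨a, hmA.2 ⟨a.2, fun w hw => (congrArg Subtype.val (hac ⟨w, hw⟩).eq : w * (a : G) = (a : G) * w).symm⟩,
      fun e => ha1 (Subtype.ext e)⟩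
  have hpA : ¬ ∀ a ∈ A, Commute p a := by
    intro hall
    obtain ⟨a, ha, ha1⟩ := hApos
    obtain ⟨l, -, hl⟩ := hS.split a (hall a ha).symm (odd_orderOf Φ.O_odd (hAO ha)) (h.core_commute (hAO ha))
    refine ha1 (eq_one_of_inv_fix (odd_orderOf Φ.O_odd (hAO ha)) (hAinv i a ha) ?_)
    rw [show a = x ^ l * ((x ^ l)⁻¹ * a) by rw [mul_inv_cancel_left], ← hu]
    exact (((hu ▸ hxu : Commute x u).pow_left l).mul_left (hWu' _ hl)).symm
  -- the characters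
  haveI : NeZero (2 ^ Φ.k) := ⟨by positivity⟩
  haveI : Fintype G := Fintype.ofFinite G
  obtain ⟨M, hM⟩ := Char.exists_pModular Nat.prime_two
  have hN : (2 : ℕ) ^ Φ.k = 4 := by rw [hS.k_two]; norm_num
  have hD : Char.DihSyl Φ.S Φ.hom := ⟨dvd_of_eq hN.symm, ⟨Φ.k, rfl⟩, Φ.hom_inj, Φ.hom_range⟩
  refine Uneven.uneven_false hM hN hD (fun b hb => hG.oneClass _ b Φ.t_order hb) (O := Φ.O) Φ.O_le
    Φ.O_odd.not_two_dvd_nat Φ.O_norm (fun y hy hyo => h.core y (Subgroup.mem_centralizer_singleton_iff.1 hy)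
      (Nat.odd_iff.2 (Nat.two_dvd_ne_zero.1 hyo))) ?_ hr i
    (fun l => (hsame2 i l).trans (by rw [hr₀, hu])) (fun l => (hsame2 (i + 1) l).trans (by rw [← hcv', hv]))
    (h.core_odd.of_dvd_nat (Subgroup.card_dvd_of_le hAO))
    (fun a ha b hb => ((hmA.1 ha).2 b (hmA.1 hb).1).eq) (fun a ha => ?_) (fun a ha => hAinv i a ha) hpodd
    (fun a ha => hAn p (hC ▸ Φ.O_le hpO) a ha) hpA
  · refine (card_cent_prod (P := Φ.S) Φ.O_odd h.core_norm Φ.O_sup).trans ?_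
    rw [Nat.card_congr Φ.ι.symm.toEquiv, DihedralGroup.nat_card]
  · rw [show (r 1 : DihedralGroup (2 ^ Φ.k)) = r (i + 1 - i) by rw [add_sub_cancel_left], ← Φ.refl_mul_refl]
    refine mul_inv_eq_iff_eq_mul.1 ?_
    rw [show Φ.refl i * Φ.refl (i + 1) * a * (Φ.refl i * Φ.refl (i + 1))⁻¹ =
      Φ.refl i * (Φ.refl (i + 1) * a * (Φ.refl (i + 1))⁻¹) * (Φ.refl i)⁻¹ by group, hAinv (i + 1) a ha,
      hAinv i a⁻¹ (inv_mem ha), inv_inv]

end Cfsg.Agent.GW
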