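import Cfsg.Agent.Lib.GW.MaxControlBase
import Cfsg.Agent.Lib.GW.MaxControlResidual
import Cfsg.Agent.Lib.GW.EightLinearDegree
import Cfsg.Agent.Lib.GW.FourLinear

/-!
# A maximal centraliser of an involution: reflections without fixed points on the odd cores invert the core

The elements of `O` commuting with all odd cores of `C` form an abelian group `F` inverted by the reflections and
`O = F·C_O(S)`; a linear character of `C_O(S)` would give a linear character of `C` that cannot exist.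
-/

set_option autoImplicit false
set_option linter.unusedSectionVars false
set_option linter.style.haveILetI false

namespace Cfsg.Agent.GW

open Cfsg Cfsg.Agent DihedralGroup

universe u

variable {G : Type u} [Group G] [Finite G]

/-- an involution without fixed point on a group of odd order inverts it -/
theorem inverted_of_fixed_bot {H : Subgroup G} (hH : Odd (Nat.card ↥H)) {s : G} (hs : s * s = 1)
    (hn : s ∈ Subgroup.normalizer (H : Set G)) (h0 : H ⊓ Subgroup.centralizer ({s} : Set G) = ⊥) :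
    ∀ y ∈ H, s * y * s⁻¹ = y⁻¹ := by
  have hc := inv_count hH hs hn
  rw [h0, Subgroup.card_bot, mul_one] at hc
  intro y hy
  obtain ⟨⟨w, hw⟩, e⟩ := ((Function.Injective.bijective_of_nat_card_le
    (f := (Subtype.val : {w : ↥H // s * (w : G) * s⁻¹ = (w : G)⁻¹} → ↥H)) Subtype.val_injective hc.ge).2 ⟨y, hy⟩)
  obtain rfl : (w : G) = y := congrArg Subtype.val e
  exact hw

/-- elements of `O` commuting with the odd cores of `C` lie in the Fitting subgroup -/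
theorem MaxCent.mem_fitting_of_commute [IsSimpleGroup G] {t : G} {O : Subgroup G} (h : MaxCent t O) {e : G} (he : e ∈ O)
    (hc : ∀ s : ℕ, s.Prime → s ≠ 2 → ∀ y ∈ fq s (Subgroup.centralizer ({t} : Set G)), Commute e y) :
    (⟨e, h.core_le he⟩ : ↥(Subgroup.centralizer ({t} : Set G))) ∈
      Cfsg.fittingSubgroup ↥(Subgroup.centralizer ({t} : Set G)) := by
  obtain ⟨C, hC⟩ : ∃ C, C = Subgroup.centralizer ({t} : Set G) := ⟨_, rfl⟩
  refine Solv.centralizer_fitting_le h.solv (Subgroup.mem_centralizer_iff.2 fun y hy => ?_)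
  refine (Subgroup.mem_centralizer_singleton_iff.1
    ((?_ : Cfsg.fittingSubgroup ↥(Subgroup.centralizer ({t} : Set G)) ≤
      Subgroup.centralizer ({(⟨e, h.core_le he⟩ : ↥(Subgroup.centralizer ({t} : Set G)))} : Set _)) hy))
  rw [Solv.fitting_eq_iSup_pCore, iSup_le_iff]
  intro p y hy
  refine Subgroup.mem_centralizer_singleton_iff.2 (Subtype.ext ?_)
  show (y : G) * e = e * y
  haveI := Fact.mk p.2
  by_cases hp2 : (p : ℕ) = 2
  · refine (h.commute_two he (b := (y : G)) ?_).symm.eq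
    rw [← hp2]
    exact ⟨y, hy, rfl⟩
  · exact (hc p p.2 hp2 _ ⟨y, hy, rfl⟩).symm.eq

variable [IsSimpleGroup G] {Φ : Frame G}

/-- the inverted part of `O` and its complement `C_O(S)` -/
structure InvSplit (Φ : Frame G) (F K : Subgroup G) : Prop where
  F_le : F ≤ Φ.O
  K_le : K ≤ Φ.O
  F_inv : ∀ i, ∀ a ∈ F, Φ.refl i * a * (Φ.refl i)⁻¹ = a⁻¹
  F_norm : ∀ c ∈ Subgroup.centralizer ({Φ.t} : Set G), ∀ a ∈ F, c * a * c⁻¹ ∈ F
  K_mem : ∀ i, ∀ a ∈ Φ.O, a ∈ K ↔ Commute a (Φ.refl i)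
  K_S : ∀ a ∈ K, ∀ s ∈ (Φ.S : Subgroup G), Commute a s
  disj : ∀ a ∈ F, a ∈ K → a = 1
  prod : ∀ a ∈ Φ.O, ∃ f ∈ F, ∃ k ∈ K, a = f * k
  self : ∀ k ∈ K, (∀ a ∈ F, Commute k a) → k = 1

/-- **the splitting exists** -/
theorem MaxCent.exists_invSplit (h : MaxCent Φ.t Φ.O)
    (hreg : ∀ i : ZMod (2 ^ Φ.k), ∀ s : ℕ, s.Prime → s ≠ 2 →
      fq s (Subgroup.centralizer ({Φ.t} : Set G)) ⊓ Subgroup.centralizer ({Φ.refl i} : Set G) = ⊥) :
    ∃ F K, InvSplit Φ F K := by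
  haveI : NeZero (2 ^ Φ.k) := ⟨by positivity⟩
  obtain ⟨C, hC⟩ : ∃ C, C = Subgroup.centralizer ({Φ.t} : Set G) := ⟨_, rfl⟩
  rw [← hC] at hreg
  have hreflC : ∀ i, Φ.refl i ∈ C := fun i => hC ▸ Φ.S_le (Φ.refl_mem i)
  have hfqO : ∀ s : ℕ, s.Prime → s ≠ 2 → fq s C ≤ Φ.O := fun s hs hs2 => hC ▸ h.fq_odd_le_core hs hs2
  have hfqinv : ∀ i, ∀ s : ℕ, s.Prime → s ≠ 2 → ∀ y ∈ fq s C, Φ.refl i * y * (Φ.refl i)⁻¹ = y⁻¹ :=
    fun i s hs hs2 => inverted_of_fixed_bot (h.core_odd.of_dvd_nat (Subgroup.card_dvd_of_le (hfqO s hs hs2))) (Φ.uu i)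
      (mem_normalizer_of_conj fun y hy => conj_fq hs (hreflC i) hy) (hreg i s hs hs2)
  obtain ⟨F, hF⟩ : ∃ F, F = Φ.O ⊓ Subgroup.centralizer {y : G | ∃ s : ℕ, s.Prime ∧ s ≠ 2 ∧ y ∈ fq s C} := ⟨_, rfl⟩
  have hmF : ∀ {a : G}, a ∈ F ↔ a ∈ Φ.O ∧ ∀ s : ℕ, s.Prime → s ≠ 2 → ∀ y ∈ fq s C, Commute a y := fun {a} => by
    rw [hF, Subgroup.mem_inf, Subgroup.mem_centralizer_iff]
    exact ⟨fun hh => ⟨hh.1, fun s hs hs2 y hy => (hh.2 y ⟨s, hs, hs2, hy⟩).symm⟩,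
      fun hh => ⟨hh.1, fun y ⟨s, hs, hs2, hy⟩ => (hh.2 s hs hs2 y hy).symm⟩⟩
  have hfqab : ∀ i : ZMod (2 ^ Φ.k), ∀ s : ℕ, s.Prime → s ≠ 2 → ∀ a ∈ fq s C, ∀ b ∈ fq s C, Commute a b := by
    intro i s hs hs2 a ha b hb
    have h1 := hfqinv i s hs hs2 _ (mul_mem ha hb)
    rw [← conj_mul, hfqinv i s hs hs2 a ha, hfqinv i s hs hs2 b hb, mul_inv_rev] at h1
    exact inv_injective (by rw [mul_inv_rev, mul_inv_rev]; exact h1.symm)
  have hfqF : ∀ s : ℕ, s.Prime → s ≠ 2 → ∀ y ∈ fq s C, y ∈ F := fun s hs hs2 y hy => by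
    refine hmF.2 ⟨hfqO s hs hs2 hy, fun s' hs' hs2' z hz => ?_⟩
    by_cases e : s = s'
    · exact hfqab 0 s hs hs2 y hy z (e ▸ hz)
    · exact commute_fq hs hs' e hy hz
  have hFn : ∀ c ∈ C, ∀ a ∈ F, c * a * c⁻¹ ∈ F := by
    intro c hc a ha
    obtain ⟨h1, h2⟩ := hmF.1 ha
    refine hmF.2 ⟨Φ.O_norm c (hC ▸ hc) a h1, fun s hs hs2 y hy => ?_⟩
    have h5 := (Commute.conj_iff c).2 (h2 s hs hs2 _ (conj_fq hs (inv_mem hc) hy))
    rwa [inv_inv, show c * (c⁻¹ * y * c) * c⁻¹ = y by group] at h5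
  have hfix : ∀ i, ∀ a ∈ F, Commute a (Φ.refl i) → a = 1 := by
    intro i a ha hau
    obtain ⟨h1, h2⟩ := hmF.1 ha
    by_contra ha1
    obtain ⟨s, hs, hsd⟩ := Nat.exists_prime_and_dvd (fun e => ha1 (orderOf_eq_one_iff.1 e))
    haveI := Fact.mk hs
    have hs2 : s ≠ 2 := fun e2 => (odd_orderOf Φ.O_odd h1).not_two_dvd_nat (e2 ▸ hsd)
    obtain ⟨b, hb⟩ : ∃ b, b = a ^ (orderOf a / s) := ⟨_, rfl⟩
    have hbo : orderOf b = s := by rw [hb]; exact orderOf_pow_orderOf_div (orderOf_pos a).ne' hsd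
    have hbC : b ∈ C := hb ▸ pow_mem (hC ▸ h.core_le h1) _
    have hbq : b ∈ fq s C := by
      subst hC
      refine ⟨⟨b, hbC⟩, Solv.pgroup_le_pCore_of_le_fitting ?_ (Subgroup.zpowers_le.2 ?_) (Subgroup.mem_zpowers _), rfl⟩
      · exact IsPGroup.of_card (n := 1) (by rw [Nat.card_zpowers, Subgroup.orderOf_mk, hbo, pow_one])
      · rw [show (⟨b, hbC⟩ : ↥(Subgroup.centralizer ({Φ.t} : Set G))) = ⟨a, h.core_le h1⟩ ^ (orderOf a / s) from
          Subtype.ext hb]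
        exact pow_mem (h.mem_fitting_of_commute h1 h2) _
    have hb1 : b = 1 := Subgroup.mem_bot.1 (hreg i s hs hs2 ▸
      ⟨hbq, Subgroup.mem_centralizer_singleton_iff.2 (hb ▸ (hau.pow_left _).eq)⟩)
    rw [hb1, orderOf_one] at hbo
    exact hs.one_lt.ne hbo
  have hFinv : ∀ i, ∀ a ∈ F, Φ.refl i * a * (Φ.refl i)⁻¹ = a⁻¹ := fun i =>
    inverted_of_fixed_bot (h.core_odd.of_dvd_nat (Subgroup.card_dvd_of_le fun a ha => (hmF.1 ha).1)) (Φ.uu i)
      (mem_normalizer_of_conj fun a ha => hFn _ (hreflC i) a ha)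
      ((Subgroup.eq_bot_iff_forall _).2 fun a ha => hfix i a ha.1 (Subgroup.mem_centralizer_singleton_iff.1 ha.2))
  -- rotations centralise `O`
  have hroty : ∀ l, ∀ s : ℕ, s.Prime → s ≠ 2 → ∀ y ∈ fq s C, Commute (Φ.hom (r l)) y := by
    intro l s hs hs2 y hy
    rw [show (r l : DihedralGroup (2 ^ Φ.k)) = r (l - 0) by rw [sub_zero], ← Φ.refl_mul_refl]
    refine mul_inv_eq_iff_eq_mul.1 ?_
    rw [show Φ.refl 0 * Φ.refl l * y * (Φ.refl 0 * Φ.refl l)⁻¹ =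
      Φ.refl 0 * (Φ.refl l * y * (Φ.refl l)⁻¹) * (Φ.refl 0)⁻¹ by group, hfqinv l s hs hs2 y hy,
      hfqinv 0 s hs hs2 _ (inv_mem hy), inv_inv]
  have hrotF : ∀ l, ∀ a ∈ F, Commute (Φ.hom (r l)) a := by
    intro l a ha
    rw [show (r l : DihedralGroup (2 ^ Φ.k)) = r (l - 0) by rw [sub_zero], ← Φ.refl_mul_refl]
    refine mul_inv_eq_iff_eq_mul.1 ?_
    rw [show Φ.refl 0 * Φ.refl l * a * (Φ.refl 0 * Φ.refl l)⁻¹ =
      Φ.refl 0 * (Φ.refl l * a * (Φ.refl l)⁻¹) * (Φ.refl 0)⁻¹ by group, hFinv l a ha, hFinv 0 _ (inv_mem ha),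
      inv_inv]
  have hrotO : ∀ l, ∀ a ∈ Φ.O, Commute (Φ.hom (r l)) a := by
    intro l a ha
    obtain ⟨z, hz⟩ : ∃ z, z = Φ.hom (r l) := ⟨_, rfl⟩
    have hzS : z ∈ (Φ.S : Subgroup G) := hz ▸ Φ.hom_range ▸ ⟨_, rfl⟩
    obtain ⟨e, he⟩ : ∃ e, e = z * a * z⁻¹ * a⁻¹ := ⟨_, rfl⟩
    have hzaO : z * a * z⁻¹ ∈ Φ.O := Φ.O_norm z (Φ.S_le hzS) a ha
    have heF : e ∈ F := by
      refine hmF.2 ⟨he ▸ mul_mem hzaO (inv_mem ha), fun s hs hs2 y hy => ?_⟩
      have h1 : a⁻¹ * y * a ∈ fq s C := by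
        have := conj_fq hs (inv_mem (hC ▸ h.core_le ha : a ∈ C)) hy
        rwa [inv_inv] at this
      refine mul_inv_eq_iff_eq_mul.1 ?_
      rw [he, show z * a * z⁻¹ * a⁻¹ * y * (z * a * z⁻¹ * a⁻¹)⁻¹ =
        z * a * (z⁻¹ * (a⁻¹ * y * a) * z) * a⁻¹ * z⁻¹ by group,
        show z⁻¹ * (a⁻¹ * y * a) * z = a⁻¹ * y * a by
          rw [mul_assoc, ← (hz ▸ hroty l s hs hs2 _ h1 : Commute z (a⁻¹ * y * a)).eq, inv_mul_cancel_left],
        show z * a * (a⁻¹ * y * a) * a⁻¹ * z⁻¹ = z * y * z⁻¹ by group, (hz ▸ hroty l s hs hs2 y hy : Commute z y).eq,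
        mul_inv_cancel_right]
    have hze : Commute z e := hz ▸ hrotF l e heF
    have hpow : ∀ n : ℕ, z ^ n * a * (z ^ n)⁻¹ = e ^ n * a := by
      intro n
      induction n with
      | zero => simp
      | succ n ih =>
        rw [pow_succ' z, show z * z ^ n * a * (z * z ^ n)⁻¹ = z * (z ^ n * a * (z ^ n)⁻¹) * z⁻¹ by group, ih,
          show z * (e ^ n * a) * z⁻¹ = (z * e ^ n * z⁻¹) * (z * a * z⁻¹) by group, (hze.pow_right n).eq,
          mul_inv_cancel_right, show z * a * z⁻¹ = e * a by rw [he]; group, ← mul_assoc, ← pow_succ]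
    have hz1 : z ^ (2 ^ Φ.k) = 1 := by rw [hz, ← map_pow, r_pow, ZMod.natCast_self, mul_zero, ← one_def, map_one]
    have h1 := hpow (2 ^ Φ.k)
    rw [hz1, one_mul, inv_one, mul_one] at h1
    have h2 : e ^ (2 ^ Φ.k) = 1 := (mul_eq_right.1 h1.symm)
    have he1 : e = 1 := orderOf_eq_one_iff.1 (Nat.eq_one_of_dvd_coprimes
      (((odd_orderOf Φ.O_odd (hmF.1 heF).1).coprime_two_left).pow_left Φ.k) (orderOf_dvd_of_pow_eq_one h2) dvd_rfl)
    rw [← hz]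
    exact mul_inv_eq_iff_eq_mul.1 (mul_inv_eq_one.1 (he ▸ he1))
  obtain ⟨K, hK⟩ : ∃ K, K = Φ.O ⊓ Subgroup.centralizer ({Φ.refl 0} : Set G) := ⟨_, rfl⟩
  have hmK : ∀ {a : G}, a ∈ K ↔ a ∈ Φ.O ∧ Commute a (Φ.refl 0) := fun {a} => by
    rw [hK, Subgroup.mem_inf, Subgroup.mem_centralizer_singleton_iff]
    exact Iff.rfl
  have hrefl : ∀ l, Φ.refl l = Φ.refl 0 * Φ.hom (r l) := fun l => by
    rw [← Φ.hom_sr, ← Φ.hom_sr, ← map_mul, sr_mul_r, zero_add]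
  have hKS : ∀ a ∈ K, ∀ s ∈ (Φ.S : Subgroup G), Commute a s := by
    intro a ha s hs
    rw [← Φ.hom_range] at hs
    obtain ⟨d, rfl⟩ := hs
    rcases d with l | l
    · exact (hrotO l a (hmK.1 ha).1).symm
    · rw [Φ.hom_sr, hrefl]
      exact (hmK.1 ha).2.mul_right (hrotO l a (hmK.1 ha).1).symm
  refine ⟨F, K, fun a ha => (hmF.1 ha).1, fun a ha => (hmK.1 ha).1, hFinv, fun c hc => hFn c (hC ▸ hc), fun i a ha => ?_,
    hKS, fun a ha hb => hfix 0 a ha (hmK.1 hb).2, fun a ha => ?_, fun k hk hkc => ?_⟩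
  · constructor
    · exact fun hk => hKS a hk _ (Φ.refl_mem i)
    · intro hai
      refine hmK.2 ⟨ha, ?_⟩
      have h1 : Φ.refl 0 = Φ.refl i * (Φ.hom (r i))⁻¹ := by rw [hrefl i, mul_inv_cancel_right]
      rw [h1]
      exact hai.mul_right (hrotO i a ha).symm.inv_right
  · obtain ⟨u, hu⟩ : ∃ u, u = Φ.refl 0 := ⟨_, rfl⟩
    have hu2 : u * u = 1 := hu ▸ Φ.uu 0
    have hui : u⁻¹ = u := inv_eq_of_mul_eq_one_right hu2
    have huC : u ∈ C := hu ▸ hreflC 0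
    obtain ⟨e, he⟩ : ∃ e, e = u * a * u⁻¹ * a⁻¹ := ⟨_, rfl⟩
    have heF : e ∈ F := by
      refine hmF.2 ⟨he ▸ mul_mem (Φ.O_norm u (hC ▸ huC) a ha) (inv_mem ha), fun s hs hs2 y hy => ?_⟩
      have h1 : a⁻¹ * y * a ∈ fq s C := by
        have := conj_fq hs (inv_mem (hC ▸ h.core_le ha : a ∈ C)) hy
        rwa [inv_inv] at this
      refine mul_inv_eq_iff_eq_mul.1 ?_
      rw [he, show u * a * u⁻¹ * a⁻¹ * y * (u * a * u⁻¹ * a⁻¹)⁻¹ =
        u * a * (u⁻¹ * (a⁻¹ * y * a) * u⁻¹⁻¹) * a⁻¹ * u⁻¹ by group, hui,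
        show u * (a⁻¹ * y * a) * u⁻¹ = (a⁻¹ * y * a)⁻¹ from hu ▸ hfqinv 0 s hs hs2 _ h1,
        show u * a * (a⁻¹ * y * a)⁻¹ * a⁻¹ * u = u * y⁻¹ * u by group]
      nth_rewrite 2 [← hui]
      rw [hu, hfqinv 0 s hs hs2 _ (inv_mem hy), inv_inv]
    obtain ⟨m, hm⟩ := odd_orderOf Φ.O_odd (hmF.1 heF).1
    obtain ⟨f, hf⟩ : ∃ f, f = e ^ (m + 1) := ⟨_, rfl⟩
    have hff : f * f = e := by
      rw [hf, ← pow_add, show m + 1 + (m + 1) = orderOf e + 1 by omega, pow_succ, pow_orderOf_eq_one, one_mul]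
    have hfF : f ∈ F := hf ▸ pow_mem heF _
    refine ⟨f⁻¹, inv_mem hfF, f * a, hmK.2 ⟨mul_mem (hmF.1 hfF).1 ha, ?_⟩, by group⟩
    refine (mul_inv_eq_iff_eq_mul.1 ?_ : Φ.refl 0 * (f * a) = f * a * Φ.refl 0).symm
    rw [← hu, show u * (f * a) * u⁻¹ = (u * f * u⁻¹) * (u * a * u⁻¹ * a⁻¹) * a by group, ← he,
      show u * f * u⁻¹ = f⁻¹ from hu ▸ hFinv 0 f hfF, ← hff, inv_mul_cancel_left]
  · refine hfix 0 k (hmF.2 ⟨(hmK.1 hk).1, fun s hs hs2 y hy => hkc y (hfqF s hs hs2 y hy)⟩) (hmK.1 hk).2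

/-- **the reflections invert the core** -/
theorem MaxCent.inverted_of_regular (hG : Minimal G) (h : MaxCent Φ.t Φ.O) (hrot : Rotates Φ.t)
    (hreg : ∀ i : ZMod (2 ^ Φ.k), ∀ s : ℕ, s.Prime → s ≠ 2 →
      fq s (Subgroup.centralizer ({Φ.t} : Set G)) ⊓ Subgroup.centralizer ({Φ.refl i} : Set G) = ⊥) :
    ∀ i, ∀ a ∈ Φ.O, Φ.refl i * a * (Φ.refl i)⁻¹ = a⁻¹ := by
  obtain ⟨F, K, hI⟩ := h.exists_invSplit hreg
  haveI : NeZero (2 ^ Φ.k) := ⟨by positivity⟩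
  haveI : Fact (Nat.Prime 2) := ⟨Nat.prime_two⟩
  by_cases hK1 : K = ⊥
  · intro i a ha
    obtain ⟨f, hf, k, hk, rfl⟩ := hI.prod a ha
    rw [hK1, Subgroup.mem_bot] at hk
    rw [hk, mul_one]
    exact hI.F_inv i f hf
  exfalso
  obtain ⟨C, hC⟩ : ∃ C, C = Subgroup.centralizer ({Φ.t} : Set G) := ⟨_, rfl⟩
  have hKC : ∀ k ∈ K, k ∈ C := fun k hk => hC ▸ Φ.O_le (hI.K_le hk)
  have hOS : ∀ a ∈ Φ.O, a ∈ (Φ.S : Subgroup G) → a = 1 := by
    intro a ha hs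
    obtain ⟨j, hj⟩ := IsPGroup.iff_orderOf.1 Φ.S.isPGroup' ⟨a, hs⟩
    rw [Subgroup.orderOf_mk] at hj
    exact orderOf_eq_one_iff.1 (Nat.eq_one_of_dvd_coprimes ((odd_orderOf Φ.O_odd ha).coprime_two_left.pow_left j)
      (hj ▸ dvd_rfl) dvd_rfl)
  have hCdec : ∀ c ∈ C, ∃ f ∈ F, ∃ k ∈ K, ∃ s ∈ (Φ.S : Subgroup G), c = f * k * s := by
    intro c hc
    have hc' : c ∈ ((Φ.O ⊔ (Φ.S : Subgroup G) : Subgroup G) : Set G) := by rw [Φ.O_sup, ← hC]; exact hc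
    rw [Subgroup.coe_mul_of_right_le_normalizer_left Φ.O (Φ.S : Subgroup G) (Φ.S_le.trans h.core_norm)] at hc'
    obtain ⟨o, ho, s, hs, rfl⟩ := hc'
    obtain ⟨f, hf, k, hk, rfl⟩ := hI.prod o ho
    exact ⟨f, hf, k, hk, s, hs, rfl⟩
  have hSn : (Φ.S : Subgroup G) ≤ Subgroup.normalizer (F : Set G) := fun s hs =>
    mem_normalizer_of_conj fun a ha => hI.F_norm s (Φ.S_le hs) a ha
  obtain ⟨R, hR⟩ : ∃ R, R = F ⊔ (Φ.S : Subgroup G) := ⟨_, rfl⟩
  have hRmem : ∀ r' ∈ R, ∃ f ∈ F, ∃ s ∈ (Φ.S : Subgroup G), r' = f * s := by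
    intro r' hr'
    have hr'' : r' ∈ ((F ⊔ (Φ.S : Subgroup G) : Subgroup G) : Set G) := hR ▸ hr'
    rw [Subgroup.coe_mul_of_right_le_normalizer_left F (Φ.S : Subgroup G) hSn] at hr''
    obtain ⟨f, hf, s, hs, rfl⟩ := hr''
    exact ⟨f, hf, s, hs, rfl⟩
  -- a linear character of `K`
  haveI : Nontrivial ↥K := (Subgroup.nontrivial_iff_ne_bot K).2 hK1
  haveI : Group.IsSolvable ↥K := Solv.isSolvable_of_le (fun k hk => Φ.O_le (hI.K_le hk)) h.solv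
  obtain ⟨g₀, -, hg₀⟩ := SetLike.exists_of_lt (Group.IsSolvable.commutator_lt_top_of_nontrivial ↥K)
  haveI : Fintype G := Fintype.ofFinite G
  haveI : Fintype ↥K := Fintype.ofFinite _
  obtain ⟨θ, hθ⟩ := Char.exists_linear_ne_one hg₀
  obtain ⟨L, hLK, hLR⟩ := exists_ext_of_sup C K R hKC
    (hR ▸ sup_le (fun a ha => hC ▸ Φ.O_le (hI.F_le ha)) (hC ▸ Φ.S_le))
    (fun k hk r' hr' => by
      obtain ⟨f, hf, s, hs, rfl⟩ := hRmem r' hr'
      rw [show k * (f * s) * k⁻¹ = (k * f * k⁻¹) * (k * s * k⁻¹) by group, (hI.K_S k hk s hs).eq,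
        mul_inv_cancel_right, hR]
      exact Subgroup.mul_mem_sup (hI.F_norm k (hC ▸ hKC k hk) f hf) hs)
    (fun c hc => by
      obtain ⟨f, hf, k, hk, s, hs, rfl⟩ := hCdec c hc
      refine ⟨f * s, hR ▸ Subgroup.mul_mem_sup hf hs, k, hk, ?_⟩
      rw [mul_assoc, (hI.K_S k hk s hs).eq, ← mul_assoc])
    θ (fun k hk => by
      obtain ⟨f, hf, s, hs, e⟩ := hRmem _ hk
      have h1 : s = 1 := hOS s (by
        rw [show s = f⁻¹ * (k : G) by rw [e]; group]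
        exact mul_mem (inv_mem (hI.F_le hf)) (hI.K_le k.2)) hs
      rw [h1, mul_one] at e
      rw [show k = 1 from Subtype.ext (hI.disj _ (e ▸ hf) k.2), map_one])
  subst hC
  have hLS : ∀ c : Subgroup.centralizer ({Φ.t} : Set G), (c : G) ∈ (Φ.S : Subgroup G) → L c = 1 :=
    fun c hc => hLR c (hR ▸ Subgroup.mem_sup_right hc)
  have hLF : ∀ c : Subgroup.centralizer ({Φ.t} : Set G), (c : G) ∈ F → L c = 1 :=
    fun c hc => hLR c (hR ▸ Subgroup.mem_sup_left hc)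
  have hL1 : L ⟨g₀, hKC _ g₀.2⟩ ≠ 1 := by rw [hLK _ g₀ rfl]; exact hθ
  by_cases hk : 2 ≤ Φ.k
  · -- the centraliser of `t` and a reflection
    have hsplit : ∀ i, ∀ c ∈ Subgroup.centralizer ({Φ.t} : Set G), Commute c (Φ.refl i) →
        ∃ a ∈ Φ.U i, ∃ k ∈ K, c = a * k := by
      intro i c hc hci
      obtain ⟨f, hf, k, hk', s, hs, rfl⟩ := hCdec c hc
      have hku := (hI.K_mem i k (hI.K_le hk')).1 hk'
      have h1 : Φ.refl i * (f * k * s) * (Φ.refl i)⁻¹ = f * k * s := by rw [← hci.eq, mul_inv_cancel_right]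
      rw [show Φ.refl i * (f * k * s) * (Φ.refl i)⁻¹ =
        (Φ.refl i * f * (Φ.refl i)⁻¹) * (Φ.refl i * k * (Φ.refl i)⁻¹) * (Φ.refl i * s * (Φ.refl i)⁻¹) by group,
        hI.F_inv i f hf, ← hku.eq, mul_inv_cancel_right] at h1
      obtain ⟨s', hs'⟩ : ∃ s', s' = Φ.refl i * s * (Φ.refl i)⁻¹ := ⟨_, rfl⟩
      rw [← hs'] at h1
      have hs'S : s' ∈ (Φ.S : Subgroup G) := hs' ▸ mul_mem (mul_mem (Φ.refl_mem i) hs) (inv_mem (Φ.refl_mem i))
      have h2 : (f * k)⁻¹ * (f⁻¹ * k) = s * s'⁻¹ := by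
        calc (f * k)⁻¹ * (f⁻¹ * k) = (f * k)⁻¹ * (f⁻¹ * k * s') * s'⁻¹ := by group
          _ = _ := by rw [h1]; group
      have h3 : s * s'⁻¹ = 1 := hOS _ (by
        rw [← h2]
        exact mul_mem (inv_mem (mul_mem (hI.F_le hf) (hI.K_le hk'))) (mul_mem (inv_mem (hI.F_le hf)) (hI.K_le hk')))
        (mul_mem hs (inv_mem hs'S))
      have hss : s = s' := mul_inv_eq_one.1 h3
      rw [← hss] at h1
      have hf1 : f = 1 := by
        have e := mul_right_cancel (mul_right_cancel h1)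
        refine hI.disj f hf ((hI.K_mem i f (hI.F_le hf)).2 ?_)
        refine (mul_inv_eq_iff_eq_mul.1 ?_).symm
        rw [hI.F_inv i f hf, e]
      have hsu : Commute s (Φ.refl i) := (mul_inv_eq_iff_eq_mul.1 (hs'.symm.trans hss.symm)).symm
      exact ⟨s, Φ.mem_U_of_commute hs hsu, k, hk', by rw [hf1, one_mul, (hI.K_S k hk' s hs).eq]⟩
    have hcard : ∀ i, Nat.card (Subgroup.centralizer ({Φ.t, Φ.refl i} : Set G)) = 4 * Nat.card ↥K := by
      intro i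
      rw [← Φ.U_card i, ← Nat.card_prod]
      refine (Nat.card_eq_of_bijective (fun c : ↥(Φ.U i) × ↥K => (⟨(c.1 : G) * (c.2 : G), ?_⟩ :
        ↥(Subgroup.centralizer ({Φ.t, Φ.refl i} : Set G)))) ⟨?_, ?_⟩).symm
      · refine Subgroup.mem_centralizer_iff.2 fun x hx => ?_
        have hxS : x ∈ (Φ.S : Subgroup G) := by
          rcases hx with rfl | rfl
          · exact Φ.t_mem
          · exact Φ.refl_mem i
        have hUx : Commute (c.1 : G) x := by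
          have htu := Φ.commute i
          rcases hx with rfl | rfl <;> rcases (Φ.mem_U_iff _).1 c.1.2 with e | e | e | e <;> rw [e]
          all_goals first
            | exact Commute.one_left _ | exact Commute.refl _ | exact htu | exact htu.symm
            | exact (Commute.refl Φ.t).mul_left htu.symm | exact htu.mul_left (Commute.refl (Φ.refl i))
        exact (hUx.mul_left (hI.K_S _ c.2.2 x hxS)).symm.eq
      · rintro ⟨a, k⟩ ⟨a', k'⟩ e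
        have e1 : (a : G) * k = a' * k' := congrArg Subtype.val e
        have h1 : (a' : G)⁻¹ * a = 1 := hOS _ (by
          rw [show (a' : G)⁻¹ * a = (k' : G) * (k : G)⁻¹ by rw [eq_mul_inv_iff_mul_eq, mul_assoc, e1, inv_mul_cancel_left]]
          exact mul_mem (hI.K_le k'.2) (inv_mem (hI.K_le k.2)))
          (mul_mem (inv_mem (Φ.U_le i a'.2)) (Φ.U_le i a.2))
        obtain rfl : a' = a := Subtype.ext (inv_mul_eq_one.1 h1)
        obtain rfl : k = k' := Subtype.ext (mul_left_cancel e1)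
        rfl
      · rintro ⟨c, hc⟩
        rw [Subgroup.mem_centralizer_iff] at hc
        obtain ⟨a, ha, k, hk', e⟩ := hsplit i c (Subgroup.mem_centralizer_singleton_iff.2 (hc Φ.t (Or.inl rfl)).symm)
          (hc (Φ.refl i) (Or.inr rfl)).symm
        exact ⟨(⟨a, ha⟩, ⟨k, hk'⟩), Subtype.ext e.symm⟩
    have hKi : ∀ i, Φ.O ⊓ Subgroup.centralizer ({Φ.refl i} : Set G) = K := by
      intro i
      ext a
      rw [Subgroup.mem_inf, Subgroup.mem_centralizer_singleton_iff]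
      exact ⟨fun ha => (hI.K_mem i a ha.1).2 ha.2, fun ha => ⟨hI.K_le ha, ((hI.K_mem i a (hI.K_le ha)).1 ha).eq⟩⟩
    obtain ⟨r₀, hr₀⟩ : ∃ r₀, r₀ = Nat.card {y : G // y ∈ Φ.O ∧ Φ.refl 0 * y * (Φ.refl 0)⁻¹ = y⁻¹} := ⟨_, rfl⟩
    have hcnt : ∀ i, Nat.card {y : G // y ∈ Φ.O ∧ Φ.refl i * y * (Φ.refl i)⁻¹ = y⁻¹} * Nat.card ↥K =
        Nat.card ↥Φ.O := fun i => by
      have := inv_count Φ.O_odd (Φ.uu i) (h.core_norm (Φ.S_le (Φ.refl_mem i)))
      rw [hKi i] at this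
      rw [← this]
      congr 1
      exact Nat.card_congr ⟨fun y => ⟨⟨y.1, y.2.1⟩, y.2.2⟩, fun w => ⟨(w.1 : G), w.1.2, w.2⟩, fun _ => rfl,
        fun _ => rfl⟩
    have hinv : ∀ i, Nat.card {y : G // y ∈ Φ.O ∧ Φ.refl i * y * (Φ.refl i)⁻¹ = y⁻¹} = r₀ := fun i => by
      rw [hr₀]
      exact Nat.eq_of_mul_eq_mul_right Nat.card_pos ((hcnt i).trans (hcnt 0).symm)
    have hfixc : ∀ i, Nat.card (Subgroup.centralizer ({Φ.t, Φ.refl i} : Set G)) * r₀ = 4 * Nat.card ↥Φ.O := fun i => by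
      rw [hcard, mul_assoc, ← hcnt 0, hr₀, mul_comm (Nat.card ↥K)]
    -- fusion
    have hfus : ∀ i : ZMod (2 ^ Φ.k), ∃ g : G, g * Φ.t * g⁻¹ = Φ.refl i ∧
        g ∈ Subgroup.normalizer ((Subgroup.zpowers Φ.t ⊔ Subgroup.zpowers (Φ.refl i) : Subgroup G) : Set G) ∧
        ∀ k k' : Subgroup.centralizer ({Φ.t} : Set G), (k : G) * Φ.refl i = Φ.refl i * k →
          (k' : G) = g * k * g⁻¹ → L k' = L k := by
      intro i
      obtain ⟨ρ, hρt, hρu⟩ := hrot _ (Φ.uu i) (Φ.refl_ne_one i) (Φ.refl_ne i) (Φ.commute i)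
      have hρe : ρ * (Φ.t * Φ.refl i) * ρ⁻¹ = Φ.t := (rho_sq (Φ.uu i) (Φ.commute i) hρt hρu).1
      refine ⟨ρ, hρt, ?_, ?_⟩
      · refine mem_normalizer_of_conj fun x hx => ?_
        have hle : (Subgroup.zpowers Φ.t ⊔ Subgroup.zpowers (Φ.refl i) : Subgroup G) ≤
            (Subgroup.zpowers Φ.t ⊔ Subgroup.zpowers (Φ.refl i) : Subgroup G).comap (MulAut.conj ρ).toMonoidHom := by
          refine sup_le (Subgroup.zpowers_le.2 ?_) (Subgroup.zpowers_le.2 ?_) <;>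
            rw [Subgroup.mem_comap, MulEquiv.coe_toMonoidHom, MulAut.conj_apply]
          · rw [hρt]; exact Subgroup.mem_sup_right (Subgroup.mem_zpowers _)
          · rw [hρu]; exact Subgroup.mul_mem_sup (Subgroup.mem_zpowers _) (Subgroup.mem_zpowers _)
        exact hle hx
      · -- the three-cycle fixes the character on `K`
        obtain ⟨v, hv⟩ : ∃ v, v = Φ.refl (i + ((2 ^ (Φ.k - 2) : ℕ) : ZMod (2 ^ Φ.k))) := ⟨_, rfl⟩
        have hvS : v ∈ (Φ.S : Subgroup G) := hv ▸ Φ.refl_mem _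
        have hvt : v * Φ.t * v⁻¹ = Φ.t := by rw [Φ.t_central v hvS, mul_inv_cancel_right]
        have hvu : v * Φ.refl i * v⁻¹ = Φ.t * Φ.refl i := by
          have hh : ((2 ^ Φ.k / 2 : ℕ) : ZMod (2 ^ Φ.k)) =
              ((2 ^ (Φ.k - 2) : ℕ) : ZMod (2 ^ Φ.k)) + ((2 ^ (Φ.k - 2) : ℕ) : ZMod (2 ^ Φ.k)) := by
            rw [← Nat.cast_add]
            congr 1
            obtain ⟨l, hl⟩ : ∃ l, Φ.k = l + 2 := ⟨Φ.k - 2, by omega⟩
            rw [hl, Nat.add_sub_cancel, pow_add]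
            omega
          rw [hv, ← Φ.hom_sr, ← Φ.hom_sr, ← Φ.hom_half, ← map_inv, ← map_mul, ← map_mul, ← map_mul, inv_sr,
            sr_mul_sr, r_mul_sr, r_mul_sr, hh]
          congr 2
          have hz := Φ.half_add
          rw [hh] at hz
          linear_combination hz
        have hvinv : v⁻¹ = v := inv_eq_of_mul_eq_one_right (hv ▸ Φ.uu _)
        have hρK : ∀ b ∈ K, ρ * b * ρ⁻¹ ∈ K := by
          intro b hb
          have hbt : Commute b Φ.t := hI.K_S b hb _ Φ.t_mem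
          have hbu : Commute b (Φ.refl i) := hI.K_S b hb _ (Φ.refl_mem i)
          have h1 := (Commute.conj_iff ρ).2 hbt
          have h2 := (Commute.conj_iff ρ).2 (hbt.mul_right hbu)
          rw [hρt] at h1
          rw [hρe] at h2
          refine (hI.K_mem i _ (h.core _ h2 ?_)).2 h1
          rw [show ρ * b * ρ⁻¹ = MulAut.conj ρ b from rfl, MulEquiv.orderOf_eq]
          exact odd_orderOf Φ.O_odd (hI.K_le hb)
        obtain ⟨ℓ, hℓ⟩ : ∃ ℓ : G → ℂˣ, ∀ c (hc : c ∈ Subgroup.centralizer ({Φ.t} : Set G)), ℓ c = L ⟨c, hc⟩ := by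
          classical
          exact ⟨fun c => if hc : c ∈ Subgroup.centralizer ({Φ.t} : Set G) then L ⟨c, hc⟩ else 1,
            fun c hc => dif_pos hc⟩
        have hinvar : ∀ w, Commute w Φ.t → Commute w (Φ.refl i) → ∀ b ∈ K, ℓ (w * b * w⁻¹) = ℓ b := by
          intro w hwt hwu b hb
          have hw : w ∈ Subgroup.centralizer ({Φ.t} : Set G) := Subgroup.mem_centralizer_singleton_iff.2 hwt.eq
          rw [hℓ _ (mul_mem (mul_mem hw (hKC b hb)) (inv_mem hw)), hℓ b (hKC b hb),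
            show (⟨w * b * w⁻¹, mul_mem (mul_mem hw (hKC b hb)) (inv_mem hw)⟩ :
              Subgroup.centralizer ({Φ.t} : Set G)) = ⟨w, hw⟩ * ⟨b, hKC b hb⟩ * ⟨w, hw⟩⁻¹ from rfl,
            map_mul, map_mul, map_inv, mul_comm (L _), mul_assoc, mul_inv_cancel, mul_one]
        have hcyc : ∀ b ∈ K, ℓ (ρ * b * ρ⁻¹) = ℓ b := by
          intro b hb
          have hsq : ∀ b ∈ K, ℓ (ρ * (ρ * b * ρ⁻¹) * ρ⁻¹) = ℓ b := by
            intro b hb
            obtain ⟨w, hw⟩ : ∃ w, w = v * ρ * v⁻¹ * ρ := ⟨_, rfl⟩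
            have hit : v⁻¹ * Φ.t * v⁻¹⁻¹ = Φ.t := by rw [hvinv]; exact hvt
            have hiu : v⁻¹ * Φ.refl i * v⁻¹⁻¹ = Φ.t * Φ.refl i := by rw [hvinv]; exact hvu
            have hie : v * (Φ.t * Φ.refl i) * v⁻¹ = Φ.refl i := by
              rw [← conj_mul, hvt, hvu, ← mul_assoc, Φ.tt, one_mul]
            have hie' : v⁻¹ * (Φ.t * Φ.refl i) * v⁻¹⁻¹ = Φ.refl i := by
              rw [← conj_mul, hit, hiu, ← mul_assoc, Φ.tt, one_mul]
            have hw1 : w * Φ.t * w⁻¹ = Φ.t := by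
              rw [hw, show v * ρ * v⁻¹ * ρ * Φ.t * (v * ρ * v⁻¹ * ρ)⁻¹ =
                v * (ρ * (v⁻¹ * (ρ * Φ.t * ρ⁻¹) * v⁻¹⁻¹) * ρ⁻¹) * v⁻¹ by group, hρt, hiu, hρe, hvt]
            have hw2 : w * Φ.refl i * w⁻¹ = Φ.refl i := by
              rw [hw, show v * ρ * v⁻¹ * ρ * Φ.refl i * (v * ρ * v⁻¹ * ρ)⁻¹ =
                v * (ρ * (v⁻¹ * (ρ * Φ.refl i * ρ⁻¹) * v⁻¹⁻¹) * ρ⁻¹) * v⁻¹ by group, hρu, hie', hρu, hie]
            have h1 := hinvar w (mul_inv_eq_iff_eq_mul.1 hw1) (mul_inv_eq_iff_eq_mul.1 hw2) b hb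
            have hb1 := hρK b hb
            have hb2 := hρK _ hb1
            rw [hw, show v * ρ * v⁻¹ * ρ * b * (v * ρ * v⁻¹ * ρ)⁻¹ =
              v * (ρ * (v⁻¹ * (ρ * b * ρ⁻¹) * v) * ρ⁻¹) * v⁻¹ by group,
              show v⁻¹ * (ρ * b * ρ⁻¹) * v = ρ * b * ρ⁻¹ by
                rw [mul_assoc, (hI.K_S _ hb1 v hvS).eq, inv_mul_cancel_left],
              show v * (ρ * (ρ * b * ρ⁻¹) * ρ⁻¹) * v⁻¹ = ρ * (ρ * b * ρ⁻¹) * ρ⁻¹ by
                rw [← (hI.K_S _ hb2 v hvS).eq, mul_inv_cancel_right]] at h1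
            exact h1
          have hcube : ℓ (ρ * (ρ * (ρ * b * ρ⁻¹) * ρ⁻¹) * ρ⁻¹) = ℓ b := by
            have h1 : ρ * ρ * ρ * Φ.t * (ρ * ρ * ρ)⁻¹ = Φ.t := by
              rw [show ρ * ρ * ρ * Φ.t * (ρ * ρ * ρ)⁻¹ = ρ * (ρ * (ρ * Φ.t * ρ⁻¹) * ρ⁻¹) * ρ⁻¹ by group, hρt, hρu,
                hρe]
            have h2 : ρ * ρ * ρ * Φ.refl i * (ρ * ρ * ρ)⁻¹ = Φ.refl i := by
              rw [show ρ * ρ * ρ * Φ.refl i * (ρ * ρ * ρ)⁻¹ = ρ * (ρ * (ρ * Φ.refl i * ρ⁻¹) * ρ⁻¹) * ρ⁻¹ by group,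
                hρu, hρe, hρt]
            have := hinvar (ρ * ρ * ρ) (mul_inv_eq_iff_eq_mul.1 h1) (mul_inv_eq_iff_eq_mul.1 h2) b hb
            rwa [show ρ * ρ * ρ * b * (ρ * ρ * ρ)⁻¹ = ρ * (ρ * (ρ * b * ρ⁻¹) * ρ⁻¹) * ρ⁻¹ by group] at this
          rw [← hsq _ (hρK b hb)]
          exact hcube
        intro k k' hku hk'
        obtain ⟨a, ha, b, hb, e⟩ := hsplit i k k.2 hku
        have hρa : ρ * a * ρ⁻¹ ∈ (Φ.S : Subgroup G) := by
          rcases (Φ.mem_U_iff _).1 ha with e' | e' | e' | e' <;> rw [e']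
          · rw [mul_one, mul_inv_cancel]; exact one_mem _
          · rw [hρt]; exact Φ.refl_mem i
          · rw [hρu]; exact mul_mem Φ.t_mem (Φ.refl_mem i)
          · rw [hρe]; exact Φ.t_mem
        have haC : a ∈ Subgroup.centralizer ({Φ.t} : Set G) := Φ.S_le (Φ.U_le i ha)
        have hρaC : ρ * a * ρ⁻¹ ∈ Subgroup.centralizer ({Φ.t} : Set G) := Φ.S_le hρa
        have hρbC : ρ * b * ρ⁻¹ ∈ Subgroup.centralizer ({Φ.t} : Set G) := hKC _ (hρK b hb)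
        rw [show k = ⟨a, haC⟩ * ⟨b, hKC b hb⟩ from Subtype.ext e,
          show k' = ⟨ρ * a * ρ⁻¹, hρaC⟩ * ⟨ρ * b * ρ⁻¹, hρbC⟩ from Subtype.ext
            (by rw [hk', e, Subgroup.coe_mul]; group),
          map_mul, map_mul, hLS ⟨_, hρaC⟩ hρa, hLS ⟨_, haC⟩ (Φ.U_le i ha), one_mul, one_mul, ← hℓ, ← hℓ]
        exact hcyc b hb
    -- an element of `K` moving `F`
    obtain ⟨p, hp, hpF⟩ : ∃ p ∈ K, ¬ ∀ a ∈ F, Commute p a := by
      by_contra hcon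
      push Not at hcon
      exact hK1 ((Subgroup.eq_bot_iff_forall K).2 fun p hp => hI.self p hp (hcon p hp))
    obtain ⟨M, hM⟩ := Char.exists_pModular Nat.prime_two
    obtain ⟨a, ha⟩ : ∃ a, Φ.k = a + 2 := ⟨Φ.k - 2, by omega⟩
    have D : Eight.Data Φ.S Φ.ι Φ.t Φ.O L :=
      ⟨⟨a, by rw [ha]⟩, rfl, Φ.O_odd, Φ.O_le, Φ.O_norm, Φ.O_sup, hLS, hfus⟩
    exact D.eight_degree_false hM (fun e => hL1 (by rw [e]; rfl))
      (h.core_odd.of_dvd_nat (Subgroup.card_dvd_of_le hI.F_le))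
      (fun a ha b hb => by
        have h1 := hI.F_inv 0 _ (mul_mem ha hb)
        rw [← conj_mul, hI.F_inv 0 a ha, hI.F_inv 0 b hb, mul_inv_rev] at h1
        exact inv_injective (by rw [mul_inv_rev, mul_inv_rev]; exact h1.symm))
      (fun a ha => Φ.O_le (hI.F_le ha)) hLF (hI.F_inv 0) (odd_orderOf Φ.O_odd (hI.K_le hp))
      (fun a ha => hI.F_norm p (hKC p hp) a ha) hpF hinv hfixc
  · -- four groups
    have hk1 : Φ.k = 1 := by have := Φ.hk; omega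
    have hPC : Subgroup.centralizer ((Φ.S : Subgroup G) : Set G) ≤ Subgroup.centralizer ({Φ.t} : Set G) :=
      Subgroup.centralizer_le (Set.singleton_subset_iff.2 Φ.t_mem)
    have hexp : ∀ x : Φ.S, x * x = 1 := by
      intro x
      obtain ⟨d, rfl⟩ := Φ.ι.surjective x
      rw [← map_mul, ← map_one Φ.ι]
      refine congrArg Φ.ι ?_
      rcases d with j | j
      · rw [r_mul_r, DihedralGroup.one_def]
        refine congrArg r ?_
        have h2 : ((2 : ℕ) : ZMod (2 ^ Φ.k)) = 0 := by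
          rw [ZMod.natCast_eq_zero_iff, hk1]
          norm_num
        linear_combination j * h2
      · exact sr_mul_self j
    haveI : IsMulCommutative (Φ.S : Subgroup G) :=
      ⟨⟨fun a b => by
        have h1 := hexp (a * b)
        calc a * b = a * ((a * b) * (a * b)) * b := by rw [h1, mul_one]
          _ = (a * a) * (b * a) * (b * b) := by group
          _ = b * a := by rw [hexp a, hexp b, one_mul, mul_one]⟩⟩
    have hSmem : ∀ s ∈ (Φ.S : Subgroup G), s ∈ Subgroup.centralizer ((Φ.S : Subgroup G) : Set G) :=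
      fun s hs => Subgroup.mem_centralizer_iff.2 fun x hx => congrArg Subtype.val
        ((inferInstance : IsMulCommutative (Φ.S : Subgroup G)).is_comm.comm (⟨x, hx⟩ : (Φ.S : Subgroup G)) ⟨s, hs⟩)
    have hKmem : ∀ k ∈ K, k ∈ Subgroup.centralizer ((Φ.S : Subgroup G) : Set G) :=
      fun k hk => Subgroup.mem_centralizer_iff.2 fun x hx => (hI.K_S k hk x hx).symm.eq
    refine four_linear_false_simple_sup Φ.S ?_ hexp (fun a b ha hb => hG.oneClass a b ha hb) Φ.t_mem Φ.t_ne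
      (L.comp (Subgroup.inclusion hPC)) (fun e => hL1 ?_) (fun w hw => hLS _ hw) F
      (fun a ha => Φ.O_le (hI.F_le ha)) (fun w hw a ha => hI.F_norm w (hPC hw) a ha) (fun c hc => ?_)
      fun g _ w w' hw he => ?_
    · rw [Nat.card_congr Φ.ι.symm.toEquiv, DihedralGroup.nat_card, hk1]
      norm_num
    · exact DFunLike.congr_fun e ⟨g₀, hKmem _ g₀.2⟩
    · obtain ⟨f, hf, k, hk, s, hs, rfl⟩ := hCdec c hc
      exact ⟨f, hf, k * s, mul_mem (hKmem k hk) (hSmem s hs), mul_assoc f k s⟩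
    · have h1 : (w : G) = 1 := by
        refine hI.disj _ hw ((hI.K_mem 0 _ (hI.F_le hw)).2 ?_)
        exact (Subgroup.mem_centralizer_iff.1 w.2 _ (Φ.refl_mem 0)).symm
      have h2 : w' = 1 := Subtype.ext (by rw [he, h1]; simp)
      rw [h2, map_one]

end Cfsg.Agent.GW
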