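import Cfsg.Agent.Lib.GW.MaxLayer
import Cfsg.Agent.S1247

/-!
# Layers over a maximal centraliser: the embedding lemma

A perfect subgroup `L` not inside `C = C(t)` that centralises a nontrivial subgroup `X` of some `O_q(C)` lies in the
layer of every maximal subgroup over `N(X)`; the part of `O_q(C)` centralised by that layer is the part centralised
by the reflection of `L`.
-/

set_option autoImplicit false
set_option linter.unusedSectionVars false
set_option linter.style.haveILetI false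

namespace Cfsg.Agent.GW

open Cfsg Cfsg.Agent
open scoped commutatorElement

universe w

variable {G : Type w} [Group G] [Finite G]

/-- an element of odd order centralised and inverted is trivial -/
theorem eq_one_of_inv_fix {x z : G} (ho : Odd (orderOf x)) (hi : z * x * z⁻¹ = x⁻¹) (hc : Commute z x) : x = 1 := by
  rw [hc.eq, mul_inv_cancel_right] at hi
  refine orderOf_eq_one_iff.1 (Nat.eq_one_of_dvd_coprimes ho.coprime_two_left
    (orderOf_dvd_of_pow_eq_one ?_) dvd_rfl)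
  rw [pow_two]
  nth_rw 2 [hi]
  exact mul_inv_cancel x

theorem odd_orderOf {H : Subgroup G} (hH : Odd (Nat.card ↥H)) {x : G} (hx : x ∈ H) : Odd (orderOf x) :=
  hH.of_dvd_nat (Subgroup.orderOf_dvd_natCard _ hx)

variable {t : G} {O : Subgroup G}

theorem lay_le (N : Subgroup G) : lay N ≤ N := Subgroup.map_subtype_le _

theorem lay_norm (N : Subgroup G) : N ≤ Subgroup.normalizer (lay N : Set G) := by
  rw [lay, ← Subgroup.normal_subgroupOf_iff_le_normalizer (Subgroup.map_subtype_le _), Subgroup.subgroupOf,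
    Subgroup.comap_map_eq_self_of_injective N.subtype_injective]
  exact Local.layer_normal

theorem lay_perfect (N : Subgroup G) : ⁅lay N, lay N⁆ = lay N := by
  have hp := S1247.layer_perfect' (H := ↥N)
  have h1 : ⁅Cfsg.layer ↥N, Cfsg.layer ↥N⁆ = Cfsg.layer ↥N := by
    rw [← Subgroup.map_subtype_commutator, hp.commutator_eq_top, ← MonoidHom.range_eq_map, Subgroup.range_subtype]
  rw [lay, ← Subgroup.map_commutator, h1]

theorem lay_le_normalizer_cent (N : Subgroup G) : lay N ≤ Subgroup.normalizer (layCent N : Set G) :=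
  le_trans (fun _ hx => Subgroup.mem_centralizer_iff.2 fun _ hy =>
    ((Subgroup.mem_centralizer_iff.1 hy.2 _ hx).symm)) (Subgroup.centralizer_le_normalizer _)

variable [IsSimpleGroup G]

theorem normalizer_le_norm_cent (H : Subgroup G) :
    Subgroup.normalizer (H : Set G) ≤ Subgroup.normalizer (Subgroup.centralizer (H : Set G) : Set G) :=
  fun n hn => mem_norm_of_conj fun x hx => Subgroup.mem_centralizer_iff.2 fun y hy => by
    have h' := (Subgroup.mem_normalizer_iff.1 (inv_mem hn) y).1 hy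
    have := Subgroup.mem_centralizer_iff.1 hx _ h'
    calc y * (n * x * n⁻¹) = n * (n⁻¹ * y * n⁻¹⁻¹ * x) * n⁻¹ := by group
      _ = _ := by rw [this]; group

theorem layCent_norm (N : Subgroup G) : N ≤ Subgroup.normalizer (layCent N : Set G) :=
  le_trans (le_inf Subgroup.le_normalizer ((lay_norm N).trans (normalizer_le_norm_cent _)))
    Subgroup.inf_normalizer_le_normalizer_inf

/-- `N(Y) = C` for a nontrivial subgroup `Y ≤ O` normal in `C` -/
theorem MaxCent.normalizer_eq (h : MaxCent t O) {Y : Subgroup G} (hY : Y ≠ ⊥) (hYO : Y ≤ O)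
    (hn : Subgroup.centralizer ({t} : Set G) ≤ Subgroup.normalizer (Y : Set G)) :
    Subgroup.normalizer (Y : Set G) = Subgroup.centralizer ({t} : Set G) := by
  refine (hn.eq_or_lt.resolve_right fun hlt => ?_).symm
  have hn' := Subgroup.normalizer_eq_top_iff.1 (h.max.2 _ hlt)
  rcases hn'.eq_bot_or_eq_top with he | he
  · exact hY he
  · exact h.max.1 (top_le_iff.1 (he ▸ hYO.trans h.core_le))

theorem MaxCent.fq_le_core (h : MaxCent t O) {p : ℕ} (hp : p.Prime) (hp2 : p ≠ 2) :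
    fq p (Subgroup.centralizer ({t} : Set G)) ≤ O := by
  haveI := Fact.mk hp
  intro x hx
  obtain ⟨k, hk⟩ := fq_isPGroup p (Subgroup.centralizer ({t} : Set G)) ⟨x, hx⟩
  exact h.core x (Subgroup.mem_centralizer_singleton_iff.1 (fq_le p _ hx))
    ((hp.odd_of_ne_two hp2).pow.of_dvd_nat (orderOf_dvd_of_pow_eq_one (congrArg Subtype.val hk)))

/-- no noncentral involution of `C` centralises all the odd cores -/
theorem MaxCent.no_central (h : MaxCent t O) (hrot : Rotates t) {z : G} (hz : z * z = 1) (hz1 : z ≠ 1) (hzt : z ≠ t)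
    (htz : Commute t z) (hF : ∀ s : ℕ, s.Prime → s ≠ 2 →
      ∀ x ∈ fq s (Subgroup.centralizer ({t} : Set G)), Commute z x) : False := by
  obtain ⟨C, hC⟩ : ∃ C, C = Subgroup.centralizer ({t} : Set G) := ⟨_, rfl⟩
  have hzC : z ∈ C := hC ▸ Subgroup.mem_centralizer_singleton_iff.2 htz.eq.symm
  rw [← hC] at hF
  have hzinv : z⁻¹ = z := inv_eq_of_mul_eq_one_right hz
  -- `z` centralises `O`
  have hzO : ∀ a ∈ O, Commute z a := by
    intro a ha
    obtain ⟨c, hc⟩ : ∃ c, c = a * z * a⁻¹ * z := ⟨_, rfl⟩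
    have hcO : c ∈ O := by
      have h1 := (Subgroup.mem_normalizer_iff.1 (h.core_norm (hC ▸ hzC)) a⁻¹).1 (inv_mem ha)
      rw [hc, show a * z * a⁻¹ * z = a * (z * a⁻¹ * z⁻¹) by rw [hzinv]; group]
      exact mul_mem ha h1
    have hcC : c ∈ C := hC ▸ h.core_le hcO
    have hci : z * c * z⁻¹ = c⁻¹ := by
      rw [hc]
      calc z * (a * z * a⁻¹ * z) * z⁻¹ = z * a * z * a⁻¹ := by group
        _ = z⁻¹ * a * z⁻¹ * a⁻¹ := by rw [hzinv]
        _ = _ := by group
    have hcodd := odd_orderOf h.core_odd hcO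
    have hcF : (⟨c, hcC⟩ : ↥C) ∈ Cfsg.fittingSubgroup ↥C := by
      refine Solv.centralizer_fitting_le (hC ▸ h.solv) (Subgroup.mem_centralizer_iff.2 fun y hy => ?_)
      refine (Subgroup.mem_centralizer_singleton_iff.1
        ((?_ : Cfsg.fittingSubgroup ↥C ≤ Subgroup.centralizer ({(⟨c, hcC⟩ : ↥C)} : Set ↥C)) hy))
      rw [Solv.fitting_eq_iSup_pCore, iSup_le_iff]
      intro p y hy
      refine Subgroup.mem_centralizer_singleton_iff.2 (Subtype.ext ?_)
      haveI := Fact.mk p.2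
      by_cases hp2 : (p : ℕ) = 2
      · exact (h.commute_two hcO (b := (y : G)) (by rw [← hC, ← hp2]; exact ⟨y, hy, rfl⟩)).symm.eq
      have hyq : (y : G) ∈ fq (p : ℕ) C := ⟨y, hy, rfl⟩
      have haC : a ∈ C := hC ▸ h.core_le ha
      have h1 : Commute (a * z * a⁻¹) (y : G) := by
        have := (Commute.conj_iff a).2 (hF p p.2 hp2 _ (conj_fq p.2 (inv_mem haC) hyq))
        rwa [show a * (a⁻¹ * (y : G) * a⁻¹⁻¹) * a⁻¹ = (y : G) by group] at this
      exact (hc ▸ h1.mul_left (hF p p.2 hp2 _ hyq)).symm.eq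
    have hc1 : c = 1 := by
      by_contra hne
      obtain ⟨p, hp, hpd⟩ := Nat.exists_prime_and_dvd (fun e => hne (orderOf_eq_one_iff.1 e))
      haveI := Fact.mk hp
      have hp2 : p ≠ 2 := fun e => Nat.not_even_iff_odd.2 hcodd (even_iff_two_dvd.2 (e ▸ hpd))
      obtain ⟨x, hx⟩ : ∃ x, x = c ^ (orderOf c / p) := ⟨_, rfl⟩
      have hxo : orderOf x = p := by
        rw [hx, orderOf_pow_orderOf_div (orderOf_pos c).ne' hpd]
      have hxC : x ∈ C := hx ▸ pow_mem hcC _
      have hxq : x ∈ fq p C := by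
        refine ⟨⟨x, hxC⟩, ?_, rfl⟩
        refine Solv.pgroup_le_pCore_of_le_fitting
          (IsPGroup.of_card (n := 1) (by rw [Nat.card_zpowers, Subgroup.orderOf_mk, hxo, pow_one]))
          (Subgroup.zpowers_le.2 ?_) (Subgroup.mem_zpowers _)
        rw [show (⟨x, hxC⟩ : ↥C) = (⟨c, hcC⟩ : ↥C) ^ (orderOf c / p) from Subtype.ext (hx.trans rfl)]
        exact pow_mem hcF _
      have hx1 := eq_one_of_inv_fix (z := z) (hxo ▸ hp.odd_of_ne_two hp2) (by
        rw [hx, ← conj_pow, hci, inv_pow]) (hF p hp hp2 x hxq)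
      rw [hx1, orderOf_one] at hxo
      exact hp.one_lt.ne hxo
    rw [hc] at hc1
    show z * a = a * z
    have e : a * z * a⁻¹ = z := by
      rw [← hzinv]
      exact eq_inv_of_mul_eq_one_left (by rw [hzinv]; exact hc1)
    calc z * a = a * z * a⁻¹ * a := by rw [e]
      _ = a * z := by group
  -- the rotation normalises `O`
  obtain ⟨ρ, hρt, hρz⟩ := hrot z hz hz1 hzt htz
  have hOt : ∀ a ∈ O, Commute a t := fun a ha => Subgroup.mem_centralizer_singleton_iff.1 (h.core_le ha)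
  have hρO : ρ ∈ Subgroup.normalizer (O : Set G) := mem_norm_of_conj fun a ha => by
    have h1 : Commute (ρ * a * ρ⁻¹) z := by
      have := (Commute.conj_iff ρ).2 (hOt a ha)
      rwa [hρt] at this
    have h2 : Commute (ρ * a * ρ⁻¹) (t * z) := by
      have := (Commute.conj_iff ρ).2 (hzO a ha).symm
      rwa [hρz] at this
    refine h.core _ ?_ ?_
    · have := h2.mul_right h1.inv_right
      rwa [mul_inv_cancel_right] at this
    · rw [show ρ * a * ρ⁻¹ = MulAut.conj ρ a by simp, MulEquiv.orderOf_eq]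
      exact odd_orderOf h.core_odd ha
  rw [h.normalizer_eq h.core_ne le_rfl h.core_norm, Subgroup.mem_centralizer_singleton_iff] at hρO
  exact hzt (by rw [← hρt, hρO, mul_inv_cancel_right])

/-- a perfect subgroup like a layer, with a reflection `v` -/
structure LSub (t : G) (L : Subgroup G) (v : G) : Prop where
  perfect : ⁅L, L⁆ = L
  gen : ∀ K : Subgroup G, K ≤ L → L ≤ Subgroup.normalizer (K : Set G) →
    ¬ K ≤ Subgroup.centralizer (L : Set G) → L ≤ K
  tn : t ∈ Subgroup.normalizer (L : Set G)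
  not_le : ¬ L ≤ Subgroup.centralizer ({t} : Set G)
  v_mem : v ∈ L
  v_sq : v * v = 1
  v_ne : v ≠ 1
  v_ne_t : v ≠ t
  v_comm : Commute v t
  v_not : v ∉ Subgroup.centralizer (L : Set G)

theorem MaxCent.lay_not_le (h : MaxCent t O) {N : Subgroup G} (hl : Cfsg.layer ↥N ≠ ⊥) :
    ¬ lay N ≤ Subgroup.centralizer ({t} : Set G) := by
  intro hle
  haveI := h.solv
  have hne : lay N ≠ ⊥ := fun e => hl ((Subgroup.map_eq_bot_iff_of_injective _ N.subtype_injective).1 e)
  haveI : Nontrivial ↥(lay N) := (Subgroup.nontrivial_iff_ne_bot _).2 hne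
  haveI : Group.IsSolvable ↥(lay N) :=
    Group.isSolvable_of_isSolvable_injective (f := Subgroup.inclusion hle) (Subgroup.inclusion_injective hle)
  have hlt := Group.IsSolvable.commutator_lt_top_of_nontrivial ↥(lay N)
  refine hlt.ne (Subgroup.map_injective (lay N).subtype_injective ?_)
  rw [Subgroup.map_subtype_commutator, lay_perfect, ← MonoidHom.range_eq_map, Subgroup.range_subtype]

theorem MaxCent.lsub (h : MaxCent t O) {N : Subgroup G} (htN : t ∈ N) (hl : Cfsg.layer ↥N ≠ ⊥) {v : G}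
    {T : Subgroup G} (f : LayerFacts t O N v T) : LSub t (lay N) v where
  perfect := lay_perfect N
  gen := f.gen
  tn := lay_norm N htN
  not_le := h.lay_not_le hl
  v_mem := f.v_mem
  v_sq := f.v_sq
  v_ne := f.v_ne
  v_ne_t := f.v_ne_t
  v_comm := f.v_comm
  v_not := fun hv => by
    have hmem : v ∈ layCent N := ⟨lay_le N f.v_mem, hv⟩
    have ho := odd_orderOf f.cent_odd hmem
    rw [orderOf_eq_prime (p := 2) (by rw [pow_two]; exact f.v_sq) f.v_ne] at ho
    exact absurd ho (by decide)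

/-- conjugation by an element of `C` -/
theorem LSub.conj {L : Subgroup G} {v : G} (hL : LSub t L v) {c : G}
    (hc : c ∈ Subgroup.centralizer ({t} : Set G)) :
    LSub t (L.map (MulAut.conj c).toMonoidHom) (c * v * c⁻¹) := by
  obtain ⟨φ, hφ⟩ : ∃ φ : G →* G, φ = (MulAut.conj c).toMonoidHom := ⟨_, rfl⟩
  rw [← hφ]
  have hct : c * t * c⁻¹ = t := by rw [Subgroup.mem_centralizer_singleton_iff.1 hc, mul_inv_cancel_right]
  have hφt : φ t = t := by rw [hφ]; exact hct
  have hinj : Function.Injective φ := hφ ▸ (MulAut.conj c).injective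
  have hsurj : Function.Surjective φ := hφ ▸ (MulAut.conj c).surjective
  have hcent : (Subgroup.centralizer (L : Set G)).map φ = Subgroup.centralizer ((L.map φ : Subgroup G) : Set G) := by
    ext x
    obtain ⟨y, rfl⟩ := hsurj x
    rw [Subgroup.mem_map_iff_mem hinj, Subgroup.mem_centralizer_iff, Subgroup.mem_centralizer_iff]
    exact ⟨fun h => by rintro _ ⟨l, hl, rfl⟩; rw [← map_mul, h l hl, map_mul],
      fun h l hl => hinj (by rw [map_mul, map_mul]; exact h _ ⟨l, hl, rfl⟩)⟩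
  have hct' : Subgroup.centralizer ({t} : Set G) = (Subgroup.centralizer ({t} : Set G)).map φ := by
    ext x
    obtain ⟨y, rfl⟩ := hsurj x
    rw [Subgroup.mem_map_iff_mem hinj, Subgroup.mem_centralizer_singleton_iff,
      Subgroup.mem_centralizer_singleton_iff]
    exact ⟨fun h => hinj (by rw [map_mul, map_mul, hφt]; exact h),
      fun h => by rw [← hφt, ← map_mul, h, map_mul]⟩
  have hvφ : c * v * c⁻¹ = φ v := by rw [hφ]; rfl
  refine ⟨?_, fun K hK hn hKc => ?_, ?_, ?_, ?_, ?_, ?_, ?_, ?_, ?_⟩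
  · rw [← Subgroup.map_commutator, hL.perfect]
  · obtain ⟨K', hK'⟩ : ∃ K', K' = K.comap φ := ⟨_, rfl⟩
    have hKK : K'.map φ = K := hK' ▸ Subgroup.map_comap_eq_self_of_surjective hsurj K
    rw [← hKK]
    refine Subgroup.map_mono (hL.gen K' ?_ ?_ ?_)
    · rw [← hKK, Subgroup.map_le_map_iff_of_injective hinj] at hK
      exact hK
    · intro l hl
      refine mem_norm_of_conj fun k hk => ?_
      rw [hK', Subgroup.mem_comap] at hk ⊢
      rw [map_mul, map_mul, map_inv]
      exact (Subgroup.mem_normalizer_iff.1 (hn ⟨l, hl, rfl⟩) _).1 hk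
    · intro hle
      refine hKc ?_
      rw [← hKK, ← hcent]
      exact Subgroup.map_mono hle
  · refine mem_norm_of_conj ?_
    rintro _ ⟨l, hl, rfl⟩
    refine ⟨t * l * t⁻¹, (Subgroup.mem_normalizer_iff.1 hL.tn l).1 hl, ?_⟩
    rw [map_mul, map_mul, map_inv, hφt]
  · rw [hct', Subgroup.map_le_map_iff_of_injective hinj]
    exact hL.not_le
  · exact ⟨v, hL.v_mem, hvφ.symm⟩
  · rw [hvφ, ← map_mul, hL.v_sq, map_one]
  · rw [hvφ]; exact fun e => hL.v_ne (hinj (e.trans (map_one φ).symm))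
  · rw [hvφ]; exact fun e => hL.v_ne_t (hinj (e.trans hφt.symm))
  · rw [hvφ, ← hφt]; exact hL.v_comm.map φ
  · rw [hvφ, ← hcent, Subgroup.mem_map_iff_mem hinj]
    exact hL.v_not

/-- `L` centralises what `t` centralises or inverts -/
theorem LSub.centralizes {L : Subgroup G} {v : G} (hL : LSub t L v) {W : Subgroup G}
    (hWL : L ≤ Subgroup.normalizer (W : Set G)) (h : ∀ l ∈ L, ⁅l, t⁆ ∈ Subgroup.centralizer (W : Set G)) :
    L ≤ Subgroup.centralizer (W : Set G) := by
  refine le_trans (hL.gen (L ⊓ Subgroup.centralizer (W : Set G)) inf_le_left ?_ ?_) inf_le_right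
  · exact le_trans (le_inf Subgroup.le_normalizer (hWL.trans (normalizer_le_norm_cent _)))
      Subgroup.inf_normalizer_le_normalizer_inf
  · intro hle
    have hkey : ∀ a ∈ L, t * a * t⁻¹ * a⁻¹ ∈ L ∧ t * a * t⁻¹ * a⁻¹ ∈ Subgroup.centralizer (L : Set G) := by
      intro a ha
      have h1 : t * a * t⁻¹ ∈ L := (Subgroup.mem_normalizer_iff.1 hL.tn a).1 ha
      refine ⟨mul_mem h1 (inv_mem ha), ?_⟩
      have hat : ⁅a, t⁆ ∈ L ⊓ Subgroup.centralizer (W : Set G) := by
        refine ⟨?_, h a ha⟩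
        rw [commutatorElement_def, show a * t * a⁻¹ * t⁻¹ = a * (t * a⁻¹ * t⁻¹) by group]
        exact mul_mem ha ((Subgroup.mem_normalizer_iff.1 hL.tn a⁻¹).1 (inv_mem ha))
      have := inv_mem (hle hat)
      rwa [commutatorElement_def, show (a * t * a⁻¹ * t⁻¹)⁻¹ = t * a * t⁻¹ * a⁻¹ by group] at this
    refine hL.not_le ?_
    conv_lhs => rw [← hL.perfect]
    rw [Subgroup.commutator_le]
    intro a ha b hb
    obtain ⟨c, hc⟩ : ∃ c, c = t * a * t⁻¹ * a⁻¹ := ⟨_, rfl⟩
    obtain ⟨d, hd⟩ : ∃ d, d = t * b * t⁻¹ * b⁻¹ := ⟨_, rfl⟩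
    have hcc : ∀ l ∈ L, Commute l c := fun l hl =>
      Subgroup.mem_centralizer_iff.1 (hc ▸ (hkey a ha).2) l hl
    have hdd : ∀ l ∈ L, Commute l d := fun l hl =>
      Subgroup.mem_centralizer_iff.1 (hd ▸ (hkey b hb).2) l hl
    refine Subgroup.mem_centralizer_singleton_iff.2 ?_
    have e : t * ⁅a, b⁆ * t⁻¹ = ⁅a, b⁆ := by
      calc t * ⁅a, b⁆ * t⁻¹ = (c * a) * (d * b) * (c * a)⁻¹ * (d * b)⁻¹ := by
            rw [commutatorElement_def, hc, hd]; group
        _ = c * (a * d) * b * (c * a)⁻¹ * (d * b)⁻¹ := by group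
        _ = c * d * (a * b * a⁻¹) * c⁻¹ * (d * b)⁻¹ := by rw [(hdd a ha).eq]; group
        _ = c * (d * (a * b * a⁻¹ * c⁻¹)) * b⁻¹ * d⁻¹ := by group
        _ = c * (d * (c⁻¹ * (a * b * a⁻¹))) * b⁻¹ * d⁻¹ := by
            rw [((hcc _ (mul_mem (mul_mem ha hb) (inv_mem ha))).inv_right).eq]
        _ = (c * d * c⁻¹) * ⁅a, b⁆ * d⁻¹ := by rw [commutatorElement_def]; group
        _ = d * (⁅a, b⁆ * d⁻¹) := by
            rw [show c * d * c⁻¹ = d by
              rw [← (hcc d (hd ▸ (hkey b hb).1)).eq, mul_inv_cancel_right]]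
            group
        _ = _ := by
            rw [((hdd _ (hL.perfect ▸ Subgroup.commutator_mem_commutator ha hb)).inv_right).eq, mul_inv_cancel_left]
    exact (mul_inv_eq_iff_eq_mul.1 e).symm

/-- `L ≤ N` lies in the layer of `N` -/
theorem LSub.le_lay {L : Subgroup G} {v : G} (hL : LSub t L v) {N : Subgroup G} (hLN : L ≤ N) {v' : G}
    {T : Subgroup G} (f : LayerFacts t O N v' T) : L ≤ lay N := by
  have hsup : L ≤ lay N ⊔ layCent N := by
    conv_lhs => rw [← hL.perfect]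
    exact Subgroup.commutator_le.2 fun a ha b hb => f.comm a (hLN ha) b (hLN hb)
  have hv := hsup hL.v_mem
  rw [← SetLike.mem_coe, Subgroup.coe_mul_of_left_le_normalizer_right _ _ (lay_le_normalizer_cent N)] at hv
  obtain ⟨l, hl, y, hy, e⟩ := hv
  have hly : Commute l y := Subgroup.mem_centralizer_iff.1 hy.2 l hl
  obtain ⟨k, hk⟩ := odd_orderOf f.cent_odd hy
  have hvl : v ∈ lay N := by
    have e1 : v ^ (2 * k + 1) = l ^ (2 * k + 1) := by
      rw [← e]
      show (l * y) ^ (2 * k + 1) = _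
      rw [hly.mul_pow, ← hk, pow_orderOf_eq_one, mul_one]
    rw [pow_succ, pow_mul, pow_two, hL.v_sq, one_pow, one_mul] at e1
    rw [e1]
    exact pow_mem hl _
  refine le_trans (hL.gen (L ⊓ lay N) inf_le_left
    (le_trans (le_inf Subgroup.le_normalizer (hLN.trans (lay_norm N))) Subgroup.inf_normalizer_le_normalizer_inf)
    fun hle => hL.v_not (hle ⟨hL.v_mem, hvl⟩)) inf_le_right

/-- A maximal subgroup over `N(X)` has a layer containing `L`. -/
theorem MaxCent.trick (hG : ¬ IsMulCommutative G) (h : MaxCent t O) (hlay : MaxLayer t O) {L : Subgroup G} {v : G}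
    (hL : LSub t L v) {q : ℕ} (hq : q.Prime) {X : Subgroup G} (hX : X ≠ ⊥)
    (hXF : X ≤ fq q (Subgroup.centralizer ({t} : Set G))) (hLX : L ≤ Subgroup.centralizer (X : Set G))
    {N : Subgroup G} (hN : IsCoatom N) (hle : Subgroup.normalizer (X : Set G) ≤ N) :
    ∃ (v' : G) (T : Subgroup G), LayerFacts t O N v' T ∧ L ≤ lay N ∧ t ∈ N ∧ Cfsg.layer ↥N ≠ ⊥ := by
  obtain ⟨C, hC⟩ : ∃ C, C = Subgroup.centralizer ({t} : Set G) := ⟨_, rfl⟩
  rw [← hC] at hXF
  have hCN : Cfsg.leadsTo C N := leads hX (hXF.trans (fq_le_fitting hq C)) hle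
  have htN : t ∈ N := hle (Subgroup.centralizer_le_normalizer _ (Subgroup.mem_centralizer_iff.2 fun x hx =>
    Subgroup.mem_centralizer_singleton_iff.1 (hC ▸ fq_le q C (hXF hx))))
  have hLN : L ≤ N := hLX.trans ((Subgroup.centralizer_le_normalizer _).trans hle)
  obtain ⟨q₀, hq₀, hq₀2, hq₀ne⟩ := h.odd_core_ne
  rw [← hC] at hq₀ne
  obtain ⟨-, -, hf3, hf4⟩ := BenderUniq.facts hG C N (hC ▸ h.max) hCN
  have hF : L ≤ Subgroup.centralizer (((Cfsg.fittingSubgroup ↥N).map N.subtype : Subgroup G) : Set G) := by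
    rw [Subgroup.le_centralizer_iff, Solv.fitting_eq_iSup_pCore, Subgroup.map_iSup, iSup_le_iff]
    intro r
    rw [Subgroup.le_centralizer_iff]
    show L ≤ Subgroup.centralizer ((fq (r : ℕ) N : Subgroup G) : Set G)
    have hLn := hLN.trans (fq_le_norm (r : ℕ) r.2 N)
    refine hL.centralizes hLn fun l hl => ?_
    by_cases h0 : Cfsg.pCore (r : ℕ) ↥C = ⊥
    · have hWC : fq (r : ℕ) N ⊓ C = ⊥ := hf3 r r.2 h0
      have hinv := inverts h.sq (fq_le_norm (r : ℕ) r.2 N htN) fun w hw hwt =>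
        Subgroup.mem_bot.1 (hWC ▸ ⟨hw, hC ▸ Subgroup.mem_centralizer_singleton_iff.2 hwt.eq⟩)
      exact comm_centralizes h.sq hLn hinv (Subgroup.commutator_mem_commutator hl (Subgroup.mem_zpowers t))
    · have hWC : fq (r : ℕ) N ≤ C := by
        by_cases hr2 : (r : ℕ) = 2
        · exact (hf4 r r.2 h0 _ (Or.inr ⟨q₀, hq₀, hr2 ▸ hq₀2, rfl⟩)).2 hq₀ne
        · exact (hf4 r r.2 h0 _ (Or.inr ⟨2, Nat.prime_two, Ne.symm hr2, rfl⟩)).2 (hC ▸ h.two_core_ne)
      refine Subgroup.mem_centralizer_iff.2 fun x hx => ?_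
      have ht' : ∀ y ∈ fq (r : ℕ) N, Commute y t := fun y hy =>
        Subgroup.mem_centralizer_singleton_iff.1 (hC ▸ hWC hy)
      have hx' : l⁻¹ * x * l ∈ fq (r : ℕ) N := by
        have := (Subgroup.mem_normalizer_iff.1 (hLn (inv_mem hl)) x).1 hx
        rwa [inv_inv] at this
      have h1 : Commute x (l * t * l⁻¹) := by
        have := (Commute.conj_iff l).2 (ht' _ hx')
        rwa [show l * (l⁻¹ * x * l) * l⁻¹ = x by group] at this
      rw [commutatorElement_def]
      exact (h1.mul_right (ht' x hx).inv_right).eq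
  have hl : Cfsg.layer ↥N ≠ ⊥ := by
    intro hl0
    have hg : Cfsg.generalizedFittingSubgroup ↥N = Cfsg.fittingSubgroup ↥N := by
      rw [Cfsg.generalizedFittingSubgroup, hl0, bot_sup_eq]
    have hc := Solv.centralizer_gfit_le (G := ↥N)
    rw [hg] at hc
    have hLF : L ≤ (Cfsg.fittingSubgroup ↥N).map N.subtype := fun x hx => by
      refine ⟨⟨x, hLN hx⟩, hc (Subgroup.mem_centralizer_iff.2 fun y hy => Subtype.ext ?_), rfl⟩
      exact Subgroup.mem_centralizer_iff.1 (hF hx) _ ⟨y, hy, rfl⟩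
    refine hL.not_le ?_
    rw [← hL.perfect]
    refine le_trans ?_ bot_le
    rw [Subgroup.commutator_le]
    exact fun a ha b hb => Subgroup.mem_bot.2 (commutatorElement_eq_one_iff_mul_comm.2
      (Subgroup.mem_centralizer_iff.1 (hF hb) a (hLF ha)))
  obtain ⟨v', T, f⟩ := hlay N hN htN hl
  exact ⟨v', T, f, hL.le_lay hLN f, htN, hl⟩

/-- the part of `O_p(C)` centralised by the layer is the part centralised by the reflection -/
theorem MaxCent.fixed_lay (_h : MaxCent t O) {N : Subgroup G} {v : G} {T : Subgroup G} (f : LayerFacts t O N v T)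
    {p : ℕ} (hp : p.Prime) (hp2 : p ≠ 2) (hpN : fq p (Subgroup.centralizer ({t} : Set G)) ≤ N) :
    fq p (Subgroup.centralizer ({t} : Set G)) ⊓ Subgroup.centralizer ({v} : Set G) =
      fq p (Subgroup.centralizer ({t} : Set G)) ⊓ Subgroup.centralizer (lay N : Set G) := by
  haveI := Fact.mk hp
  refine le_antisymm (le_inf inf_le_left ?_) (inf_le_inf_left _ fun x hx => ?_)
  · exact f.fixed p hp hp2 _ (le_inf hpN (fq_le p _)) (fq_isPGroup p _)
      (inf_le_right.trans (fq_le_norm p hp _))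
  · exact Subgroup.mem_centralizer_singleton_iff.2 (Subgroup.mem_centralizer_iff.1 hx v f.v_mem).symm

/-- an element of `O_p(C) ∩ N` is a product of a torus element and one centralising the layer -/
theorem MaxCent.decomp (h : MaxCent t O) {N : Subgroup G} {v : G} {T : Subgroup G} (f : LayerFacts t O N v T)
    {p : ℕ} (hp : p.Prime) (hp2 : p ≠ 2) (hpN : fq p (Subgroup.centralizer ({t} : Set G)) ≤ N) {a : G}
    (ha : a ∈ fq p (Subgroup.centralizer ({t} : Set G))) :
    ∃ r ∈ fq p (Subgroup.centralizer ({t} : Set G)) ⊓ T,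
      ∃ d ∈ fq p (Subgroup.centralizer ({t} : Set G)) ⊓ Subgroup.centralizer (lay N : Set G), a = r * d := by
  obtain ⟨C, hC⟩ : ∃ C, C = Subgroup.centralizer ({t} : Set G) := ⟨_, rfl⟩
  rw [← hC] at ha hpN ⊢
  have hvC : v ∈ C := hC ▸ Subgroup.mem_centralizer_singleton_iff.2 f.v_comm.eq
  have hvinv : v⁻¹ = v := inv_eq_of_mul_eq_one_right f.v_sq
  obtain ⟨y, hy⟩ : ∃ y, y = a * (v * a⁻¹ * v⁻¹) := ⟨_, rfl⟩
  have hyA : y ∈ fq p C := hy ▸ mul_mem ha (conj_fq hp hvC (inv_mem ha))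
  have hyL : y ∈ lay N := by
    rw [hy, show a * (v * a⁻¹ * v⁻¹) = a * v * a⁻¹ * v⁻¹ by group]
    exact mul_mem ((Subgroup.mem_normalizer_iff.1 (lay_norm N (hpN ha)) v).1 f.v_mem) (inv_mem f.v_mem)
  have hyi : v * y * v⁻¹ = y⁻¹ := by
    rw [hy]
    calc v * (a * (v * a⁻¹ * v⁻¹)) * v⁻¹ = v * a * v * a⁻¹ * (v * v)⁻¹ := by group
      _ = v * a * v⁻¹ * a⁻¹ := by rw [f.v_sq, hvinv, inv_one, mul_one]
      _ = _ := by group
  have hFO : fq p C ≤ O := hC ▸ h.fq_le_core hp hp2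
  obtain ⟨k, hk⟩ := odd_orderOf h.core_odd (hFO hyA)
  obtain ⟨r, hr⟩ : ∃ r, r = y ^ (k + 1) := ⟨_, rfl⟩
  have hrr : r * r = y := by
    rw [hr, ← pow_add, show k + 1 + (k + 1) = orderOf y + 1 by omega, pow_succ, pow_orderOf_eq_one, one_mul]
  have hrA : r ∈ fq p C := hr ▸ pow_mem hyA _
  have hri : v * r * v⁻¹ = r⁻¹ := by rw [hr, ← conj_pow, hyi, inv_pow]
  have hrT : r ∈ T := f.T_inv r ⟨hr ▸ pow_mem hyL _, hFO hrA⟩ hri
  refine ⟨r, ⟨hrA, hrT⟩, r⁻¹ * a, ?_, (mul_inv_cancel_left r a).symm⟩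
  rw [hC, ← h.fixed_lay f hp hp2 (hC ▸ hpN), ← hC]
  refine ⟨(fq p C).mul_mem ((fq p C).inv_mem hrA) ha, Subgroup.mem_centralizer_singleton_iff.2 ?_⟩
  have e : v * (r⁻¹ * a) * v⁻¹ = r⁻¹ * a := by
    calc v * (r⁻¹ * a) * v⁻¹ = (v * r * v⁻¹)⁻¹ * (v * a⁻¹ * v⁻¹)⁻¹ := by group
      _ = r * (a⁻¹ * y)⁻¹ := by rw [hri, inv_inv, hy]; group
      _ = r * (r * r)⁻¹ * a := by rw [hrr]; group
      _ = _ := by group
  exact (mul_inv_eq_iff_eq_mul.1 e).symm

/-- the reflections invert the torus part -/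
theorem MaxCent.torus_inv (h : MaxCent t O) (hrot : Rotates t) {N : Subgroup G} {v : G} {T : Subgroup G}
    (f : LayerFacts t O N v T) (hFN : ∀ s : ℕ, s.Prime → s ≠ 2 → fq s (Subgroup.centralizer ({t} : Set G)) ≤ N)
    {z : G} (hzN : z ∈ N) (hz : z * z = 1) (hz1 : z ≠ 1) (hzt : z ≠ t) (htz : Commute z t)
    {x : G} (hx : x ∈ T) : z * x * z⁻¹ = x⁻¹ := by
  rcases f.torus with h0 | ⟨z₀, hz₀L, hz₀, hz₀1, hz₀t, hz₀c, hz₀T⟩ | ⟨-, hinv, -⟩
  · rw [h0, Subgroup.mem_bot] at hx
    rw [hx]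
    group
  · refine (h.no_central hrot hz₀ hz₀1 hz₀t hz₀c.symm fun s hs hs2 a ha => ?_).elim
    obtain ⟨r, hr, d, hd, rfl⟩ := h.decomp f hs hs2 (hFN s hs hs2) ha
    exact (hz₀T r hr.2).mul_right (Subgroup.mem_centralizer_iff.1 hd.2 z₀ hz₀L)
  · exact hinv z hzN hz hz1 hzt htz x hx

/-- with `L ≤ lay N`, the reflection of `L` and the layer of `N` centralise the same part of `O_p(C)` -/
theorem MaxCent.fixed_sub (h : MaxCent t O) (hrot : Rotates t) {N : Subgroup G} {v' : G} {T : Subgroup G}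
    (f : LayerFacts t O N v' T) (hFN : ∀ s : ℕ, s.Prime → s ≠ 2 → fq s (Subgroup.centralizer ({t} : Set G)) ≤ N)
    {L : Subgroup G} {v : G} (hL : LSub t L v) (hle : L ≤ lay N) {p : ℕ} (hp : p.Prime) (hp2 : p ≠ 2) :
    fq p (Subgroup.centralizer ({t} : Set G)) ⊓ Subgroup.centralizer ({v} : Set G) =
      fq p (Subgroup.centralizer ({t} : Set G)) ⊓ Subgroup.centralizer (lay N : Set G) := by
  have hvlay := hle hL.v_mem
  refine le_antisymm (fun a ha => ?_) (inf_le_inf_left _ fun x hx =>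
    Subgroup.mem_centralizer_singleton_iff.2 (Subgroup.mem_centralizer_iff.1 hx v hvlay).symm)
  obtain ⟨r, hr, d, hd, rfl⟩ := h.decomp f hp hp2 (hFN p hp hp2) ha.1
  have hr1 : r = 1 := by
    refine eq_one_of_inv_fix (z := v) (odd_orderOf h.core_odd (h.fq_le_core hp hp2 hr.1))
      (h.torus_inv hrot f hFN (lay_le N hvlay) hL.v_sq hL.v_ne hL.v_ne_t hL.v_comm hr.2) ?_
    have h1 : Commute v (r * d) := (Subgroup.mem_centralizer_singleton_iff.1 ha.2).symm
    have h2 : Commute v d := Subgroup.mem_centralizer_iff.1 hd.2 v hvlay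
    have := h1.mul_right h2.inv_right
    rwa [mul_inv_cancel_right] at this
  rwa [hr1, one_mul]

end Cfsg.Agent.GW
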