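import Cfsg.Agent.Lib.GW.Glue
import Cfsg.Agent.Lib.GW.MaxTrick

/-!
# A maximal centraliser whose core is inverted by every reflection

The rotations then centralise the core, the core is abelian and the hypotheses of Brauer–Suzuki–Wall hold.
-/

set_option autoImplicit false
set_option linter.unusedSectionVars false
set_option linter.style.haveILetI false

namespace Cfsg.Agent.GW

open Cfsg Cfsg.Agent DihedralGroup

universe u

variable {G : Type u} [Group G] [Finite G]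

/-- **the end of the maximal centraliser case** -/
theorem bswData_of_inverted [IsSimpleGroup G] (Φ : Frame G) (h : MaxCent Φ.t Φ.O)
    (hinv : ∀ i, ∀ x ∈ Φ.O, Φ.refl i * x * (Φ.refl i)⁻¹ = x⁻¹) : BswData Φ := by
  haveI : NeZero (2 ^ Φ.k) := ⟨by positivity⟩
  have hrot : ∀ j : ZMod (2 ^ Φ.k), Φ.hom (r j) ∈ Subgroup.centralizer (Φ.O : Set G) := by
    intro j
    refine Subgroup.mem_centralizer_iff.2 fun x hx => ?_
    have e : Φ.hom (r j) = Φ.refl 0 * Φ.refl j := by
      rw [← Φ.hom_sr, ← Φ.hom_sr, ← map_mul, sr_mul_sr, sub_zero]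
    have h1 : Φ.hom (r j) * x * (Φ.hom (r j))⁻¹ = x := by
      rw [e]
      calc Φ.refl 0 * Φ.refl j * x * (Φ.refl 0 * Φ.refl j)⁻¹
          = Φ.refl 0 * (Φ.refl j * x * (Φ.refl j)⁻¹) * (Φ.refl 0)⁻¹ := by group
        _ = _ := by rw [hinv j x hx, hinv 0 x⁻¹ (inv_mem hx), inv_inv]
    exact (mul_inv_eq_iff_eq_mul.1 h1).symm
  have hnot : ∀ i, Φ.refl i ∉ Subgroup.centralizer (Φ.O : Set G) := by
    intro i hi
    refine h.core_ne ((Subgroup.eq_bot_iff_forall Φ.O).2 fun x hx => ?_)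
    exact eq_one_of_inv_fix (odd_orderOf Φ.O_odd hx) (hinv i x hx) (Subgroup.mem_centralizer_iff.1 hi x hx).symm
  have hH : (Φ.S : Subgroup G) ⊓ Subgroup.centralizer (Φ.O : Set G) = Subgroup.zpowers (Φ.hom (r 1)) := by
    refine le_antisymm ?_ (Subgroup.zpowers_le.2 ⟨Φ.hom_range ▸ ⟨_, rfl⟩, hrot 1⟩)
    rintro x ⟨hxS, hxC⟩
    rw [SetLike.mem_coe, ← Φ.hom_range] at hxS
    obtain ⟨d | d, rfl⟩ := hxS
    · rw [show (r d : DihedralGroup (2 ^ Φ.k)) = r 1 ^ d.val by rw [r_one_pow, ZMod.natCast_rightInverse], map_pow]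
      exact pow_mem (Subgroup.mem_zpowers _) _
    · exact absurd hxC (hnot d)
  refine ⟨fun _ => ⟨?_, ?_⟩, ?_, ?_⟩
  · rw [hH]
    infer_instance
  · have hcard : Nat.card ↥(Φ.S : Subgroup G) = 2 * 2 ^ Φ.k := by
      rw [Nat.card_congr Φ.ι.symm.toEquiv, DihedralGroup.nat_card]
    have h1 := Subgroup.card_mul_index (((Φ.S : Subgroup G) ⊓ Subgroup.centralizer (Φ.O : Set G)).subgroupOf Φ.S)
    rw [Nat.card_congr (Subgroup.subgroupOfEquivOfLe inf_le_left).toEquiv, hcard, hH, Nat.card_zpowers,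
      orderOf_injective _ Φ.hom_inj, orderOf_r_one, mul_comm 2, ← hH] at h1
    exact Nat.eq_of_mul_eq_mul_left (pow_pos two_pos _) h1
  · intro s hs hsC y hy
    rw [SetLike.mem_coe.symm, ← Φ.hom_range] at hs
    obtain ⟨d | d, rfl⟩ := hs
    · exact absurd (hrot d) hsC
    · exact hinv d y hy
  · intro Y hYO hY
    refine (h.normalizer_eq hY hYO ?_).le
    have hab : ∀ a ∈ Φ.O, ∀ b ∈ Φ.O, a * b = b * a := by
      intro a ha b hb
      have h1 := hinv 0 (a * b) (mul_mem ha hb)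
      rw [conj_mul.symm, hinv 0 a ha, hinv 0 b hb, mul_inv_rev] at h1
      exact inv_injective (by rw [mul_inv_rev, mul_inv_rev]; exact h1.symm)
    rw [← Φ.O_sup, sup_le_iff]
    refine ⟨fun a ha => mem_norm_of_conj fun y hy => ?_, fun s hs => mem_norm_of_conj fun y hy => ?_⟩
    · rw [hab a ha y (hYO hy), mul_inv_cancel_right]
      exact hy
    · rw [← Φ.hom_range] at hs
      obtain ⟨d | d, rfl⟩ := hs
      · rw [(Subgroup.mem_centralizer_iff.1 (hrot d) y (hYO hy)).symm, mul_inv_cancel_right]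
        exact hy
      · rw [Φ.hom_sr, hinv d y (hYO hy)]
        exact inv_mem hy

end Cfsg.Agent.GW
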