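import Cfsg.Agent.Lib.GW.MaxCaseQ
import Cfsg.Agent.Lib.GW.MaxControlInverted
import Cfsg.Agent.Lib.GW.MaxInverted

/-!
# A maximal centraliser: at least eight in the Sylow subgroup

No reflection fixes anything of an odd core, so every reflection inverts the core and the hypotheses of
Brauer–Suzuki–Wall hold.
-/

set_option autoImplicit false

namespace Cfsg.Agent.GW

open Cfsg Cfsg.Agent

universe u

variable {G : Type u} [Group G] [Finite G] [IsSimpleGroup G] {Φ : Frame G}

/-- **the maximal centraliser case for `k ≥ 2`** -/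
theorem MaxCent.bswData_eight (hG : Minimal G) (h : MaxCent Φ.t Φ.O) (hrot : Rotates Φ.t)
    (hlay : MaxLayer Φ.t Φ.O) (hk : 2 ≤ Φ.k) : BswData Φ :=
  bswData_of_inverted Φ h (h.inverted_of_regular hG hrot fun i s hs hs2 =>
    (h.qhyp hG hrot hlay).regular_eight hG hk i s hs hs2)

end Cfsg.Agent.GW
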