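import Mathlib
import Cfsg.Agent.S2119

/-!
# Odd subgroups of the alternating group of degree seven invariant under an involution and its centraliser
-/

set_option autoImplicit false
set_option linter.style.haveILetI false

namespace Cfsg.Agent.GW.AltSeven

/-- composition of permutation lists -/
def comp (a b : List Nat) : List Nat := b.map fun i => a.getD i 0

def pw (a : List Nat) : Nat → List Nat
  | 0 => List.range 7
  | n + 1 => comp a (pw a n)

def toList (σ : Equiv.Perm (Fin 7)) : List Nat := (List.finRange 7).map fun i => (σ i).val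

theorem toList_injective : Function.Injective toList := fun σ τ h => by
  ext i
  have := List.map_inj_left.1 h i (List.mem_finRange i)
  exact this

theorem toList_mul (σ τ : Equiv.Perm (Fin 7)) : toList (σ * τ) = comp (toList σ) (toList τ) := by
  simp [toList, comp, List.map_map, Function.comp_def, List.getD]

theorem toList_one : toList 1 = List.range 7 := rfl

theorem toList_pow (σ : Equiv.Perm (Fin 7)) (n : ℕ) : toList (σ ^ n) = pw (toList σ) n := by
  induction n with
  | zero => rfl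
  | succ n ih => rw [pow_succ', toList_mul, ih]; rfl

/-- all arrangements of a list -/
def perms : Nat → List Nat → List (List Nat)
  | 0, _ => [[]]
  | n + 1, l => l.flatMap fun a => (perms n (l.erase a)).map (List.cons a)

theorem mem_perms : ∀ (n : ℕ) (l k : List Nat), k.length = n → k.Perm l → k ∈ perms n l
  | 0, l, k, hk, _ => by simp [perms, List.length_eq_zero_iff.1 hk]
  | n + 1, l, [], hk, _ => by simp at hk
  | n + 1, l, a :: k, hk, hp => by
    rw [perms, List.mem_flatMap]
    refine ⟨a, hp.subset List.mem_cons_self, List.mem_map.2 ⟨k, mem_perms n _ k (by simpa using hk) ?_, rfl⟩⟩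
    simpa using hp.erase a

theorem toList_mem (σ : Equiv.Perm (Fin 7)) : toList σ ∈ perms 7 (List.range 7) :=
  mem_perms 7 _ _ (by simp [toList]) (by
    have h : ((List.finRange 7).map σ).Perm (List.finRange 7) := Equiv.Perm.map_finRange_perm σ
    have h2 := h.map Fin.val
    rw [List.map_map] at h2
    exact h2)

def cm (a b : List Nat) : Bool := comp a b == comp b a

def test (t : List Nat) (gs : List (List Nat × List Nat)) : Bool :=
  (perms 7 (List.range 7)).all fun x =>
    (cm x t) || !(cm x (comp (comp t x) t)) || !(gs.all fun g => cm x (comp (comp g.1 x) g.2)) ||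
      !(pw x 3 == List.range 7 || pw x 5 == List.range 7 || pw x 7 == List.range 7)

def τ₁ : List Nat := [1, 0, 2, 3, 4, 5, 6]
def τ₂ : List Nat := [1, 0, 3, 2, 4, 5, 6]
def τ₃ : List Nat := [1, 0, 3, 2, 5, 4, 6]

def g₁ : List (List Nat × List Nat) := [([0, 1, 5, 4, 6, 3, 2], [0, 1, 6, 5, 3, 2, 4])]
def g₂ : List (List Nat × List Nat) := [([1, 0, 3, 2, 5, 6, 4], [1, 0, 3, 2, 6, 4, 5])]
def g₃ : List (List Nat × List Nat) := [([5, 4, 1, 0, 2, 3, 6], [3, 2, 4, 5, 1, 0, 6]),
  ([1, 0, 5, 4, 2, 3, 6], [1, 0, 4, 5, 3, 2, 6])]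

theorem test₁ : test τ₁ g₁ = true := by decide +kernel
theorem test₂ : test τ₂ g₂ = true := by decide +kernel
theorem test₃ : test τ₃ g₃ = true := by decide +kernel

local notation "A7" => alternatingGroup (Fin 7)

theorem abelian_of_pgroup {l : ℕ} [hl : Fact l.Prime] (hl2 : l ≠ 2) {P : Subgroup A7} (hP : IsPGroup l P) :
    (∀ x ∈ P, ∀ y ∈ P, x * y = y * x) ∧ ∀ x ∈ P, x ^ 3 = 1 ∨ x ^ 5 = 1 ∨ x ^ 7 = 1 := by
  obtain ⟨n, hn⟩ := IsPGroup.iff_card.1 hP
  have hA : Nat.card A7 = 2520 := by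
    rw [nat_card_alternatingGroup, Nat.card_fin]; decide
  have hd : l ^ n ∣ 2520 := hn ▸ hA ▸ P.card_subgroup_dvd_card
  constructor
  · rcases n with _ | _ | _ | n
    · intro x hx y hy
      rw [pow_zero, Subgroup.card_eq_one] at hn
      rw [hn, Subgroup.mem_bot] at hx hy
      rw [hx, hy]
    · intro x hx y hy
      rw [pow_one] at hn
      haveI := isCyclic_of_prime_card hn
      exact congrArg Subtype.val ((IsCyclic.isMulCommutative (α := P)).is_comm.comm ⟨x, hx⟩ ⟨y, hy⟩)
    · intro x hx y hy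
      exact congrArg Subtype.val ((IsPGroup.isMulCommutative_of_card_eq_prime_sq (p := l) hn).is_comm.comm ⟨x, hx⟩ ⟨y, hy⟩)
    · exfalso
      have h3 : l ^ 3 ∣ 2520 := (pow_dvd_pow l (by omega)).trans hd
      have hl14 : l ≤ 13 := by
        by_contra h
        have := Nat.le_of_dvd (by norm_num) h3
        have : 14 ^ 3 ≤ l ^ 3 := Nat.pow_le_pow_left (by omega) 3
        omega
      have := hl.out.two_le
      interval_cases l
      all_goals first | omega | (norm_num at h3) | exact absurd hl.out (by norm_num)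
  · intro x hx
    have hkey : orderOf (x : Equiv.Perm (Fin 7)) ∣ 3 ∨ orderOf (x : Equiv.Perm (Fin 7)) ∣ 5 ∨
        orderOf (x : Equiv.Perm (Fin 7)) ∣ 7 := by
      obtain ⟨i, hi⟩ := IsPGroup.iff_orderOf.1 hP ⟨x, hx⟩
      rw [Subgroup.orderOf_mk] at hi
      rw [Subgroup.orderOf_coe, hi]
      have hd' : l ^ i ∣ 2520 := hi ▸ hA ▸ orderOf_dvd_natCard x
      rcases i with _ | _ | i
      · simp
      · rw [pow_one] at hd' ⊢
        have hmem : l ∈ (2520 : ℕ).primeFactors := Nat.mem_primeFactors.2 ⟨hl.out, hd', by norm_num⟩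
        rw [show (2520 : ℕ).primeFactors = {2, 3, 5, 7} by decide +kernel] at hmem
        simp at hmem
        rcases hmem with h | h | h | h <;> subst h <;> simp_all
      · exfalso
        have h2 : l ^ 2 ∣ 2520 := (pow_dvd_pow l (by omega)).trans hd'
        have hmem : l ∈ (2520 : ℕ).primeFactors :=
          Nat.mem_primeFactors.2 ⟨hl.out, (dvd_pow_self l two_ne_zero).trans h2, by norm_num⟩
        rw [show (2520 : ℕ).primeFactors = {2, 3, 5, 7} by decide +kernel] at hmem
        simp at hmem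
        rcases hmem with h | h | h | h <;> subst h <;> (try norm_num at h2) <;> (try norm_num at hl2)
        -- an element of order nine
        have h9 : 9 ∣ orderOf (x : Equiv.Perm (Fin 7)) := by
          rw [Subgroup.orderOf_coe, hi]; exact ⟨3 ^ i, by ring⟩
        rw [← Equiv.Perm.lcm_cycleType] at h9
        have hall : ∀ m ∈ (x : Equiv.Perm (Fin 7)).cycleType, m ≤ 7 := fun m hm =>
          (Equiv.Perm.le_card_support_of_mem_cycleType hm).trans ((Finset.card_le_univ _).trans_eq (Fintype.card_fin 7))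
        have h420 : (x : Equiv.Perm (Fin 7)).cycleType.lcm ∣ 420 := Multiset.lcm_dvd.2 fun m hm => by
          have := hall m hm
          have := Equiv.Perm.two_le_of_mem_cycleType hm
          interval_cases m <;> norm_num
        exact absurd (h9.trans h420) (by norm_num)
    rcases hkey with h | h | h <;> rw [orderOf_dvd_iff_pow_eq_one] at h
    · exact Or.inl (Subtype.ext h)
    · exact Or.inr (Or.inl (Subtype.ext h))
    · exact Or.inr (Or.inr (Subtype.ext h))

theorem conj_pow_one {n : ℕ} (c : Equiv.Perm (Fin 7)) (x : A7) (h : x ^ n = 1) :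
    (c⁻¹ * (x : Equiv.Perm (Fin 7)) * c) ^ n = 1 := by
  have := conj_pow (a := c⁻¹) (b := (x : Equiv.Perm (Fin 7))) (i := n)
  rw [inv_inv] at this
  rw [this, ← Subgroup.coe_pow, h]
  simp

def ofList (l : List Nat) (h : ∀ i : Fin 7, l.getD i 0 < 7 := by decide)
    (m : List Nat) (h' : ∀ i : Fin 7, m.getD i 0 < 7 := by decide)
    (hl : ∀ i : Fin 7, m.getD (l.getD i 0) 0 = i := by decide)
    (hr : ∀ i : Fin 7, l.getD (m.getD i 0) 0 = i := by decide) : Equiv.Perm (Fin 7) :=
  ⟨fun i => ⟨l.getD i 0, h i⟩, fun i => ⟨m.getD i 0, h' i⟩, fun i => Fin.ext (hl i), fun i => Fin.ext (hr i)⟩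

theorem cm_iff (σ τ : Equiv.Perm (Fin 7)) : cm (toList σ) (toList τ) = true ↔ σ * τ = τ * σ := by
  rw [cm, beq_iff_eq, ← toList_mul, ← toList_mul]
  exact toList_injective.eq_iff

theorem representative {τ : Equiv.Perm (Fin 7)} (h1 : τ ≠ 1) (h2 : τ * τ = 1) :
    ∃ τ' : Equiv.Perm (Fin 7), IsConj τ' τ ∧
      (toList τ' = τ₁ ∨ toList τ' = τ₂ ∨ toList τ' = τ₃) := by
  have ho : orderOf τ = 2 := orderOf_eq_prime (by rw [pow_two, h2]) h1
  obtain ⟨n, hn⟩ := Equiv.Perm.cycleType_prime_order (ho.symm ▸ Nat.prime_two)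
  rw [ho] at hn
  have hs : τ.cycleType.sum ≤ 7 := by
    rw [Equiv.Perm.sum_cycleType]; exact (Finset.card_le_univ _).trans_eq (Fintype.card_fin 7)
  rw [hn, Multiset.sum_replicate] at hs
  have hn3 : n ≤ 2 := by simp at hs; omega
  interval_cases n
  · exact ⟨ofList τ₁ (m := τ₁), Equiv.Perm.isConj_iff_cycleType_eq.2 (by rw [hn]; decide +kernel), Or.inl (by decide +kernel)⟩
  · exact ⟨ofList τ₂ (m := τ₂), Equiv.Perm.isConj_iff_cycleType_eq.2 (by rw [hn]; decide +kernel), Or.inr (Or.inl (by decide +kernel))⟩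
  · exact ⟨ofList τ₃ (m := τ₃), Equiv.Perm.isConj_iff_cycleType_eq.2 (by rw [hn]; decide +kernel), Or.inr (Or.inr (by decide +kernel))⟩

theorem core {τ : Equiv.Perm (Fin 7)} (ht : toList τ = τ₁ ∨ toList τ = τ₂ ∨ toList τ = τ₃) (hτ : τ * τ = 1)
    {x : Equiv.Perm (Fin 7)} (hx : x ^ 3 = 1 ∨ x ^ 5 = 1 ∨ x ^ 7 = 1)
    (hc : Commute x (τ * x * τ)) (hk : ∀ k : Equiv.Perm (Fin 7), k ∈ alternatingGroup (Fin 7) → Commute k τ →
      Commute x (k * x * k⁻¹)) : Commute x τ := by
  have key : ∀ gs, test (toList τ) gs = true →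
      (∀ g ∈ gs, ∃ k : Equiv.Perm (Fin 7), k ∈ alternatingGroup (Fin 7) ∧ Commute k τ ∧ toList k = g.1 ∧ toList k⁻¹ = g.2) →
      Commute x τ := by
    intro gs ht hg
    have h := List.all_eq_true.1 ht _ (toList_mem x)
    simp only [Bool.or_eq_true, Bool.not_eq_true', beq_iff_eq] at h
    rcases h with ((h | h) | h) | h
    · exact (cm_iff x τ).1 h
    · rw [← toList_mul, ← toList_mul, (cm_iff _ _).2 hc.eq] at h; cases h
    · rw [List.all_eq_false] at h
      obtain ⟨g, hgm, hgf⟩ := h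
      obtain ⟨k, hkA, hkt, h1, h2⟩ := hg g hgm
      rw [← h1, ← h2, ← toList_mul, ← toList_mul] at hgf
      exact absurd ((cm_iff _ _).2 (hk k hkA hkt).eq) hgf
    · rw [← toList_pow, ← toList_pow, ← toList_pow, ← toList_one] at h
      rcases hx with hx | hx | hx <;> simp [hx] at h
  have hcomm : ∀ (k : Equiv.Perm (Fin 7)) (a : List Nat), toList τ = a → comp (toList k) a = comp a (toList k) → Commute k τ :=
    fun k a ha h => toList_injective (by rw [toList_mul, toList_mul, ha]; exact h)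
  rcases ht with h | h | h
  · refine key g₁ (h ▸ test₁) fun g hg => ?_
    simp [g₁] at hg
    subst hg
    exact ⟨ofList [0, 1, 5, 4, 6, 3, 2] (m := [0, 1, 6, 5, 3, 2, 4]), Equiv.Perm.mem_alternatingGroup.2 (by decide +kernel),
      hcomm _ _ h (by decide +kernel), by decide +kernel, by decide +kernel⟩
  · refine key g₂ (h ▸ test₂) fun g hg => ?_
    simp [g₂] at hg
    subst hg
    exact ⟨ofList [1, 0, 3, 2, 5, 6, 4] (m := [1, 0, 3, 2, 6, 4, 5]), Equiv.Perm.mem_alternatingGroup.2 (by decide +kernel),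
      hcomm _ _ h (by decide +kernel), by decide +kernel, by decide +kernel⟩
  · refine key g₃ (h ▸ test₃) fun g hg => ?_
    simp [g₃] at hg
    rcases hg with rfl | rfl
    · exact ⟨ofList [5, 4, 1, 0, 2, 3, 6] (m := [3, 2, 4, 5, 1, 0, 6]), Equiv.Perm.mem_alternatingGroup.2 (by decide +kernel),
        hcomm _ _ h (by decide +kernel), by decide +kernel, by decide +kernel⟩
    · exact ⟨ofList [1, 0, 5, 4, 2, 3, 6] (m := [1, 0, 4, 5, 3, 2, 6]), Equiv.Perm.mem_alternatingGroup.2 (by decide +kernel),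
        hcomm _ _ h (by decide +kernel), by decide +kernel, by decide +kernel⟩

/-- The main statement. -/
theorem centralizes {α : MulAut A7} (hα : α * α = 1) {l : ℕ} [Fact l.Prime] (hl2 : l ≠ 2) {P : Subgroup A7}
    (hP : IsPGroup l P) (hαP : ∀ x ∈ P, α x ∈ P) (hfix : ∀ k : A7, α k = k → k ∈ Subgroup.normalizer (P : Set A7)) :
    ∀ x ∈ P, α x = x := by
  intro x hx
  let f := MulAut.conjNormal (G := Equiv.Perm (Fin 7)) (H := A7)
  have hb : Function.Bijective f := S2119.result 7 (by norm_num) (by norm_num)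
  obtain ⟨τ, hτ⟩ := hb.2 α
  have hτ2 : τ * τ = 1 := hb.1 (by rw [map_mul, map_one, hτ, hα])
  by_cases hτ1 : τ = 1
  · rw [← hτ, hτ1, map_one, MulAut.one_apply]
  have hcoe : ∀ y : A7, ((α y : A7) : Equiv.Perm (Fin 7)) = τ * y * τ⁻¹ := fun y => by
    rw [← hτ]; rfl
  obtain ⟨hab, hexp⟩ := abelian_of_pgroup hl2 hP
  obtain ⟨τ', hconj, hl⟩ := representative hτ1 hτ2
  obtain ⟨c, hc⟩ := isConj_iff.1 hconj
  have hτi : τ⁻¹ = τ := inv_eq_of_mul_eq_one_right hτ2
  have hτ'2 : τ' * τ' = 1 := by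
    have h2 : c * (τ' * τ') * c⁻¹ = 1 := by rw [← hτ2, ← hc]; group
    exact conj_eq_one_iff.1 h2
  obtain ⟨y, hy⟩ : ∃ y, y = c⁻¹ * (x : Equiv.Perm (Fin 7)) * c := ⟨_, rfl⟩
  have hC : ∀ a b : Equiv.Perm (Fin 7), Commute (c * a * c⁻¹) (c * b * c⁻¹) → Commute a b := fun a b h =>
    (Commute.conj_iff c).1 h
  have hyx : c * y * c⁻¹ = x := by rw [hy]; group
  have h := core hl hτ'2 (x := y) (by
      rcases hexp x hx with h | h | h
      all_goals
        first
        | exact Or.inl (by rw [hy]; exact conj_pow_one c x h)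
        | exact Or.inr (Or.inl (by rw [hy]; exact conj_pow_one c x h))
        | exact Or.inr (Or.inr (by rw [hy]; exact conj_pow_one c x h)))
    (hC _ _ (by
      have h1 : Commute (x : Equiv.Perm (Fin 7)) (τ * x * τ⁻¹) := by
        rw [← hcoe]; exact congrArg Subtype.val (hab x hx _ (hαP x hx))
      rw [hτi, ← hc, ← hyx] at h1
      convert h1 using 1
      group))
    (fun k hk hkt => hC _ _ (by
      have hk' : c * k * c⁻¹ ∈ alternatingGroup (Fin 7) :=
        (alternatingGroup.normal (α := Fin 7)).conj_mem k hk c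
      have hf : α ⟨_, hk'⟩ = ⟨_, hk'⟩ := Subtype.ext (by
        rw [hcoe]
        show τ * (c * k * c⁻¹) * τ⁻¹ = c * k * c⁻¹
        rw [mul_inv_eq_iff_eq_mul, ← hc]
        exact ((Commute.conj_iff c).2 hkt).eq.symm)
      have hm := (Subgroup.mem_normalizer_iff.1 (hfix _ hf) x).1 hx
      have h1 : Commute (x : Equiv.Perm (Fin 7)) (c * k * c⁻¹ * x * (c * k * c⁻¹)⁻¹) :=
        congrArg Subtype.val (hab x hx _ hm)
      rw [← hyx] at h1
      convert h1 using 1
      group))
  refine Subtype.ext ?_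
  rw [hcoe, mul_inv_eq_iff_eq_mul, ← hyx, ← hc]
  exact ((Commute.conj_iff c).2 h).eq.symm

end Cfsg.Agent.GW.AltSeven
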