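import Cfsg.Agent.Lib.GW.Quadratic

/-!
# An inverted abelian operator group and an element fixing the centraliser of the inverting involution

`A` abelian of order prime to the abelian normal subgroup `V` of odd order, inverted by the involution `u` and
normalised by the element `z` of odd order; if `z` fixes `C_V(u)` then every `z w z⁻¹ w⁻¹`, `w ∈ A`, centralises `V`.
(In module language: `z` fixes every weight of `A` on `V`.)
-/

set_option autoImplicit false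
set_option linter.unusedSectionVars false
set_option linter.style.haveILetI false

namespace Cfsg.Agent.GW

open Cfsg Cfsg.Agent
open scoped commutatorElement

universe u

variable {H : Type u} [Group H] [Finite H]

theorem eq_one_of_sq {K : Subgroup H} (hK : Odd (Nat.card ↥K)) {g : H} (hg : g ∈ K) (h2 : g * g = 1) : g = 1 := by
  refine orderOf_eq_one_iff.1 (Nat.eq_one_of_dvd_coprimes hK.coprime_two_left
    (orderOf_dvd_of_pow_eq_one (by rw [pow_two, h2])) ?_)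
  rw [← Subgroup.orderOf_coe (⟨g, hg⟩ : ↥K) |>.symm]
  exact orderOf_dvd_natCard _

theorem mem_of_sq {K B : Subgroup H} (hK : Odd (Nat.card ↥K)) {g : H} (hg : g ∈ K) (h2 : g * g ∈ B) : g ∈ B := by
  have hco : Nat.Coprime 2 (orderOf g) := by
    refine hK.coprime_two_left.coprime_dvd_right ?_
    rw [← Subgroup.orderOf_coe (⟨g, hg⟩ : ↥K) |>.symm]
    exact orderOf_dvd_natCard _
  obtain ⟨j, hj⟩ := exists_pow_eq_self_of_coprime hco
  rw [← hj, pow_two]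
  exact pow_mem h2 j

variable {V A : Subgroup H} [hVn : V.Normal]

/-- for `w ∈ A`, `T(z w z⁻¹) / T(w)` maps `V` into `C(A)`, where `T(c) v = (c v c⁻¹) (c⁻¹ v c)` -/
theorem weight_defect (hV : ∀ a ∈ V, ∀ b ∈ V, a * b = b * a) (hA : ∀ a ∈ A, ∀ b ∈ A, a * b = b * a)
    (hVo : Odd (Nat.card ↥V)) (hAo : Odd (Nat.card ↥A)) {u z : H} (hu : u * u = 1)
    (hinv : ∀ w ∈ A, u * w * u⁻¹ = w⁻¹) (hzA : ∀ w ∈ A, z * w * z⁻¹ ∈ A)
    (hfix : ∀ v ∈ V, u * v * u⁻¹ = v → z * v * z⁻¹ = v) {w v : H} (hw : w ∈ A) (hv : v ∈ V) :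
    ∀ g ∈ A, Commute g ((z * w * z⁻¹) * v * (z * w * z⁻¹)⁻¹ * ((z * w * z⁻¹)⁻¹ * v * (z * w * z⁻¹)) *
      (w * v * w⁻¹ * (w⁻¹ * v * w))⁻¹) := by
  have hcV : ∀ (g x : H), x ∈ V → g * x * g⁻¹ ∈ V := fun g x hx => hVn.conj_mem x hx g
  have hcV' : ∀ (g x : H), x ∈ V → g⁻¹ * x * g ∈ V := fun g x hx => by simpa using hVn.conj_mem x hx g⁻¹
  obtain ⟨c, hc⟩ : ∃ c, c = z * w * z⁻¹ := ⟨_, rfl⟩
  obtain ⟨P, hP⟩ : ∃ P : H → H, P = fun x =>
      c * x * c⁻¹ * (c⁻¹ * x * c) * (w * x * w⁻¹ * (w⁻¹ * x * w))⁻¹ := ⟨_, rfl⟩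
  have hPV : ∀ x ∈ V, P x ∈ V := fun x hx => by
    rw [hP]
    exact mul_mem (mul_mem (hcV c x hx) (hcV' c x hx)) (inv_mem (mul_mem (hcV w x hx) (hcV' w x hx)))
  have hTmul : ∀ d : H, ∀ x ∈ V, ∀ y ∈ V, d * (x * y) * d⁻¹ * (d⁻¹ * (x * y) * d) =
      d * x * d⁻¹ * (d⁻¹ * x * d) * (d * y * d⁻¹ * (d⁻¹ * y * d)) := by
    intro d x hx y hy
    have h := hV _ (hcV d y hy) _ (hcV' d x hx)
    calc d * (x * y) * d⁻¹ * (d⁻¹ * (x * y) * d)
        = d * x * d⁻¹ * ((d * y * d⁻¹) * (d⁻¹ * x * d)) * (d⁻¹ * y * d) := by group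
      _ = _ := by rw [h]; group
  have hmul : ∀ x ∈ V, ∀ y ∈ V, P (x * y) = P x * P y := by
    intro x hx y hy
    rw [hP]
    simp only
    rw [hTmul c x hx y hy, hTmul w x hx y hy, mul_inv_rev]
    have hm : ∀ d : H, ∀ e ∈ V, d * e * d⁻¹ * (d⁻¹ * e * d) ∈ V := fun d e he => mul_mem (hcV d e he) (hcV' d e he)
    obtain ⟨p, hp⟩ : ∃ p, p = c * x * c⁻¹ * (c⁻¹ * x * c) := ⟨_, rfl⟩
    obtain ⟨p', hp'⟩ : ∃ p', p' = c * y * c⁻¹ * (c⁻¹ * y * c) := ⟨_, rfl⟩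
    obtain ⟨s, hs⟩ : ∃ s, s = (w * x * w⁻¹ * (w⁻¹ * x * w))⁻¹ := ⟨_, rfl⟩
    obtain ⟨s', hs'⟩ : ∃ s', s' = (w * y * w⁻¹ * (w⁻¹ * y * w))⁻¹ := ⟨_, rfl⟩
    rw [← hp, ← hp', ← hs, ← hs']
    have h1 : p' * (s' * s) = s * (p' * s') := by
      rw [← mul_assoc, hV _ (mul_mem (hp' ▸ hm c y hy) (hs' ▸ inv_mem (hm w y hy))) _ (hs ▸ inv_mem (hm w x hx))]
    calc p * p' * (s' * s) = p * (p' * (s' * s)) := mul_assoc _ _ _
      _ = _ := by rw [h1, mul_assoc]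
  have hcA : c ∈ A := hc ▸ hzA w hw
  have hequiv : ∀ g ∈ A, ∀ x : H, P (g * x * g⁻¹) = g * P x * g⁻¹ := by
    intro g hg x
    have hd : ∀ d ∈ A, d * (g * x * g⁻¹) * d⁻¹ * (d⁻¹ * (g * x * g⁻¹) * d) =
        g * (d * x * d⁻¹ * (d⁻¹ * x * d)) * g⁻¹ := by
      intro d hd
      have e1 := hA d hd g hg
      have e2 := hA d⁻¹ (inv_mem hd) g hg
      calc d * (g * x * g⁻¹) * d⁻¹ * (d⁻¹ * (g * x * g⁻¹) * d)
          = d * g * x * (d * g)⁻¹ * (d⁻¹ * g * x * (d⁻¹ * g)⁻¹) := by group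
        _ = _ := by rw [e1, e2]; group
    rw [hP]
    simp only
    rw [hd c hcA, hd w hw]
    group
  have hfixed : ∀ x ∈ V, u * x * u⁻¹ = x → P x = 1 := by
    intro x hx hxu
    have hTf : u * (w * x * w⁻¹ * (w⁻¹ * x * w)) * u⁻¹ = w * x * w⁻¹ * (w⁻¹ * x * w) := by
      calc u * (w * x * w⁻¹ * (w⁻¹ * x * w)) * u⁻¹ = u * w * u⁻¹ * (u * x * u⁻¹) * (u * w * u⁻¹)⁻¹ *
            ((u * w * u⁻¹)⁻¹ * (u * x * u⁻¹) * (u * w * u⁻¹)) := by group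
        _ = w⁻¹ * x * w * (w * x * w⁻¹) := by rw [hinv w hw, hxu, inv_inv]
        _ = _ := hV _ (hcV' w x hx) _ (hcV w x hx)
    have h1 := hfix _ (mul_mem (hcV w x hx) (hcV' w x hx)) hTf
    have h2 := hfix x hx hxu
    have h3 : z * (w * x * w⁻¹ * (w⁻¹ * x * w)) * z⁻¹ = c * x * c⁻¹ * (c⁻¹ * x * c) := by
      calc z * (w * x * w⁻¹ * (w⁻¹ * x * w)) * z⁻¹ = z * w * z⁻¹ * (z * x * z⁻¹) * (z * w * z⁻¹)⁻¹ *
            ((z * w * z⁻¹)⁻¹ * (z * x * z⁻¹) * (z * w * z⁻¹)) := by group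
        _ = _ := by rw [h2, ← hc]
    rw [hP]
    simp only
    rw [← h3, h1, mul_inv_cancel]
  have hP1 : P 1 = 1 := hfixed 1 (one_mem _) (by group)
  have hinverted : ∀ x ∈ V, u * x * u⁻¹ = x⁻¹ → ∀ g ∈ A, Commute g (P x) := by
    intro x hx hxu g hg
    have hd : u * (g * x * g⁻¹ * (g⁻¹ * x * g)⁻¹) * u⁻¹ = g * x * g⁻¹ * (g⁻¹ * x * g)⁻¹ := by
      calc u * (g * x * g⁻¹ * (g⁻¹ * x * g)⁻¹) * u⁻¹ = u * g * u⁻¹ * (u * x * u⁻¹) * (u * g * u⁻¹)⁻¹ *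
            ((u * g * u⁻¹)⁻¹ * (u * x * u⁻¹) * (u * g * u⁻¹))⁻¹ := by group
        _ = (g⁻¹ * x * g)⁻¹ * (g * x * g⁻¹) := by rw [hinv g hg, hxu, inv_inv]; group
        _ = _ := hV _ (inv_mem (hcV' g x hx)) _ (hcV g x hx)
    have h0 := hfixed _ (mul_mem (hcV g x hx) (inv_mem (hcV' g x hx))) hd
    rw [hmul _ (hcV g x hx) _ (inv_mem (hcV' g x hx)), hequiv g hg] at h0
    have hPinv : ∀ y ∈ V, P y⁻¹ = (P y)⁻¹ := fun y hy => by
      refine eq_inv_of_mul_eq_one_right ?_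
      rw [← hmul y hy _ (inv_mem hy), mul_inv_cancel, hP1]
    have hg' : P (g⁻¹ * x * g) = g⁻¹ * P x * g := by simpa using hequiv g⁻¹ (inv_mem hg) x
    rw [hPinv _ (hcV' g x hx), hg', mul_inv_eq_one] at h0
    have h2 : Commute (g * g) (P x) := by
      calc g * g * P x = g * (g * P x * g⁻¹) * g := by group
        _ = _ := by rw [h0]; group
    exact (Subgroup.mem_centralizer_singleton_iff.1 (mem_of_sq hAo hg
      (Subgroup.mem_centralizer_singleton_iff.2 h2.eq : g * g ∈ Subgroup.centralizer ({P x} : Set H))))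
  intro g hg
  rw [← hc]
  show Commute g (c * v * c⁻¹ * (c⁻¹ * v * c) * (w * v * w⁻¹ * (w⁻¹ * v * w))⁻¹)
  suffices h : Commute g (P v) by rw [hP] at h; exact h
  obtain ⟨v', hv'⟩ : ∃ v', v' = u * v * u⁻¹ := ⟨_, rfl⟩
  have hv'V : v' ∈ V := hv' ▸ hcV u v hv
  have hu' : u * v' * u⁻¹ = v := by
    rw [hv', show u * (u * v * u⁻¹) * u⁻¹ = (u * u) * v * (u * u)⁻¹ by group, hu, one_mul, inv_one, mul_one]
  have h1 : P (v * v') = 1 := hfixed _ (mul_mem hv hv'V) (by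
    rw [show u * (v * v') * u⁻¹ = u * v * u⁻¹ * (u * v' * u⁻¹) by group, ← hv', hu', hV v' hv'V v hv])
  have h2 : Commute g (P (v * v'⁻¹)) := hinverted _ (mul_mem hv (inv_mem hv'V)) (by
    rw [show u * (v * v'⁻¹) * u⁻¹ = u * v * u⁻¹ * (u * v' * u⁻¹)⁻¹ by group, ← hv', hu', mul_inv_rev, inv_inv]) g hg
  have hvv : v * v = v * v' * (v * v'⁻¹) := by
    rw [hV v hv v' hv'V]
    calc v * v = v' * (v'⁻¹ * (v * v)) := by group
      _ = v' * (v * v * v'⁻¹) := by rw [hV _ (inv_mem hv'V) _ (mul_mem hv hv)]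
      _ = _ := by group
  have h3 : Commute g (P v * P v) := by
    rw [← hmul v hv v hv, hvv, hmul _ (mul_mem hv hv'V) _ (mul_mem hv (inv_mem hv'V)), h1, one_mul]
    exact h2
  exact (Subgroup.mem_centralizer_singleton_iff.1 (mem_of_sq hVo (hPV v hv)
    (Subgroup.mem_centralizer_singleton_iff.2 h3.eq.symm : P v * P v ∈ Subgroup.centralizer ({g} : Set H)))).symm

/-- The weight lemma. -/
theorem weight_kills (hV : ∀ a ∈ V, ∀ b ∈ V, a * b = b * a) (hA : ∀ a ∈ A, ∀ b ∈ A, a * b = b * a)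
    (hVo : Odd (Nat.card ↥V)) (hAo : Odd (Nat.card ↥A)) (hco : (Nat.card ↥A).Coprime (Nat.card ↥V)) {u z : H}
    (hu : u * u = 1) (hinv : ∀ w ∈ A, u * w * u⁻¹ = w⁻¹) (hzA : ∀ w ∈ A, z * w * z⁻¹ ∈ A)
    (hz : Odd (orderOf z)) (hfix : ∀ v ∈ V, u * v * u⁻¹ = v → z * v * z⁻¹ = v) :
    ∀ w ∈ A, ∀ v ∈ V, Commute (z * w * z⁻¹ * w⁻¹) v := by
  intro w₀ hw₀
  obtain ⟨a₀, ha₀⟩ : ∃ a, a = z * w₀ * z⁻¹ * w₀⁻¹ := ⟨_, rfl⟩
  have ha₀A : a₀ ∈ A := ha₀ ▸ mul_mem (hzA w₀ hw₀) (inv_mem hw₀)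
  rw [← ha₀]
  have hcm : ∀ g : H, ∀ x ∈ V, ⁅g, x⁆ ∈ V := fun g x hx => by
    rw [commutatorElement_def]; exact mul_mem (hVn.conj_mem x hx g) (inv_mem hx)
  have hcmul : ∀ g : H, ∀ x ∈ V, ∀ y ∈ V, ⁅g, x * y⁆ = ⁅g, x⁆ * ⁅g, y⁆ := by
    intro g x hx y hy
    calc ⁅g, x * y⁆ = ⁅g, x⁆ * (x * ⁅g, y⁆ * x⁻¹) := by simp only [commutatorElement_def]; group
      _ = _ := by rw [hV x hx _ (hcm g y hy), mul_inv_cancel_right]
  let I : Subgroup H :=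
    { carrier := {d | ∃ v ∈ V, ⁅a₀, v⁆ = d}
      one_mem' := ⟨1, one_mem _, commutatorElement_one_right _⟩
      mul_mem' := by
        rintro _ _ ⟨x, hx, rfl⟩ ⟨y, hy, rfl⟩
        exact ⟨x * y, mul_mem hx hy, hcmul a₀ x hx y hy⟩
      inv_mem' := by
        rintro _ ⟨x, hx, rfl⟩
        refine ⟨x⁻¹, inv_mem hx, eq_inv_of_mul_eq_one_right ?_⟩
        rw [← hcmul a₀ x hx _ (inv_mem hx), mul_inv_cancel, commutatorElement_one_right] }
  have hIfix : ∀ d ∈ I, Commute a₀ d → d = 1 := by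
    rintro _ ⟨x, hx, rfl⟩ hcd
    obtain ⟨d, hd⟩ : ∃ d, d = ⁅a₀, x⁆ := ⟨_, rfl⟩
    rw [← hd] at hcd ⊢
    have hn : ∀ n : ℕ, a₀ ^ n * x * (a₀ ^ n)⁻¹ = d ^ n * x := by
      intro n
      induction n with
      | zero => simp
      | succ n ih =>
        calc a₀ ^ (n + 1) * x * (a₀ ^ (n + 1))⁻¹ = a₀ * (a₀ ^ n * x * (a₀ ^ n)⁻¹) * a₀⁻¹ := by
              rw [pow_succ']; group
          _ = (a₀ * d ^ n * a₀⁻¹) * (a₀ * x * a₀⁻¹) := by rw [ih]; group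
          _ = d ^ n * (d * x) := by rw [(hcd.pow_right n).eq, mul_inv_cancel_right, hd, commutatorElement_def]; group
          _ = _ := by rw [pow_succ]; group
    have h1 : d ^ Nat.card ↥A = 1 := by
      have := hn (Nat.card ↥A)
      rw [show a₀ ^ Nat.card ↥A = 1 from congrArg Subtype.val (pow_card_eq_one' (x := (⟨a₀, ha₀A⟩ : ↥A)))] at this
      simpa using this.symm
    refine orderOf_eq_one_iff.1 (Nat.eq_one_of_dvd_coprimes hco (orderOf_dvd_of_pow_eq_one h1) ?_)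
    rw [← Subgroup.orderOf_coe (⟨d, hd ▸ hcm a₀ x hx⟩ : ↥V) |>.symm]
    exact orderOf_dvd_natCard _
  have hIA : ∀ g ∈ A, ∀ d ∈ I, g * d * g⁻¹ ∈ I := by
    rintro g hg _ ⟨x, hx, rfl⟩
    refine ⟨g * x * g⁻¹, hVn.conj_mem x hx g, ?_⟩
    have e := hA a₀ ha₀A g hg
    calc ⁅a₀, g * x * g⁻¹⁆ = (a₀ * g) * x * (a₀ * g)⁻¹ * (g * x * g⁻¹)⁻¹ := by rw [commutatorElement_def]; group
      _ = _ := by rw [e, commutatorElement_def]; group
  intro v hv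
  by_contra hne
  have hI : I ≠ ⊥ := fun h => hne (commutatorElement_eq_one_iff_commute.1 (Subgroup.mem_bot.1 (h ▸ ⟨v, hv, rfl⟩)))
  obtain ⟨X, ⟨hXI, hX1, hXA⟩, hmin⟩ := Set.exists_min_image
    {X : Subgroup H | X ≤ I ∧ X ≠ ⊥ ∧ ∀ g ∈ A, ∀ d ∈ X, g * d * g⁻¹ ∈ X}
    (fun X : Subgroup H => Nat.card X) (Set.toFinite _) ⟨I, le_rfl, hI, hIA⟩
  have hXV : X ≤ V := fun d hd => by
    obtain ⟨x, hx, rfl⟩ := hXI hd
    exact hcm a₀ x hx
  -- each element of `A` centralises `X` or acts without fixed points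
  obtain ⟨B, hB⟩ : ∃ B, B = A ⊓ Subgroup.centralizer (X : Set H) := ⟨_, rfl⟩
  have hdich : ∀ g ∈ A, ∀ d ∈ X, Commute g d → d = 1 ∨ g ∈ B := by
    intro g hg d hd hgd
    by_cases h : X ⊓ Subgroup.centralizer ({g} : Set H) = ⊥
    · exact Or.inl (Subgroup.mem_bot.1 (h ▸ ⟨hd, Subgroup.mem_centralizer_singleton_iff.2 hgd.eq.symm⟩))
    · right
      have hle := hmin (X ⊓ Subgroup.centralizer ({g} : Set H)) ⟨inf_le_left.trans hXI, h, fun k hk y hy => by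
        refine ⟨hXA k hk y hy.1, Subgroup.mem_centralizer_singleton_iff.2 ?_⟩
        have e := hA g hg k hk
        have hyg : y * g = g * y := Subgroup.mem_centralizer_singleton_iff.1 hy.2
        have e' : k⁻¹ * g = g * k⁻¹ := (hA g hg k⁻¹ (inv_mem hk)).symm
        calc k * y * k⁻¹ * g = k * (y * (k⁻¹ * g)) := by group
          _ = k * (y * g) * k⁻¹ := by rw [e']; group
          _ = k * g * y * k⁻¹ := by rw [hyg]; group
          _ = _ := by rw [← e]; group⟩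
      have hEq := Subgroup.eq_of_le_of_card_ge inf_le_left hle
      rw [hB]
      refine ⟨hg, Subgroup.mem_centralizer_iff.2 fun y hy => ?_⟩
      exact Subgroup.mem_centralizer_singleton_iff.1 ((hEq.symm.le hy).2)
  have ha₀B : a₀ ∉ B := by
    intro h
    refine hX1 ((Subgroup.eq_bot_iff_forall X).2 fun d hd => hIfix d (hXI hd) ?_)
    rw [hB] at h
    exact (Subgroup.mem_centralizer_iff.1 h.2 d hd).symm
  -- `z w z⁻¹ ∈ w B` or `w⁻¹ B`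
  have key : ∀ w ∈ A, z * w * z⁻¹ * w⁻¹ ∈ B ∨ z * w * z⁻¹ * w ∈ B := by
    intro w hw
    by_contra hcon
    rw [not_or] at hcon
    obtain ⟨d, hd, hd1⟩ : ∃ d ∈ X, d ≠ 1 := by
      by_contra h; push Not at h; exact hX1 ((Subgroup.eq_bot_iff_forall X).2 h)
    obtain ⟨c, hc⟩ : ∃ c, c = z * w * z⁻¹ := ⟨_, rfl⟩
    rw [← hc] at hcon
    have hcA : c ∈ A := hc ▸ hzA w hw
    have hP := weight_defect hV hA hVo hAo hu hinv hzA hfix hw (hXV hd)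
    rw [← hc] at hP
    have hcd : ∀ g ∈ A, g * d * g⁻¹ ∈ X := fun g hg => hXA g hg d hd
    have hcd' : ∀ g ∈ A, g⁻¹ * d * g ∈ X := fun g hg => by simpa using hXA g⁻¹ (inv_mem hg) d hd
    have hP1 : c * d * c⁻¹ * (c⁻¹ * d * c) * (w * d * w⁻¹ * (w⁻¹ * d * w))⁻¹ = 1 :=
      hIfix _ (hXI (mul_mem (mul_mem (hcd c hcA) (hcd' c hcA)) (inv_mem (mul_mem (hcd w hw) (hcd' w hw)))))
        (hP a₀ ha₀A)
    rw [mul_inv_eq_one] at hP1
    -- the product of the two commutator maps kills `d`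
    obtain ⟨a, ha⟩ : ∃ a, a = c * w⁻¹ := ⟨_, rfl⟩
    obtain ⟨b, hb⟩ : ∃ b, b = c * w := ⟨_, rfl⟩
    have haA : a ∈ A := ha ▸ mul_mem hcA (inv_mem hw)
    have hbA : b ∈ A := hb ▸ mul_mem hcA hw
    have hT : a * b * d * (a * b)⁻¹ * d = b * d * b⁻¹ * (a * d * a⁻¹) := by
      have h := congrArg (fun e => c * e * c⁻¹) hP1
      replace h : c * (c * d * c⁻¹ * (c⁻¹ * d * c)) * c⁻¹ = c * (w * d * w⁻¹ * (w⁻¹ * d * w)) * c⁻¹ := h
      have hab : a * b = c * c := by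
        rw [ha, hb, mul_assoc, ← mul_assoc w⁻¹, hA w⁻¹ (inv_mem hw) c hcA]
        group
      rw [hab]
      calc c * c * d * (c * c)⁻¹ * d = c * (c * d * c⁻¹ * (c⁻¹ * d * c)) * c⁻¹ := by group
        _ = c * (w * d * w⁻¹ * (w⁻¹ * d * w)) * c⁻¹ := h
        _ = _ := by rw [ha, hb]; group
    have hbd : ⁅b, d⁆ ∈ X := by
      rw [commutatorElement_def]; exact mul_mem (hcd b hbA) (inv_mem hd)
    have hab1 : Commute a ⁅b, d⁆ := by
      rw [← commutatorElement_eq_one_iff_commute, commutatorElement_def, commutatorElement_def]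
      have hm : ∀ g : H, g * d * g⁻¹ ∈ V := fun g => hVn.conj_mem d (hXV hd) g
      have hdV := hXV hd
      calc a * (b * d * b⁻¹ * d⁻¹) * a⁻¹ * (b * d * b⁻¹ * d⁻¹)⁻¹
          = (a * b * d * (a * b)⁻¹) * ((a * d * a⁻¹)⁻¹ * d) * (b * d * b⁻¹)⁻¹ := by group
        _ = (a * b * d * (a * b)⁻¹) * (d * (a * d * a⁻¹)⁻¹) * (b * d * b⁻¹)⁻¹ := by
            rw [hV _ (inv_mem (hm a)) d hdV]
        _ = (a * b * d * (a * b)⁻¹ * d) * ((a * d * a⁻¹)⁻¹ * (b * d * b⁻¹)⁻¹) := by group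
        _ = 1 := by rw [hT]; group
    rcases hdich a haA _ hbd hab1 with h | h
    · rcases hdich b hbA d hd (commutatorElement_eq_one_iff_commute.1 h) with h' | h'
      · exact hd1 h'
      · exact hcon.2 (hb ▸ h')
    · exact hcon.1 (ha ▸ h)
  have hBA : B ≤ A := hB ▸ inf_le_left
  have hBz : ∀ g ∈ B, z * g * z⁻¹ ∈ B := by
    intro g hg
    rcases key g (hBA hg) with h | h
    · simpa [mul_assoc] using mul_mem h hg
    · simpa [mul_assoc] using mul_mem h (inv_mem hg)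
  rcases key w₀ hw₀ with h | h
  · exact ha₀B (ha₀ ▸ h)
  -- the odd orbit of `z`
  have hit : ∀ i : ℕ, z ^ i * w₀ * (z ^ i)⁻¹ ∈ A ∧
      (Even i → z ^ i * w₀ * (z ^ i)⁻¹ * w₀⁻¹ ∈ B) ∧ (Odd i → z ^ i * w₀ * (z ^ i)⁻¹ * w₀ ∈ B) := by
    intro i
    induction i with
    | zero => simp [hw₀, B.one_mem]
    | succ i ih =>
      obtain ⟨hs, he, ho⟩ := ih
      have hstep : z ^ (i + 1) * w₀ * (z ^ (i + 1))⁻¹ = z * (z ^ i * w₀ * (z ^ i)⁻¹) * z⁻¹ := by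
        rw [pow_succ']; group
      rw [hstep]
      obtain ⟨s, hs'⟩ : ∃ s, s = z ^ i * w₀ * (z ^ i)⁻¹ := ⟨_, rfl⟩
      rw [← hs'] at hs he ho ⊢
      have hσ := hzA w₀ hw₀
      refine ⟨hzA s hs, fun hi => ?_, fun hi => ?_⟩
      · have h1 := hBz _ (ho (by rcases Nat.even_or_odd i with h' | h'; exact absurd hi (Nat.not_even_iff_odd.2 h'.add_one); exact h'))
        have h2 := mul_mem h1 (inv_mem h)
        have e : z * (s * w₀) * z⁻¹ * (z * w₀ * z⁻¹ * w₀)⁻¹ = z * s * z⁻¹ * (z * w₀ * z⁻¹) * w₀⁻¹ * (z * w₀ * z⁻¹)⁻¹ := by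
          group
        rw [e, mul_assoc (z * s * z⁻¹) (z * w₀ * z⁻¹), hA _ hσ _ (inv_mem hw₀)] at h2
        simpa [mul_assoc] using h2
      · have h1 := hBz _ (he (by rcases Nat.even_or_odd i with h' | h'; exact h'; exact absurd hi (Nat.not_odd_iff_even.2 h'.add_one)))
        have h2 := mul_mem h1 h
        have e : z * (s * w₀⁻¹) * z⁻¹ * (z * w₀ * z⁻¹ * w₀) = z * s * z⁻¹ * w₀ := by group
        rwa [e] at h2
  have hlast := (hit (orderOf z)).2.2 hz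
  rw [pow_orderOf_eq_one, one_mul, inv_one, mul_one] at hlast
  have hwB : w₀ ∈ B := mem_of_sq hAo hw₀ hlast
  exact ha₀B (ha₀ ▸ mul_mem (hBz _ hwB) (inv_mem hwB))

end Cfsg.Agent.GW
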