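import Cfsg.Agent.Lib.GW.Meet
import Cfsg.Agent.Lib.GW.Weight

/-!
# The maximal subgroup over `N(O_q(M) ∩ O_q(M^ρ²))`

Step (5) of the uniqueness argument for dihedral Sylow `2`-subgroups: the Fitting subgroup of a maximal subgroup
`N ≥ N(D)` has no part away from `π(F(M))`.
-/

set_option autoImplicit false
set_option linter.unusedSectionVars false
set_option linter.style.haveILetI false

namespace Cfsg.Agent.GW

open Cfsg Cfsg.Agent
open scoped commutatorElement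

universe w

variable {G : Type w} [Group G] [Finite G] [IsSimpleGroup G]

/-- the hypothesis on layers of maximal subgroups used in steps (3) and (5) -/
def LayerCentralises (G : Type w) [Group G] : Prop :=
  ∀ N : Subgroup G, IsCoatom N → ∀ a ∈ N, a * a = 1 → a ≠ 1 → ∀ q : ℕ, q.Prime → q ≠ 2 → ∀ F : Subgroup G,
    F ≤ N → IsPGroup q ↥F → a ∈ Subgroup.normalizer (F : Set G) →
    Subgroup.centralizer ({a} : Set G) ⊓ N ≤ Subgroup.normalizer (F : Set G) →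
    ⁅F, Subgroup.zpowers a⁆ ≤ Subgroup.centralizer ((Cfsg.layer ↥N).map N.subtype : Set G)

theorem mem_norm_of_conj {H : Subgroup G} {g : G} (h : ∀ x ∈ H, g * x * g⁻¹ ∈ H) :
    g ∈ Subgroup.normalizer (H : Set G) := by
  have heq : H.map (MulAut.conj g).toMonoidHom = H :=
    Subgroup.eq_of_le_of_card_ge (by rintro _ ⟨x, hx, rfl⟩; exact h x hx)
      (Subgroup.card_map_of_injective (MulAut.conj g).injective).ge
  refine Subgroup.mem_normalizer_iff.2 fun x => ⟨h x, fun hx => ?_⟩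
  obtain ⟨y, hy, hye⟩ := heq.ge hx
  have : y = x := (MulAut.conj g).injective hye
  exact this ▸ hy

theorem fq_le_norm (q : ℕ) (hq : q.Prime) (M : Subgroup G) : M ≤ Subgroup.normalizer (fq q M : Set G) :=
  fun g hg => mem_norm_of_conj fun _ hx => conj_fq hq hg hx

theorem fq_isPGroup (q : ℕ) [Fact q.Prime] (M : Subgroup G) : IsPGroup q ↥(fq q M) :=
  (Solv.pCore_isPGroup q).map _

/-- `g ∈ M` with `σ⁻¹ g σ ∈ M` normalises `O_q(M) ∩ O_q(M)^σ` -/
theorem mem_norm_meet {q : ℕ} (hq : q.Prime) {M : Subgroup G} {σ g : G} (hg : g ∈ M) (hg' : σ⁻¹ * g * σ ∈ M) :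
    g ∈ Subgroup.normalizer ((fq q M ⊓ (fq q M).map (MulAut.conj σ).toMonoidHom : Subgroup G) : Set G) := by
  refine mem_norm_of_conj ?_
  rintro x ⟨hx, y, hy, rfl⟩
  refine ⟨conj_fq hq hg hx, σ⁻¹ * g * σ * y * (σ⁻¹ * g * σ)⁻¹, conj_fq hq hg' hy, ?_⟩
  show σ * (σ⁻¹ * g * σ * y * (σ⁻¹ * g * σ)⁻¹) * σ⁻¹ = g * (σ * y * σ⁻¹) * g⁻¹
  group

/-- two elements of the cores for different primes commute -/
theorem commute_fq {p q : ℕ} (hp : p.Prime) (hq : q.Prime) (hpq : p ≠ q) {M : Subgroup G} {x y : G}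
    (hx : x ∈ fq p M) (hy : y ∈ fq q M) : Commute x y := by
  haveI := Fact.mk hp
  haveI := Fact.mk hq
  haveI := Solv.pCore_normal (G := ↥M) p
  haveI := Solv.pCore_normal (G := ↥M) q
  obtain ⟨a, ha, rfl⟩ := hx
  obtain ⟨b, hb, rfl⟩ := hy
  have := Subgroup.commute_of_normal_of_disjoint _ _ inferInstance inferInstance
    ((Solv.pCore_isPGroup (G := ↥M) p).disjoint_of_ne p q hpq (Cfsg.pCore p ↥M) (Cfsg.pCore q ↥M)
      (Solv.pCore_isPGroup q)) a b ha hb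
  exact this.map M.subtype

/-- subgroups of prime power order for different primes meet trivially -/
theorem eq_one_of_two_primes {p q : ℕ} [Fact p.Prime] [Fact q.Prime] (hpq : p ≠ q) {P Q : Subgroup G}
    (hP : IsPGroup p ↥P) (hQ : IsPGroup q ↥Q) {x : G} (hxP : x ∈ P) (hxQ : x ∈ Q) : x = 1 := by
  have h := hP.disjoint_of_ne p q hpq P Q hQ
  exact Subgroup.mem_bot.1 (h.eq_bot ▸ ⟨hxP, hxQ⟩)

/-- Step (5), the parts away from `π(F(M))`. -/
theorem other_part_bot (hG : ¬ IsMulCommutative G) (hK : Cfsg.IsKProper G) {t u ρ : G} (ht : t * t = 1)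
    (hu : u * u = 1) (htu : Commute t u) (ht1 : t ≠ 1) (hρt : ρ * t * ρ⁻¹ = u) (hρu : ρ * u * ρ⁻¹ = t * u)
    (hlayer : LayerCentralises G) {M : Subgroup G} (hM : Over t M) (hgood : Good t M) {q : ℕ} [hq : Fact q.Prime]
    (hq2 : q ≠ 2) (hb : ¬ fq q M ≤ Subgroup.centralizer ({t} : Set G))
    (hD1 : fq q M ⊓ (fq q M).map (MulAut.conj (ρ * ρ)).toMonoidHom ≠ ⊥)
    {N : Subgroup G} (hN : IsCoatom N)
    (hle : Subgroup.normalizer
      ((fq q M ⊓ (fq q M).map (MulAut.conj (ρ * ρ)).toMonoidHom : Subgroup G) : Set G) ≤ N)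
    {r : ℕ} (hr : r.Prime) (h0 : Cfsg.pCore r ↥M = ⊥) : fq r N = ⊥ := by
  haveI := Fact.mk hr
  obtain ⟨hρtu, hσt, hσu, hσtu⟩ := rho_sq hu htu hρt hρu
  obtain ⟨σ, hσ⟩ : ∃ σ, σ = ρ * ρ := ⟨_, rfl⟩
  rw [← hσ] at hσt hσu hσtu hD1 hle
  obtain ⟨D, hD⟩ : ∃ D, D = fq q M ⊓ (fq q M).map (MulAut.conj σ).toMonoidHom := ⟨_, rfl⟩
  rw [← hD] at hD1 hle
  have htM := hM.mem
  have huM : u ∈ M := hM.le (Subgroup.mem_centralizer_singleton_iff.2 htu.eq.symm)
  have htuM : t * u ∈ M := M.mul_mem htM huM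
  have hconjσ : ∀ {a b : G}, σ * a * σ⁻¹ = b → σ⁻¹ * b * σ = a := by
    intro a b h; rw [← h]; group
  have htN : t ∈ N := hle (hD ▸ mem_norm_meet hq.out htM (hconjσ hσu ▸ huM))
  have huN : u ∈ N := hle (hD ▸ mem_norm_meet hq.out huM (hconjσ hσtu ▸ htuM))
  -- elements centralising the four group
  have hKM : ∀ g : G, Commute g t → g ∈ M := fun g hg => hM.le (Subgroup.mem_centralizer_singleton_iff.2 hg.eq)
  have hKN : ∀ g : G, Commute g t → Commute g u → g ∈ N := fun g hgt hgu => hle (hD ▸ mem_norm_meet hq.out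
    (hKM g hgt) (hKM _ (by
      have := (Commute.conj_iff σ⁻¹).2 (hgt.mul_right hgu)
      rwa [inv_inv, hconjσ hσt] at this)))
  have hρfix : ∀ g : G, Commute g t → Commute g u → Commute (ρ * g * ρ⁻¹) t ∧ Commute (ρ * g * ρ⁻¹) u := by
    intro g hgt hgu
    constructor
    · have := (Commute.conj_iff ρ).2 (hgt.mul_right hgu)
      rwa [hρtu] at this
    · have := (Commute.conj_iff ρ).2 hgt
      rwa [hρt] at this
  have hFN : ∀ p : ℕ, p.Prime → p ≠ q → fq p M ≤ N := fun p hp hpq f hf => hle <|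
    Subgroup.centralizer_le_normalizer _ <| Subgroup.mem_centralizer_iff.2 fun d hd => by
      rw [hD] at hd
      exact (commute_fq hq.out hp (Ne.symm hpq) hd.1 hf).eq
  have hMN : Cfsg.leadsTo M N :=
    leads hD1 ((hD ▸ inf_le_left : D ≤ fq q M).trans (fq_le_fitting hq.out M)) hle
  -- the part and its images
  obtain ⟨W, hW⟩ : ∃ W, W = fq r N := ⟨_, rfl⟩
  rw [← hW]
  have hWn : N ≤ Subgroup.normalizer (W : Set G) := hW ▸ fq_le_norm r hr N
  have hWM : W ⊓ M = ⊥ := hW ▸ (BenderUniq.facts hG M N hM.coatom hMN).2.2.1 r hr h0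
  have hfixM : ∀ w ∈ W, Commute w t → w = 1 := fun w hw hwt =>
    Subgroup.mem_bot.1 (hWM ▸ ⟨hw, hKM w hwt⟩)
  have hWt := inverts ht (hWn htN) hfixM
  have hWodd := odd_of_inverted ht hM.le hWM hWt
  obtain ⟨N', hN'⟩ : ∃ N', N' = N.map (MulAut.conj σ⁻¹).toMonoidHom := ⟨_, rfl⟩
  have hWM2 : W.map (MulAut.conj σ⁻¹).toMonoidHom ⊓ M = ⊥ := by
    have hco : IsCoatom N' := by
      rw [hN']
      exact (MulEquiv.mapSubgroup (MulAut.conj σ⁻¹)).isCoatom_iff N |>.2 hN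
    have hMN' : Cfsg.leadsTo M N' := by
      refine leads (Y := D.map (MulAut.conj σ⁻¹).toMonoidHom) ?_ ?_ ?_
      · rw [ne_eq, Subgroup.map_eq_bot_iff_of_injective _ (MulAut.conj σ⁻¹).injective]
        exact hD1
      · refine le_trans ?_ (fq_le_fitting hq.out M)
        rintro _ ⟨d, hd, rfl⟩
        rw [hD] at hd
        obtain ⟨y, hy, rfl⟩ := hd.2
        show σ⁻¹ * (σ * y * σ⁻¹) * σ⁻¹⁻¹ ∈ fq q M
        rwa [show σ⁻¹ * (σ * y * σ⁻¹) * σ⁻¹⁻¹ = y by group]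
      · rw [← Subgroup.map_equiv_normalizer_eq, hN']
        exact Subgroup.map_mono hle
    have h := (BenderUniq.facts hG M N' hM.coatom hMN').2.2.1 r hr h0
    rw [← fq, hN', fq_map r σ⁻¹ N, ← hW] at h
    exact h
  have hfixM2 : ∀ w ∈ W, Commute w (t * u) → w = 1 := by
    intro w hw hwtu
    have hc : Commute (σ⁻¹ * w * σ) t := by
      have := (Commute.conj_iff σ⁻¹).2 hwtu
      rwa [inv_inv, hconjσ hσt] at this
    have h : σ⁻¹ * w * σ ∈ W.map (MulAut.conj σ⁻¹).toMonoidHom ⊓ M :=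
      ⟨⟨w, hw, by show σ⁻¹ * w * σ⁻¹⁻¹ = _; rw [inv_inv]⟩, hKM _ hc⟩
    rw [hWM2, Subgroup.mem_bot] at h
    calc w = σ * (σ⁻¹ * w * σ) * σ⁻¹ := by group
      _ = 1 := by rw [h]; group
  have htu2 : t * u * (t * u) = 1 := by
    rw [mul_assoc, ← mul_assoc u, ← htu.eq, mul_assoc t u, hu, mul_one, ht]
  have hWtu := inverts htu2 (mul_mem (hWn htN) (hWn huN)) hfixM2
  have hWu : ∀ w ∈ W, Commute w u := by
    intro w hw
    have h1 := hWtu w hw
    have h2 := hWt w hw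
    have h3 : u * w * u⁻¹ = w := by
      calc u * w * u⁻¹ = t⁻¹ * ((t * u) * w * (t * u)⁻¹) * t := by group
        _ = t⁻¹ * (t * w * t⁻¹) * t := by rw [h1, h2]
        _ = w := by group
    exact (mul_inv_eq_iff_eq_mul.1 h3).symm
  by_contra hne
  -- a second prime in `π⁻`
  by_cases hsec : ∀ p : ℕ, p.Prime → p ≠ q → fq p M ≤ Subgroup.centralizer ({t} : Set G)
  swap
  · simp only [not_forall] at hsec
    obtain ⟨p, hp, hpq, hbp⟩ := hsec
    have hc := comm_centralizes ht ((hFN p hp hpq).trans hWn) hWt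
    refine hne (le_bot_iff.1 (hWM ▸ le_inf le_rfl ?_))
    exact ((Subgroup.le_centralizer_iff.1 hc).trans (Subgroup.centralizer_le_normalizer _)).trans (hgood p hp hbp)
  -- a prime `r₀ ≠ q` of `F(M)`
  obtain ⟨r₀, hr₀, hr₀q, hr₀d⟩ : ∃ r₀ : ℕ, r₀.Prime ∧ r₀ ≠ q ∧ r₀ ∣ Nat.card ↥(Cfsg.fittingSubgroup ↥M) := by
    obtain ⟨q₁, q₂, hq₁, hq₂, hne', hd₁, hd₂⟩ := hM.two
    by_cases h : q₁ = q
    · exact ⟨q₂, hq₂, fun h2 => hne' (h.trans h2.symm), hd₂⟩
    · exact ⟨q₁, hq₁, h, hd₁⟩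
  haveI := Fact.mk hr₀
  have hQ₀ : Cfsg.pCore r₀ ↥M ≠ ⊥ := (BenderUniq.core_dvd hr₀).1 hr₀d
  obtain ⟨Z, hZ⟩ : ∃ Z, Z = fq r₀ M ⊓ Subgroup.centralizer (fq r₀ M : Set G) := ⟨_, rfl⟩
  have hZfq : Z ≤ fq r₀ M := hZ ▸ inf_le_left
  have hMZ : M ≤ Subgroup.normalizer (Z : Set G) := by
    intro g hg
    refine mem_norm_of_conj fun x hx => ?_
    rw [hZ] at hx ⊢
    refine ⟨conj_fq hr₀ hg hx.1, Subgroup.mem_centralizer_iff.2 fun y hy => ?_⟩
    have hy' : g⁻¹ * y * g ∈ fq r₀ M := by simpa using conj_fq hr₀ (inv_mem hg) hy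
    have := Subgroup.mem_centralizer_iff.1 hx.2 _ hy'
    calc y * (g * x * g⁻¹) = g * (g⁻¹ * y * g * x) * g⁻¹ := by group
      _ = _ := by rw [this]; group
  have hZ1 : ∃ z ∈ Z, z ≠ 1 := by
    haveI : Nontrivial ↥(fq r₀ M) := by
      rw [Subgroup.nontrivial_iff_ne_bot, fq, ne_eq, Subgroup.map_eq_bot_iff_of_injective _ M.subtype_injective]
      exact hQ₀
    haveI := (fq_isPGroup r₀ M).center_nontrivial
    obtain ⟨⟨z, hz⟩, hz1⟩ := exists_ne (1 : ↥(Subgroup.center ↥(fq r₀ M)))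
    refine ⟨(z : G), ?_, fun h => hz1 (Subtype.ext (Subtype.ext h))⟩
    rw [hZ]
    exact ⟨z.2, Subgroup.mem_centralizer_iff.2 fun y hy =>
      congrArg Subtype.val (Subgroup.mem_center_iff.1 hz ⟨y, hy⟩)⟩
  have hZt : ∀ z ∈ Z, Commute z t := fun z hz =>
    Subgroup.mem_centralizer_singleton_iff.1 (hsec r₀ hr₀ hr₀q (hZfq hz))
  have hZq : ∀ z ∈ Z, ∀ v ∈ fq q M, Commute z v := fun z hz v hv => commute_fq hr₀ hq.out hr₀q (hZfq hz) hv
  by_cases hb1 : ∀ z ∈ Z, Commute z u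
  swap
  · -- an element of `Z` inverted by `u` centralises `W`
    simp only [not_forall] at hb1
    obtain ⟨y, hy, hyu⟩ := hb1
    obtain ⟨z, hz⟩ : ∃ z, z = y⁻¹ * (u * y * u⁻¹) := ⟨_, rfl⟩
    have hzZ : z ∈ Z := hz ▸ mul_mem (inv_mem hy) ((Subgroup.mem_normalizer_iff.1 (hMZ huM) y).1 hy)
    have hz1 : z ≠ 1 := by
      intro h
      rw [hz, inv_mul_eq_one] at h
      refine hyu ?_
      show y * u = u * y
      nth_rw 1 [h]
      rw [inv_mul_cancel_right]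
    have hzu : u * z * u⁻¹ = z⁻¹ := by
      rw [hz]
      calc u * (y⁻¹ * (u * y * u⁻¹)) * u⁻¹ = u * y⁻¹ * u⁻¹ * ((u * u) * y * (u * u)⁻¹) := by group
        _ = _ := by rw [hu]; group
    have hzodd : Odd (orderOf z) := by
      have hr₀2 : r₀ ≠ 2 := by
        rintro rfl
        exact Nat.not_even_iff_odd.2 hM.odd (even_iff_two_dvd.2 hr₀d)
      obtain ⟨k, hk⟩ := IsPGroup.iff_orderOf.1 (fq_isPGroup r₀ M) ⟨z, hZfq hzZ⟩
      rw [Subgroup.orderOf_mk] at hk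
      rw [hk]
      exact (hr₀.odd_of_ne_two hr₀2).pow
    have hzN : z ∈ N := hFN r₀ hr₀ hr₀q (hZfq hzZ)
    have hzW : ∀ w ∈ W, Commute w z := by
      intro w hw
      have hw' : z * w * z⁻¹ ∈ W := (Subgroup.mem_normalizer_iff.1 (hWn hzN) w).1 hw
      have h1 : z * w * z⁻¹ = z⁻¹ * w * z := by
        calc z * w * z⁻¹ = u * (z * w * z⁻¹) * u⁻¹ := by rw [← (hWu _ hw').eq, mul_inv_cancel_right]
          _ = (u * z * u⁻¹) * (u * w * u⁻¹) * (u * z * u⁻¹)⁻¹ := by group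
          _ = _ := by rw [hzu, ← (hWu w hw).eq, mul_inv_cancel_right, inv_inv]
      have h2 : Commute w (z * z) := by
        show w * (z * z) = z * z * w
        calc w * (z * z) = z * (z⁻¹ * w * z) * z := by group
          _ = z * (z * w * z⁻¹) * z := by rw [h1]
          _ = _ := by group
      obtain ⟨j, hj⟩ := exists_pow_eq_self_of_coprime hzodd.coprime_two_left
      rw [← hj, pow_two]
      exact h2.pow_right j
    have hstar := normalizer_le hG hK ht hM hgood hq.out hb (Y := Subgroup.zpowers z)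
      (by rwa [ne_eq, Subgroup.zpowers_eq_bot])
      (Subgroup.zpowers_le.2 (fq_le_fitting hr₀ M (hZfq hzZ)))
      (by
        refine le_trans ?_ (Subgroup.centralizer_le_normalizer _)
        rw [Solv.fitting_eq_iSup_pCore, Subgroup.map_iSup, iSup_le_iff]
        intro p f hf
        refine Subgroup.mem_centralizer_iff.2 fun b hb => ?_
        obtain ⟨i, rfl⟩ := Subgroup.mem_zpowers_iff.1 hb
        refine (Commute.zpow_left ?_ i).eq
        by_cases hp : (p : ℕ) = r₀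
        · rw [hZ] at hzZ
          exact (Subgroup.mem_centralizer_iff.1 hzZ.2 f (hp ▸ hf)).symm
        · exact commute_fq hr₀ p.2 (Ne.symm hp) (hZfq hzZ) hf)
      (Subgroup.centralizer_le_normalizer _ (Subgroup.mem_centralizer_iff.2 fun b hb => by
        obtain ⟨i, rfl⟩ := Subgroup.mem_zpowers_iff.1 hb
        exact ((hZt z hzZ).zpow_left i).eq))
      (fun L hL hLe => by
        have hcz : ∀ g : G, Commute g z → g ∈ L := fun g hg => hLe (Subgroup.centralizer_le_normalizer _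
          (Subgroup.mem_centralizer_iff.2 fun b hb => by
            obtain ⟨i, rfl⟩ := Subgroup.mem_zpowers_iff.1 hb
            exact ((hg.zpow_right i).eq).symm))
        exact hlayer L hL t (hcz t (hZt z hzZ).symm) ht ht1 q hq.out hq2 (fq q M)
          (fun v hv => hcz v (hZq z hzZ v hv).symm) (fq_isPGroup q M) (fq_le_norm q hq.out M htM)
          ((inf_le_left.trans hM.le).trans (fq_le_norm q hq.out M)))
    refine hne (le_bot_iff.1 (hWM ▸ le_inf le_rfl fun w hw => hstar (Subgroup.centralizer_le_normalizer _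
      (Subgroup.mem_centralizer_iff.2 fun b hb => ?_))))
    obtain ⟨i, rfl⟩ := Subgroup.mem_zpowers_iff.1 hb
    exact ((hzW w hw).zpow_right i).eq.symm
  -- `Z` centralises the four group: weights
  obtain ⟨A, hA⟩ : ∃ A, A = W.map (MulAut.conj ρ⁻¹).toMonoidHom := ⟨_, rfl⟩
  have hρu' : ρ⁻¹ * u * ρ = t := by rw [← hρt]; group
  have hρt' : ρ⁻¹ * t * ρ = t * u := by
    conv_lhs => rw [← hρtu]
    group
  have hAmem : ∀ a ∈ A, ∃ w ∈ W, a = ρ⁻¹ * w * ρ := by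
    intro a ha
    rw [hA] at ha
    obtain ⟨w, hw, rfl⟩ := ha
    exact ⟨w, hw, by show ρ⁻¹ * w * ρ⁻¹⁻¹ = _; rw [inv_inv]⟩
  have hAt : ∀ a ∈ A, Commute a t := by
    intro a ha
    obtain ⟨w, hw, rfl⟩ := hAmem a ha
    have := (Commute.conj_iff ρ⁻¹).2 (hWu w hw)
    rwa [inv_inv, hρu'] at this
  have hAM : A ≤ M := fun a ha => hKM a (hAt a ha)
  have hAu : ∀ a ∈ A, u * a * u⁻¹ = a⁻¹ := by
    intro a ha
    obtain ⟨w, hw, hwe⟩ := hAmem a ha
    have h1 : (t * u) * a * (t * u)⁻¹ = a⁻¹ := by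
      calc (t * u) * a * (t * u)⁻¹ = ρ⁻¹ * (t * w * t⁻¹) * ρ := by rw [← hρt', hwe]; group
        _ = a⁻¹ := by rw [hWt w hw, hwe]; group
    calc u * a * u⁻¹ = t⁻¹ * ((t * u) * a * (t * u)⁻¹) * t := by group
      _ = t⁻¹ * a⁻¹ * t := by rw [h1]
      _ = a⁻¹ := by rw [mul_assoc, (hAt a ha).inv_left.eq, inv_mul_cancel_left]
  have hAab : ∀ a ∈ A, ∀ b ∈ A, a * b = b * a := by
    intro a ha b hb
    have h := hAu _ (A.mul_mem ha hb)
    rw [show u * (a * b) * u⁻¹ = (u * a * u⁻¹) * (u * b * u⁻¹) by group, hAu a ha, hAu b hb, ← mul_inv_rev,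
      inv_inj] at h
    exact h.symm
  have hAp : IsPGroup r ↥A := hA ▸ (hW ▸ fq_isPGroup r N : IsPGroup r ↥W).map _
  have hAodd : Odd (Nat.card ↥A) := by
    rw [hA, Subgroup.card_map_of_injective (MulAut.conj ρ⁻¹).injective]
    exact hWodd
  have hr2 : r ≠ 2 := by
    rintro rfl
    obtain ⟨k, hk⟩ := IsPGroup.iff_card.1 (hW ▸ fq_isPGroup 2 N : IsPGroup 2 ↥W)
    rcases Nat.eq_zero_or_pos k with rfl | hk0
    · exact hne (Subgroup.card_eq_one.1 (by rw [hk, pow_zero]))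
    · exact Nat.not_even_iff_odd.2 hWodd (by rw [hk]; exact Nat.even_pow.2 ⟨even_two, hk0.ne'⟩)
  obtain ⟨z₀, hz₀, hz₀1⟩ := hZ1
  -- `Z^ρ` centralises `A`
  suffices hmain : ∀ z₁ ∈ Z, ∀ a ∈ A, Commute (ρ * z₁ * ρ⁻¹) a by
    refine hne (le_bot_iff.1 fun w hw => ?_)
    have hnorm : σ⁻¹ * w * σ ∈ Subgroup.normalizer (Z : Set G) := by
      refine Subgroup.centralizer_le_normalizer _ (Subgroup.mem_centralizer_iff.2 fun y hy => ?_)
      have h := (Commute.conj_iff ρ).2 (hmain y hy (ρ⁻¹ * w * ρ)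
        (hA ▸ ⟨w, hw, by show ρ⁻¹ * w * ρ⁻¹⁻¹ = _; rw [inv_inv]⟩))
      rw [show ρ * (ρ * y * ρ⁻¹) * ρ⁻¹ = σ * y * σ⁻¹ by rw [hσ]; group,
        show ρ * (ρ⁻¹ * w * ρ) * ρ⁻¹ = w by group] at h
      have := (Commute.conj_iff σ⁻¹).2 h
      rw [inv_inv, show σ⁻¹ * (σ * y * σ⁻¹) * σ = y by group] at this
      exact this.eq
    have hNZ : Subgroup.normalizer (Z : Set G) ≤ M := by
      rcases hM.coatom.le_iff.1 hMZ with h | h
      · exfalso
        haveI : Z.Normal := Subgroup.normalizer_eq_top_iff.1 h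
        rcases IsSimpleGroup.eq_bot_or_eq_top_of_normal Z inferInstance with h' | h'
        · exact hz₀1 (Subgroup.mem_bot.1 (h' ▸ hz₀))
        · exact hM.coatom.1 (top_le_iff.1 (h' ▸ hZfq.trans (fq_le r₀ M)))
      · exact h.le
    have h : σ⁻¹ * w * σ ∈ W.map (MulAut.conj σ⁻¹).toMonoidHom ⊓ M :=
      ⟨⟨w, hw, by show σ⁻¹ * w * σ⁻¹⁻¹ = _; rw [inv_inv]⟩, hNZ hnorm⟩
    rw [hWM2, Subgroup.mem_bot] at h
    rw [Subgroup.mem_bot]
    calc w = σ * (σ⁻¹ * w * σ) * σ⁻¹ := by group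
      _ = 1 := by rw [h]; group
  intro z₁ hz₁
  obtain ⟨hzt, hzu⟩ := hρfix z₁ (hZt z₁ hz₁) (hb1 z₁ hz₁)
  obtain ⟨hzzt, hzzu⟩ := hρfix _ hzt hzu
  obtain ⟨z, hz⟩ : ∃ z, z = ρ * z₁ * ρ⁻¹ := ⟨_, rfl⟩
  rw [← hz] at hzt hzu hzzt hzzu ⊢
  have hzM : z ∈ M := hKM z hzt
  have hzA : ∀ a ∈ A, z * a * z⁻¹ ∈ A := by
    intro a ha
    obtain ⟨w, hw, rfl⟩ := hAmem a ha
    rw [hA]
    refine ⟨ρ * z * ρ⁻¹ * w * (ρ * z * ρ⁻¹)⁻¹,
      (Subgroup.mem_normalizer_iff.1 (hWn (hKN _ hzzt hzzu)) w).1 hw, ?_⟩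
    show ρ⁻¹ * (ρ * z * ρ⁻¹ * w * (ρ * z * ρ⁻¹)⁻¹) * ρ⁻¹⁻¹ = z * (ρ⁻¹ * w * ρ) * z⁻¹
    group
  have hzodd : Odd (orderOf z) := by
    have hr₀2 : r₀ ≠ 2 := by
      rintro rfl
      exact Nat.not_even_iff_odd.2 hM.odd (even_iff_two_dvd.2 hr₀d)
    obtain ⟨k, hk⟩ := IsPGroup.iff_orderOf.1 (fq_isPGroup r₀ M) ⟨z₁, hZfq hz₁⟩
    rw [Subgroup.orderOf_mk] at hk
    rw [hz, show ρ * z₁ * ρ⁻¹ = (MulAut.conj ρ).toMonoidHom z₁ from rfl, orderOf_injective _
      (MulAut.conj ρ).injective, hk]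
    exact (hr₀.odd_of_ne_two hr₀2).pow
  intro a ha
  obtain ⟨c, hc⟩ : ∃ c, c = z * a * z⁻¹ * a⁻¹ := ⟨_, rfl⟩
  have hcA : c ∈ A := hc ▸ mul_mem (hzA a ha) (inv_mem ha)
  have hcM : c ∈ M := hAM hcA
  have hcord : ∀ b ∈ A, ∀ hb : b ∈ M, ∃ k : ℕ, orderOf (⟨b, hb⟩ : ↥M) = r ^ k := by
    intro b hb hbM
    obtain ⟨k, hk⟩ := IsPGroup.iff_orderOf.1 hAp ⟨b, hb⟩
    exact ⟨k, by rw [← hk, Subgroup.orderOf_mk, Subgroup.orderOf_mk]⟩
  have hpne : ∀ p : ℕ, p.Prime → fq p M ≠ ⊥ → p ≠ r := fun p hp h hpr => h (by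
    rw [fq, hpr, h0, Subgroup.map_bot])
  have hp2 : ∀ p : ℕ, p.Prime → fq p M ≠ ⊥ → p ≠ 2 := by
    rintro p hp h rfl
    exact Nat.not_even_iff_odd.2 hM.odd (even_iff_two_dvd.2 (hM.fittingNe hp h))
  have hcfq : ∀ p : ℕ, p.Prime → ∀ v ∈ fq p M, Commute c v := by
    intro p hp v hv
    haveI := Fact.mk hp
    haveI := Solv.pCore_normal (G := ↥M) p
    by_cases hpb : fq p M = ⊥
    · rw [hpb, Subgroup.mem_bot] at hv
      rw [hv]
      exact Commute.one_right c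
    by_cases hpq : p = q
    · subst hpq
      -- weights on the Frattini factor
      obtain ⟨P₀, hP₀⟩ : ∃ P₀, P₀ = (frattini ↥(Cfsg.pCore p ↥M)).map (Cfsg.pCore p ↥M).subtype := ⟨_, rfl⟩
      haveI : P₀.Normal := hP₀ ▸ frattini_core_normal p
      obtain ⟨f, hf⟩ : ∃ f : ↥M →* ↥M ⧸ P₀, f = QuotientGroup.mk' P₀ := ⟨_, rfl⟩
      have hPp := Solv.pCore_isPGroup (G := ↥M) p
      haveI : ((Cfsg.pCore p ↥M).map f).Normal :=
        Subgroup.Normal.map inferInstance f (hf ▸ QuotientGroup.mk'_surjective P₀)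
      have hVab : ∀ x ∈ (Cfsg.pCore p ↥M).map f, ∀ y ∈ (Cfsg.pCore p ↥M).map f, x * y = y * x := by
        rintro _ ⟨x, hx, rfl⟩ _ ⟨y, hy, rfl⟩
        rw [← commutatorElement_eq_one_iff_mul_comm, ← map_commutatorElement, hf, QuotientGroup.mk'_apply,
          QuotientGroup.eq_one_iff, hP₀]
        exact ⟨⁅(⟨x, hx⟩ : ↥(Cfsg.pCore p ↥M)), ⟨y, hy⟩⁆, Solv.commutatorElement_mem_frattini hPp _ _, rfl⟩
      obtain ⟨nV, hnV⟩ := IsPGroup.iff_card.1 (hPp.map f)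
      have hAMp : IsPGroup r ↥((A.subgroupOf M).map f) := ((hAp.comap_subtype (K := M)).map f)
      obtain ⟨nA, hnA⟩ := IsPGroup.iff_card.1 hAMp
      have hvM : v ∈ M := fq_le p M hv
      have hAinv : ∀ b ∈ (A.subgroupOf M).map f,
          f (⟨u, huM⟩ : ↥M) * b * (f ⟨u, huM⟩)⁻¹ = b⁻¹ := by
        rintro _ ⟨b, hb, rfl⟩
        rw [← map_inv, ← map_mul, ← map_mul, ← map_inv]
        exact congrArg f (Subtype.ext (hAu b hb))
      have hwk := weight_kills (V := (Cfsg.pCore p ↥M).map f) (A := (A.subgroupOf M).map f) hVab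
        (by
          rintro _ ⟨x, hx, rfl⟩ _ ⟨y, hy, rfl⟩
          rw [← map_mul, ← map_mul]
          exact congrArg f (Subtype.ext (hAab x hx y hy)))
        (by rw [hnV]; exact (hp.odd_of_ne_two hq2).pow)
        (by rw [hnA]; exact (hr.odd_of_ne_two hr2).pow)
        (by rw [hnV, hnA]; exact ((Nat.coprime_primes hr hp).2 (Ne.symm (hpne p hp hpb))).pow nA nV)
        (u := f ⟨u, huM⟩) (z := f ⟨z, hzM⟩)
        (by rw [← map_mul, ← f.map_one]; exact congrArg f (Subtype.ext hu))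
        hAinv
        (by
          rintro _ ⟨b, hb, rfl⟩
          rw [← map_inv, ← map_mul, ← map_mul]
          exact ⟨_, hzA b hb, rfl⟩)
        (by
          refine hzodd.of_dvd_nat ?_
          refine (orderOf_map_dvd f _).trans ?_
          rw [Subgroup.orderOf_mk])
        (by
          rintro _ ⟨x, hx, rfl⟩ hxu
          -- lift to a fixed element
          obtain ⟨e, he⟩ : ∃ e, e = x⁻¹ * ((⟨u, huM⟩ : ↥M) * x * (⟨u, huM⟩ : ↥M)⁻¹) := ⟨_, rfl⟩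
          have heN : e ∈ P₀ := by
            rw [← QuotientGroup.eq_one_iff, he, ← QuotientGroup.mk'_apply, ← hf, map_mul, map_mul, map_mul,
              map_inv, map_inv, hxu, inv_mul_cancel]
          have huu : (⟨u, huM⟩ : ↥M) * ⟨u, huM⟩ = 1 := Subtype.ext hu
          have hewi : (⟨u, huM⟩ : ↥M) * e * (⟨u, huM⟩ : ↥M)⁻¹ = e⁻¹ := by
            rw [he]
            calc (⟨u, huM⟩ : ↥M) * (x⁻¹ * ((⟨u, huM⟩ : ↥M) * x * (⟨u, huM⟩ : ↥M)⁻¹)) * (⟨u, huM⟩ : ↥M)⁻¹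
                = (⟨u, huM⟩ : ↥M) * x⁻¹ * (⟨u, huM⟩ : ↥M)⁻¹ *
                  (((⟨u, huM⟩ : ↥M) * ⟨u, huM⟩) * x * ((⟨u, huM⟩ : ↥M) * ⟨u, huM⟩)⁻¹) := by group
              _ = _ := by rw [huu]; group
          have hPle : P₀ ≤ Cfsg.pCore p ↥M := hP₀ ▸ Subgroup.map_subtype_le _
          have heo : Odd (orderOf e) := by
            obtain ⟨n, hn⟩ := IsPGroup.iff_orderOf.1 hPp ⟨e, hPle heN⟩
            rw [Subgroup.orderOf_mk] at hn
            rw [hn]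
            exact (hp.odd_of_ne_two hq2).pow
          obtain ⟨k, hk⟩ := heo
          have hff : e ^ (k + 1) * e ^ (k + 1) = e := by
            rw [← pow_add, show k + 1 + (k + 1) = orderOf e + 1 by omega, pow_succ, pow_orderOf_eq_one, one_mul]
          have hfw : (⟨u, huM⟩ : ↥M) * e ^ (k + 1) * (⟨u, huM⟩ : ↥M)⁻¹ = (e ^ (k + 1))⁻¹ := by
            rw [← conj_pow, hewi, inv_pow]
          have hfix : (⟨u, huM⟩ : ↥M) * (x * e ^ (k + 1)) * (⟨u, huM⟩ : ↥M)⁻¹ = x * e ^ (k + 1) := by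
            calc (⟨u, huM⟩ : ↥M) * (x * e ^ (k + 1)) * (⟨u, huM⟩ : ↥M)⁻¹
                = x * (x⁻¹ * ((⟨u, huM⟩ : ↥M) * x * (⟨u, huM⟩ : ↥M)⁻¹)) *
                  ((⟨u, huM⟩ : ↥M) * e ^ (k + 1) * (⟨u, huM⟩ : ↥M)⁻¹) := by group
              _ = x * (e ^ (k + 1) * e ^ (k + 1)) * (e ^ (k + 1))⁻¹ := by rw [← he, hfw, hff]
              _ = _ := by group
          have hxe : ((x * e ^ (k + 1) : ↥M) : G) ∈ fq p M :=
            ⟨_, mul_mem hx (hPle (pow_mem heN _)), rfl⟩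
          obtain ⟨g, hg⟩ : ∃ g : G, g = ((x * e ^ (k + 1) : ↥M) : G) := ⟨_, rfl⟩
          rw [← hg] at hxe
          have hgu : Commute g u := by
            have := congrArg Subtype.val hfix
            rw [hg]
            exact (mul_inv_eq_iff_eq_mul.1 this).symm
          -- `g` normalises `Z^ρ`
          have hgM : ρ⁻¹ * g * ρ ∈ M := hKM _ (by
            have := (Commute.conj_iff ρ⁻¹).2 hgu
            rwa [inv_inv, hρu'] at this)
          have h1 : z * g * z⁻¹ * g⁻¹ = 1 := by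
            have hin1 : z * g * z⁻¹ * g⁻¹ ∈ fq p M := mul_mem (conj_fq hp hzM hxe) (inv_mem hxe)
            have hin2 : z * g * z⁻¹ * g⁻¹ ∈ (fq r₀ M).map (MulAut.conj ρ).toMonoidHom := by
              refine ⟨z₁ * ((ρ⁻¹ * g * ρ) * z₁⁻¹ * (ρ⁻¹ * g * ρ)⁻¹),
                mul_mem (hZfq hz₁) (conj_fq hr₀ hgM (inv_mem (hZfq hz₁))), ?_⟩
              show ρ * (z₁ * ((ρ⁻¹ * g * ρ) * z₁⁻¹ * (ρ⁻¹ * g * ρ)⁻¹)) * ρ⁻¹ = _
              rw [hz]; group
            exact eq_one_of_two_primes (Ne.symm hr₀q) (fq_isPGroup p M) ((fq_isPGroup r₀ M).map _) hin1 hin2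
          have h2 : f (⟨z, hzM⟩ : ↥M) * f (x * e ^ (k + 1)) * (f ⟨z, hzM⟩)⁻¹ = f (x * e ^ (k + 1)) := by
            rw [← map_inv, ← map_mul, ← map_mul]
            refine congrArg f (Subtype.ext ?_)
            show z * _ * z⁻¹ = _
            rw [← hg]
            exact mul_inv_eq_one.1 h1
          have h3 : f (x * e ^ (k + 1)) = f x := by
            have h4 : f (e ^ (k + 1)) = 1 := by
              rw [hf]; exact (QuotientGroup.eq_one_iff _).2 (pow_mem heN _)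
            rw [map_mul, h4, mul_one]
          rwa [h3] at h2)
      obtain ⟨v', hv', rfl⟩ := hv
      have hcf : (⟨c, hcM⟩ : ↥M) ∈ Subgroup.centralizer (Cfsg.pCore p ↥M : Set ↥M) := by
        refine Solv.centralizes_of_frattini _ hPp _ (by rw [Subgroup.normalizer_eq_top]; trivial) ?_ fun y hy => ?_
        · obtain ⟨k, hk⟩ := hcord c hcA hcM
          rw [hk]
          exact Nat.Coprime.pow_left k ((Nat.coprime_primes hr hp).2 (Ne.symm (hpne p hp hpb)))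
        · rw [← hP₀, ← QuotientGroup.eq_one_iff, ← QuotientGroup.mk'_apply, ← hf, map_commutatorElement,
            commutatorElement_eq_one_iff_commute]
          have := hwk (f ⟨a, hAM ha⟩) ⟨_, ha, rfl⟩ (f y) ⟨y, hy, rfl⟩
          rw [show f (⟨c, hcM⟩ : ↥M) = f ⟨z, hzM⟩ * f ⟨a, hAM ha⟩ * (f ⟨z, hzM⟩)⁻¹ * (f ⟨a, hAM ha⟩)⁻¹ by
            rw [← map_inv, ← map_inv, ← map_mul, ← map_mul, ← map_mul]
            exact congrArg f (Subtype.ext hc)]
          exact this.symm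
      exact (congrArg Subtype.val (Subgroup.mem_centralizer_iff.1 hcf v' hv')).symm
    · obtain ⟨v', hv', rfl⟩ := hv
      have hcf : (⟨c, hcM⟩ : ↥M) ∈ Subgroup.centralizer (Cfsg.pCore p ↥M : Set ↥M) := by
        refine centralizes_core r (hp2 p hp hpb) (hpne p hp hpb) (w := ⟨u, huM⟩) (Subtype.ext hu)
          (Subtype.ext (hAu c hcA)) (hcord c hcA hcM) hr2 fun g hg hgu => Subtype.ext ?_
        have hgu' : Commute (g : G) u :=
          (mul_inv_eq_iff_eq_mul.1 (congrArg Subtype.val hgu)).symm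
        have hgt : Commute (g : G) t :=
          Subgroup.mem_centralizer_singleton_iff.1 (hsec p hp hpq ⟨g, hg, rfl⟩)
        obtain ⟨hgt', hgu''⟩ := hρfix _ hgt hgu'
        have hgA : (g : G) * c⁻¹ * (g : G)⁻¹ ∈ A := by
          obtain ⟨w, hw, hwe⟩ := hAmem _ (inv_mem hcA)
          rw [hwe, hA]
          refine ⟨ρ * g * ρ⁻¹ * w * (ρ * g * ρ⁻¹)⁻¹,
            (Subgroup.mem_normalizer_iff.1 (hWn (hKN _ hgt' hgu'')) w).1 hw, ?_⟩
          show ρ⁻¹ * (ρ * g * ρ⁻¹ * w * (ρ * g * ρ⁻¹)⁻¹) * ρ⁻¹⁻¹ = g * (ρ⁻¹ * w * ρ) * (g : G)⁻¹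
          group
        have h1 : c * g * c⁻¹ * (g : G)⁻¹ ∈ A := by
          rw [show c * g * c⁻¹ * (g : G)⁻¹ = c * ((g : G) * c⁻¹ * (g : G)⁻¹) by group]
          exact mul_mem hcA hgA
        have h2 : c * g * c⁻¹ * (g : G)⁻¹ ∈ fq p M :=
          mul_mem (conj_fq hp hcM ⟨g, hg, rfl⟩) (inv_mem ⟨g, hg, rfl⟩)
        have h3 := eq_one_of_two_primes (Ne.symm (hpne p hp hpb)) hAp (fq_isPGroup p M) h1 h2
        rw [mul_inv_eq_one, mul_inv_eq_iff_eq_mul] at h3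
        exact h3
      exact (congrArg Subtype.val (Subgroup.mem_centralizer_iff.1 hcf v' hv')).symm
  have hcF : (⟨c, hcM⟩ : ↥M) ∈ Cfsg.fittingSubgroup ↥M := by
    refine fit_self_centralizing hM.nolayer (Subgroup.mem_centralizer_iff.2 fun y hy => ?_)
    have hle' : Cfsg.fittingSubgroup ↥M ≤ Subgroup.centralizer ({(⟨c, hcM⟩ : ↥M)} : Set ↥M) := by
      rw [Solv.fitting_eq_iSup_pCore, iSup_le_iff]
      intro p y hy
      exact Subgroup.mem_centralizer_singleton_iff.2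
        (Subtype.ext (hcfq p p.2 (y : G) ⟨y, hy, rfl⟩).eq.symm)
    exact Subgroup.mem_centralizer_singleton_iff.1 (hle' hy)
  obtain ⟨k, hk⟩ := hcord c hcA hcM
  have hc0 : (⟨c, hcM⟩ : ↥M) ∈ Cfsg.pCore r ↥M :=
    Solv.pgroup_le_pCore_of_le_fitting (A := Subgroup.zpowers (⟨c, hcM⟩ : ↥M))
      (IsPGroup.of_card (n := k) (by rw [Nat.card_zpowers, hk])) (Subgroup.zpowers_le.2 hcF)
      (Subgroup.mem_zpowers _)
  rw [h0, Subgroup.mem_bot] at hc0
  have hc1 : c = 1 := congrArg Subtype.val hc0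
  rw [hc, mul_inv_eq_one] at hc1
  exact mul_inv_eq_iff_eq_mul.1 hc1

end Cfsg.Agent.GW
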