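import Mathlib
import Cfsg.Prelude.Def_CaseTheorems
import Cfsg.Agent.Lib.Fusion.Cores
import Cfsg.Agent.Lib.Fusion.SolvableBalance
import Cfsg.Agent.Lib.Fusion.DihedralFour
import Cfsg.Agent.Lib.Fusion.DihedralFours
import Cfsg.Agent.Lib.Fusion.DihedralCriteria
import Cfsg.Agent.Lib.Char.RankTwoSolvableGroup
import Cfsg.Agent.Lib.Classical.Dickson.Recognition
import Cfsg.Agent.Lib.Classical.KleinNormalizer
import Cfsg.Agent.Lib.Lead.JankoRee.Aut
import Cfsg.Agent.Lib.Perm.Fpf.Structure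
import Cfsg.Agent.S0219
import Cfsg.Agent.S2119

/-!
# Groups with dihedral Sylow 2-subgroups, from the perfect case

`PerfectClass` is the perfect case of the theorem of Gorenstein and Walter. Everything here takes it as a
hypothesis; the consequences are the structure of a reduced group and of one generated by its 2-elements.
-/

set_option autoImplicit false
set_option linter.style.haveILetI false

namespace Cfsg.Agent.GW.Reduced

universe u

/-- `L` is one of the simple groups with dihedral Sylow 2-subgroups. -/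
def IsModel (L : Type u) [Group L] : Prop :=
  (∃ (F : Type) (_ : Field F) (_ : Fintype F), Odd (Fintype.card F) ∧ 3 < Fintype.card F ∧
      Nonempty (L ≃* Matrix.ProjectiveSpecialLinearGroup (Fin 2) F)) ∨
    Nonempty (L ≃* alternatingGroup (Fin 7))

/-- The perfect case. -/
def PerfectClass : Prop :=
  ∀ (X : Type u) [Group X] [Finite X] [Group.IsPerfect X] (S : Sylow 2 X) (n : ℕ), 2 ≤ n →
    Nonempty ((S : Subgroup X) ≃* DihedralGroup n) →
      (∃ (F : Type) (_ : Field F) (_ : Fintype F), Odd (Fintype.card F) ∧ 3 < Fintype.card F ∧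
          Nonempty (X ⧸ Cfsg.oddCore X ≃* Matrix.ProjectiveSpecialLinearGroup (Fin 2) F)) ∨
        Nonempty (X ⧸ Cfsg.oddCore X ≃* alternatingGroup (Fin 7))

theorem IsModel.simple {L : Type u} [Group L] [Finite L] (h : IsModel L) :
    IsSimpleGroup L ∧ ¬ IsMulCommutative L := by
  have key : ∀ {M : Type} [Group M] [Finite M] (_ : L ≃* M), IsSimpleGroup M → 4 ∣ Nat.card M →
      IsSimpleGroup L ∧ ¬ IsMulCommutative L := by
    intro M _ _ e hM h4
    haveI := hM
    haveI : Nontrivial L := e.toEquiv.nontrivial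
    haveI hL : IsSimpleGroup L := IsSimpleGroup.isSimpleGroup_of_surjective e.symm.toMonoidHom e.symm.surjective
    refine ⟨hL, fun hc => ?_⟩
    letI : CommGroup L := { ‹Group L› with mul_comm := fun a b => hc.is_comm.comm a b }
    have hp := IsSimpleGroup.prime_card (α := L)
    rw [Nat.card_congr e.toEquiv] at hp
    have := (Nat.prime_dvd_prime_iff_eq Nat.prime_two hp).1 (Dvd.dvd.trans ⟨2, rfl⟩ h4)
    have := Nat.le_of_dvd hp.pos h4
    omega
  rcases h with ⟨F, _, _, ho, h3, ⟨e⟩⟩ | h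
  · refine key e (Lead.JankoRee.psl_simple_of_odd h3) ?_
    obtain ⟨k, hk⟩ := ho
    have hc := Classical.Dickson.card_psl F
    have hgcd : Nat.gcd 2 (Fintype.card F - 1) = 2 := Nat.gcd_eq_left ⟨k, by omega⟩
    rw [hgcd, hk, show (2 * k + 1) ^ 2 - 1 = 4 * (k * (k + 1)) by ring_nf; omega] at hc
    obtain ⟨c, hc'⟩ := Nat.even_mul_succ_self k
    exact ⟨c * (2 * k + 1), by nlinarith⟩
  · obtain ⟨e⟩ := h
    refine key e (alternatingGroup.isSimpleGroup (α := Fin 7) (by simp [Fintype.card_fin])) ?_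
    rw [nat_card_alternatingGroup]
    simp only [Nat.card_fin]
    decide

/-- A subgroup of a dihedral group is cyclic, a four group, or dihedral of order at least six. -/
theorem subgroup_cases {m : ℕ} [NeZero m] (Q : Subgroup (DihedralGroup m)) :
    IsCyclic Q ∨ ((∀ a ∈ Q, a * a = 1) ∧ Nat.card Q = 4) ∨ ∃ k, 3 ≤ k ∧ Nonempty (Q ≃* DihedralGroup k) := by
  classical
  set R : Subgroup Q := (Subgroup.zpowers (DihedralGroup.r (1 : ZMod m))).subgroupOf Q with hR
  have hmemR : ∀ q : Q, q ∈ R ↔ ∃ i, (q : DihedralGroup m) = DihedralGroup.r i := by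
    intro q
    rw [hR, Subgroup.mem_subgroupOf]
    constructor
    · rintro ⟨i, hi⟩
      exact ⟨(i : ZMod m), by rw [← hi]; simp⟩
    · rintro ⟨i, hi⟩
      exact ⟨(i.val : ℤ), by rw [hi]; simp [DihedralGroup.r_one_pow]⟩
  have hcyc : IsCyclic R :=
    isCyclic_of_injective ((Q.subtype.comp R.subtype).codRestrict (Subgroup.zpowers (DihedralGroup.r (1 : ZMod m)))
      fun x => Subgroup.mem_subgroupOf.1 x.2) fun a b h => Subtype.ext (Subtype.ext (congrArg Subtype.val h :))
  by_cases hs : ∀ q : Q, q ∈ R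
  · left
    exact isCyclic_of_surjective R.subtype fun q => ⟨⟨q, hs q⟩, rfl⟩
  push Not at hs
  obtain ⟨t, ht⟩ := hs
  obtain ⟨i, hi⟩ : ∃ i, (t : DihedralGroup m) = DihedralGroup.sr i := by
    rcases ht' : (t : DihedralGroup m) with i | i
    · exact absurd ((hmemR t).2 ⟨i, ht'⟩) ht
    · exact ⟨i, rfl⟩
  have ht2 : t * t = 1 := Subtype.ext (by simp [hi])
  have hinv : ∀ c ∈ R, t * c * t⁻¹ = c⁻¹ := by
    intro c hc
    obtain ⟨j, hj⟩ := (hmemR c).1 hc
    exact Subtype.ext (by simp [hi, hj])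
  have hidx : R.index = 2 := by
    rw [Subgroup.index_eq_two_iff]
    refine ⟨t, fun b => ?_⟩
    rcases hb : (b : DihedralGroup m) with j | j
    · refine Or.inr ⟨(hmemR b).2 ⟨j, hb⟩, fun h => ?_⟩
      obtain ⟨k, hk⟩ := (hmemR _).1 h
      simp [hb, hi] at hk
    · refine Or.inl ⟨(hmemR _).2 ⟨i - j, by simp [hb, hi]⟩, fun h => ?_⟩
      obtain ⟨k, hk⟩ := (hmemR _).1 h
      simp [hb] at hk
  have hcard : Nat.card Q = 2 * Nat.card R := by rw [← R.card_mul_index, hidx, mul_comm]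
  obtain ⟨e⟩ := Classical.Dickson.dihedral_of hcyc ht ht2 hinv hcard
  rcases (show Nat.card R = 1 ∨ Nat.card R = 2 ∨ 3 ≤ Nat.card R by have := Nat.card_pos (α := R); omega) with h | h | h
  · left
    exact isCyclic_of_prime_card (p := 2) (by rw [hcard, h])
  · right; left
    refine ⟨fun a ha => ?_, by rw [hcard, h]⟩
    have key : ∀ N : ℕ, N = 2 → ∀ d : DihedralGroup N, d * d = 1 := by
      rintro _ rfl
      decide
    have h1 : (⟨a, ha⟩ : Q) * ⟨a, ha⟩ = 1 := e.injective (by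
      rw [map_mul, map_one]
      exact key _ h _)
    exact congrArg Subtype.val h1
  · exact Or.inr (Or.inr ⟨_, h, ⟨e⟩⟩)

variable {X : Type u} [Group X] [Finite X]

theorem eq_bot_of_odd (hO : Cfsg.oddCore X = ⊥) (N : Subgroup X) [N.Normal] (h : Odd (Nat.card N)) : N = ⊥ :=
  le_bot_iff.1 (hO ▸ Fusion.le_pPrimeCore (Nat.coprime_two_right.2 h))

theorem dihedral_neZero {n : ℕ} {S : Subgroup X} (e : S ≃* DihedralGroup n) : NeZero n :=
  ⟨fun h => (Nat.card_pos (α := S)).ne' (by rw [Nat.card_congr e.toEquiv, DihedralGroup.nat_card, h, mul_zero])⟩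

/-- The kinds of a 2-subgroup inside a dihedral one. -/
theorem two_subgroup_cases {n : ℕ} {S : Subgroup X} (e : S ≃* DihedralGroup n) (Q : Subgroup X) (hQ : Q ≤ S) :
    IsCyclic Q ∨ ((∀ a ∈ Q, a * a = 1) ∧ Nat.card Q = 4) ∨ ∃ k, 3 ≤ k ∧ Nonempty (Q ≃* DihedralGroup k) := by
  haveI := dihedral_neZero e
  let Q' : Subgroup (DihedralGroup n) := (Q.subgroupOf S).map e.toMonoidHom
  let f : Q ≃* Q' := (Subgroup.subgroupOfEquivOfLe hQ).symm.trans ((Q.subgroupOf S).equivMapOfInjective _ e.injective)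
  rcases subgroup_cases Q' with h | ⟨h1, h2⟩ | ⟨k, hk, ⟨g⟩⟩
  · exact Or.inl (isCyclic_of_surjective f.symm.toMonoidHom f.symm.surjective)
  · refine Or.inr (Or.inl ⟨fun a ha => ?_, by rw [Nat.card_congr f.toEquiv, h2]⟩)
    have := f.injective (a₁ := (⟨a, ha⟩ : Q) * ⟨a, ha⟩) (a₂ := 1)
      (by rw [map_mul, map_one]; exact Subtype.ext (h1 _ (f ⟨a, ha⟩).2))
    exact congrArg Subtype.val this
  · exact Or.inr (Or.inr ⟨k, hk, ⟨f.trans g⟩⟩)

/-- An element of odd order centralizes any normalized cyclic 2-group. -/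
theorem cyclic_centralized {Q : Subgroup X} (hQ : IsPGroup 2 Q) (hc : IsCyclic Q) {x : X}
    (hx : x ∈ Subgroup.normalizer (Q : Set X)) (hodd : Odd (orderOf x)) :
    x ∈ Subgroup.centralizer (Q : Set X) := by
  haveI : Fact (Nat.Prime 2) := ⟨Nat.prime_two⟩
  haveI := hc
  obtain ⟨k, hk⟩ := IsPGroup.iff_card.1 hQ
  set φ := Subgroup.normalizerMonoidHom Q ⟨x, hx⟩ with hφ
  have h1 : orderOf φ ∣ orderOf x := by
    rw [← Subgroup.orderOf_mk x hx]; exact orderOf_map_dvd _ _
  have h2 : orderOf φ ∣ Nat.totient (2 ^ k) := by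
    rw [← hk, ← IsCyclic.card_mulAut]; exact orderOf_dvd_natCard φ
  have h3 : Nat.totient (2 ^ k) ∣ 2 ^ k := by
    rcases k with _ | k
    · simp
    · rw [Nat.totient_prime_pow_succ Nat.prime_two]; simpa using pow_dvd_pow 2 (Nat.le_succ k)
  have h4 : φ = 1 := orderOf_eq_one_iff.1
    (Nat.eq_one_of_dvd_coprimes ((Nat.coprime_two_right.2 hodd).pow_right k) h1 (h2.trans h3))
  refine Subgroup.mem_centralizer_iff.2 fun q hq => ?_
  have : ((φ ⟨q, hq⟩ : Q) : X) = q := by rw [h4]; rfl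
  rw [hφ] at this
  exact (mul_inv_eq_iff_eq_mul.1 this).symm

theorem isPGroup_of_odd_trivial (h : ∀ x : X, Odd (orderOf x) → x = 1) : IsPGroup 2 X := by
  haveI : Fact (Nat.Prime 2) := ⟨Nat.prime_two⟩
  intro x
  obtain ⟨k, m, hm, hkm⟩ := Nat.exists_eq_pow_mul_and_not_dvd (orderOf_pos x).ne' 2 (by norm_num)
  refine ⟨k, h _ ?_⟩
  rw [orderOf_pow_of_dvd (by positivity) (hkm ▸ dvd_mul_right _ _), hkm, Nat.mul_div_cancel_left _ (by positivity)]
  exact Nat.not_even_iff_odd.1 fun he => hm (even_iff_two_dvd.1 he)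

theorem solvable_cases (hsol : Group.IsSolvable X) (hO : Cfsg.oddCore X = ⊥) (S : Sylow 2 X) {n : ℕ}
    (e : (S : Subgroup X) ≃* DihedralGroup n) :
    IsPGroup 2 X ∨ ∃ V : Subgroup X, V.Normal ∧ IsKleinFour V ∧ Subgroup.centralizer (V : Set X) ≤ V := by
  haveI : Fact (Nat.Prime 2) := ⟨Nat.prime_two⟩
  set Q := Cfsg.pCore 2 X with hQdef
  haveI hQn : Q.Normal := Solv.pCore_normal 2
  have hQ2 : IsPGroup 2 Q := Fusion.isPGroup_pCore 2 X
  have hC : Subgroup.centralizer (Q : Set X) ≤ Q := Fusion.centralizer_pCore_le_of_solvable hsol hO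
  have hN : ∀ x : X, x ∈ Subgroup.normalizer (Q : Set X) := fun x => by
    rw [Subgroup.normalizer_eq_top_iff.2 hQn]; trivial
  have hfin : (∀ x : X, Odd (orderOf x) → x ∈ Subgroup.centralizer (Q : Set X)) → IsPGroup 2 X := fun h =>
    isPGroup_of_odd_trivial fun x hx => by
      obtain ⟨k, hk⟩ := IsPGroup.iff_orderOf.1 hQ2 ⟨x, hC (h x hx)⟩
      rw [Subgroup.orderOf_mk] at hk
      rcases k with _ | k
      · exact orderOf_eq_one_iff.1 (by simpa using hk)
      · rw [hk] at hx; exact absurd hx (by simp [Nat.odd_pow_iff])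
  rcases two_subgroup_cases e Q (Fusion.pCore_le_sylow S) with h | ⟨h1, h2⟩ | ⟨k, hk, ⟨f⟩⟩
  · exact Or.inl (hfin fun x hx => cyclic_centralized hQ2 h (hN x) hx)
  · refine Or.inr ⟨Q, hQn, ⟨h2, ?_⟩, hC⟩
    refine Nat.dvd_antisymm (Monoid.exponent_dvd_of_forall_pow_eq_one fun g => ?_) ?_
    · exact Subtype.ext (by rw [Subgroup.coe_pow, pow_two]; exact h1 g g.2)
    · obtain ⟨g, hg⟩ := exists_prime_orderOf_dvd_card' (G := Q) 2 (by rw [h2]; norm_num)
      exact hg ▸ Monoid.order_dvd_exponent g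
  · exact Or.inl (hfin fun x hx => ((Char.longCyclic_dihedral hk).of_equiv f.symm).centralizes hQ2 (hN x) hx)

/-- A group with an odd core trivial and dihedral Sylow 2-subgroup: either solvable or almost simple. -/
theorem nonsolvable_model_of (gw : ∀ (L : Subgroup X) [Group.IsPerfect L] (SL : Sylow 2 L) (k : ℕ), 2 ≤ k →
      Nonempty ((SL : Subgroup L) ≃* DihedralGroup k) →
        (∃ (F : Type) (_ : Field F) (_ : Fintype F), Odd (Fintype.card F) ∧ 3 < Fintype.card F ∧
            Nonempty (L ⧸ Cfsg.oddCore L ≃* Matrix.ProjectiveSpecialLinearGroup (Fin 2) F)) ∨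
          Nonempty (L ⧸ Cfsg.oddCore L ≃* alternatingGroup (Fin 7)))
    (hO : Cfsg.oddCore X = ⊥) (S : Sylow 2 X) {n : ℕ}
    (hn : 2 ≤ n) (e : (S : Subgroup X) ≃* DihedralGroup n) (hns : ¬ Group.IsSolvable X) :
    ∃ L : Subgroup X, L.Normal ∧ IsModel L ∧ Subgroup.centralizer (L : Set X) = ⊥ := by
  haveI : Fact (Nat.Prime 2) := ⟨Nat.prime_two⟩
  obtain ⟨L, hLn, hLp, hLb, -⟩ := Perm.Fpf.exists_perfect_residual (G := X)
  haveI := hLn
  haveI := hLp
  have hLb := hLb hns
  -- its Sylow 2-subgroup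
  let SL : Sylow 2 L := Classical.choice inferInstance
  obtain ⟨S', hS'⟩ : ∃ S' : Sylow 2 X, ((SL : Subgroup L).map L.subtype) ≤ (S' : Subgroup X) :=
    (SL.isPGroup'.map L.subtype).exists_le_sylow
  let e' : (S' : Subgroup X) ≃* DihedralGroup n := (S'.equiv S).trans e
  set T : Subgroup X := (SL : Subgroup L).map L.subtype with hT
  let g : (SL : Subgroup L) ≃* T := (SL : Subgroup L).equivMapOfInjective _ L.subtype_injective
  have heven : Even (Nat.card L) := by
    by_contra h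
    exact hLb (eq_bot_of_odd hO L (Nat.not_even_iff_odd.1 h))
  have hncyc : ¬ IsCyclic T := fun h => by
    obtain ⟨H, hH⟩ := S0219.result (G := L) heven SL (isCyclic_of_surjective g.symm.toMonoidHom g.symm.surjective)
    haveI := Subgroup.normal_of_index_eq_two hH
    have h1 : Nat.card (L ⧸ H) = 2 := hH
    haveI : IsCyclic (L ⧸ H) := isCyclic_of_prime_card h1
    have hle : commutator L ≤ H := (Subgroup.Normal.quotient_commutative_iff_commutator_le).1 inferInstance
    rw [hLp.commutator_eq_top, top_le_iff] at hle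
    rw [hle, Subgroup.index_top] at hH
    exact absurd hH (by norm_num)
  obtain ⟨k, hk, ⟨f⟩⟩ : ∃ k, 2 ≤ k ∧ Nonempty (T ≃* DihedralGroup k) := by
    rcases two_subgroup_cases e' T hS' with h | ⟨h1, h2⟩ | ⟨k, hk, hf⟩
    · exact absurd h hncyc
    · refine ⟨2, le_rfl, ?_⟩
      haveI : IsKleinFour T := ⟨h2, Nat.dvd_antisymm (Monoid.exponent_dvd_of_forall_pow_eq_one fun g =>
        Subtype.ext (by rw [Subgroup.coe_pow, pow_two]; exact h1 g g.2)) (by
          obtain ⟨g, hg⟩ := exists_prime_orderOf_dvd_card' (G := T) 2 (by rw [h2]; norm_num)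
          exact hg ▸ Monoid.order_dvd_exponent g)⟩
      exact IsKleinFour.nonempty_mulEquiv
    · exact ⟨k, by omega, hf⟩
  have hLO : Cfsg.oddCore L = ⊥ := by
    haveI : (Cfsg.oddCore L).Characteristic := Fusion.pPrimeCore_characteristic
    have h1 := eq_bot_of_odd hO ((Cfsg.oddCore L).map L.subtype) (by
      rw [Subgroup.card_map_of_injective L.subtype_injective]
      exact Nat.coprime_two_right.1 (Fusion.card_pPrimeCore_coprime 2 L))
    exact (Subgroup.map_eq_bot_iff_of_injective _ L.subtype_injective).1 h1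
  let q : L ⧸ Cfsg.oddCore L ≃* L := (QuotientGroup.quotientMulEquivOfEq hLO).trans QuotientGroup.quotientBot
  have hmod : IsModel L := by
    rcases gw L SL k hk ⟨g.trans f⟩ with ⟨F, _, _, ho, h3, ⟨j⟩⟩ | hj
    · exact Or.inl ⟨F, _, _, ho, h3, ⟨q.symm.trans j⟩⟩
    · exact Or.inr (hj.map fun j => q.symm.trans j)
  refine ⟨L, hLn, hmod, ?_⟩
  obtain ⟨hsimp, hnab⟩ := hmod.simple
  haveI := hsimp
  set C := Subgroup.centralizer (L : Set X) with hC
  haveI : C.Normal := by rw [hC]; infer_instance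
  -- the centralizer has odd order
  refine eq_bot_of_odd hO C (Nat.not_even_iff_odd.1 fun hev => ?_)
  obtain ⟨c, hc⟩ := exists_prime_orderOf_dvd_card' (G := C) 2 hev.two_dvd
  have hTp : IsPGroup 2 T := SL.isPGroup'.map L.subtype
  have hcc : ∀ a ∈ L, a * (c : X) = (c : X) * a := fun a ha => Subgroup.mem_centralizer_iff.1 c.2 a ha
  have hTL : T ≤ L := Subgroup.map_subtype_le _
  have hco : orderOf (c : X) = 2 := by rw [Subgroup.orderOf_coe, hc]
  have hsup : IsPGroup 2 (Subgroup.zpowers (c : X) ⊔ T : Subgroup X) :=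
    IsPGroup.to_sup_of_normal_left' (IsPGroup.of_card (n := 1) (by rw [Nat.card_zpowers, hco, pow_one])) hTp (by
      intro a ha
      refine Subgroup.mem_normalizer_iff.2 fun y => ?_
      have hcm : ∀ z ∈ Subgroup.zpowers (c : X), a * z * a⁻¹ = z := by
        rintro z ⟨i, rfl⟩
        rw [((show Commute a (c : X) from hcc a (hTL ha)).zpow_right i).eq, mul_inv_cancel_right]
      refine ⟨fun h => by rw [hcm y h]; exact h, fun h => ?_⟩
      obtain ⟨i, hi⟩ := h
      have h' := hcm _ (⟨i, rfl⟩ : (c : X) ^ i ∈ Subgroup.zpowers (c : X))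
      have : y = (c : X) ^ i := by
        have e1 : a * y * a⁻¹ = a * (c : X) ^ i * a⁻¹ := by rw [h']; exact hi.symm
        exact mul_left_cancel (mul_right_cancel e1)
      exact this ▸ Subgroup.zpow_mem_zpowers _ _)
  obtain ⟨U, hU⟩ := hsup.exists_le_sylow
  let eU : (U : Subgroup X) ≃* DihedralGroup n := (U.equiv S).trans e
  haveI := dihedral_neZero eU
  haveI : NeZero k := ⟨by omega⟩
  -- a four group of `T`
  obtain ⟨V, hV1, hV2, hV4⟩ : ∃ V : Subgroup (DihedralGroup k), (∀ a ∈ V, a * a = 1) ∧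
      (∀ a ∈ V, ∀ b ∈ V, a * b = b * a) ∧ Nat.card V = 4 := by
    have hk2 : 2 ∣ k := by
      obtain ⟨i, hi⟩ := (hTp.exists_card_eq)
      rw [Nat.card_congr f.toEquiv, DihedralGroup.nat_card] at hi
      rcases i with _ | _ | i
      · omega
      · omega
      · exact ⟨2 ^ i, by rw [pow_succ, pow_succ] at hi; omega⟩
    obtain ⟨h4, hexp⟩ := Fusion.DihedralFours.four_klein hk2 (0 : ZMod k)
    have hsq : ∀ a ∈ Fusion.DihedralFours.four k (0 : ZMod k), a * a = 1 := fun a ha => by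
      have := Monoid.pow_exponent_eq_one (G := Fusion.DihedralFours.four k (0 : ZMod k)) ⟨a, ha⟩
      rw [hexp, pow_two] at this
      exact congrArg Subtype.val this
    refine ⟨Fusion.DihedralFours.four k 0, hsq, fun a ha b hb => ?_, h4⟩
    calc a * b = (a * b)⁻¹ := eq_inv_of_mul_eq_one_left (hsq _ (mul_mem ha hb))
      _ = b⁻¹ * a⁻¹ := mul_inv_rev a b
      _ = b * a := by rw [← eq_inv_of_mul_eq_one_left (hsq a ha), ← eq_inv_of_mul_eq_one_left (hsq b hb)]
  let j : V →* DihedralGroup n :=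
    eU.toMonoidHom.comp ((Subgroup.inclusion ((le_sup_right).trans hU)).comp (f.symm.toMonoidHom.comp V.subtype))
  have hj : Function.Injective j := eU.injective.comp
    ((Subgroup.inclusion_injective ((le_sup_right).trans hU)).comp (f.symm.injective.comp V.subtype_injective))
  have hself := Fusion.dihedral_four_self_centralizing (T := j.range)
    (by rintro _ ⟨a, rfl⟩ _ ⟨b, rfl⟩; rw [← map_mul, ← map_mul]; exact congrArg j (Subtype.ext (hV2 a a.2 b b.2)))
    (by rintro _ ⟨a, rfl⟩; rw [← map_mul, show a * a = 1 from Subtype.ext (hV1 a a.2), map_one])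
    (by rw [← Nat.card_congr (MonoidHom.ofInjective hj).toEquiv, hV4])
  have hcU : (c : X) ∈ (U : Subgroup X) := hU (Subgroup.mem_sup_left (Subgroup.mem_zpowers _))
  have hmem : eU ⟨c, hcU⟩ ∈ j.range := by
    rw [← hself]
    refine Subgroup.mem_centralizer_iff.2 ?_
    rintro _ ⟨a, rfl⟩
    show eU _ * eU _ = eU _ * eU _
    rw [← map_mul, ← map_mul]
    exact congrArg eU (Subtype.ext (hcc _ (hTL (f.symm _).2)))
  obtain ⟨a, ha⟩ := hmem
  have hcL : (c : X) ∈ L := by
    have := congrArg Subtype.val (eU.injective ha)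
    exact this ▸ hTL (f.symm _).2
  have hcz : (⟨c, hcL⟩ : L) ∈ Subgroup.center L :=
    Subgroup.mem_center_iff.2 fun a => Subtype.ext (hcc a a.2)
  rcases (inferInstance : (Subgroup.center L).Normal).eq_bot_or_eq_top with h | h
  · rw [h, Subgroup.mem_bot] at hcz
    have : (c : X) = 1 := congrArg Subtype.val hcz
    rw [this, orderOf_one] at hco
    exact absurd hco (by norm_num)
  · exact hnab ⟨⟨fun a b => (Subgroup.mem_center_iff.1 (h ▸ Subgroup.mem_top b) a)⟩⟩

/-- The same, from the perfect case for all groups. -/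
theorem nonsolvable_model (gw : PerfectClass.{u}) (hO : Cfsg.oddCore X = ⊥) (S : Sylow 2 X) {n : ℕ}
    (hn : 2 ≤ n) (e : (S : Subgroup X) ≃* DihedralGroup n) (hns : ¬ Group.IsSolvable X) :
    ∃ L : Subgroup X, L.Normal ∧ IsModel L ∧ Subgroup.centralizer (L : Set X) = ⊥ :=
  nonsolvable_model_of (fun L _ SL k => gw L SL k) hO S hn e hns

end Cfsg.Agent.GW.Reduced
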