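import Cfsg.Agent.Lib.Classical.Dickson.Subgroups
import Cfsg.Agent.Lib.Classical.Dickson.Tools
import Cfsg.Agent.Lib.Classical.Dickson.TorusMax
import Cfsg.Agent.Lib.Classical.CyclicNormalizer.OuterOdd
import Cfsg.Agent.Lib.Small.PSLn.FieldAut
import Cfsg.Agent.Lib.GW.DihedralReduced

/-!
# Odd subgroups of `PSL₂(q)` invariant under an involutory automorphism and its centraliser

For `q ≥ 5` odd, an involutory automorphism centralises every odd prime power subgroup normalised by it and by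
its fixed points.
-/

set_option autoImplicit false
set_option linter.unusedSectionVars false
set_option linter.style.haveILetI false

namespace Cfsg.Agent.GW.Psl

open Cfsg.Agent.Small Cfsg.Agent.Small.SL2C Cfsg.Agent.Classical.Dickson

variable {F : Type} [Field F] [Fintype F]

local notation "SL2" => Matrix.SpecialLinearGroup (Fin 2) F
local notation "P2" => Matrix.ProjectiveSpecialLinearGroup (Fin 2) F

theorem card_odd (h2 : (2 : F) ≠ 0) : Odd (Fintype.card F) := by
  obtain ⟨p, hp⟩ := CharP.exists F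
  obtain ⟨n, hpp, hn⟩ := FiniteField.card F p
  have hp2 : p ≠ 2 := by
    rintro rfl
    exact h2 (by have := CharP.cast_eq_zero F 2; exact_mod_cast this)
  rw [hn]
  exact (hpp.odd_of_ne_two hp2).pow

theorem gcd_two (h2 : (2 : F) ≠ 0) : Nat.gcd 2 (Fintype.card F - 1) = 2 := by
  obtain ⟨k, hk⟩ := card_odd h2
  exact Nat.gcd_eq_left ⟨k, by omega⟩

/-- the image of a torus normaliser -/
noncomputable def torN' (g : Matrix.SpecialLinearGroup (Fin 2) F) :
    Subgroup (Matrix.ProjectiveSpecialLinearGroup (Fin 2) F) :=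
  (Subgroup.normalizer (tor g : Set SL2)).map PSL2.pr

theorem torN_card (h2 : (2 : F) ≠ 0) (h5 : 5 ≤ Fintype.card F) {g : SL2} (ht : g.1.trace * g.1.trace ≠ 4) :
    (Nat.card (torN' g) = Fintype.card F - 1 ∨ Nat.card (torN' g) = Fintype.card F + 1) ∧
      ∃ k : ℕ, Nonempty (torN' g ≃* DihedralGroup k) ∧ k ≠ 0 := by
  obtain ⟨j, hj⟩ := card_odd h2
  have hsol : sol g.1.trace 1 = Fintype.card F - 1 ∨ sol g.1.trace 1 = Fintype.card F + 1 := by
    rcases sol_eq ht with ⟨-, h⟩ | ⟨-, h⟩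
    · exact Or.inl h
    · exact Or.inr h
  have hk : 2 ≤ sol g.1.trace 1 / Nat.gcd 2 (Fintype.card F - 1) := by
    rw [gcd_two h2, Nat.le_div_iff_mul_le two_pos]
    omega
  obtain ⟨hc, hiso⟩ := dihedral_normalizer ht (not_isSc_of_trace ht) hk
  refine ⟨?_, _, hiso, by omega⟩
  rw [torN', hc, gcd_two h2]
  omega

/-- whatever normalises the group of a torus element lies in its torus normaliser -/
theorem torN_cover {g : SL2} (ht : g.1.trace * g.1.trace ≠ 4) {x : P2}
    (hx : x * PSL2.pr g * x⁻¹ ∈ Subgroup.zpowers (PSL2.pr g)) : x ∈ torN' g := by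
  obtain ⟨X, rfl⟩ := PSL2.pr_surjective x
  refine ⟨X, ?_, rfl⟩
  obtain ⟨i, hi⟩ := Subgroup.mem_zpowers_iff.mp hx
  rw [← map_zpow, ← map_inv, ← map_mul, ← map_mul, eq_comm, PSL2.pr_eq_iff] at hi
  obtain ⟨ε, -, hi⟩ := hi
  have hXg : X * g * X⁻¹ ∈ tor g := mem_tor.mpr (by
    rw [hi, Matrix.smul_mul, Matrix.mul_smul, mem_tor.mp ((tor g).zpow_mem (self_mem_tor g) i)])
  have htr : (X * g * X⁻¹).1.trace = g.1.trace :=
    (trace_conj (isConj_iff.mpr ⟨X, rfl⟩)).symm
  have hns' : ¬ IsSc (X * g * X⁻¹).1 := not_isSc_of_trace (by rw [htr]; exact ht)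
  have htor := (tor_eq ht hXg hns').1
  show X ∈ Subgroup.normalizer (tor g : Set SL2)
  rw [Subgroup.mem_normalizer_iff]
  intro h
  constructor
  · intro hh
    rw [← htor]
    exact mem_tor.mpr (congrArg (fun Y : SL2 => Y.1) (show X * h * X⁻¹ * (X * g * X⁻¹) = X * g * X⁻¹ * (X * h * X⁻¹) by
      rw [show X * h * X⁻¹ * (X * g * X⁻¹) = X * (h * g) * X⁻¹ by group,
        show X * g * X⁻¹ * (X * h * X⁻¹) = X * (g * h) * X⁻¹ by group,
        show h * g = g * h from Subtype.ext (mem_tor.mp hh)]))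
  · intro hh
    rw [← htor] at hh
    have h1 : X * h * X⁻¹ * (X * g * X⁻¹) = X * g * X⁻¹ * (X * h * X⁻¹) := Subtype.ext (mem_tor.mp hh)
    rw [show X * h * X⁻¹ * (X * g * X⁻¹) = X * (h * g) * X⁻¹ by group,
        show X * g * X⁻¹ * (X * h * X⁻¹) = X * (g * h) * X⁻¹ by group] at h1
    exact mem_tor.mpr (congrArg (fun Y : SL2 => Y.1) (mul_left_cancel (mul_right_cancel h1)))

/-- upper triangular elements of `q`-power order are unipotent -/
theorem mem_U_of_borel {x : P2} (hx : x ∈ borelP F) (hq : x ^ Fintype.card F = 1) :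
    x ∈ (PSL2.U : Subgroup P2) := by
  obtain ⟨A, hA, rfl⟩ := hx
  have hA' : A.1 1 0 = 0 := hA
  have hpow : ∀ n : ℕ, (A ^ n).1 0 0 = (A.1 0 0) ^ n ∧ (A ^ n).1 1 0 = 0 := by
    intro n
    induction n with
    | zero => simp
    | succ n ih =>
      rw [pow_succ, Matrix.SpecialLinearGroup.coe_mul]
      constructor
      · rw [Matrix.mul_apply, Fin.sum_univ_two, ih.1, hA', mul_zero, add_zero, ← pow_succ]
      · rw [Matrix.mul_apply, Fin.sum_univ_two, ih.2, hA', zero_mul, mul_zero, add_zero]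
  rw [← map_pow, ← map_one PSL2.pr, PSL2.pr_eq_iff] at hq
  obtain ⟨ε, hε, he⟩ := hq
  have h00 := congrFun (congrFun he 0) 0
  rw [(hpow _).1, FiniteField.pow_card, Matrix.smul_apply, Matrix.SpecialLinearGroup.coe_one, Matrix.one_apply_eq,
    smul_eq_mul, mul_one] at h00
  have hd := PSL2.det_two A
  rw [hA', mul_zero, sub_zero, h00] at hd
  have h11 : A.1 1 1 = ε := by linear_combination ε * hd - A.1 1 1 * hε
  rw [PSL2.mem_U]
  refine ⟨ε * A.1 0 1, ?_⟩
  rw [PSL2.pr_eq_iff]
  refine ⟨ε, hε, ?_⟩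
  ext i j
  fin_cases i <;> fin_cases j <;> simp [PSL2.uS, hA', h00, h11, hε]

theorem U_comm {a b : P2} (ha : a ∈ (PSL2.U : Subgroup P2)) (hb : b ∈ (PSL2.U : Subgroup P2)) : Commute a b := by
  obtain ⟨x, rfl⟩ := (PSL2.mem_U a).1 ha
  obtain ⟨y, rfl⟩ := (PSL2.mem_U b).1 hb
  show PSL2.pr (PSL2.uS x) * PSL2.pr (PSL2.uS y) = _
  rw [← map_mul, ← map_mul, ← PSL2.uS_add, ← PSL2.uS_add, add_comm]

theorem uS_pow_card (x : F) : (PSL2.pr (PSL2.uS x)) ^ Fintype.card F = 1 := by
  rw [← map_pow, Classical.CyclicNormalizer.uS_pow, Nat.cast_card_eq_zero, zero_mul]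
  have : (PSL2.uS (0 : F)) = 1 := by apply Subtype.ext; simp [PSL2.uS, Matrix.one_fin_two]
  rw [this, map_one]

theorem uS_vS_not_commute : ¬ Commute (PSL2.pr (PSL2.uS (1 : F))) (PSL2.pr (PSL2.vS (1 : F))) := fun h => by
  obtain ⟨x, hx⟩ := (PSL2.mem_U _).1 (PSL2.mem_U_of_commute one_ne_zero h.symm)
  exact PSL2.pr_vS_ne_uS one_ne_zero x hx.symm

theorem zpowers_eq {A : Type} [Group A] [Finite A] [IsCyclic A] {x y : A} (h : orderOf x = orderOf y) :
    Subgroup.zpowers x = Subgroup.zpowers y := by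
  classical
  haveI := Fintype.ofFinite A
  have key : ∀ z : A, ∀ w : A, w ^ orderOf z = 1 → w ∈ Subgroup.zpowers z := by
    intro z w hw
    let S : Finset A := Finset.univ.filter fun w => w ^ orderOf z = 1
    have hS : S.card ≤ orderOf z := IsCyclic.card_pow_eq_one_le (orderOf_pos z)
    have hsub : Finset.univ.filter (fun w => w ∈ Subgroup.zpowers z) ⊆ S := fun u hu => by
      obtain ⟨i, rfl⟩ := Subgroup.mem_zpowers_iff.1 (Finset.mem_filter.1 hu).2
      refine Finset.mem_filter.2 ⟨Finset.mem_univ _, ?_⟩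
      rw [← zpow_natCast, ← zpow_mul, mul_comm, zpow_mul, zpow_natCast, pow_orderOf_eq_one, one_zpow]
    have heq := Finset.eq_of_subset_of_card_le hsub (by
      refine hS.trans (le_of_eq ?_)
      rw [← Nat.card_zpowers z, Nat.card_eq_fintype_card, Fintype.card_subtype])
    have : w ∈ S := Finset.mem_filter.2 ⟨Finset.mem_univ _, hw⟩
    rw [← heq] at this
    exact (Finset.mem_filter.1 this).2
  apply le_antisymm <;> rw [Subgroup.zpowers_le]
  · exact key y x (h ▸ pow_orderOf_eq_one x)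
  · exact key x y (h.symm ▸ pow_orderOf_eq_one y)

/-- the normaliser of an odd prime power subgroup is in a Borel subgroup or in a torus normaliser -/
theorem norm_cases (h2 : (2 : F) ≠ 0) (h5 : 5 ≤ Fintype.card F) {l : ℕ} [hl : Fact l.Prime] (hl2 : l ≠ 2)
    {P : Subgroup P2} (hP : IsPGroup l P) (hP1 : P ≠ ⊥) :
    (∃ g : P2, ∀ k ∈ Subgroup.normalizer (P : Set P2), g * k * g⁻¹ ∈ borelP F) ∨
    ∃ D : Subgroup P2, (Nat.card D = Fintype.card F - 1 ∨ Nat.card D = Fintype.card F + 1) ∧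
      Subgroup.normalizer (P : Set P2) ≤ D := by
  classical
  haveI : Finite P2 := Finite.of_surjective _ PSL2.pr_surjective
  by_cases hlq : l ∣ Fintype.card F
  · left
    obtain ⟨p, hp⟩ := CharP.exists F
    obtain ⟨n, hpp, hn⟩ := FiniteField.card F p
    haveI := Fact.mk hpp
    have : l = p := (Nat.prime_dvd_prime_iff_eq hl.out hpp).1 (hl.out.dvd_of_dvd_pow (hn ▸ hlq))
    subst this
    let S₀ : Sylow l P2 :=
      { toSubgroup := PSL2.U
        isPGroup' := PSL2.isPGroup_U hn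
        is_maximal' := fun hQ hle => PSL2.U_maximal hQ hle }
    obtain ⟨S, hS⟩ := hP.exists_le_sylow
    obtain ⟨g, hg⟩ := MulAction.exists_smul_eq P2 S S₀
    have hPU : ∀ y ∈ P, g * y * g⁻¹ ∈ (PSL2.U : Subgroup P2) := by
      intro y hy
      have h2 := Subgroup.smul_mem_pointwise_smul _ (MulAut.conj g) _ (hS hy)
      rw [← Sylow.coe_subgroup_smul, hg] at h2
      exact h2
    obtain ⟨y, hy, hy1⟩ : ∃ y ∈ P, y ≠ 1 := by
      by_contra h
      push Not at h
      exact hP1 ((Subgroup.eq_bot_iff_forall P).2 h)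
    refine ⟨g, fun k hk => ?_⟩
    obtain ⟨a, ha⟩ := (PSL2.mem_U _).1 (hPU y hy)
    obtain ⟨b, hb⟩ := (PSL2.mem_U _).1 (hPU _ ((Subgroup.mem_normalizer_iff.1 hk y).1 hy))
    have ha0 : a ≠ 0 := by
      rintro rfl
      refine hy1 ((conj_eq_one_iff (a := g)).1 ?_)
      rw [← ha]
      have : (PSL2.uS (0 : F)) = 1 := by apply Subtype.ext; simp [PSL2.uS, Matrix.one_fin_two]
      rw [this, map_one]
    obtain ⟨A, hA⟩ := PSL2.pr_surjective (g * k * g⁻¹)
    refine ⟨A, PSL2.triangular_of_conj ha0 (y := b) ?_, hA⟩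
    rw [hA, ha, hb]; group
  right
  haveI : Nontrivial P := (Subgroup.nontrivial_iff_ne_bot P).2 hP1
  haveI := hP.center_nontrivial
  obtain ⟨⟨z, hz⟩, hz1⟩ := exists_ne (1 : Subgroup.center P)
  have hz1' : (z : P2) ≠ 1 := fun h => hz1 (Subtype.ext (Subtype.ext h))
  obtain ⟨g, hg⟩ := PSL2.pr_surjective (z : P2)
  have ht : g.1.trace * g.1.trace ≠ 4 := fun h => hz1' (by
    obtain ⟨i, hi⟩ := IsPGroup.iff_orderOf.1 hP z
    rw [← Subgroup.orderOf_coe] at hi
    have hco : Nat.Coprime (l ^ i) (Fintype.card F) := (hl.out.coprime_iff_not_dvd.2 hlq).pow_left i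
    refine orderOf_eq_one_iff.1 (Nat.eq_one_of_dvd_coprimes hco hi.dvd ?_)
    rw [← hg]
    exact orderOf_dvd_of_pow_eq_one (pr_pow_card_of_trace_sq h))
  obtain ⟨hD, k, ⟨e⟩, hk⟩ := torN_card h2 h5 ht
  haveI : NeZero k := ⟨hk⟩
  have hPD : P ≤ torN' g := fun y hy => torN_cover ht (by
    rw [hg]
    have : (y : P2) * z = z * y := congrArg Subtype.val (Subgroup.mem_center_iff.1 hz ⟨y, hy⟩)
    rw [this, mul_inv_cancel_right]
    exact Subgroup.mem_zpowers _)
  have hcyc : IsCyclic P := by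
    let j : P →* DihedralGroup k := e.toMonoidHom.comp (Subgroup.inclusion hPD)
    have hj : Function.Injective j := e.injective.comp (Subgroup.inclusion_injective hPD)
    have hodd : Odd (Nat.card j.range) := by
      rw [← Nat.card_congr (MonoidHom.ofInjective hj).toEquiv]
      obtain ⟨m, hm⟩ := IsPGroup.iff_card.1 hP
      rw [hm]
      exact (hl.out.odd_of_ne_two hl2).pow
    rcases Reduced.subgroup_cases j.range with h | ⟨-, h⟩ | ⟨m, -, ⟨f⟩⟩
    · exact isCyclic_of_surjective (MonoidHom.ofInjective hj).symm (MonoidHom.ofInjective hj).symm.surjective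
    · rw [h] at hodd
      exact absurd hodd (by decide)
    · rw [Nat.card_congr f.toEquiv, DihedralGroup.nat_card] at hodd
      exact absurd (even_two_mul m) (Nat.not_even_iff_odd.2 hodd)
  refine ⟨torN' g, hD, fun x hx => torN_cover ht ?_⟩
  rw [hg]
  have hxz : x * (z : P2) * x⁻¹ ∈ P := (Subgroup.mem_normalizer_iff.1 hx z).1 z.2
  have hord : orderOf (⟨_, hxz⟩ : P) = orderOf z := by
    rw [← Subgroup.orderOf_coe, ← Subgroup.orderOf_coe]
    exact orderOf_injective (MulAut.conj x).toMonoidHom (MulAut.conj x).injective _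
  have hEq : Subgroup.zpowers (⟨_, hxz⟩ : P) = Subgroup.zpowers z :=
    haveI := hcyc
    Cfsg.Agent.GW.Psl.zpowers_eq hord
  obtain ⟨i, hi⟩ := Subgroup.mem_zpowers_iff.1 (hEq ▸ Subgroup.mem_zpowers (⟨_, hxz⟩ : P))
  exact Subgroup.mem_zpowers_iff.2 ⟨i, by simpa using congrArg Subtype.val hi⟩

/-- the fixed points of an inner-diagonal involution contain a torus normaliser -/
theorem exists_fixed_torN (h2 : (2 : F) ≠ 0) (h5 : 5 ≤ Fintype.card F) {h : GL (Fin 2) F}
    (hh : PSL2.conjP h ≠ 1) (hhh : PSL2.conjP h * PSL2.conjP h = 1) :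
    ∃ D : Subgroup P2, (Nat.card D = Fintype.card F - 1 ∨ Nat.card D = Fintype.card F + 1) ∧
      ∀ k ∈ D, PSL2.conjP h k = k := by
  classical
  have hnsc : ¬ IsSc h.val := by
    rintro ⟨c, hc⟩
    refine hh ?_
    ext y
    obtain ⟨A, rfl⟩ := PSL2.pr_surjective y
    rw [PSL2.conjP_apply, MulAut.one_apply]
    refine congrArg PSL2.pr (Subtype.ext ?_)
    rw [PSL2.conjSL_val]
    calc h.val * A.1 * h⁻¹.val = A.1 * h.val * h⁻¹.val := by rw [hc]; simp
      _ = A.1 := by rw [Matrix.mul_assoc, Units.mul_inv, Matrix.mul_one]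
  rw [← map_mul] at hhh
  have hsq := PSL2.scalar_of_conjP_eq_one hhh
  rw [Units.val_mul] at hsq
  have htr : h.val.trace = 0 := by
    by_contra htr
    refine hnsc ⟨(h.val.trace)⁻¹ * ((h.val * h.val) 0 0 + h.val.det), ?_⟩
    rw [← smul_smul, eq_inv_smul_iff₀ htr]
    have hch : h.val * h.val = h.val.trace • h.val - h.val.det • 1 := by
      ext i j
      fin_cases i <;> fin_cases j <;>
        simp [Matrix.mul_apply, Fin.sum_univ_two, Matrix.trace_fin_two, Matrix.det_fin_two] <;> ring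
    rw [add_smul, ← hsq, hch, sub_add_cancel]
  obtain ⟨c, hc⟩ : ∃ c, c = -h.val.det := ⟨_, rfl⟩
  have hc0 : c ≠ 0 := by rw [hc, neg_ne_zero]; exact Matrix.GeneralLinearGroup.det_ne_zero h
  obtain ⟨s, hs0, hsc⟩ : ∃ s : F, s ≠ 0 ∧ s * s ≠ c := by
    by_contra hcon
    push Not at hcon
    have hsub : (Finset.univ.erase (0 : F)) ⊆ (Finset.univ.filter fun x : F => x * x = c) := fun x hx =>
      Finset.mem_filter.2 ⟨Finset.mem_univ _, hcon x (Finset.ne_of_mem_erase hx)⟩
    have h1 := hcon 1 one_ne_zero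
    have hle : (Finset.univ.filter fun x : F => x * x = c) ⊆ {1, -1} := fun x hx => by
      have := (Finset.mem_filter.1 hx).2
      rw [← h1, mul_self_eq_mul_self_iff] at this
      simpa using this
    have := (Finset.card_le_card (hsub.trans hle)).trans Finset.card_le_two
    rw [Finset.card_erase_of_mem (Finset.mem_univ _), Finset.card_univ] at this
    omega
  have hd : s * s - c ≠ 0 := sub_ne_zero.2 hsc
  obtain ⟨b, hb⟩ : ∃ b, b = -2 * s / (s * s - c) := ⟨_, rfl⟩
  obtain ⟨a, ha⟩ : ∃ a, a = 1 + s * b := ⟨_, rfl⟩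
  have hb0 : b ≠ 0 := by
    rw [hb]; exact div_ne_zero (mul_ne_zero (neg_ne_zero.2 h2) hs0) hd
  have hab : a * a - b * b * c = 1 := by
    have e : b * (s * s - c) = -2 * s := by rw [hb, div_mul_cancel₀ _ hd]
    rw [ha]; linear_combination b * e
  have hdet : (a • (1 : Matrix (Fin 2) (Fin 2) F) + b • h.val).det = 1 := by
    have h11 : h.val 1 1 = -h.val 0 0 := by
      rw [Matrix.trace_fin_two] at htr; linear_combination htr
    rw [Matrix.det_fin_two]
    simp [h11]
    rw [hc, Matrix.det_fin_two, h11] at hab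
    linear_combination hab
  obtain ⟨g, hg⟩ : ∃ g : SL2, g.1 = a • (1 : Matrix (Fin 2) (Fin 2) F) + b • h.val := ⟨⟨_, hdet⟩, rfl⟩
  have htg : g.1.trace = 2 * a := by
    rw [hg, Matrix.trace_add, Matrix.trace_smul, Matrix.trace_smul, htr, Matrix.trace_one, Fintype.card_fin]
    simp; ring
  have ht : g.1.trace * g.1.trace ≠ 4 := by
    rw [htg]
    intro h4
    have h4' : (4 : F) ≠ 0 := by
      rw [show (4 : F) = 2 * 2 by norm_num]; exact mul_ne_zero h2 h2
    have h1 : b * b * c * 4 = 0 := by linear_combination h4 - 4 * hab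
    simp [hb0, hc0, h4'] at h1
  refine ⟨torN' g, (torN_card h2 h5 ht).1, ?_⟩
  rintro _ ⟨X, hX, rfl⟩
  have hXg : X * g * X⁻¹ ∈ tor g := (Subgroup.mem_normalizer_iff.1 hX g).1 (self_mem_tor g)
  obtain ⟨x, y, hxy, -⟩ := exists_of_mem_tor (not_isSc_of_trace ht) hXg
  have hxX : X.1 * g.1 = (x • (1 : Matrix (Fin 2) (Fin 2) F) + y • g.1) * X.1 := by
    have := congrArg (fun Y : SL2 => Y.1) (show X * g = (X * g * X⁻¹) * X by group)
    simp only [Matrix.SpecialLinearGroup.coe_mul] at this hxy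
    rw [this, hxy]
    rfl
  rw [hg, Matrix.mul_add, Matrix.mul_smul, Matrix.mul_smul, Matrix.mul_one, smul_add, smul_smul, smul_smul,
    Matrix.add_mul, Matrix.add_mul, Matrix.smul_mul, Matrix.smul_mul, Matrix.smul_mul, Matrix.one_mul] at hxX
  obtain ⟨e, he⟩ : ∃ e, e = x + y * a - a := ⟨_, rfl⟩
  have hlin : X.1 * h.val = (e / b) • X.1 + y • (h.val * X.1) := by
    have hbX : b • (X.1 * h.val) = e • X.1 + (y * b) • (h.val * X.1) := by
      have h0 : b • (X.1 * h.val) = (a • X.1 + b • (X.1 * h.val)) - a • X.1 := by module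
      rw [h0, hxX, he]
      module
    rw [← inv_smul_smul₀ hb0 (X.1 * h.val), hbX, smul_add, smul_smul, smul_smul]
    congr 2
    · rw [div_eq_inv_mul]
    · field_simp
  -- compare traces of `X h X⁻¹`
  have hXi : X.1 * (X⁻¹).1 = 1 := by rw [← Matrix.SpecialLinearGroup.coe_mul, mul_inv_cancel]; rfl
  have hiX : (X⁻¹).1 * X.1 = 1 := by rw [← Matrix.SpecialLinearGroup.coe_mul, inv_mul_cancel]; rfl
  have hconj : X.1 * h.val * (X⁻¹).1 = (e / b) • (1 : Matrix (Fin 2) (Fin 2) F) + y • h.val := by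
    rw [hlin, Matrix.add_mul, Matrix.smul_mul, Matrix.smul_mul, hXi, Matrix.mul_assoc, hXi, Matrix.mul_one]
  have he0 : e / b = 0 := by
    have h1 := congrArg Matrix.trace hconj
    rw [Matrix.trace_mul_comm, ← Matrix.mul_assoc, hiX, Matrix.one_mul, htr, Matrix.trace_add, Matrix.trace_smul,
      Matrix.trace_smul, htr, Matrix.trace_one, Fintype.card_fin] at h1
    simp [h2] at h1
    exact div_eq_zero_iff.2 h1
  rw [he0, zero_smul, zero_add] at hconj hlin
  have hy : y * y = 1 := by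
    have h1 := congrArg Matrix.det hlin
    rw [Matrix.det_smul, Matrix.det_mul, Matrix.det_mul, X.2, Fintype.card_fin] at h1
    have hd0 : h.val.det ≠ 0 := Matrix.GeneralLinearGroup.det_ne_zero h
    exact (mul_right_cancel₀ hd0 (by linear_combination h1 : 1 * h.val.det = (y * y) * h.val.det)).symm
  rw [PSL2.conjP_apply, PSL2.pr_eq_iff]
  refine ⟨y, hy, ?_⟩
  rw [PSL2.conjSL_val]
  calc h.val * X.1 * h⁻¹.val = (y * y) • (h.val * X.1) * h⁻¹.val := by rw [hy, one_smul]
    _ = y • (X.1 * h.val * h⁻¹.val) := by rw [← smul_smul, ← hlin, Matrix.smul_mul]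
    _ = y • X.1 := by rw [Matrix.mul_assoc, Units.mul_inv, Matrix.mul_one]

theorem two_dim_arith {q m : ℕ} (h5 : 5 ≤ q) (ho : Odd q) (hm : m = q - 1 ∨ m = q + 1)
    (hd : m * 2 ∣ (q - 1) * q) : False := by
  obtain ⟨j, rfl⟩ := ho
  rcases hm with rfl | rfl
  · rw [show 2 * j + 1 - 1 = 2 * j by omega] at hd
    have h : 2 ∣ 2 * j + 1 := Nat.dvd_of_mul_dvd_mul_left (by omega : 0 < 2 * j) hd
    omega
  · rw [show 2 * j + 1 - 1 = 2 * j by omega, show (2 * j + 1 + 1) * 2 = 2 * (2 * (j + 1)) by ring,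
      show 2 * j * (2 * j + 1) = 2 * (j * (2 * j + 1)) by ring] at hd
    have h1 : 2 * (j + 1) ∣ j * (2 * j + 1) := Nat.dvd_of_mul_dvd_mul_left two_pos hd
    have h2 : j + 1 ∣ j * (2 * j + 1) := (dvd_mul_left _ 2).trans h1
    have h3 : j + 1 ∣ 1 := by
      have h4 : j + 1 ∣ 2 * (j + 1) * (j + 1) := dvd_mul_left _ _
      have h5' : 2 * (j + 1) * (j + 1) = j * (2 * j + 1) + (3 * j + 2) := by ring
      rw [h5'] at h4
      have h6 : j + 1 ∣ 3 * j + 2 := (Nat.dvd_add_right h2).1 h4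
      have h7 : 3 * (j + 1) = 3 * j + 2 + 1 := by ring
      exact (Nat.dvd_add_right h6).1 (h7 ▸ dvd_mul_left _ _)
    have := Nat.le_of_dvd one_pos h3
    omega

/-- every automorphism of square one has the inner-diagonal or the standard field shape -/
theorem aut_cases {α : MulAut P2} (hα : α * α = 1) :
    (∃ h : GL (Fin 2) F, α = PSL2.conjP h) ∨
    ∃ (σ : F ≃+* F) (B : GL (Fin 2) F), α = PSL2.conjP B * PSL2.fieldP σ * (PSL2.conjP B)⁻¹ := by
  classical
  obtain ⟨p, hp⟩ := CharP.exists F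
  obtain ⟨n, hpp, hn⟩ := FiniteField.card F p
  haveI := Fact.mk hpp
  obtain ⟨h, σ, rfl⟩ := PSL2.aut_eq hn α
  by_cases hσ1 : σ = 1
  · exact Or.inl ⟨h, by rw [hσ1, map_one, mul_one]⟩
  right
  have e : PSL2.conjP (h * PSL2.glField σ h) * PSL2.fieldP (σ * σ) = PSL2.conjP 1 * PSL2.fieldP 1 := by
    rw [map_mul, map_mul, map_one, map_one, one_mul, ← hα]
    rw [mul_assoc, ← mul_assoc (PSL2.conjP (PSL2.glField σ h)), ← PSL2.fieldP_conjP]
    simp [mul_assoc]
  have hσσ : σ * σ = 1 := PSL2.field_unique e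
  rw [hσσ, map_one, map_one, one_mul, mul_one] at e
  have hsc := PSL2.scalar_of_conjP_eq_one e
  obtain ⟨c, hc⟩ : ∃ c, c = (h * PSL2.glField σ h).val 0 0 := ⟨_, rfl⟩
  rw [← hc] at hsc
  have hσord : orderOf σ = 2 := orderOf_eq_prime (by rw [pow_two, hσσ]) hσ1
  have hmap : (PSL2.glField σ h).val = h.val.map σ := rfl
  rw [Units.val_mul, hmap] at hsc
  have hc0 : c ≠ 0 := fun h0 => Matrix.GeneralLinearGroup.det_ne_zero (h * PSL2.glField σ h) (by
    rw [Units.val_mul, hmap, hsc, h0, zero_smul]; simp)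
  -- `c` is fixed
  have hcσ : σ c = c := by
    have h1 : h.val.map σ * h.val = c • (1 : Matrix (Fin 2) (Fin 2) F) := by
      have hinv : (h.val) * (c⁻¹ • h.val.map σ) = 1 := by
        rw [Matrix.mul_smul, hsc, smul_smul, inv_mul_cancel₀ hc0, one_smul]
      have := mul_eq_one_comm.1 hinv
      rw [Matrix.smul_mul] at this
      calc h.val.map σ * h.val = c • (c⁻¹ • (h.val.map σ * h.val)) := by rw [smul_smul, mul_inv_cancel₀ hc0, one_smul]
        _ = _ := by rw [this]
    have h2 := congrArg (fun M : Matrix (Fin 2) (Fin 2) F => M.map σ) hsc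
    simp only [PSLn.map_mul', PSLn.map_map', hσσ] at h2
    rw [show h.val.map ((1 : F ≃+* F) : F → F) = h.val from by ext i j; rfl, h1] at h2
    have h3 := congrFun (congrFun h2 0) 0
    simpa using h3.symm
  obtain ⟨μ, hμ0, hμ⟩ := PSLn.exists_norm_cyclic σ (inv_ne_zero hc0) (by rw [map_inv₀, hcσ])
  rw [hσord, Finset.prod_range_succ, Finset.prod_range_succ, Finset.prod_range_zero, one_mul, pow_zero, pow_one] at hμ
  obtain ⟨B, hB⟩ := PSLn.exists_descent_cyclic σ (μ • h.val) (by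
    rw [hσord]
    show (μ • h.val) * (((μ • h.val) * ((1 : Matrix (Fin 2) (Fin 2) F)).map σ).map σ) = 1
    rw [PSLn.map_one', mul_one, show (μ • h.val).map σ = σ μ • h.val.map σ by ext i j; simp, Matrix.smul_mul,
      Matrix.mul_smul, hsc, smul_smul, smul_smul]
    rw [show μ * σ μ * c = 1 by
      rw [show μ * σ μ = c⁻¹ from hμ, inv_mul_cancel₀ hc0], one_smul])
  refine ⟨σ, B, ?_⟩
  have hg : PSL2.conjP (h * PSL2.glField σ B) = PSL2.conjP B := by
    let u : Fˣ := Units.mk0 μ hμ0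
    have hBe : Matrix.GeneralLinearGroup.scalar (Fin 2) u * (h * PSL2.glField σ B) = B := Units.ext (by
      rw [Units.val_mul, Units.val_mul]
      show Matrix.scalar (Fin 2) μ * (h.val * (B.val.map σ)) = B.val
      rw [Matrix.scalar_apply, ← Matrix.smul_one_eq_diagonal, Matrix.smul_mul, Matrix.one_mul,
        ← Matrix.smul_mul]
      exact hB)
    calc PSL2.conjP (h * PSL2.glField σ B)
        = PSL2.conjP (Matrix.GeneralLinearGroup.scalar (Fin 2) u * (h * PSL2.glField σ B)) := by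
          rw [map_mul PSL2.conjP (Matrix.GeneralLinearGroup.scalar (Fin 2) u)]
          have hsu : PSL2.conjP (Matrix.GeneralLinearGroup.scalar (Fin 2) u) = 1 := MulEquiv.ext fun y => conjP_scalar u y
          rw [hsu, one_mul]
      _ = _ := by rw [hBe]
  rw [eq_mul_inv_iff_mul_eq, mul_assoc, PSL2.fieldP_conjP, ← mul_assoc, ← map_mul, hg]

/-- The main statement. -/
theorem centralizes (h2 : (2 : F) ≠ 0) (h5 : 5 ≤ Fintype.card F) {α : MulAut P2} (hα : α * α = 1)
    {l : ℕ} [Fact l.Prime] (hl2 : l ≠ 2) {P : Subgroup P2} (hP : IsPGroup l P)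
    (hfix : ∀ k : P2, α k = k → k ∈ Subgroup.normalizer (P : Set P2)) : ∀ x ∈ P, α x = x := by
  classical
  haveI : Finite P2 := Finite.of_surjective _ PSL2.pr_surjective
  intro x hx
  by_cases hP1 : P = ⊥
  · rw [hP1, Subgroup.mem_bot] at hx
    rw [hx, map_one]
  by_cases hα1 : α = 1
  · rw [hα1, MulAut.one_apply]
  have hcases := norm_cases h2 h5 hl2 hP hP1
  rcases aut_cases hα with ⟨h, rfl⟩ | ⟨σ, B, rfl⟩
  · obtain ⟨E, hE, hEfix⟩ := exists_fixed_torN h2 h5 hα1 hα
    have hEN : E ≤ Subgroup.normalizer (P : Set P2) := fun k hk => hfix k (hEfix k hk)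
    rcases hcases with ⟨g, hg⟩ | ⟨D, hD, hND⟩
    · exfalso
      have hd : Nat.card E ∣ Nat.card (borelP F) :=
        Subgroup.card_dvd_of_injective
          (((MulAut.conj g).toMonoidHom.comp E.subtype).codRestrict (borelP F) fun k => hg k (hEN k.2))
          (fun a b hab => Subtype.ext ((MulAut.conj g).injective (congrArg Subtype.val hab)))
      have hB := card_borelP (F := F)
      rw [gcd_two h2] at hB
      exact two_dim_arith h5 (card_odd h2) hE (hB ▸ Nat.mul_dvd_mul_right hd 2)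
    · have hle : E ≤ D := hEN.trans hND
      have hdd := Subgroup.card_dvd_of_le hle
      have heq : E = D := Subgroup.eq_of_le_of_card_ge hle (by
        rcases hE with e | e <;> rcases hD with d | d <;> rw [e, d] at hdd ⊢
        · exfalso
          have h2' : Fintype.card F - 1 ∣ 2 := by
            have := Nat.dvd_sub hdd dvd_rfl
            rwa [show Fintype.card F + 1 - (Fintype.card F - 1) = 2 by omega] at this
          have := Nat.le_of_dvd two_pos h2'
          omega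
        · omega)
      exact hEfix x (heq ▸ hND (Subgroup.le_normalizer hx))
  · exfalso
    obtain ⟨a, ha⟩ : ∃ a, a = PSL2.conjP B (PSL2.pr (PSL2.uS (1 : F))) := ⟨_, rfl⟩
    obtain ⟨b, hb⟩ : ∃ b, b = PSL2.conjP B (PSL2.pr (PSL2.vS (1 : F))) := ⟨_, rfl⟩
    have haN : a ∈ Subgroup.normalizer (P : Set P2) := hfix a (by
      rw [ha, MulAut.mul_apply, MulAut.mul_apply, MulAut.inv_apply_self, PSL2.fieldP_uS, map_one])
    have hbN : b ∈ Subgroup.normalizer (P : Set P2) := hfix b (by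
      rw [hb, MulAut.mul_apply, MulAut.mul_apply, MulAut.inv_apply_self, Classical.CyclicNormalizer.fieldP_vS, map_one])
    have haq : a ^ Fintype.card F = 1 := by rw [ha, ← map_pow, uS_pow_card, map_one]
    have hbq : b ^ Fintype.card F = 1 := by
      rw [hb, ← map_pow, ← map_pow PSL2.pr, Classical.CyclicNormalizer.vS_pow, Nat.cast_card_eq_zero, zero_mul]
      have : (PSL2.vS (0 : F)) = 1 := by apply Subtype.ext; simp [PSL2.vS, Matrix.one_fin_two]
      rw [this, map_one, map_one]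
    have hne : ¬ Commute a b := fun h => uS_vS_not_commute (by
      have := h.map ((PSL2.conjP B)⁻¹ : MulAut P2).toMonoidHom
      simpa [ha, hb] using this)
    rcases hcases with ⟨g, hg⟩ | ⟨D, hD, hND⟩
    · refine hne ((Commute.conj_iff g).1 (U_comm (mem_U_of_borel (hg a haN) ?_) (mem_U_of_borel (hg b hbN) ?_)))
      · rw [conj_pow, haq]; group
      · rw [conj_pow, hbq]; group
    · have h1 : a = 1 := by
        refine orderOf_eq_one_iff.1 (Nat.eq_one_of_dvd_coprimes (?_ : Nat.Coprime (Nat.card D) (Fintype.card F)) ?_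
          (orderOf_dvd_of_pow_eq_one haq))
        · rcases hD with h | h <;> rw [h]
          · exact (Nat.coprime_self_sub_left (by omega : 1 ≤ Fintype.card F)).2 (Nat.coprime_one_left _)
          · simp
        · rw [← Subgroup.orderOf_coe (⟨a, hND haN⟩ : D) |>.symm]
          exact orderOf_dvd_natCard _
      exact hne (h1 ▸ Commute.one_left b)

end Cfsg.Agent.GW.Psl
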