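import Cfsg.Agent.Lib.GW.Reduce
import Cfsg.Agent.Lib.GW.OtherPart
import Cfsg.Agent.Lib.GW.PslInvariant
import Cfsg.Agent.Lib.GW.AltInvariant
import Cfsg.Agent.Lib.Solv.Coprime
import Cfsg.Agent.Lib.Solv.Component
import Cfsg.Agent.Lib.Solv.Partition.Engine
import Cfsg.Agent.S1247

/-!
# Layers of maximal subgroups of a minimal counterexample

`model_over_core`: a maximal subgroup with a layer is almost simple modulo its core.
`layerCentralises`: the hypothesis of the exclusion of unfused four groups.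
-/

set_option autoImplicit false
set_option linter.style.haveILetI false
set_option linter.unusedSectionVars false

namespace Cfsg.Agent.GW

open Cfsg Cfsg.Agent Cfsg.Agent.GW.Reduced
open scoped commutatorElement

universe u

/-- A subgroup with a layer has dihedral Sylow two-subgroups. -/
theorem sylow_of_layer {G : Type u} [Group G] [Finite G] (S : Sylow 2 G) {n : ℕ}
    (e : (S : Subgroup G) ≃* DihedralGroup n) (N : Subgroup G) (hE : Cfsg.layer ↥N ≠ ⊥) :
    ∃ (T : Sylow 2 N) (k : ℕ), 2 ≤ k ∧ Nonempty ((T : Subgroup N) ≃* DihedralGroup k) := by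
  haveI : Fact (Nat.Prime 2) := ⟨Nat.prime_two⟩
  haveI : Group.IsPerfect ↥(Cfsg.layer ↥N) := S1247.layer_perfect'
  haveI : Nontrivial ↥(Cfsg.layer ↥N) := (Subgroup.nontrivial_iff_ne_bot _).2 hE
  have heven : 2 ∣ Nat.card ↥(Cfsg.layer ↥N) := by
    by_contra h
    haveI := Solv.Partition.odd_solvable (H := ↥(Cfsg.layer ↥N)) (Nat.odd_iff.2 (Nat.two_dvd_ne_zero.1 h))
    exact (Group.IsSolvable.commutator_lt_top_of_nontrivial ↥(Cfsg.layer ↥N)).ne Group.IsPerfect.commutator_eq_top
  obtain ⟨TE⟩ := (inferInstance : Nonempty (Sylow 2 ↥(Cfsg.layer ↥N)))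
  obtain ⟨T, hT⟩ := (TE.isPGroup'.map (Cfsg.layer ↥N).subtype).exists_le_sylow
  obtain ⟨U, hU⟩ := (T.isPGroup'.map N.subtype).exists_le_sylow
  let g : (T : Subgroup N) ≃* (T : Subgroup N).map N.subtype := (T : Subgroup N).equivMapOfInjective _ N.subtype_injective
  refine ⟨T, ?_⟩
  rcases two_subgroup_cases ((U.equiv S).trans e) _ hU with h | ⟨h1, h4⟩ | ⟨k, hk, ⟨f⟩⟩
  · exfalso
    haveI : IsCyclic (T : Subgroup N) := g.isCyclic.2 h
    exact not_cyclic_of_perfect TE heven (isCyclic_of_injective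
      ((Subgroup.inclusion hT).comp ((TE : Subgroup ↥(Cfsg.layer ↥N)).equivMapOfInjective _
        (Cfsg.layer ↥N).subtype_injective).toMonoidHom)
      ((Subgroup.inclusion_injective hT).comp (MulEquiv.injective _)))
  · refine ⟨2, le_rfl, ?_⟩
    haveI : IsKleinFour (T : Subgroup N) := ⟨by rw [Nat.card_congr g.toEquiv, h4],
      Nat.dvd_antisymm (Monoid.exponent_dvd_of_forall_pow_eq_one fun x => g.injective (by
        rw [map_pow, map_one, pow_two]; exact Subtype.ext (h1 _ (g x).2))) (by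
        obtain ⟨x, hx⟩ := exists_prime_orderOf_dvd_card' (G := (T : Subgroup N)) 2
          (by rw [Nat.card_congr g.toEquiv, h4]; norm_num)
        simpa only [hx] using Monoid.order_dvd_exponent x)⟩
    exact IsKleinFour.nonempty_mulEquiv
  · exact ⟨k, by omega, ⟨g.trans f⟩⟩

/-- `N/O(N)` is almost simple over a model. -/
theorem model_over_core {G : Type u} [Group G] [Finite G] (hmin : Minimal G) {N : Subgroup G} (hN : N ≠ ⊤)
    (hE : Cfsg.layer ↥N ≠ ⊥) :
    haveI : (Cfsg.oddCore ↥N).Normal := Solv.pPrimeCore_normal 2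
    ∃ L : Subgroup (↥N ⧸ Cfsg.oddCore ↥N), L.Normal ∧ IsModel L ∧
      Subgroup.centralizer (L : Set (↥N ⧸ Cfsg.oddCore ↥N)) = ⊥ := by
  haveI : (Cfsg.oddCore ↥N).Normal := Solv.pPrimeCore_normal 2
  haveI : Fact (Nat.Prime 2) := ⟨Nat.prime_two⟩
  obtain ⟨S, n, -, ⟨e⟩⟩ := hmin.sylow
  obtain ⟨T, k, hk, ⟨f⟩⟩ := sylow_of_layer S e N hE
  have hodd : Odd (Nat.card (Cfsg.oddCore ↥N)) := Nat.coprime_two_right.1 (Fusion.card_pPrimeCore_coprime 2 ↥N)
  obtain ⟨s⟩ := sylow_quotient (Cfsg.oddCore ↥N) hodd T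
  have hlt : Nat.card N < Nat.card G :=
    lt_of_le_of_ne N.card_le_card_group fun h => hN (Subgroup.card_eq_iff_eq_top N |>.1 h)
  refine nonsolvable_model_of (fun L _ SL j hj hd => hmin.below L SL j ?_ hj hd) Fusion.pPrimeCore_quotient_eq_bot
    (T.mapSurjective (QuotientGroup.mk'_surjective _)) hk (s.symm.trans f) ?_
  · exact lt_of_le_of_lt (L.card_le_card_group.trans (Nat.card_le_card_of_surjective _ (QuotientGroup.mk'_surjective _))) hlt
  intro hs
  haveI : Group.IsSolvable ↥(Cfsg.oddCore ↥N) := Solv.Partition.odd_solvable hodd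
  have hsN : Group.IsSolvable ↥N := Group.isSolvable_of_ker_le_range (Cfsg.oddCore ↥N).subtype
    (QuotientGroup.mk' (Cfsg.oddCore ↥N)) (by rw [QuotientGroup.ker_mk', Subgroup.range_subtype])
  haveI : Nontrivial ↥(Cfsg.layer ↥N) := (Subgroup.nontrivial_iff_ne_bot _).2 hE
  exact (Group.IsSolvable.commutator_lt_top_of_nontrivial ↥(Cfsg.layer ↥N)).ne
    (S1247.layer_perfect' (H := ↥N)).commutator_eq_top

section Almost

variable {X : Type u} [Group X] [Finite X]

/-- In an almost simple group over a model, an involution normalising an odd prime power subgroup together with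
its centraliser centralises that subgroup. -/
theorem centralises_of_model {L : Subgroup X} [L.Normal] (hmod : IsModel L)
    (hC : Subgroup.centralizer (L : Set X) = ⊥) {a : X} (ha : a * a = 1) {l : ℕ} [Fact l.Prime] (hl2 : l ≠ 2)
    {Q : Subgroup X} (hQ : IsPGroup l Q) (haQ : a ∈ Subgroup.normalizer (Q : Set X))
    (hcen : ∀ k : X, Commute k a → k ∈ Subgroup.normalizer (Q : Set X)) {f : X} (hf : f ∈ Q) : Commute f a := by
  have hai : a⁻¹ = a := inv_eq_of_mul_eq_one_right ha
  obtain ⟨x, hx⟩ : ∃ x, x = f⁻¹ * (a * f * a) := ⟨_, rfl⟩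
  have hxQ : x ∈ Q := by
    rw [hx]
    refine Q.mul_mem (Q.inv_mem hf) ?_
    have := (Subgroup.mem_normalizer_iff.1 haQ f).1 hf
    rwa [hai] at this
  have hinv : a * x * a = x⁻¹ := by
    rw [hx, mul_inv_rev, inv_inv, mul_inv_rev, mul_inv_rev, hai]
    calc a * (f⁻¹ * (a * f * a)) * a = a * f⁻¹ * a * f * (a * a) := by group
      _ = _ := by rw [ha, mul_one]; group
  have hodd : Odd (orderOf x) := by
    obtain ⟨i, hi⟩ := IsPGroup.iff_orderOf.1 hQ ⟨x, hxQ⟩
    rw [Subgroup.orderOf_mk] at hi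
    rw [hi]
    exact ((Fact.out : l.Prime).odd_of_ne_two hl2).pow
  suffices key : a * x * a = x by
    have h2 : x ^ 2 = 1 := by
      rw [pow_two]; nth_rewrite 1 [← key]; rw [hinv, inv_mul_cancel]
    have hx1 : x = 1 := orderOf_eq_one_iff.1
      (Nat.eq_one_of_dvd_coprimes hodd.coprime_two_left (orderOf_dvd_of_pow_eq_one h2) dvd_rfl)
    rw [hx, inv_mul_eq_one] at hx1
    show f * a = a * f
    conv_lhs => rw [hx1]
    rw [mul_assoc, ha, mul_one]
  -- transported facts, for an identification `i : L ≃* M`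
  have trans : ∀ {M : Type} [Group M] (i : L ≃* M) (hxL : x ∈ L),
      (∀ (β : MulAut M) (P : Subgroup M), β * β = 1 → IsPGroup l P → (∀ y ∈ P, β y ∈ P) →
        (∀ k : M, β k = k → k ∈ Subgroup.normalizer (P : Set M)) → ∀ y ∈ P, β y = y) → a * x * a = x := by
    intro M _ i hxL hmain
    let β : MulAut M := MulAut.congr i (MulAut.conjNormal a)
    have hβ : ∀ y : L, β (i y) = i (MulAut.conjNormal a y) := fun y => by simp [β, MulAut.congr]
    have hβ2 : β * β = 1 := by
      show MulAut.congr i (MulAut.conjNormal a) * MulAut.congr i (MulAut.conjNormal a) = 1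
      rw [← map_mul, ← map_mul, ha, map_one, map_one]
    let P : Subgroup M := (Q.subgroupOf L).map i.toMonoidHom
    have hQL : IsPGroup l (Q.subgroupOf L) := hQ.comap_of_injective L.subtype L.subtype_injective
    have hPmem : ∀ y : L, i y ∈ P ↔ (y : X) ∈ Q := fun y =>
      (Subgroup.mem_map_iff_mem (f := i.toMonoidHom) i.injective).trans Subgroup.mem_subgroupOf
    have hfix : ∀ k : M, β k = k → k ∈ Subgroup.normalizer (P : Set M) := by
      intro k hk
      obtain ⟨y, rfl⟩ := i.surjective k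
      rw [hβ] at hk
      have hy : a * (y : X) * a⁻¹ = y := by
        rw [← MulAut.conjNormal_apply]; exact congrArg Subtype.val (i.injective hk)
      have hyN := hcen (y : X) (by show (y : X) * a = a * y; exact (mul_inv_eq_iff_eq_mul.1 hy).symm)
      refine Subgroup.mem_normalizer_iff.2 fun z => ?_
      obtain ⟨w, rfl⟩ := i.surjective z
      rw [← map_mul, ← map_inv, ← map_mul]
      exact (hPmem w).trans ((Subgroup.mem_normalizer_iff.1 hyN w).trans (Iff.of_eq (by simp)) |>.trans (hPmem (y * w * y⁻¹)).symm)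
    have h := hmain β P hβ2 (hQL.map _) (by
      intro y hy
      obtain ⟨w, rfl⟩ := i.surjective y
      rw [hβ, hPmem]
      rw [MulAut.conjNormal_apply]
      exact (Subgroup.mem_normalizer_iff.1 haQ w).1 ((hPmem w).1 hy)) hfix (i ⟨x, hxL⟩) ((hPmem _).2 hxQ)
    rw [hβ] at h
    have h' := congrArg Subtype.val (i.injective h)
    rw [MulAut.conjNormal_apply, hai] at h'
    exact h'
  -- `x` acts on `L` as an inner automorphism
  have hxmem : ∀ {M : Type} [Group M] (i : L ≃* M) (m : M),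
      MulAut.congr i (MulAut.conjNormal x) = MulAut.conj m → x ∈ L := by
    intro M _ i m hm
    obtain ⟨y, rfl⟩ := i.surjective m
    have h1 : ((y : X))⁻¹ * x ∈ Subgroup.centralizer (L : Set X) := Subgroup.mem_centralizer_iff.2 fun b hb => by
      have := DFunLike.congr_fun hm (i ⟨b, hb⟩)
      simp [MulAut.congr] at this
      rw [← map_inv, ← map_mul, ← map_mul] at this
      have h := congrArg Subtype.val (i.injective this)
      simp at h
      calc b * ((y : X)⁻¹ * x) = (y : X)⁻¹ * ((y : X) * b * (y : X)⁻¹) * x := by group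
        _ = (y : X)⁻¹ * (x * b * x⁻¹) * x := by rw [h]
        _ = (y : X)⁻¹ * x * b := by group
    rw [hC, Subgroup.mem_bot] at h1
    rw [← inv_mul_eq_one.1 h1]
    exact y.2
  have hcomm : ∀ {A : Type} [CommGroup A] (χ : X →* A), χ x = 1 := by
    intro A _ χ
    have h1 : χ a * χ a = 1 := by rw [← map_mul, ha, map_one]
    rw [hx, map_mul, map_mul, map_mul, map_inv, mul_comm (χ a) (χ f), mul_assoc (χ f), h1, mul_one, inv_mul_cancel]
  rcases hmod with ⟨F, hF, hFt, ho, h3, ⟨i⟩⟩ | ⟨⟨i⟩⟩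
  · obtain ⟨p, hp⟩ := CharP.exists F
    obtain ⟨d, hpp, hd⟩ := FiniteField.card F p
    haveI : Fact p.Prime := ⟨hpp⟩
    obtain ⟨φ, -, -, hφk⟩ := S2602.result (F := F) d.pos hd (by rw [← hd]; omega)
    let ψ : X →* Cfsg.Out (Matrix.ProjectiveSpecialLinearGroup (Fin 2) F) :=
      (QuotientGroup.mk' _).comp ((MulAut.congr i).toMonoidHom.comp MulAut.conjNormal)
    have hk : ψ x ∈ φ.ker := hcomm (φ.comp ψ)
    have hψ : ψ x = 1 := by
      have h1 : orderOf (ψ x) ∣ 2 := by
        rw [← Subgroup.orderOf_mk _ hk]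
        refine (orderOf_dvd_natCard _).trans ?_
        rw [hφk]
        exact Nat.gcd_dvd_left _ _
      exact orderOf_eq_one_iff.1 (Nat.eq_one_of_dvd_coprimes hodd.coprime_two_left h1 (orderOf_map_dvd ψ x))
    obtain ⟨m, hm⟩ := (QuotientGroup.eq_one_iff _).1 hψ
    refine trans i (hxmem i m hm.symm) fun β P h1 h2' h3' h4 => ?_
    have h2F : (2 : F) ≠ 0 := by
      intro h
      have h2 : (2 : ℕ) ∣ Fintype.card F := by
        haveI : CharP F 2 := CharTwo.of_one_ne_zero_of_two_eq_zero one_ne_zero h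
        have := CharP.eq F hp (inferInstance : CharP F 2)
        rw [hd, this]
        exact dvd_pow_self 2 d.ne_zero
      exact Nat.not_even_iff_odd.2 ho (even_iff_two_dvd.2 h2)
    exact Psl.centralizes h2F (by obtain ⟨j, hj⟩ := ho; omega) h1 hl2 h2' h4
  · let aut : Equiv.Perm (Fin 7) ≃* MulAut (alternatingGroup (Fin 7)) :=
      MulEquiv.ofBijective _ (S2119.result 7 (by norm_num) (by norm_num))
    let τ : X →* Equiv.Perm (Fin 7) :=
      aut.symm.toMonoidHom.comp ((MulAut.congr i).toMonoidHom.comp MulAut.conjNormal)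
    have hs : τ x ∈ alternatingGroup (Fin 7) := Equiv.Perm.mem_alternatingGroup.2 (hcomm (Equiv.Perm.sign.comp τ))
    have hh : aut (τ x) = MulAut.congr i (MulAut.conjNormal x) := aut.apply_symm_apply _
    refine trans i (hxmem i ⟨τ x, hs⟩ ?_) fun β P h1 h2 h3 h4 => AltSeven.centralizes h1 hl2 h2 h3 h4
    rw [← hh]
    refine MulEquiv.ext fun y => Subtype.ext ?_
    simp [aut, MulAut.conjNormal_apply]

end Almost

/-- The hypothesis on layers used in excluding unfused four groups. -/
theorem layerCentralises {G : Type u} [Group G] [Finite G] (hmin : Minimal G) : LayerCentralises G := by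
  intro N hN a haN ha _ q hq hq2 F hFN hF haF hCF
  haveI := Fact.mk hq
  by_cases hE : Cfsg.layer ↥N = ⊥
  · intro g _
    rw [hE, Subgroup.map_bot]
    exact Subgroup.mem_centralizer_iff.2 fun y hy => by rw [show y = 1 from Subgroup.mem_bot.1 hy, one_mul, mul_one]
  haveI : (Cfsg.oddCore ↥N).Normal := Solv.pPrimeCore_normal 2
  obtain ⟨L, hLn, hmod, hC⟩ := model_over_core hmin hN.1 hE
  haveI := hLn
  let π := QuotientGroup.mk' (Cfsg.oddCore ↥N)
  let a' : ↥N := ⟨a, haN⟩
  have ha' : a' * a' = 1 := Subtype.ext ha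
  have hodd : Odd (Nat.card (Cfsg.oddCore ↥N)) := Nat.coprime_two_right.1 (Fusion.card_pPrimeCore_coprime 2 ↥N)
  haveI : Group.IsSolvable ↥(Cfsg.oddCore ↥N) := Solv.Partition.odd_solvable hodd
  have hF' : IsPGroup q (F.subgroupOf N) := hF.comap_of_injective N.subtype N.subtype_injective
  have hmemN : ∀ g : ↥N, (g : G) ∈ Subgroup.normalizer (F : Set G) →
      π g ∈ Subgroup.normalizer (((F.subgroupOf N).map π : Subgroup _) : Set _) := fun g hg =>
    Subgroup.le_normalizer_map π ⟨g, Subgroup.mem_normalizer_iff.2 fun y => by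
      simp only [Subgroup.mem_subgroupOf, Subgroup.coe_mul, Subgroup.coe_inv]
      exact Subgroup.mem_normalizer_iff.1 hg y, rfl⟩
  have hcen : ∀ k, Commute k (π a') → k ∈ Subgroup.normalizer (((F.subgroupOf N).map π : Subgroup _) : Set _) := by
    intro k hk
    obtain ⟨g, rfl⟩ := QuotientGroup.mk'_surjective _ k
    obtain ⟨d, hd, hgd⟩ := Solv.exists_fixed_in_coset (Subgroup.zpowers a') (Cfsg.oddCore ↥N)
      (fun y _ => by rw [Subgroup.normalizer_eq_top_iff.2 inferInstance]; trivial)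
      (by
        rw [Nat.card_zpowers]
        exact Nat.Coprime.coprime_dvd_left (orderOf_dvd_of_pow_eq_one (by rw [pow_two, ha'])) hodd.coprime_two_left)
      (Or.inr inferInstance) (x := g) (fun y hy => by
        obtain ⟨i, rfl⟩ := hy
        refine (QuotientGroup.eq_one_iff _).1 ?_
        show π (g⁻¹ * (a' ^ i * g * (a' ^ i)⁻¹)) = 1
        rw [map_mul, map_mul, map_mul, map_inv, map_inv, map_zpow, ← (hk.zpow_right i).eq, mul_inv_cancel_right,
          inv_mul_cancel])
    have hcm : Commute (g * d) a' := by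
      obtain ⟨i, hi⟩ := (Subgroup.mem_normalizer_iff.1 hgd a').1 (Subgroup.mem_zpowers a')
      have hi : a' ^ i = g * d * a' * (g * d)⁻¹ := hi
      rcases Int.even_or_odd' i with ⟨j, rfl | rfl⟩
      · rw [zpow_mul, zpow_two, ha', one_zpow, eq_comm, conj_eq_one_iff] at hi
        rw [hi]; exact Commute.one_right _
      · rw [zpow_add_one, zpow_mul, zpow_two, ha', one_zpow, one_mul] at hi
        exact (mul_inv_eq_iff_eq_mul.1 hi.symm)
    have := hmemN (g * d) (hCF ⟨Subgroup.mem_centralizer_singleton_iff.2 (congrArg Subtype.val hcm.eq), (g * d).2⟩)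
    rwa [map_mul, show π d = 1 from (QuotientGroup.eq_one_iff d).2 hd, mul_one] at this
  have hc : ∀ f : ↥N, (f : G) ∈ F → Commute (π f) (π a') := fun f hf =>
    centralises_of_model hmod hC (by rw [← map_mul, ha', map_one]) hq2 (hF'.map π)
      (hmemN a' haF) hcen (Subgroup.mem_map_of_mem π (Subgroup.mem_subgroupOf.2 hf))
  rw [Subgroup.commutator_le]
  intro f hf b hb
  obtain ⟨i, rfl⟩ := hb
  have h1 : ⁅(⟨f, hFN hf⟩ : ↥N), a' ^ i⁆ ∈ Cfsg.oddCore ↥N := by
    refine (QuotientGroup.eq_one_iff _).1 ?_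
    show π ⁅_, _⁆ = 1
    rw [map_commutatorElement, commutatorElement_eq_one_iff_commute, map_zpow]
    exact (hc _ hf).zpow_right i
  have hO : ⁅Cfsg.layer ↥N, Cfsg.oddCore ↥N⁆ = ⊥ :=
    Solv.layer_commutator_solvable (Solv.pPrimeCore_normal 2).isSubnormal inferInstance
  refine Subgroup.mem_centralizer_iff.2 ?_
  rintro _ ⟨y, hy, rfl⟩
  have h2 := Subgroup.mem_bot.1 (hO ▸ Subgroup.commutator_mem_commutator hy h1)
  exact congrArg Subtype.val (commutatorElement_eq_one_iff_mul_comm.1 h2)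

end Cfsg.Agent.GW
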