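import Cfsg.Agent.Lib.GW.PslInvariant
import Cfsg.Agent.S2602
import Mathlib.FieldTheory.Fixed

/-!
# A four group of automorphisms of `PSL₂(q)` with the same odd centralisers

If an almost simple group over `PSL₂(q)` has Sylow `2`-subgroups of order at most eight and contains a four group
all of whose involutions have the same odd order elements in their centralisers, there are no such elements but `1`.
-/

set_option autoImplicit false
set_option linter.unusedSectionVars false
set_option linter.style.haveILetI false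

namespace Cfsg.Agent.GW.Psl

open Cfsg.Agent.Small Cfsg.Agent.Small.SL2C Cfsg.Agent.Classical.Dickson

variable {F : Type} [Field F] [Fintype F]

local notation "SL2" => Matrix.SpecialLinearGroup (Fin 2) F
local notation "P2" => Matrix.ProjectiveSpecialLinearGroup (Fin 2) F

/-- an inner-diagonal involution comes from a non-scalar matrix of trace zero -/
theorem involution_matrix {h : GL (Fin 2) F} (hh : PSL2.conjP h ≠ 1) (hhh : PSL2.conjP h * PSL2.conjP h = 1) :
    ¬ IsSc h.val ∧ h.val.trace = 0 := by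
  have hnsc : ¬ IsSc h.val := by
    rintro ⟨c, hc⟩
    refine hh ?_
    ext y
    obtain ⟨A, rfl⟩ := PSL2.pr_surjective y
    rw [PSL2.conjP_apply, MulAut.one_apply]
    refine congrArg PSL2.pr (Subtype.ext ?_)
    rw [PSL2.conjSL_val]
    calc h.val * A.1 * h⁻¹.val = A.1 * h.val * h⁻¹.val := by rw [hc]; simp
      _ = A.1 := by rw [Matrix.mul_assoc, Units.mul_inv, Matrix.mul_one]
  refine ⟨hnsc, ?_⟩
  rw [← map_mul] at hhh
  have hsq := PSL2.scalar_of_conjP_eq_one hhh
  rw [Units.val_mul] at hsq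
  by_contra htr
  refine hnsc ⟨(h.val.trace)⁻¹ * ((h.val * h.val) 0 0 + h.val.det), ?_⟩
  rw [← smul_smul, eq_inv_smul_iff₀ htr]
  have hch : h.val * h.val = h.val.trace • h.val - h.val.det • 1 := by
    ext i j
    fin_cases i <;> fin_cases j <;>
      simp [Matrix.mul_apply, Fin.sum_univ_two, Matrix.trace_fin_two, Matrix.det_fin_two] <;> ring
  rw [add_smul, ← hsq, hch, sub_add_cancel]

/-- an element which is no involution is fixed by at most one inner-diagonal involution -/
theorem inndiag_unique (h2 : (2 : F) ≠ 0) {h h' : GL (Fin 2) F} (hh : PSL2.conjP h ≠ 1)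
    (hhh : PSL2.conjP h * PSL2.conjP h = 1) (hh' : PSL2.conjP h' ≠ 1) (hhh' : PSL2.conjP h' * PSL2.conjP h' = 1)
    {x : P2} (hx : x * x ≠ 1) (hf : PSL2.conjP h x = x) (hf' : PSL2.conjP h' x = x) :
    PSL2.conjP h = PSL2.conjP h' := by
  obtain ⟨g, rfl⟩ := PSL2.pr_surjective x
  have htg : g.1.trace ≠ 0 := by
    intro h0
    refine hx ?_
    rw [← map_mul, ← map_one (PSL2.pr (F := F)), PSL2.pr_eq_iff]
    refine ⟨-1, by ring, ?_⟩
    have hd := PSL2.det_two g
    rw [Matrix.trace_fin_two] at h0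
    rw [PSL2.val_mul]
    ext i j
    fin_cases i <;> fin_cases j <;> simp [Matrix.mul_apply, Fin.sum_univ_two]
    · linear_combination -hd + g.1 0 0 * h0
    · linear_combination g.1 0 1 * h0
    · linear_combination g.1 1 0 * h0
    · linear_combination -hd + g.1 1 1 * h0
  have hnsc : ¬ IsSc g.1 := by
    rintro ⟨c, hc⟩
    refine hx ?_
    have hd := g.2
    rw [hc, Matrix.det_smul, Matrix.det_one, mul_one, Fintype.card_fin, pow_two] at hd
    have h1 : PSL2.pr g = 1 := by
      rw [← map_one (PSL2.pr (F := F)), PSL2.pr_eq_iff]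
      exact ⟨c, hd, hc⟩
    rw [h1, mul_one]
  have key : ∀ k : GL (Fin 2) F, PSL2.conjP k ≠ 1 → PSL2.conjP k * PSL2.conjP k = 1 →
      PSL2.conjP k (PSL2.pr g) = PSL2.pr g →
      ∃ x y : F, k.val = comb g.1 x y ∧ 2 * x + y * g.1.trace = 0 ∧ y ≠ 0 := by
    intro k hk hkk hkf
    obtain ⟨hns, htr⟩ := involution_matrix hk hkk
    rw [PSL2.conjP_apply, PSL2.pr_eq_iff] at hkf
    obtain ⟨ε, -, hε⟩ := hkf
    rw [PSL2.conjSL_val] at hε
    have ht := congrArg Matrix.trace hε
    rw [Matrix.trace_mul_comm, ← Matrix.mul_assoc, Units.inv_mul, Matrix.one_mul, Matrix.trace_smul, smul_eq_mul]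
      at ht
    have hε1 : ε = 1 := mul_right_cancel₀ htg (ht.symm.trans (one_mul _).symm)
    rw [hε1, one_smul] at hε
    have hc : k.val * g.1 = g.1 * k.val := by
      calc k.val * g.1 = k.val * g.1 * k⁻¹.val * k.val := by rw [Matrix.mul_assoc _ k⁻¹.val, Units.inv_mul, Matrix.mul_one]
        _ = g.1 * k.val := by rw [hε]
    obtain ⟨x, y, hxy⟩ := exists_comb hnsc hc
    refine ⟨x, y, hxy, ?_, fun hy => hns ⟨x, ?_⟩⟩
    · rw [← comb_trace, ← hxy, htr]
    · rw [hxy, comb, hy, zero_smul, add_zero]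
  obtain ⟨x, y, hk, ht, hy⟩ := key h hh hhh hf
  obtain ⟨x', y', hk', ht', hy'⟩ := key h' hh' hhh' hf'
  obtain ⟨u, hu⟩ : ∃ u : Fˣ, (u : F) = y' / y := ⟨Units.mk0 _ (div_ne_zero hy' hy), rfl⟩
  have hval : h' = Matrix.GeneralLinearGroup.scalar (Fin 2) u * h := Units.ext (by
    rw [Units.val_mul]
    show h'.val = Matrix.scalar (Fin 2) (u : F) * h.val
    rw [Matrix.scalar_apply, ← Matrix.smul_one_eq_diagonal, Matrix.smul_mul, Matrix.one_mul, hk, hk', comb, comb,
      smul_add, smul_smul, smul_smul, hu]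
    congr 2
    · have e : x' * y = y' * x := mul_left_cancel₀ h2 (by linear_combination y * ht' - y' * ht)
      field_simp
      linear_combination e
    · field_simp)
  rw [hval, map_mul]
  rw [show PSL2.conjP (Matrix.GeneralLinearGroup.scalar (Fin 2) u) = 1 from
    MulEquiv.ext fun z => conjP_scalar u z, one_mul]

/-- an automorphism of square one of a field of non-square order is trivial -/
theorem field_aut_trivial {σ : F ≃+* F} (hσ : σ * σ = 1) (hns : ∀ m : ℕ, m * m ≠ Fintype.card F) : σ = 1 := by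
  classical
  by_contra h1
  haveI : Finite (F ≃+* F) := Finite.of_injective (fun e : F ≃+* F => (e : F → F)) DFunLike.coe_injective
  let H : Subgroup (F ≃+* F) := Subgroup.zpowers σ
  letI : Fintype H := Fintype.ofFinite H
  haveI : FaithfulSMul H F := ⟨fun {a b} h => Subtype.ext (RingEquiv.ext h)⟩
  have h := FixedPoints.finrank_eq_card H F
  rw [← Nat.card_eq_fintype_card, Nat.card_zpowers, orderOf_eq_prime (by rw [pow_two, hσ]) h1] at h
  letI : Fintype (FixedPoints.subfield H F) := Fintype.ofFinite _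
  have hc := Module.card_eq_pow_finrank (K := FixedPoints.subfield H F) (V := F)
  rw [h, pow_two] at hc
  exact hns _ hc.symm

theorem eight_dvd_of_square (h2 : (2 : F) ≠ 0) {m : ℕ} (hm : m * m = Fintype.card F) :
    8 ∣ Nat.card P2 := by
  have hc := Classical.Dickson.card_psl F
  rw [gcd_two h2] at hc
  obtain ⟨j, hj⟩ : Odd m := by
    have := card_odd h2
    rw [← hm] at this
    exact (Nat.odd_mul.1 this).1
  subst hj
  obtain ⟨i, hi⟩ : 2 ∣ j * (j + 1) := even_iff_two_dvd.1 (Nat.even_mul_succ_self j)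
  have hq : Fintype.card F = 8 * i + 1 := by
    rw [← hm]
    calc (2 * j + 1) * (2 * j + 1) = 4 * (j * (j + 1)) + 1 := by ring
      _ = _ := by rw [hi]; ring
  have hsq : Fintype.card F ^ 2 - 1 = 16 * (i * (4 * i + 1)) := by
    rw [hq]
    have : (8 * i + 1) ^ 2 = 16 * (i * (4 * i + 1)) + 1 := by ring
    omega
  rw [hsq] at hc
  refine ⟨Fintype.card F * (i * (4 * i + 1)), Nat.eq_of_mul_eq_mul_right two_pos ?_⟩
  rw [hc]
  ring

/-- `m` elements of a group with Sylow order at most `8` -/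
theorem le_eight {m : ℕ} (hm : m ≠ 0) (hodd : ∀ p : ℕ, p.Prime → p ∣ m → p = 2) (h16 : ¬ 16 ∣ m) : m ≤ 8 := by
  rw [Nat.eq_prime_pow_of_unique_prime_dvd hm fun {p} hp hd => hodd p hp hd] at h16 ⊢
  have : m.primeFactorsList.length < 4 := by
    by_contra h
    exact h16 ((show (16 : ℕ) = 2 ^ 4 by norm_num) ▸ pow_dvd_pow 2 (Nat.le_of_not_lt h))
  exact (Nat.pow_le_pow_right two_pos (Nat.le_of_lt_succ this)).trans_eq (by norm_num)

theorem conj_injective (h5 : 5 ≤ Fintype.card F) : Function.Injective (MulAut.conj (G := P2)) := by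
  haveI : IsSimpleGroup P2 := Matrix.ProjectiveSpecialLinearGroup.rank_two_simple (by
    rw [Nat.card_eq_fintype_card]; omega)
  intro p q h
  have hz : p⁻¹ * q ∈ Subgroup.center P2 := Subgroup.mem_center_iff.2 fun z => by
    have := DFunLike.congr_fun h z
    simp only [MulAut.conj_apply] at this
    calc z * (p⁻¹ * q) = p⁻¹ * (p * z * p⁻¹) * q := by group
      _ = p⁻¹ * (q * z * q⁻¹) * q := by rw [this]
      _ = p⁻¹ * q * z := by group
  rcases (inferInstance : (Subgroup.center P2).Normal).eq_bot_or_eq_top with e | e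
  · rw [e, Subgroup.mem_bot, inv_mul_eq_one] at hz
    exact hz
  · exfalso
    exact uS_vS_not_commute ((Subgroup.mem_center_iff.1
      (e ▸ Subgroup.mem_top (PSL2.pr (PSL2.vS (1 : F)))) (PSL2.pr (PSL2.uS (1 : F)))))

/-- an automorphism commuting with conjugation by `m` fixes `m` -/
theorem fixed_of_commute (h5 : 5 ≤ Fintype.card F) {φ : MulAut P2} {m : P2} (h : Commute φ (MulAut.conj m)) :
    φ m = m := by
  refine conj_injective h5 ?_
  ext z
  obtain ⟨w, rfl⟩ := φ.surjective z
  have h' := DFunLike.congr_fun h.eq w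
  simp only [MulAut.mul_apply, MulAut.conj_apply, map_mul, map_inv] at h'
  simpa [MulAut.conj_apply] using h'

variable {X : Type*} [Group X] [Finite X]

/-- **the main statement** -/
theorem four_centralised (h2 : (2 : F) ≠ 0) (h5 : 5 ≤ Fintype.card F) (Θ : X →* MulAut P2)
    (hinj : Function.Injective Θ) (hin : ∀ m : P2, ∃ y : X, Θ y = MulAut.conj m) (h16 : ¬ 16 ∣ Nat.card X)
    {a b : X} (ha : a * a = 1) (hb : b * b = 1) (hab : Commute a b) (ha1 : a ≠ 1) (hb1 : b ≠ 1) (hne : a ≠ b)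
    (hodd : ∀ c, c = a ∨ c = b ∨ c = a * b → ∀ x : X, Odd (orderOf x) → Commute x c → Commute x a ∧ Commute x b)
    {x : X} (hx : Odd (orderOf x)) (hxa : Commute x a) : x = 1 := by
  classical
  haveI : Fact (Nat.Prime 2) := ⟨Nat.prime_two⟩
  haveI : Finite P2 := Finite.of_surjective _ PSL2.pr_surjective
  have hbij := PSL2.pr_surjective (F := F)
  -- two-elements give inner-diagonal automorphisms
  let I : Subgroup X := (MulAut.conj (G := P2)).range.comap Θ
  have hIn : I.Normal := by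
    refine Subgroup.Normal.comap ⟨fun φ hφ ψ => ?_⟩ Θ
    obtain ⟨m, rfl⟩ := hφ
    refine ⟨ψ m, MulEquiv.ext fun y => ?_⟩
    simp
  haveI := hIn
  let f : I →* P2 := MonoidHom.comp (MonoidHom.ofInjective (conj_injective h5)).symm.toMonoidHom
    ((Θ.comp I.subtype).codRestrict _ fun y => y.2)
  have hcardI : Nat.card P2 ∣ Nat.card I := Subgroup.card_dvd_of_surjective f fun m => by
    obtain ⟨y, hy⟩ := hin m
    refine ⟨⟨y, ⟨m, hy.symm⟩⟩, ?_⟩
    exact (MulEquiv.symm_apply_eq (MonoidHom.ofInjective (conj_injective h5))).2 (Subtype.ext hy)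
  have hdiag : ∀ c : X, c * c = 1 → c ≠ 1 → ∃ h : GL (Fin 2) F, Θ c = PSL2.conjP h ∧
      PSL2.conjP h ≠ 1 ∧ PSL2.conjP h * PSL2.conjP h = 1 := by
    intro c hc hc1
    have hΘ : Θ c * Θ c = 1 := by rw [← map_mul, hc, map_one]
    have hne1 : Θ c ≠ 1 := fun e => hc1 (hinj (e.trans (map_one Θ).symm))
    suffices h : ∃ h : GL (Fin 2) F, Θ c = PSL2.conjP h by
      obtain ⟨h, hh⟩ := h
      exact ⟨h, hh, hh ▸ hne1, hh ▸ hΘ⟩
    by_cases hsq : ∃ m : ℕ, m * m = Fintype.card F
    · obtain ⟨m, hm⟩ := hsq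
      have h8 : 8 ∣ Nat.card I := (eight_dvd_of_square h2 hm).trans hcardI
      have hidx : ¬ 2 ∣ I.index := fun h => h16 (by
        rw [← I.card_mul_index]
        exact (show (16 : ℕ) = 8 * 2 by norm_num) ▸ Nat.mul_dvd_mul h8 h)
      have hcI : c ∈ I := by
        rw [← QuotientGroup.eq_one_iff, ← orderOf_eq_one_iff]
        refine Nat.eq_one_of_dvd_coprimes ((Nat.prime_two.coprime_iff_not_dvd).2 hidx)
          (orderOf_dvd_of_pow_eq_one (by rw [pow_two, ← QuotientGroup.mk_mul, hc, QuotientGroup.mk_one]))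
          (orderOf_dvd_natCard _)
      obtain ⟨m', hm'⟩ := hcI
      obtain ⟨A, rfl⟩ := hbij m'
      exact ⟨Matrix.SpecialLinearGroup.toGL A, by rw [PSL2.conjP_toGL]; exact hm'.symm⟩
    · push Not at hsq
      rcases aut_cases hΘ with h | ⟨σ, B, hσ⟩
      · exact h
      · refine absurd ?_ hne1
        have hσ2 : σ * σ = 1 := by
          refine PSL2.field_unique (g := 1) (g' := 1) ?_
          rw [map_one, one_mul, one_mul, map_one, map_mul]
          have h := hΘ
          rw [hσ] at h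
          calc PSL2.fieldP σ * PSL2.fieldP σ
              = (PSL2.conjP B)⁻¹ * (PSL2.conjP B * PSL2.fieldP σ * (PSL2.conjP B)⁻¹ *
                  (PSL2.conjP B * PSL2.fieldP σ * (PSL2.conjP B)⁻¹)) * PSL2.conjP B := by group
            _ = 1 := by rw [h]; group
        rw [hσ, field_aut_trivial hσ2 hsq, map_one, mul_one, mul_inv_cancel]
  -- an odd element of `P2` fixed by one of the involutions is trivial
  have hfix : ∀ c : X, c = a ∨ c = b ∨ c = a * b → ∀ m : P2, Odd (orderOf m) → Θ c m = m → m = 1 := by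
    intro c hc m hm hcm
    by_contra hm1
    obtain ⟨y, hy⟩ := hin m
    obtain ⟨j, hj⟩ := hm
    have hoy : Odd (orderOf y) := by
      refine Odd.of_dvd_nat ⟨j, hj⟩ (orderOf_dvd_of_pow_eq_one (hinj ?_))
      rw [map_pow, hy, ← map_pow, pow_orderOf_eq_one, map_one, map_one]
    have hcy : Commute y c := by
      refine hinj ?_
      rw [map_mul, map_mul, hy]
      ext z
      simp [MulAut.mul_apply, hcm]
    obtain ⟨h1, h1'⟩ := hodd c hc y hoy hcy
    have hmm : m * m ≠ 1 := fun e => by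
      have := orderOf_dvd_of_pow_eq_one (show m ^ 2 = 1 by rw [pow_two, e])
      exact hm1 (orderOf_eq_one_iff.1 (Nat.eq_one_of_dvd_coprimes
        (show Nat.Coprime (orderOf m) 2 from Nat.coprime_two_right.2 ⟨j, hj⟩) dvd_rfl this))
    have fixes : ∀ d : X, Commute y d → Θ d m = m := fun d hd =>
      fixed_of_commute h5 (hy ▸ (hd.symm.map Θ))
    obtain ⟨g₁, e₁, n₁, q₁⟩ := hdiag a ha ha1
    obtain ⟨g₂, e₂, n₂, q₂⟩ := hdiag b hb hb1
    exact hne (hinj (by
      rw [e₁, e₂]
      exact inndiag_unique h2 n₁ q₁ n₂ q₂ hmm (e₁ ▸ fixes a h1) (e₂ ▸ fixes b h1')))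
  -- the field has at most nine elements
  have hP16 : ¬ 16 ∣ Nat.card P2 := fun h => h16 ((h.trans hcardI).trans I.card_subgroup_dvd_card)
  have h9 : Fintype.card F ≤ 9 := by
    obtain ⟨g, eg, ng, qg⟩ := hdiag a ha ha1
    obtain ⟨D, hD, hDfix⟩ := exists_fixed_torN h2 h5 ng qg
    have h8 : Nat.card D ≤ 8 := by
      refine le_eight Nat.card_pos.ne' (fun p hp hpd => ?_) fun h => hP16 (h.trans D.card_subgroup_dvd_card)
      by_contra hp2
      haveI := Fact.mk hp
      obtain ⟨d, hd⟩ := exists_prime_orderOf_dvd_card' (G := D) p hpd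
      rw [← Subgroup.orderOf_coe] at hd
      have h1 := hfix a (Or.inl rfl) d (hd ▸ hp.odd_of_ne_two hp2) (eg ▸ hDfix _ d.2)
      rw [h1, orderOf_one] at hd
      exact hp.ne_one hd.symm
    rcases hD with h | h <;> rw [h] at h8 <;> omega
  -- so `x` induces an inner automorphism
  obtain ⟨p, hp⟩ := CharP.exists F
  obtain ⟨n, hpp, hn⟩ := FiniteField.card F p
  haveI : Fact p.Prime := ⟨hpp⟩
  obtain ⟨φ, -, -, hφk⟩ := S2602.result (F := F) n.pos hn (by rw [← hn]; omega)
  let ψ : X →* Cfsg.Out P2 := (QuotientGroup.mk' _).comp Θ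
  have hp3 : 3 ≤ p := by
    have h := card_odd h2
    rw [hn] at h
    rcases hpp.two_le.eq_or_lt with e | e
    · exfalso
      rw [← e] at h
      exact Nat.not_even_iff_odd.2 h (Nat.even_pow.2 ⟨even_two, n.ne_zero⟩)
    · exact e
  have hn2 : (n : ℕ) ≤ 2 := by
    by_contra h
    have h27 : 3 ^ 3 ≤ p ^ (n : ℕ) :=
      (Nat.pow_le_pow_left hp3 3).trans (Nat.pow_le_pow_right hpp.pos (by omega))
    rw [← hn] at h27
    omega
  have hcop : ∀ {d : ℕ}, d ∣ 2 → Nat.Coprime (orderOf x) d := fun hd =>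
    (Nat.coprime_two_right.2 hx).coprime_dvd_right hd
  have hk : ψ x ∈ φ.ker := by
    rw [MonoidHom.mem_ker, ← orderOf_eq_one_iff]
    refine Nat.eq_one_of_dvd_coprimes (hcop (d := (n : ℕ)) ?_) ((orderOf_map_dvd φ _).trans (orderOf_map_dvd ψ x))
      ((orderOf_dvd_natCard _).trans (by rw [Nat.card_congr Multiplicative.toAdd, Nat.card_zmod]))
    have := n.pos
    interval_cases (n : ℕ) <;> norm_num
  have hψ : ψ x = 1 := by
    have h1 : orderOf (ψ x) ∣ 2 := by
      rw [← Subgroup.orderOf_mk _ hk]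
      refine (orderOf_dvd_natCard _).trans ?_
      rw [hφk]
      exact Nat.gcd_dvd_left _ _
    exact orderOf_eq_one_iff.1 (Nat.eq_one_of_dvd_coprimes (hcop dvd_rfl) (orderOf_map_dvd ψ x) h1)
  obtain ⟨m, hm⟩ := (QuotientGroup.eq_one_iff _).1 hψ
  obtain ⟨y, hy⟩ := hin m
  have hfixm : Θ a m = m := fixed_of_commute h5 (hm ▸ (hxa.symm.map Θ))
  have hm1 : m = 1 := hfix a (Or.inl rfl) m (hx.of_dvd_nat (orderOf_dvd_of_pow_eq_one (conj_injective h5 (by
    rw [map_pow, hm, ← map_pow, pow_orderOf_eq_one, map_one, map_one])))) hfixm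
  exact hinj (hm.symm.trans (by rw [hm1, map_one, map_one]))

end Cfsg.Agent.GW.Psl
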