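import Cfsg.Agent.Lib.GW.MaxLayer
import Cfsg.Agent.Lib.GW.LayerFacts
import Cfsg.Agent.Lib.GW.PslFour
import Cfsg.Agent.Lib.Solv.CpQuotient.Basic
import Cfsg.Agent.S2086

/-!
# Layers over a four Sylow subgroup have trivial centre

The layer modulo its centre is some `PSL₂(q)` with `q ≢ ±1 (mod 8)`, so `q ≠ 9` and the multiplier has order `2`;
the centre of the layer has odd order.
-/

set_option autoImplicit false
set_option linter.unusedSectionVars false
set_option linter.style.haveILetI false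

namespace Cfsg.Agent.GW

open Cfsg Cfsg.Agent Cfsg.Agent.GW.Reduced

universe u

variable {G : Type u} [Group G] [Finite G]

open scoped _root_.Classical in
/-- **the centre of a layer is trivial when eight does not divide the group order** -/
theorem Minimal.lay_center (hG : Minimal G) (h8 : ¬ 8 ∣ Nat.card G) {t v : G} {O M T : Subgroup G}
    (hM : M ≠ ⊤) (f : LayerFacts t O M v T) {x : G} (hx : x ∈ lay M)
    (hxc : x ∈ Subgroup.centralizer (lay M : Set G)) : x = 1 := by
  by_cases hE : Cfsg.layer ↥M = ⊥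
  · obtain ⟨y, hy, rfl⟩ := hx
    rw [hE] at hy
    rw [Subgroup.mem_bot.1 hy]
    rfl
  haveI : Fact (Nat.Prime 2) := ⟨Nat.prime_two⟩
  haveI hQn : (Cfsg.oddCore ↥M).Normal := Solv.pPrimeCore_normal 2
  have hodd : Odd (Nat.card (Cfsg.oddCore ↥M)) := Nat.coprime_two_right.1 (Fusion.card_pPrimeCore_coprime 2 ↥M)
  haveI : Group.IsSolvable ↥(Cfsg.oddCore ↥M) := Solv.Partition.odd_solvable hodd
  obtain ⟨L, hLn, hmod, hC⟩ := model_over_core hG hM hE
  haveI := hLn
  haveI := hmod.simple.1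
  set π := QuotientGroup.mk' (Cfsg.oddCore ↥M) with hπ
  set E := Cfsg.layer ↥M with hEdef
  haveI hEn : E.Normal := Local.layer_normal
  have hO : ⁅E, Cfsg.oddCore ↥M⁆ = ⊥ :=
    Solv.layer_commutator_solvable (Solv.pPrimeCore_normal 2).isSubnormal inferInstance
  have hker : ∀ y ∈ E, π y = 1 → ∀ z ∈ E, Commute z y := fun y _ h1 z hz =>
    commutatorElement_eq_one_iff_mul_comm.1 (Subgroup.mem_bot.1
      (hO ▸ Subgroup.commutator_mem_commutator hz ((QuotientGroup.eq_one_iff y).1 h1)))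
  haveI : Group.IsPerfect ↥E := S1247.layer_perfect'
  haveI : Nontrivial ↥E := (Subgroup.nontrivial_iff_ne_bot _).2 hE
  -- the image of the layer is `L`
  haveI hREn : (E.map π).Normal := hEn.map π (QuotientGroup.mk'_surjective _)
  have hLE : L ≤ E.map π := by
    rcases (inferInstance : ((E.map π).subgroupOf L).Normal).eq_bot_or_eq_top with h | h
    · exfalso
      rw [Subgroup.subgroupOf_eq_bot, disjoint_iff] at h
      have hle : E.map π ≤ Subgroup.centralizer (L : Set (↥M ⧸ Cfsg.oddCore ↥M)) :=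
        (Subgroup.commutator_eq_bot_iff_le_centralizer).1 (le_bot_iff.1
          (h ▸ Subgroup.commutator_le_inf (E.map π) L))
      rw [hC, le_bot_iff, Subgroup.map_eq_bot_iff, QuotientGroup.ker_mk'] at hle
      haveI : Group.IsSolvable ↥E :=
        Group.isSolvable_of_isSolvable_injective (Subgroup.inclusion_injective hle)
      exact (Group.IsSolvable.commutator_lt_top_of_nontrivial ↥E).ne Group.IsPerfect.commutator_eq_top
    · exact Subgroup.subgroupOf_eq_top.1 h
  have hEL : E.map π ≤ L := by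
    have hlay : ∀ {y : ↥M}, (y : G) ∈ lay M ↔ y ∈ E := fun {y} => Subgroup.mem_map_iff_mem M.subtype_injective
    have hgen := f.gen ((E ⊓ L.comap π).map M.subtype) (Subgroup.map_mono inf_le_left) (by
      intro g hg
      obtain ⟨e, he, rfl⟩ := hg
      haveI : (E ⊓ L.comap π).Normal := inferInstance
      exact Subgroup.le_normalizer_map M.subtype ⟨e, by rw [Subgroup.normalizer_eq_top_iff.2 inferInstance]; trivial,
        rfl⟩) (fun hle => ?_)
    · rintro _ ⟨e, he, rfl⟩
      obtain ⟨y, hy, hye⟩ := hgen (hlay.2 he)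
      rw [show e = y from Subtype.ext hye.symm]
      exact hy.2
    · haveI : Nontrivial ↥L := inferInstance
      obtain ⟨l, hl⟩ := exists_ne (1 : ↥L)
      refine hl (Subtype.ext (Subgroup.mem_bot.1 (hC ▸ Subgroup.mem_centralizer_iff.2 fun l' hl' => ?_)))
      obtain ⟨e, he, he'⟩ := hLE l.2
      obtain ⟨e', he1, he1'⟩ := hLE hl'
      have hc : e' * e = e * e' := Subtype.ext (Subgroup.mem_centralizer_iff.1
        (hle ⟨e, ⟨he, show π e ∈ L from he'.symm ▸ l.2⟩, rfl⟩) (e' : G) (hlay.2 he1))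
      rw [← he', ← he1', ← map_mul, hc, map_mul]
  -- the map onto `L`
  let φ : ↥E →* ↥L := (π.comp E.subtype).codRestrict L fun e => hEL ⟨e, e.2, rfl⟩
  have hφs : Function.Surjective φ := fun l => by
    obtain ⟨e, he, he'⟩ := hLE l.2
    exact ⟨⟨e, he⟩, Subtype.ext he'⟩
  have hφk : φ.ker = Subgroup.center ↥E := by
    refine le_antisymm (fun e he => Subgroup.mem_center_iff.2 fun z => Subtype.ext
      (hker _ e.2 (congrArg Subtype.val he) _ z.2)) fun e he => Subtype.ext ?_
    show π (e : ↥M) = 1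
    refine Subgroup.mem_bot.1 (hC ▸ Subgroup.mem_centralizer_iff.2 fun l hl => ?_)
    obtain ⟨z, rfl⟩ : ∃ z : ↥E, (φ z : ↥M ⧸ Cfsg.oddCore ↥M) = l := by
      obtain ⟨z, hz⟩ := hφs ⟨l, hl⟩; exact ⟨z, by rw [hz]⟩
    show π z * π e = π e * π z
    rw [← map_mul, ← map_mul]
    exact congrArg π (congrArg Subtype.val (Subgroup.mem_center_iff.1 he z))
  let e₀ : ↥E ⧸ Subgroup.center ↥E ≃* ↥L :=
    (QuotientGroup.quotientMulEquivOfEq hφk.symm).trans (QuotientGroup.quotientKerEquivOfSurjective φ hφs)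
  have hq : IsQuasisimple ↥E := ⟨inferInstance, e₀.isSimpleGroup⟩
  -- eight does not divide `|L|`
  have hdvd : ∀ (S : Type) [Group S], Nonempty (↥L ≃* S) → ¬ 8 ∣ Nat.card S := by
    rintro S _ ⟨i⟩ h
    refine h8 (h.trans ?_)
    rw [← Nat.card_congr (e₀.trans i).toEquiv]
    exact ((Subgroup.card_quotient_dvd_card _).trans (Subgroup.card_subgroup_dvd_card E)).trans
      (Subgroup.card_subgroup_dvd_card M)
  rcases hmod with ⟨F, hF, hFt, hFo, hF3, ⟨i⟩⟩ | ⟨i⟩
  · have h9 : Fintype.card F ≠ 9 := fun h9 => hdvd _ ⟨i⟩ (Psl.eight_dvd_of_square (fun h => by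
      haveI : CharP F 2 := CharTwo.of_one_ne_zero_of_two_eq_zero one_ne_zero h
      obtain ⟨n, -, hn⟩ := FiniteField.card F 2
      rw [h9] at hn
      have : Even (2 ^ (n : ℕ)) := (Nat.even_pow).2 ⟨even_two, n.ne_zero⟩
      rw [← hn] at this
      exact absurd this (by decide)) (m := 3) (by rw [h9]))
    have h4 : Fintype.card F ≠ 4 := fun h4 => by rw [h4] at hFo; exact absurd hFo (by decide)
    have h := Solv.CpQuot.card_center_dvd hq (e₀.trans i) (Cfsg.Agent.S2086.result rfl 2 le_rfl (fun _ => by omega)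
      (by simp [Set.mem_insert_iff]; omega))
    rw [Nat.card_congr Multiplicative.toAdd, Nat.card_zmod] at h
    obtain ⟨y, hy, rfl⟩ := hx
    have hyc : (⟨y, hy⟩ : ↥E) ∈ Subgroup.center ↥E := Subgroup.mem_center_iff.2 fun z => Subtype.ext (Subtype.ext
      (Subgroup.mem_centralizer_iff.1 hxc _ ⟨z, z.2, rfl⟩))
    have h1 : orderOf (y : G) ∣ 2 := by
      refine ((Subgroup.orderOf_dvd_natCard _ hyc).trans h).trans (Nat.gcd_dvd_left _ _) |> fun h => ?_
      rwa [Subgroup.orderOf_mk, ← Subgroup.orderOf_coe] at h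
    exact orderOf_eq_one_iff.1 (Nat.eq_one_of_dvd_coprimes
      ((f.cent_odd.of_dvd_nat (Subgroup.orderOf_dvd_natCard _ (⟨y.2, hxc⟩ : (y : G) ∈ layCent M))).coprime_two_left)
      h1 dvd_rfl)
  · exfalso
    refine hdvd _ i ?_
    rw [nat_card_alternatingGroup, Nat.card_fin]
    decide

end Cfsg.Agent.GW
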