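import Cfsg.Agent.Lib.GW.MaxBasic

/-!
# The interface: layers of maximal subgroups over an involution

What the case of a maximal centraliser uses about a maximal subgroup with nontrivial layer in a group with dihedral
Sylow `2`-subgroups all of whose proper subgroups are known (the layer is a cover of `L₂(r)` or of `A₇`).
-/

set_option autoImplicit false

namespace Cfsg.Agent.GW

open Cfsg Cfsg.Agent
open scoped commutatorElement

universe w

variable {G : Type w} [Group G]

/-- the layer of a subgroup, as a subgroup of the whole group -/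
def lay (N : Subgroup G) : Subgroup G := (Cfsg.layer ↥N).map N.subtype

/-- the centraliser of the layer in the subgroup -/
def layCent (N : Subgroup G) : Subgroup G := N ⊓ Subgroup.centralizer (lay N : Set G)

/-- the facts about the layer `L` of `N` relative to the involution `t ∈ N` and the core `O` of `C(t)`: `v ∈ L` is a
reflection and `T` the odd torus of `C_L(t)` -/
structure LayerFacts (t : G) (O N : Subgroup G) (v : G) (T : Subgroup G) : Prop where
  cent_odd : Odd (Nat.card ↥(layCent N))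
  gen : ∀ K : Subgroup G, K ≤ lay N → lay N ≤ Subgroup.normalizer (K : Set G) →
    ¬ K ≤ Subgroup.centralizer (lay N : Set G) → lay N ≤ K
  comm : ∀ a ∈ N, ∀ b ∈ N, ⁅a, b⁆ ∈ lay N ⊔ layCent N
  v_mem : v ∈ lay N
  v_sq : v * v = 1
  v_ne : v ≠ 1
  v_ne_t : v ≠ t
  v_comm : Commute v t
  fixed : ∀ p : ℕ, p.Prime → p ≠ 2 → ∀ A : Subgroup G, A ≤ N ⊓ Subgroup.centralizer ({t} : Set G) →
    IsPGroup p ↥A → N ⊓ Subgroup.centralizer ({t} : Set G) ≤ Subgroup.normalizer (A : Set G) →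
    A ⊓ Subgroup.centralizer ({v} : Set G) ≤ Subgroup.centralizer (lay N : Set G)
  T_le : T ≤ lay N ⊓ O
  T_cyclic : IsCyclic ↥T
  T_inv : ∀ x ∈ lay N ⊓ O, v * x * v⁻¹ = x⁻¹ → x ∈ T
  T_disj : T ⊓ Subgroup.centralizer (lay N : Set G) = ⊥
  torus : T = ⊥ ∨
    (∃ z ∈ lay N, z * z = 1 ∧ z ≠ 1 ∧ z ≠ t ∧ Commute z t ∧ ∀ x ∈ T, Commute z x) ∨
    ((N ⊓ Subgroup.centralizer ({t} : Set G) ≤ Subgroup.normalizer (T : Set G) ∧
        ∀ l ∈ lay N ⊓ O, ∃ r ∈ T, r⁻¹ * l ∈ Subgroup.centralizer (lay N : Set G)) ∧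
      (∀ z ∈ N, z * z = 1 → z ≠ 1 → z ≠ t → Commute z t → ∀ x ∈ T, z * x * z⁻¹ = x⁻¹) ∧
      (layCent N ≤ Subgroup.centralizer ({t} : Set G) → ∀ T' : Subgroup G, T' ≤ lay N ⊓ O →
        ¬ T' ≤ Subgroup.centralizer (lay N : Set G) → N ⊓ Subgroup.normalizer (T' : Set G) ≤ Subgroup.centralizer ({t} : Set G)) ∧
      (∀ P : Sylow 2 G, (P : Subgroup G) ≤ N ⊓ Subgroup.centralizer ({t} : Set G) →
        (max (Nat.card ↥(P : Subgroup G) / 2) 4 * Nat.card ↥T - 1) *
            (max (Nat.card ↥(P : Subgroup G) / 2) 4 * Nat.card ↥T - 2) ≤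
          2 * (N ⊓ Subgroup.centralizer ({t} : Set G)).relIndex N))

/-- every maximal subgroup through `t` with nontrivial layer has these facts -/
def MaxLayer (t : G) (O : Subgroup G) : Prop :=
  ∀ N : Subgroup G, IsCoatom N → t ∈ N → Cfsg.layer ↥N ≠ ⊥ →
    ∃ (v : G) (T : Subgroup G), LayerFacts t O N v T

/-- every noncentral involution of `C(t)` spans with `t` a four group permuted by an element -/
def Rotates (t : G) : Prop :=
  ∀ u : G, u * u = 1 → u ≠ 1 → u ≠ t → Commute t u → ∃ ρ : G, ρ * t * ρ⁻¹ = u ∧ ρ * u * ρ⁻¹ = t * u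

end Cfsg.Agent.GW
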