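import Cfsg.Agent.Lib.GW.Centralizer
import Cfsg.Agent.Lib.GW.MaxLayer

/-!
# The inputs of the case of a maximal centraliser, from a frame of the minimal counterexample
-/

set_option autoImplicit false
set_option linter.style.haveILetI false
set_option linter.unusedSectionVars false

namespace Cfsg.Agent.GW

open Cfsg Cfsg.Agent DihedralGroup

universe u

variable {G : Type u} [Group G] [Finite G]

namespace Frame

variable (Φ : Frame G)

/-- `O` holds every element of odd order centralising `t`. -/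
theorem mem_O_of_odd {x : G} (hx : Commute x Φ.t) (hodd : Odd (orderOf x)) : x ∈ Φ.O := by
  haveI : Fact (Nat.Prime 2) := ⟨Nat.prime_two⟩
  haveI : NeZero (2 ^ Φ.k) := ⟨by positivity⟩
  have hxC : x ∈ Subgroup.centralizer ({Φ.t} : Set G) := Subgroup.mem_centralizer_singleton_iff.2 hx.eq
  have hn : (Φ.S : Subgroup G) ≤ Subgroup.normalizer (Φ.O : Set G) := fun s hs => by
    rw [Subgroup.mem_normalizer_iff]
    refine fun y => ⟨fun hy => Φ.O_norm s (Φ.S_le hs) y hy, fun hy => ?_⟩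
    have h := Φ.O_norm s⁻¹ (inv_mem (Φ.S_le hs)) _ hy
    rwa [show s⁻¹ * (s * y * s⁻¹) * s⁻¹⁻¹ = y by group] at h
  rw [← Φ.O_sup, ← SetLike.mem_coe,
    Subgroup.coe_mul_of_right_le_normalizer_left Φ.O (Φ.S : Subgroup G) hn] at hxC
  obtain ⟨y, hy, s, hs, rfl⟩ := hxC
  -- modulo `O` the element is `s`, a two-element
  have hpow : ∀ j : ℕ, s ^ j * ((y * s) ^ j)⁻¹ ∈ Φ.O := by
    intro j
    induction j with
    | zero => simp
    | succ j ih =>
      have h1 : s * (s ^ j * ((y * s) ^ j)⁻¹) * s⁻¹ ∈ Φ.O :=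
        (Subgroup.mem_normalizer_iff.1 (hn hs) _).1 ih
      rw [show s ^ (j + 1) * ((y * s) ^ (j + 1))⁻¹ = s * (s ^ j * ((y * s) ^ j)⁻¹) * s⁻¹ * y⁻¹ by
        rw [pow_succ' s, pow_succ' (y * s)]; simp only [mul_assoc, mul_inv_rev]]
      exact mul_mem h1 (inv_mem hy)
  have h := hpow (orderOf (y * s))
  rw [pow_orderOf_eq_one, inv_one, mul_one] at h
  obtain ⟨a, ha⟩ := Φ.S.isPGroup' (⟨s, hs⟩ : (Φ.S : Subgroup G))
  have ha' : s ^ 2 ^ a = 1 := congrArg Subtype.val ha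
  have hcop : Nat.Coprime (orderOf (y * s)) (orderOf s) := by
    obtain ⟨b, -, hb⟩ := (Nat.dvd_prime_pow Nat.prime_two).1 (orderOf_dvd_of_pow_eq_one ha')
    rw [hb]
    exact Nat.Coprime.pow_right b (Nat.coprime_two_right.2 hodd)
  have hsO : s ∈ Φ.O := by
    obtain ⟨m, hm⟩ := exists_pow_eq_self_of_coprime hcop
    rw [← hm]
    exact pow_mem h m
  exact mul_mem hy hsO

end Frame

namespace Minimal

variable (hG : Minimal G)
include hG

/-- The hypotheses of the maximal centraliser case. -/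
theorem maxCent (Φ : Frame G) [IsSimpleGroup G]
    (hmax : IsCoatom (Subgroup.centralizer ({Φ.t} : Set G)))
    (hsolv : Group.IsSolvable (Subgroup.centralizer ({Φ.t} : Set G))) (hO : Φ.O ≠ ⊥) : MaxCent Φ.t Φ.O where
  sq := Φ.tt
  ne := Φ.t_ne
  max := hmax
  solv := hsolv
  core_le := Φ.O_le
  core_odd := Φ.O_odd
  core_norm := fun c hc => by
    rw [Subgroup.mem_normalizer_iff]
    refine fun y => ⟨fun hy => Φ.O_norm c hc y hy, fun hy => ?_⟩
    have h := Φ.O_norm c⁻¹ (inv_mem hc) _ hy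
    rwa [show c⁻¹ * (c * y * c⁻¹) * c⁻¹⁻¹ = y by group] at h
  core := fun _ hx hodd => Φ.mem_O_of_odd hx hodd
  core_ne := hO

/-- Every noncentral involution of `C(t)` spans with `t` a four group permuted by an element. -/
theorem rotates (Φ : Frame G) : Rotates Φ.t := by
  haveI : Fact (Nat.Prime 2) := ⟨Nat.prime_two⟩
  haveI : NeZero (2 ^ Φ.k) := ⟨by positivity⟩
  intro u huu hu1 hut hc
  set C := Subgroup.centralizer ({Φ.t} : Set G) with hC
  have huC : u ∈ C := Subgroup.mem_centralizer_singleton_iff.2 hc.eq.symm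
  obtain ⟨Q, hQ⟩ := (IsPGroup.of_card (p := 2) (n := 1) (G := Subgroup.zpowers (⟨u, huC⟩ : C))
    (by rw [Nat.card_zpowers, Subgroup.orderOf_mk, orderOf_eq_prime (by rw [pow_two, huu]) hu1, pow_one])).exists_le_sylow
  obtain ⟨c, hcQ⟩ := MulAction.exists_smul_eq C Q (Φ.S.subtype Φ.S_le)
  have hmem : c * ⟨u, huC⟩ * c⁻¹ ∈ ((Φ.S.subtype Φ.S_le : Sylow 2 C) : Subgroup C) := by
    rw [← hcQ, Sylow.coe_subgroup_smul]
    exact ⟨_, hQ (Subgroup.mem_zpowers _), rfl⟩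
  have hS : (c : G) * u * (c : G)⁻¹ ∈ (Φ.S : Subgroup G) := Subgroup.mem_subgroupOf.1 hmem
  rw [← Φ.hom_range] at hS
  obtain ⟨d, hd⟩ := hS
  have hct : (c : G)⁻¹ * Φ.t * (c : G) = Φ.t := by
    rw [mul_assoc, ← Subgroup.mem_centralizer_singleton_iff.1 c.2, inv_mul_cancel_left]
  have hd2 : d * d = 1 := Φ.hom_inj (by
    rw [map_mul, hd, map_one]
    calc (c : G) * u * (c : G)⁻¹ * ((c : G) * u * (c : G)⁻¹) = (c : G) * (u * u) * (c : G)⁻¹ := by group
      _ = 1 := by rw [huu]; group)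
  obtain ⟨i, rfl⟩ : ∃ i, d = sr i := by
    rcases d with j | i
    · exfalso
      rw [r_mul_r, DihedralGroup.one_def] at hd2
      have hu : u = (c : G)⁻¹ * Φ.hom (r j) * (c : G) := by rw [hd]; group
      rcases Fusion.zmod_double_eq_zero (DihedralGroup.r.inj hd2) with rfl | rfl
      · refine hu1 ?_
        rw [hu, ← DihedralGroup.one_def, map_one]
        group
      · exact hut (by rw [hu, Φ.hom_half, hct])
    · exact ⟨i, rfl⟩
  rw [Φ.hom_sr] at hd
  obtain ⟨ρ, h1, h2⟩ := hG.exists_rho Φ i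
  refine ⟨(c : G)⁻¹ * ρ * c, ?_, ?_⟩
  · rw [show (c : G)⁻¹ * ρ * c * Φ.t * ((c : G)⁻¹ * ρ * c)⁻¹ =
        (c : G)⁻¹ * (ρ * ((c : G) * Φ.t * (c : G)⁻¹) * ρ⁻¹) * c by group,
      show (c : G) * Φ.t * (c : G)⁻¹ = Φ.t by rw [Subgroup.mem_centralizer_singleton_iff.1 c.2, mul_inv_cancel_right],
      h1, hd]
    group
  · rw [show (c : G)⁻¹ * ρ * c * u * ((c : G)⁻¹ * ρ * c)⁻¹ =
        (c : G)⁻¹ * (ρ * ((c : G) * u * (c : G)⁻¹) * ρ⁻¹) * c by group, ← hd, h2,
      show (c : G)⁻¹ * (Φ.t * Φ.refl i) * c = ((c : G)⁻¹ * Φ.t * c) * ((c : G)⁻¹ * Φ.refl i * c) by group, hct, hd]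
    group

end Minimal

end Cfsg.Agent.GW
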