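import Cfsg.Agent.Lib.GW.MaxCount
import Cfsg.Agent.Lib.GW.MaxOrder
import Cfsg.Agent.Lib.GW.MaxInputs

/-!
# No layer over a maximal centraliser

`MaxCent.no_layer_of_bound` with the order formula `index_bound` plugged in.
-/

set_option autoImplicit false

namespace Cfsg.Agent.GW

open Cfsg Cfsg.Agent

universe w

variable {G : Type w} [Group G] [Finite G] [IsSimpleGroup G] {t : G} {O : Subgroup G}

/-- **no maximal subgroup with layer over the odd cores** -/
theorem MaxCent.no_layer (hG : ¬ IsMulCommutative G) (h : MaxCent t O) (hrot : Rotates t) (hlay : MaxLayer t O)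
    (P : Sylow 2 G) (hOP : O ⊔ (P : Subgroup G) = Subgroup.centralizer ({t} : Set G)) {n : ℕ} (hn : 2 ≤ n)
    (ι : DihedralGroup n ≃* (P : Subgroup G)) (hone : ∀ a b : G, orderOf a = 2 → orderOf b = 2 → IsConj a b)
    (htP : t ∈ (P : Subgroup G)) : NoLayer t :=
  h.no_layer_of_bound hG hrot hlay P hOP fun {_} hv hv1 hvt hvc {_ _} ha hb =>
    index_bound hG P hn ι hone h.sq h.ne htP
      (fun s hs => Subgroup.mem_centralizer_singleton_iff.1 (hOP.le (Subgroup.mem_sup_right hs))) O h.core_le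
      h.core_odd h.core_norm hOP hv hv1 hvt hvc ha hb

/-- the same in a frame of the minimal counterexample -/
theorem Minimal.noLayer {G : Type w} [Group G] [Finite G] [IsSimpleGroup G] (hG : Minimal G) (Φ : Frame G)
    (h : MaxCent Φ.t Φ.O) (hrot : Rotates Φ.t) (hlay : MaxLayer Φ.t Φ.O) : NoLayer Φ.t :=
  h.no_layer hG.nonab hrot hlay Φ.S Φ.O_sup (n := 2 ^ Φ.k) (by simpa using Nat.pow_le_pow_right two_pos Φ.hk) Φ.ι
    hG.oneClass Φ.t_mem

end Cfsg.Agent.GW
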