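import Cfsg.Agent.Lib.GW.FourParity
import Cfsg.Agent.Lib.Fusion.BurnsideFusion

/-!
# The cycling element and the indices of the blocks above a linear character
-/

set_option autoImplicit false
set_option linter.unusedSectionVars false

open scoped ComplexConjugate
open Cfsg

namespace Cfsg.Agent.GW

universe u

variable {G : Type u} [Group G] [Fintype G] {M : Ideal AlgInt}
  {P : Sylow 2 G} {t v : G}
  {π : (Subgroup.centralizer ((P : Subgroup G) : Set G) →* ℂˣ) → (Subgroup.centralizer ({t} : Set G) →* ℂˣ)}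
  {θ : Subgroup.centralizer ((P : Subgroup G) : Set G) →* ℂˣ}

local notation "W" => Subgroup.centralizer ((P : Subgroup G) : Set G)
set_option quotPrecheck false in
local notation "C" => Subgroup.centralizer ({t} : Set G)

/-- With one class of involutions some element of the normalizer cycles the involutions of a four Sylow group. -/
theorem exists_cycle (hP : Nat.card P = 4) (hexp : ∀ x : P, x * x = 1)
    (hone : ∀ a b : G, orderOf a = 2 → orderOf b = 2 → IsConj a b) (ht : t ∈ (P : Subgroup G)) (ht1 : t ≠ 1) :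
    ∃ v ∈ Subgroup.normalizer ((P : Subgroup G) : Set G), v * t * v⁻¹ ≠ t ∧
      v * (v * t * v⁻¹) * v⁻¹ = t * (v * t * v⁻¹) ∧ v * (t * (v * t * v⁻¹)) * v⁻¹ = t := by
  classical
  haveI : Fact (Nat.Prime 2) := ⟨Nat.prime_two⟩
  have hab := Char.comm_of_exp_two (P := (P : Subgroup G)) hexp
  have hord : ∀ x ∈ (P : Subgroup G), x ≠ 1 → orderOf x = 2 := fun x hx h1 =>
    orderOf_eq_prime (by rw [pow_two]; exact congrArg Subtype.val (hexp ⟨x, hx⟩)) h1
  have hsq : ∀ x ∈ (P : Subgroup G), x * x = 1 := fun x hx => congrArg Subtype.val (hexp ⟨x, hx⟩)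
  obtain ⟨⟨u, hu⟩, hu'⟩ : ∃ x : (P : Subgroup G), x ∉ ({1, ⟨t, ht⟩} : Finset (P : Subgroup G)) := by
    by_contra! h
    have h1 := Finset.card_le_card (fun x _ => h x : (Finset.univ : Finset (P : Subgroup G)) ⊆ _)
    rw [Finset.card_univ, ← Nat.card_eq_fintype_card, show Nat.card (P : Subgroup G) = 4 from hP] at h1
    have := Finset.card_le_two (a := (1 : (P : Subgroup G))) (b := ⟨t, ht⟩)
    omega
  simp only [Finset.mem_insert, Finset.mem_singleton, not_or, Subtype.ext_iff, OneMemClass.coe_one] at hu'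
  obtain ⟨hu1, hut⟩ := hu'
  have hab' : (P : Subgroup G) ≤ Subgroup.centralizer ((P : Subgroup G) : Set G) := fun x hx =>
    Subgroup.mem_centralizer_iff.2 fun y hy => hab y hy x hx
  obtain ⟨g, hg⟩ := isConj_iff.1 (hone t u (hord t ht ht1) (hord u hu hu1))
  obtain ⟨n, hn, hne⟩ := Fusion.fusion_of_abelian (Fusion.sylIn_top P) hab' ht (g := g) (hg ▸ hu)
  rw [hg] at hne
  have hnP : ∀ {x : G}, x ∈ (P : Subgroup G) → n * x * n⁻¹ ∈ (P : Subgroup G) := fun {x} hx =>
    (Subgroup.mem_normalizer_iff.1 hn x).1 hx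
  have h4 : ∀ x ∈ (P : Subgroup G), x = 1 ∨ x = t ∨ x = u ∨ x = t * u := by
    have h3 : t * u ≠ 1 := fun h => hut (by
      rw [← inv_eq_of_mul_eq_one_right h, inv_eq_of_mul_eq_one_right (hsq t ht)])
    have e : t * u ≠ t := fun h => hu1 (mul_eq_left.mp h)
    have e' : t * u ≠ u := fun h => ht1 (mul_eq_right.mp h)
    intro x hx
    by_contra! h
    obtain ⟨a, b, c, d⟩ := h
    have hle := Finset.card_le_univ ({1, ⟨t, ht⟩, ⟨u, hu⟩, ⟨t * u, mul_mem ht hu⟩, ⟨x, hx⟩} :
      Finset (P : Subgroup G))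
    rw [← Nat.card_eq_fintype_card, show Nat.card (P : Subgroup G) = 4 from hP] at hle
    rw [Finset.card_insert_of_notMem (by simp [Subtype.ext_iff, Ne.symm ht1, Ne.symm hu1, Ne.symm h3, Ne.symm a]),
      Finset.card_insert_of_notMem (by simp [Subtype.ext_iff, Ne.symm hut, Ne.symm e, Ne.symm b]),
      Finset.card_insert_of_notMem (by simp [Subtype.ext_iff, Ne.symm e', Ne.symm c]),
      Finset.card_pair (by simp [Subtype.ext_iff, Ne.symm d])] at hle
    omega
  have hnu : n * u * n⁻¹ = t * u := by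
    rcases h4 _ (hnP hu) with h | h | h | h
    · exact absurd (conj_eq_one_iff.1 h) hu1
    · exfalso
      -- `n` would interchange `t` and `u`, and an odd power of it lies in `P`
      obtain ⟨j, m, hm, hjm⟩ := Nat.exists_eq_two_pow_mul_odd (orderOf_pos n).ne'
      have hnm : n ^ m ∈ (P : Subgroup G) := by
        obtain ⟨i, -, hi⟩ := (Nat.dvd_prime_pow Nat.prime_two).1
          (show orderOf (n ^ m) ∣ 2 ^ j from orderOf_dvd_of_pow_eq_one (by
            rw [← pow_mul, mul_comm, ← hjm, pow_orderOf_eq_one]))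
        have hp : IsPGroup 2 (Subgroup.zpowers (n ^ m)) :=
          IsPGroup.of_card (n := i) (by rw [Nat.card_zpowers, hi])
        have hle : Subgroup.zpowers (n ^ m) ≤ Subgroup.normalizer ((P : Subgroup G) : Set G) :=
          Subgroup.zpowers_le.2 (pow_mem hn m)
        have := P.is_maximal' (hp.to_sup_of_normal_right' P.isPGroup' hle) le_sup_right
        exact (SetLike.ext_iff.1 this _).1 (Subgroup.mem_sup_left (Subgroup.mem_zpowers _))
      obtain ⟨i, rfl⟩ := hm
      have hodd : ∀ i : ℕ, n ^ (2 * i + 1) * t * (n ^ (2 * i + 1))⁻¹ = u := by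
        intro i
        induction i with
        | zero => simpa using hne
        | succ i ih =>
          rw [show 2 * (i + 1) + 1 = 2 + (2 * i + 1) by ring, pow_add,
            show n ^ 2 * n ^ (2 * i + 1) * t * (n ^ 2 * n ^ (2 * i + 1))⁻¹ =
              n * (n * (n ^ (2 * i + 1) * t * (n ^ (2 * i + 1))⁻¹) * n⁻¹) * n⁻¹ by rw [sq]; group, ih, h, hne]
      have := hodd i
      rw [hab _ hnm t ht, mul_inv_cancel_right] at this
      exact hut this.symm
    · exact absurd (mul_left_cancel (mul_right_cancel (h.trans hne.symm))) hut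
    · exact h
  refine ⟨n, hn, by rw [hne]; exact hut, by rw [hne]; exact hnu, ?_⟩
  rw [hne, show n * (t * u) * n⁻¹ = n * t * n⁻¹ * (n * u * n⁻¹) by group, hne, hnu, hab t ht u hu, ← mul_assoc,
    hsq u hu, one_mul]

theorem LinData.cube (D : LinData P t v π θ) : v ^ 3 ∈ W := by
  have h1 : ∀ x : G, v ^ 3 * x * (v ^ 3)⁻¹ = v * (v * (v * x * v⁻¹) * v⁻¹) * v⁻¹ := fun x => by
    simp [pow_succ, pow_zero, mul_assoc]
  have ht : v ^ 3 * t * (v ^ 3)⁻¹ = t := by rw [h1, D.cyc, D.back]
  have hu : v ^ 3 * (v * t * v⁻¹) * (v ^ 3)⁻¹ = v * t * v⁻¹ := by rw [h1, D.cyc, D.back]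
  exact D.mem_W (Subgroup.mem_centralizer_singleton_iff.mpr (mul_inv_eq_iff_eq_mul.mp ht))
    (mul_inv_eq_iff_eq_mul.mp hu)

theorem linTheta_three (D : LinData P t v π θ) : linTheta D 3 = linTheta D 0 := by
  refine MonoidHom.ext fun w => ?_
  rw [linTheta_zero, linTheta_apply,
    show (conjV D ^ 3) w = ⟨v ^ 3, D.cube⟩ * w * (⟨v ^ 3, D.cube⟩ : W)⁻¹ from
      Subtype.ext (by rw [conjV_pow_apply]; rfl),
    map_mul, map_mul, map_inv, mul_right_comm, mul_inv_cancel, one_mul]

theorem linTheta_succ_congr (D : LinData P t v π θ) {i j : ℕ} (h : linTheta D i = linTheta D j) :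
    linTheta D (i + 1) = linTheta D (j + 1) :=
  MonoidHom.ext fun w => by rw [linTheta_conj, linTheta_conj, h]

theorem linTheta_pred_congr (D : LinData P t v π θ) {i j : ℕ} (h : linTheta D (i + 1) = linTheta D (j + 1)) :
    linTheta D i = linTheta D j :=
  MonoidHom.ext fun w => by
    have := DFunLike.congr_fun h ((conjV D)⁻¹ w)
    rwa [linTheta_conj, linTheta_conj, MulAut.apply_inv_self] at this

theorem linTheta_fixed (D : LinData P t v π θ) (h : linTheta D 1 = θ) (j : ℕ) : linTheta D j = θ := by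
  induction j with
  | zero => exact linTheta_zero D
  | succ j ih =>
    exact (linTheta_succ_congr D (ih.trans (linTheta_zero D).symm)).trans h

theorem sectionBlock_congr (D : LinData P t v π θ) {i j : ℕ} (h : linTheta D i = linTheta D j) :
    sectionBlock M D i = sectionBlock M D j := by simp only [sectionBlock, linPull, h]

open scoped Classical in
/-- The indices: one if `θ` is fixed, three otherwise. -/
theorem exists_reps (hM : IsPModular 2 M) (D : LinData P t v π θ) :
    ∃ B, (linTheta D 1 = θ ∧ Reps M D B {0}) ∨ (linTheta D 1 ≠ θ ∧ Reps M D B {0, 1, 2}) := by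
  obtain ⟨B, hB, hind, hloc⟩ := exists_common_block hM D
  obtain ⟨f, hf, hfix⟩ := induced_at_t hM D hloc
  refine ⟨B, ?_⟩
  by_cases h : linTheta D 1 = θ
  · refine Or.inl ⟨h, ⟨hB, hind, fun b hb => ⟨0, by simp, hfix h b _ hb (hind 0)⟩, ?_⟩⟩
    intro i hi j hj _
    rw [Finset.mem_singleton] at hi hj
    rw [hi, hj]
  · refine Or.inr ⟨h, ?_⟩
    have h01 : linTheta D 0 ≠ linTheta D 1 := fun e => h (by rw [← e, linTheta_zero])
    have h12 : linTheta D 1 ≠ linTheta D 2 := fun e => h01 (linTheta_pred_congr D e)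
    have h02 : linTheta D 0 ≠ linTheta D 2 := fun e => h01 (by
      rw [← linTheta_three D]; exact (linTheta_succ_congr D e).symm)
    have hinj : ∀ i ∈ ({0, 1, 2} : Finset ℕ), ∀ j ∈ ({0, 1, 2} : Finset ℕ),
        sectionBlock M D i = sectionBlock M D j → i = j := by
      intro i hi j hj e
      have e' := theta_eq_of_block hM D e
      simp only [Finset.mem_insert, Finset.mem_singleton] at hi hj
      rcases hi with rfl | rfl | rfl <;> rcases hj with rfl | rfl | rfl <;>
        first
          | rfl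
          | exact absurd e' h01 | exact absurd e'.symm h01 | exact absurd e' h12 | exact absurd e'.symm h12
          | exact absurd e' h02 | exact absurd e'.symm h02
    refine ⟨hB, hind, fun b hb => ?_, hinj⟩
    set T := ({0, 1, 2} : Finset ℕ).image (sectionBlock M D) with hT
    set S := ({t, v * t * v⁻¹, t * (v * t * v⁻¹)} : Finset G).image f with hS
    have hmem : ∀ b, IsInducedBlock M C b B → b ∈ S := fun b hb => by
      obtain ⟨z, hz, hz1, rfl⟩ := hf b hb
      refine Finset.mem_image_of_mem f ?_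
      rcases D.mem_cases hz with rfl | rfl | rfl | rfl
      · exact absurd rfl hz1
      all_goals simp
    have heq : T = S := by
      refine Finset.eq_of_subset_of_card_le (fun b hb => ?_) ?_
      · obtain ⟨j, -, rfl⟩ := Finset.mem_image.1 hb
        exact hmem _ (hind j)
      · rw [hT, Finset.card_image_of_injOn fun i hi j hj => hinj i hi j hj]
        exact Finset.card_image_le.trans Finset.card_le_three
    obtain ⟨j, hj, e⟩ := Finset.mem_image.1 (heq ▸ hmem b hb : b ∈ T)
    exact ⟨j, hj, e.symm⟩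

end Cfsg.Agent.GW
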