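import Cfsg.Agent.Lib.GW.MaxBasic
import Cfsg.Agent.Lib.GW.Meet
import Cfsg.Agent.Lib.Solv.Coprime
import Cfsg.Agent.Lib.Local.CentralizerTrick
import Cfsg.Agent.Lib.Fusion.SolvableBalance

/-!
# A maximal centraliser: an involution centralising a Sylow subgroup of the core

If `y ≠ 1` is a `q`-element of `O` centralised by the reflection `u` and `C(y) ≤ C(t)`, a rotation carries `y` to an
element whose centraliser lies in `C(u)`; so `u` centralises a Sylow `q`-subgroup of `O` and lies in `O_{q'}(C(t))`.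
-/

set_option autoImplicit false
set_option linter.unusedSectionVars false
set_option linter.style.haveILetI false

namespace Cfsg.Agent.GW

open Cfsg Cfsg.Agent
open scoped commutatorElement

universe w

variable {G : Type w} [Group G] [Finite G] [IsSimpleGroup G] {t : G} {O : Subgroup G}

theorem MaxCent.core_commute (h : MaxCent t O) {x : G} (hx : x ∈ O) : Commute x t :=
  Subgroup.mem_centralizer_singleton_iff.1 (h.core_le hx)

theorem MaxCent.core_orderOf (h : MaxCent t O) {x : G} (hx : x ∈ O) : Odd (orderOf x) :=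
  h.core_odd.of_dvd_nat (by rw [← Subgroup.orderOf_mk x hx]; exact orderOf_dvd_natCard _)

theorem MaxCent.sub_core (h : MaxCent t O) {q : ℕ} (hq : q.Prime) (hq2 : q ≠ 2) {T : Subgroup G}
    (hT : IsPGroup q ↥T) (hTC : T ≤ Subgroup.centralizer ({t} : Set G)) : T ≤ O := fun x hx => by
  refine h.core x (Subgroup.mem_centralizer_singleton_iff.1 (hTC hx)) ?_
  obtain ⟨i, hi⟩ := hT ⟨x, hx⟩
  exact ((hq.odd_of_ne_two hq2).pow).of_dvd_nat (orderOf_dvd_of_pow_eq_one (congrArg Subtype.val hi))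

theorem MaxCent.fq_odd_le_core (h : MaxCent t O) {q : ℕ} (hq : q.Prime) (hq2 : q ≠ 2) :
    fq q (Subgroup.centralizer ({t} : Set G)) ≤ O :=
  haveI := Fact.mk hq
  h.sub_core hq hq2 (fq_isPGroup q _) (fq_le q _)

/-- A Sylow subgroup of `O` is one of `C(t)`. -/
theorem MaxCent.sylIn (h : MaxCent t O) {q : ℕ} [hq : Fact q.Prime] (hq2 : q ≠ 2) {Q : Subgroup G}
    (hQ : Solv.IsSylIn q Q O) : Solv.IsSylIn q Q (Subgroup.centralizer ({t} : Set G)) := by
  obtain ⟨T, hT⟩ := Solv.exists_isSylIn q (Subgroup.centralizer ({t} : Set G))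
  have hTO := h.sub_core hq.out hq2 hT.isPGroup hT.1
  refine ⟨hQ.1.trans h.core_le, Nat.dvd_antisymm ?_ ?_⟩
  · obtain ⟨k, hk⟩ := IsPGroup.iff_card.1 hQ.isPGroup
    rw [hk]
    refine pow_dvd_pow q ((hq.out.pow_dvd_iff_le_factorization Nat.card_pos.ne').1 ?_)
    exact hk ▸ Subgroup.card_dvd_of_le (hQ.1.trans h.core_le)
  · rw [hQ.2, ← hT.2]
    obtain ⟨k, hk⟩ := IsPGroup.iff_card.1 hT.isPGroup
    rw [hk]
    exact pow_dvd_pow q ((hq.out.pow_dvd_iff_le_factorization Nat.card_pos.ne').1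
      (hk ▸ Subgroup.card_dvd_of_le hTO))

/-- an element of odd order normal to the conjugation by `u` in `C(t)` -/
theorem MaxCent.core_conj (h : MaxCent t O) {u x : G} (htu : Commute t u) (hx : x ∈ O) : u * x * u⁻¹ ∈ O :=
  (Subgroup.mem_normalizer_iff.1 (h.core_norm (Subgroup.mem_centralizer_singleton_iff.2 htu.eq.symm)) x).1 hx

theorem MaxCent.zpowers_norm (h : MaxCent t O) {u : G} (htu : Commute t u) :
    Subgroup.zpowers u ≤ Subgroup.normalizer (O : Set G) :=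
  Subgroup.zpowers_le.2 (h.core_norm (Subgroup.mem_centralizer_singleton_iff.2 htu.eq.symm))

theorem MaxCent.coprime_zpowers (h : MaxCent t O) {u : G} (hu : u * u = 1) :
    (Nat.card ↥(Subgroup.zpowers u)).Coprime (Nat.card ↥O) := by
  rw [Nat.card_zpowers]
  exact Nat.Coprime.coprime_dvd_left (orderOf_dvd_of_pow_eq_one (by rw [pow_two, hu]))
    h.core_odd.coprime_two_left

theorem MaxCent.core_solvable (h : MaxCent t O) : Group.IsSolvable ↥O :=
  Solv.isSolvable_of_le h.core_le h.solv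

/-- The reflection does not centralise all the odd cores of `C(t)`. -/
theorem MaxCent.cores_not_fixed (h : MaxCent t O) {u ρ : G} (hu : u * u = 1) (htu : Commute t u) (hut : u ≠ t)
    (hρt : ρ * t * ρ⁻¹ = u) (hρu : ρ * u * ρ⁻¹ = t * u)
    (hfix : ∀ s : ℕ, s.Prime → s ≠ 2 → ∀ x ∈ fq s (Subgroup.centralizer ({t} : Set G)), Commute x u) : False := by
  obtain ⟨hρtu, -, -, -⟩ := rho_sq hu htu hρt hρu
  obtain ⟨C, hC⟩ : ∃ C, C = Subgroup.centralizer ({t} : Set G) := ⟨_, rfl⟩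
  -- `u` centralises `O`
  have hOu : ∀ z ∈ O, Commute z u := by
    intro z hz
    obtain ⟨e, he⟩ : ∃ e, e = u * z * u⁻¹ * z⁻¹ := ⟨_, rfl⟩
    have heO : e ∈ O := he ▸ mul_mem (h.core_conj htu hz) (inv_mem hz)
    have heC : e ∈ C := hC ▸ h.core_le heO
    have hui : u⁻¹ = u := inv_eq_of_mul_eq_one_right hu
    have hinv : u * e * u⁻¹ = e⁻¹ := by
      calc u * e * u⁻¹ = (u * u) * z * u⁻¹ * z⁻¹ * u⁻¹ := by rw [he]; group
        _ = z * u * z⁻¹ * u⁻¹ := by rw [hu, one_mul, hui]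
        _ = e⁻¹ := by rw [he]; group
    have heF : (⟨e, heC⟩ : ↥C) ∈ Cfsg.fittingSubgroup ↥C := by
      refine Solv.centralizer_fitting_le (hC ▸ h.solv) (Subgroup.mem_centralizer_iff.2 fun y hy => ?_)
      refine (Subgroup.mem_centralizer_singleton_iff.1
        ((?_ : Cfsg.fittingSubgroup ↥C ≤ Subgroup.centralizer ({(⟨e, heC⟩ : ↥C)} : Set ↥C)) hy))
      rw [Solv.fitting_eq_iSup_pCore, iSup_le_iff]
      intro p y hy
      refine Subgroup.mem_centralizer_singleton_iff.2 (Subtype.ext ?_)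
      show (y : G) * e = e * y
      haveI := Fact.mk p.2
      by_cases hp2 : (p : ℕ) = 2
      · refine (h.commute_two heO (b := (y : G)) ?_).symm.eq
        rw [← hC, ← hp2]
        exact ⟨y, hy, rfl⟩
      have hyq : (y : G) ∈ fq (p : ℕ) C := ⟨y, hy, rfl⟩
      have h1 : Commute (y : G) u := hfix p p.2 hp2 _ (hC ▸ hyq)
      have h2 : Commute (z⁻¹ * (y : G) * z) u := by
        refine hfix p p.2 hp2 _ (hC ▸ ?_)
        have := conj_fq p.2 (inv_mem (hC ▸ h.core_le hz : z ∈ C)) hyq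
        rwa [inv_inv] at this
      have h3 : (y : G) * (u * z * u⁻¹) = u * z * u⁻¹ * (z⁻¹ * (y : G) * z) := by
        calc (y : G) * (u * z * u⁻¹) = (y : G) * u * z * u⁻¹ := by group
          _ = u * (y : G) * z * u⁻¹ := by rw [h1.eq]
          _ = u * z * ((z⁻¹ * (y : G) * z) * u⁻¹) := by group
          _ = u * z * (u⁻¹ * (z⁻¹ * (y : G) * z)) := by rw [h2.inv_right.eq]
          _ = _ := by group
      calc (y : G) * e = (y : G) * (u * z * u⁻¹) * z⁻¹ := by rw [he]; group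
        _ = u * z * u⁻¹ * (z⁻¹ * (y : G) * z) * z⁻¹ := by rw [h3]
        _ = e * y := by rw [he]; group
    -- every primary part of `e` is centralised and inverted
    by_contra hne
    have he1 : orderOf e ≠ 1 := fun h1 => hne (by
      rw [orderOf_eq_one_iff, he, mul_inv_eq_one, mul_inv_eq_iff_eq_mul] at h1
      exact h1.symm)
    obtain ⟨s, hs, hsd⟩ := Nat.exists_prime_and_dvd he1
    haveI := Fact.mk hs
    have hs2 : s ≠ 2 := fun e2 => by
      obtain ⟨k, hk⟩ := h.core_orderOf heO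
      rw [e2, hk] at hsd
      omega
    obtain ⟨d, hd⟩ : ∃ d, d = e ^ (orderOf e / s) := ⟨_, rfl⟩
    have hdo : orderOf d = s := by rw [hd]; exact orderOf_pow_orderOf_div (orderOf_pos e).ne' hsd
    have hdC : d ∈ C := hd ▸ pow_mem heC _
    have hdu : Commute d u := by
      refine hfix s hs hs2 d (hC ▸ ⟨⟨d, hdC⟩, ?_, rfl⟩)
      refine Solv.pgroup_le_pCore_of_le_fitting ?_ (Subgroup.zpowers_le.2 ?_) (Subgroup.mem_zpowers _)
      · exact IsPGroup.of_card (n := 1) (by rw [Nat.card_zpowers, Subgroup.orderOf_mk, hdo, pow_one])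
      · rw [show (⟨d, hdC⟩ : ↥C) = ⟨e, heC⟩ ^ (orderOf e / s) from Subtype.ext hd]
        exact pow_mem heF _
    have hd2 : d ^ 2 = 1 := by
      rw [pow_two]
      nth_rewrite 1 [show d = u * d * u⁻¹ by rw [← hdu.eq, mul_inv_cancel_right]]
      rw [hd, ← conj_pow, hinv, inv_pow, inv_mul_cancel]
    have hdvd := orderOf_dvd_of_pow_eq_one hd2
    rw [hdo] at hdvd
    exact hs2 ((Nat.prime_dvd_prime_iff_eq hs Nat.prime_two).1 hdvd)
  -- so `ρ` normalises `O`
  have hρO : ∀ x ∈ O, ρ * x * ρ⁻¹ ∈ O := by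
    intro x hx
    refine h.core _ ?_ ?_
    · have h1 : Commute x (t * u) := (h.core_commute hx).mul_right (hOu x hx)
      have := (Commute.conj_iff ρ).2 h1
      rwa [hρtu] at this
    · rw [show ρ * x * ρ⁻¹ = MulAut.conj ρ x from rfl, MulEquiv.orderOf_eq]
      exact h.core_orderOf hx
  have hmem : ρ ∈ Subgroup.normalizer (O : Set G) := by
    refine Solv.mem_normalizer_of_conj_smul ?_
    refine Subgroup.eq_of_le_of_card_ge ?_ (by rw [Solv.card_conj_smul])
    intro y hy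
    rw [Solv.mem_conj_smul] at hy
    have := hρO _ hy
    rwa [show ρ * (ρ⁻¹ * y * ρ) * ρ⁻¹ = y by group] at this
  have hne : ρ ∉ Subgroup.centralizer ({t} : Set G) := fun hm => hut (by
    rw [← hρt, Subgroup.mem_centralizer_singleton_iff.1 hm, mul_inv_cancel_right])
  have htop : Subgroup.normalizer (O : Set G) = ⊤ := h.max.2 _ (lt_of_le_of_ne h.core_norm fun e => hne (e ▸ hmem))
  rcases (Subgroup.normalizer_eq_top_iff.1 htop).eq_bot_or_eq_top with hb | hb
  · exact h.core_ne hb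
  · have := h.core_orderOf (hb ▸ Subgroup.mem_top t)
    rw [orderOf_eq_prime (by rw [pow_two, h.sq]) h.ne] at this
    exact absurd this (by decide)

/-- `u` centralises each Sylow `q`-subgroup of `O` it normalises. -/
theorem MaxCent.commutes_sylow (h : MaxCent t O) {u ρ : G} (hu : u * u = 1) (htu : Commute t u)
    (hρt : ρ * t * ρ⁻¹ = u) (hρu : ρ * u * ρ⁻¹ = t * u) {q : ℕ} [hq : Fact q.Prime] {y : G} (hy : y ∈ O)
    (hyq : IsPGroup q ↥(Subgroup.zpowers y)) (hyu : Commute y u)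
    (hyC : Subgroup.centralizer ({y} : Set G) ≤ Subgroup.centralizer ({t} : Set G))
    {Q : Subgroup G} (hQ : Solv.IsSylIn q Q O) (huQ : u ∈ Subgroup.normalizer (Q : Set G)) :
    ∀ x ∈ Q, Commute x u := by
  obtain ⟨hρtu, -, -, -⟩ := rho_sq hu htu hρt hρu
  obtain ⟨z, hz⟩ : ∃ z, z = ρ * y * ρ⁻¹ := ⟨_, rfl⟩
  have hzt : Commute z t := by
    have := (Commute.conj_iff ρ).2 ((h.core_commute hy).mul_right hyu)
    rwa [hρtu, ← hz] at this
  have hzu : Commute z u := by
    have := (Commute.conj_iff ρ).2 (h.core_commute hy)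
    rwa [hρt, ← hz] at this
  have hzO : z ∈ O := h.core z hzt (by
    rw [hz, show ρ * y * ρ⁻¹ = MulAut.conj ρ y from rfl, MulEquiv.orderOf_eq]
    exact h.core_orderOf hy)
  have hzC : ∀ x, Commute x z → Commute x u := by
    intro x hx
    have h1 : Commute (ρ⁻¹ * x * ρ) y := by
      have := (Commute.conj_iff ρ⁻¹).2 hx
      rwa [inv_inv, show ρ⁻¹ * z * ρ = y by rw [hz]; group] at this
    have h2 := (Commute.conj_iff ρ).2
      (Subgroup.mem_centralizer_singleton_iff.1 (hyC (Subgroup.mem_centralizer_singleton_iff.2 h1.eq)) :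
        Commute (ρ⁻¹ * x * ρ) t)
    rwa [hρt, show ρ * (ρ⁻¹ * x * ρ) * ρ⁻¹ = x by group] at h2
  have hAO := h.zpowers_norm htu
  have hco := h.coprime_zpowers hu
  have hAz : Subgroup.zpowers u ≤ Subgroup.normalizer ((Subgroup.zpowers z : Subgroup G) : Set G) :=
    Subgroup.zpowers_le.2 (Subgroup.centralizer_le_normalizer _ (Subgroup.mem_centralizer_iff.2 fun a ha => by
      obtain ⟨i, rfl⟩ := ha
      exact (hzu.zpow_left i).eq))
  have hzq : IsPGroup q ↥(Subgroup.zpowers z) := by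
    obtain ⟨i, hi⟩ := IsPGroup.iff_card.1 hyq
    refine IsPGroup.of_card (n := i) ?_
    rw [← hi, Nat.card_zpowers, Nat.card_zpowers, hz, show ρ * y * ρ⁻¹ = MulAut.conj ρ y from rfl,
      MulEquiv.orderOf_eq]
  obtain ⟨Q₁, hQ₁, hzQ₁, huQ₁⟩ := Solv.exists_invariant_sylow_ge hAO hco (Or.inr h.core_solvable)
    (Subgroup.zpowers z) (Subgroup.zpowers_le.2 hzO) hzq hAz
  have hc1 : Subgroup.zpowers u ≤ Subgroup.centralizer (Q₁ : Set G) := by
    refine CentTrick.centralizes_of_self_centralizing hQ₁.isPGroup.isNilpotent huQ₁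
      (hco.coprime_dvd_right (Subgroup.card_dvd_of_le hQ₁.1)) fun x hx => ⟨hx.1, ?_⟩
    refine Subgroup.mem_centralizer_iff.2 fun a ha => ?_
    obtain ⟨i, rfl⟩ := ha
    refine ((hzC x ?_).symm.zpow_left i).eq
    refine (Subgroup.mem_centralizer_iff.1 hx.2 z ⟨hzQ₁ (Subgroup.mem_zpowers z), ?_⟩).symm
    refine Subgroup.mem_centralizer_iff.2 fun a ha => ?_
    obtain ⟨j, rfl⟩ := ha
    exact (hzu.symm.zpow_left j).eq
  obtain ⟨c, hc, hcQ⟩ := Solv.invariant_sylow_conj hAO hco (Or.inr h.core_solvable) hQ₁ hQ huQ₁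
    (Subgroup.zpowers_le.2 huQ)
  intro x hx
  rw [← hcQ, Solv.mem_conj_smul] at hx
  have h1 : Commute (c⁻¹ * x * c) u :=
    (Subgroup.mem_centralizer_iff.1 (hc1 (Subgroup.mem_zpowers u)) _ hx)
  have hcu : Commute c u := (Subgroup.mem_centralizer_iff.1 hc.2 u (Subgroup.mem_zpowers u)).symm
  have := (hcu.mul_left h1).mul_left hcu.inv_left
  rwa [show c * (c⁻¹ * x * c) * c⁻¹ = x by group] at this

/-- An involution of `C(t)` centralising a Sylow `q`-subgroup of `O` lies in `O_{q'}(C(t))`. -/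
theorem MaxCent.mem_prime_core (h : MaxCent t O) {q : ℕ} [hq : Fact q.Prime] (hq2 : q ≠ 2) {u : G}
    (hu : u * u = 1) (htu : Commute t u) {Q : Subgroup G} (hQ : Solv.IsSylIn q Q O)
    (hQu : ∀ x ∈ Q, Commute x u) :
    (⟨u, Subgroup.mem_centralizer_singleton_iff.2 htu.eq.symm⟩ : ↥(Subgroup.centralizer ({t} : Set G))) ∈
      Cfsg.pPrimeCore q ↥(Subgroup.centralizer ({t} : Set G)) := by
  obtain ⟨T, hT⟩ := (h.sylIn hq2 hQ).exists_sylow
  haveI : (Cfsg.pPrimeCore q ↥(Subgroup.centralizer ({t} : Set G))).Normal := Solv.pPrimeCore_normal q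
  let π := QuotientGroup.mk' (Cfsg.pPrimeCore q ↥(Subgroup.centralizer ({t} : Set G)))
  have hsol : Group.IsSolvable (↥(Subgroup.centralizer ({t} : Set G)) ⧸
      Cfsg.pPrimeCore q ↥(Subgroup.centralizer ({t} : Set G))) :=
    @Group.isSolvable_of_surjective _ _ _ _ π (QuotientGroup.mk'_surjective _) h.solv
  obtain ⟨a, ha⟩ : ∃ a : ↥(Subgroup.centralizer ({t} : Set G)), (a : G) = u :=
    ⟨⟨u, Subgroup.mem_centralizer_singleton_iff.2 htu.eq.symm⟩, rfl⟩
  rw [show (⟨u, _⟩ : ↥(Subgroup.centralizer ({t} : Set G))) = a from Subtype.ext ha.symm]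
  have hmem : π a ∈ Cfsg.pCore q _ := by
    refine Fusion.centralizer_pCore_le_of_solvable hsol Fusion.pPrimeCore_quotient_eq_bot
      (Subgroup.mem_centralizer_iff.2 fun x hx => ?_)
    obtain ⟨d, hd, rfl⟩ := (Fusion.pCore_le_sylow (T.mapSurjective (QuotientGroup.mk'_surjective _))) hx
    have hdQ : (d : G) ∈ Q := hT ▸ ⟨d, hd, rfl⟩
    rw [← map_mul, ← map_mul]
    exact congrArg π (Subtype.ext (by rw [Subgroup.coe_mul, Subgroup.coe_mul, ha]; exact hQu _ hdQ))
  refine (QuotientGroup.eq_one_iff a).1 ?_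
  show π a = 1
  obtain ⟨i, hi⟩ := IsPGroup.iff_orderOf.1 (Fusion.isPGroup_pCore q _) ⟨π a, hmem⟩
  rw [Subgroup.orderOf_mk] at hi
  refine orderOf_eq_one_iff.1 (Nat.eq_one_of_dvd_coprimes
    (((Nat.coprime_primes hq.out Nat.prime_two).2 hq2).pow_left i) (dvd_of_eq hi) ?_)
  refine orderOf_dvd_of_pow_eq_one ?_
  rw [← map_pow, show a ^ 2 = 1 from Subtype.ext (by rw [Subgroup.coe_pow, ha, pow_two, hu]; rfl), map_one]

/-- The part of `O` moved by `u` has order prime to `q`. -/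
theorem MaxCent.exists_moved_part (h : MaxCent t O) {q : ℕ} [hq : Fact q.Prime] (hq2 : q ≠ 2) {u : G}
    (hu : u * u = 1) (htu : Commute t u) {Q : Subgroup G} (hQ : Solv.IsSylIn q Q O)
    (hQu : ∀ x ∈ Q, Commute x u) :
    ∃ R : Subgroup G, R ≤ O ∧ Subgroup.centralizer ({t} : Set G) ≤ Subgroup.normalizer (R : Set G) ∧
      (Nat.card ↥R).Coprime q ∧ ∀ o ∈ O, ∃ r ∈ R, ∃ f ∈ O, Commute f u ∧ o = r * f := by
  haveI : (Cfsg.pPrimeCore q ↥(Subgroup.centralizer ({t} : Set G))).Normal := Solv.pPrimeCore_normal q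
  refine ⟨O ⊓ (Cfsg.pPrimeCore q ↥(Subgroup.centralizer ({t} : Set G))).map (Subgroup.subtype _), inf_le_left,
    fun c hc => ?_, ?_, fun o ho => ?_⟩
  · have key : ∀ c ∈ Subgroup.centralizer ({t} : Set G), ∀ x ∈ O ⊓ (Cfsg.pPrimeCore q
        ↥(Subgroup.centralizer ({t} : Set G))).map (Subgroup.subtype _), c * x * c⁻¹ ∈ O ⊓ (Cfsg.pPrimeCore q
        ↥(Subgroup.centralizer ({t} : Set G))).map (Subgroup.subtype _) := by
      rintro c hc x ⟨hx, ⟨d, hd, rfl⟩⟩
      exact ⟨(Subgroup.mem_normalizer_iff.1 (h.core_norm hc) _).1 hx,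
        ⟨⟨c, hc⟩ * d * ⟨c, hc⟩⁻¹, Subgroup.Normal.conj_mem inferInstance d hd _, rfl⟩⟩
    refine Subgroup.mem_normalizer_iff.2 fun x => ⟨key c hc x, fun hx => ?_⟩
    have := key c⁻¹ (inv_mem hc) _ hx
    rwa [show c⁻¹ * (c * x * c⁻¹) * c⁻¹⁻¹ = x by group] at this
  · refine Nat.Coprime.coprime_dvd_left (Subgroup.card_dvd_of_le inf_le_right) ?_
    rw [Solv.card_map_subtype]
    exact Fusion.card_pPrimeCore_coprime q _
  · obtain ⟨n, hn, f, hf, rfl⟩ := Solv.exists_commutator_mul_fixed (h.zpowers_norm htu) (h.coprime_zpowers hu)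
      (Or.inr h.core_solvable) ho
    refine ⟨n, ⟨(Solv.commutator_normal_in (h.zpowers_norm htu)).1 hn, ?_⟩, f, hf.1,
      (Subgroup.mem_centralizer_iff.1 hf.2 u (Subgroup.mem_zpowers u)).symm, rfl⟩
    refine (Subgroup.commutator_le.2 (fun x hx a ha => ?_) :
      ⁅O, Subgroup.zpowers u⁆ ≤ (Cfsg.pPrimeCore q ↥(Subgroup.centralizer ({t} : Set G))).map (Subgroup.subtype _)) hn
    obtain ⟨i, rfl⟩ := ha
    refine ⟨⁅(⟨x, h.core_le hx⟩ : ↥(Subgroup.centralizer ({t} : Set G))),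
      ⟨u, Subgroup.mem_centralizer_singleton_iff.2 htu.eq.symm⟩ ^ i⁆, ?_, rfl⟩
    rw [commutatorElement_def]
    exact mul_mem (Subgroup.Normal.conj_mem inferInstance _ (zpow_mem (h.mem_prime_core hq2 hu htu hQ hQu) i) _)
      (inv_mem (zpow_mem (h.mem_prime_core hq2 hu htu hQ hQu) i))

end Cfsg.Agent.GW
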