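import Cfsg.Agent.Lib.GW.MaxWeight
import Cfsg.Agent.Lib.GW.MaxLayer

/-!
# A maximal centraliser: central elements of a core fixed by a second involution

`C = C(t)` maximal, `u` a noncentral involution of `C`, `y ≠ 1` a central element of `O_q(C)` centralised by `u`.
Then `N(⟨y⟩) ≤ C`, granted that a maximal subgroup with a layer holding all the odd cores of `C` and the normaliser
of a nontrivial subgroup of `O_q(C)` does not exist (`NoLayer`).
-/

set_option autoImplicit false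
set_option linter.unusedSectionVars false
set_option linter.style.haveILetI false

namespace Cfsg.Agent.GW

open Cfsg Cfsg.Agent

universe w

variable {G : Type w} [Group G] [Finite G]

/-- no maximal subgroup with layer over the odd cores of `C(t)` and the normaliser of a part of `O_q(C(t))` -/
def NoLayer (t : G) : Prop :=
  ∀ N : Subgroup G, IsCoatom N → t ∈ N → N ≠ Subgroup.centralizer ({t} : Set G) →
    (∀ s : ℕ, s.Prime → s ≠ 2 → fq s (Subgroup.centralizer ({t} : Set G)) ≤ N) → Cfsg.layer ↥N ≠ ⊥ →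
    ∀ q : ℕ, q.Prime → q ≠ 2 → ∀ Y : Subgroup G, Y ≠ ⊥ → Y ≤ fq q (Subgroup.centralizer ({t} : Set G)) →
      Subgroup.normalizer (Y : Set G) ≤ N → False

/-- a nontrivial normal subgroup of a group of prime power order meets the centre -/
theorem exists_central_mem {T : Type w} [Group T] [Finite T] {p : ℕ} [hp : Fact p.Prime] (hT : IsPGroup p T)
    (N : Subgroup T) [N.Normal] (hN : N ≠ ⊥) : ∃ z ∈ N, z ≠ 1 ∧ ∀ x : T, Commute x z := by
  have hd : p ∣ Nat.card N := by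
    obtain ⟨k, hk⟩ := IsPGroup.iff_card.1 (hT.to_subgroup N)
    rw [hk]
    refine dvd_pow_self p fun h0 => hN (Subgroup.eq_bot_of_card_eq N ?_)
    rw [hk, h0, pow_zero]
  obtain ⟨b, hb, hne⟩ := (hT.of_equiv (ConjAct.toConjAct (G := T))).exists_fixed_point_of_prime_dvd_card_of_fixed_point
    N hd (a := (1 : N)) (fun g => Subtype.ext (by simp))
  refine ⟨b, b.2, fun e => hne (Subtype.ext e.symm), fun x => ?_⟩
  have := congrArg Subtype.val (hb (ConjAct.toConjAct x))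
  rw [ConjAct.Subgroup.val_conj_smul, ConjAct.toConjAct_smul] at this
  exact mul_inv_eq_iff_eq_mul.1 this

variable [IsSimpleGroup G] {t : G} {O : Subgroup G}

/-- a subgroup leading from `C(t)`: what the first two tools and `NoLayer` give -/
theorem MaxCent.normalizer_le_of (hG : ¬ IsMulCommutative G) (hK : Cfsg.IsKProper G) (h : MaxCent t O)
    (hno : NoLayer t) {q : ℕ} (hq : q.Prime) (hq2 : q ≠ 2) {Y : Subgroup G} (hY : Y ≠ ⊥)
    (hYq : Y ≤ fq q (Subgroup.centralizer ({t} : Set G))) (htY : t ∈ Subgroup.normalizer (Y : Set G))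
    (hFY : ∀ s : ℕ, s.Prime → s ≠ 2 → fq s (Subgroup.centralizer ({t} : Set G)) ≤ Subgroup.normalizer (Y : Set G))
    (hfit : ∀ N : Subgroup G, IsCoatom N → Subgroup.normalizer (Y : Set G) ≤ N →
      Cfsg.leadsTo (Subgroup.centralizer ({t} : Set G)) N →
      (Cfsg.fittingSubgroup ↥N).map N.subtype ≤ Subgroup.centralizer ({t} : Set G)) :
    Subgroup.normalizer (Y : Set G) ≤ Subgroup.centralizer ({t} : Set G) := by
  have hne : Subgroup.normalizer (Y : Set G) ≠ ⊤ := by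
    intro e
    haveI : Y.Normal := Subgroup.normalizer_eq_top_iff.mp e
    have htop := (IsSimpleGroup.eq_bot_or_eq_top_of_normal Y inferInstance).resolve_left hY
    exact h.max.1 (top_le_iff.1 (htop ▸ hYq.trans (fq_le q _)))
  obtain ⟨N, hN, hle⟩ := (eq_top_or_exists_le_coatom (Subgroup.normalizer (Y : Set G))).resolve_left hne
  by_cases hNC : N = Subgroup.centralizer ({t} : Set G)
  · exact hNC ▸ hle
  exfalso
  have hCN : Cfsg.leadsTo (Subgroup.centralizer ({t} : Set G)) N :=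
    leads hY (hYq.trans (fq_le_fitting hq _)) hle
  exact hno N hN (hle htY) hNC (fun s hs hs2 => (hFY s hs hs2).trans hle)
    (h.layer_ne hG hK hN hNC hCN (hfit N hN hle hCN)) q hq hq2 Y hY hYq hle

/-- **central elements of `O_q(C)` fixed by `u` have their normaliser in `C`** -/
theorem MaxCent.center_good (hG : ¬ IsMulCommutative G) (hK : Cfsg.IsKProper G) (h : MaxCent t O)
    (hno : NoLayer t) (hrot : Rotates t) {q : ℕ} (hq : q.Prime) (hq2 : q ≠ 2) {u : G} (hu : u * u = 1)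
    (hu1 : u ≠ 1) (hut : u ≠ t) (htu : Commute t u) {y : G}
    (hy : y ∈ fq q (Subgroup.centralizer ({t} : Set G)))
    (hyc : ∀ x ∈ fq q (Subgroup.centralizer ({t} : Set G)), Commute y x) (hyu : Commute y u) (hy1 : y ≠ 1) :
    Subgroup.normalizer (Subgroup.zpowers y : Set G) ≤ Subgroup.centralizer ({t} : Set G) := by
  haveI := Fact.mk hq
  obtain ⟨ρ, hρt, hρu⟩ := hrot u hu hu1 hut htu
  obtain ⟨hρtu, hσt, hσu, -⟩ := rho_sq hu htu hρt hρu
  obtain ⟨C, hC⟩ : ∃ C, C = Subgroup.centralizer ({t} : Set G) := ⟨_, rfl⟩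
  rw [← hC] at hy hyc ⊢
  have hCt : ∀ x ∈ C, Commute x t := fun x hx => Subgroup.mem_centralizer_singleton_iff.1 (hC ▸ hx)
  have hfqO : ∀ s : ℕ, s.Prime → s ≠ 2 → ∀ x ∈ fq s C, x ∈ O := fun s hs hs2 x hx => by
    haveI := Fact.mk hs
    refine h.core x (hCt x (fq_le s C hx)) ?_
    obtain ⟨k, hk⟩ := fq_isPGroup s C ⟨x, hx⟩
    exact ((hs.odd_of_ne_two hs2).pow).of_dvd_nat (orderOf_dvd_of_pow_eq_one (congrArg Subtype.val hk))
  -- `K = C_O(u)`, normalised by `ρ`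
  obtain ⟨K, hKdef⟩ : ∃ K, K = O ⊓ Subgroup.centralizer ({u} : Set G) := ⟨_, rfl⟩
  have hKmem : ∀ {x : G}, x ∈ K ↔ x ∈ O ∧ Commute x u := fun {x} => by
    rw [hKdef, Subgroup.mem_inf, Subgroup.mem_centralizer_singleton_iff]
    exact Iff.rfl
  have hKρ : ∀ x ∈ K, ρ * x * ρ⁻¹ ∈ K := by
    intro x hx
    obtain ⟨hxO, hxu⟩ := hKmem.1 hx
    have hxt := hCt x (hC ▸ h.core_le hxO)
    have h1 : Commute (ρ * x * ρ⁻¹) u := by
      have := (Commute.conj_iff ρ).2 hxt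
      rwa [hρt] at this
    have h2 : Commute (ρ * x * ρ⁻¹) t := by
      have := (Commute.conj_iff ρ).2 (hxt.mul_right hxu)
      rwa [hρtu] at this
    refine hKmem.2 ⟨h.core _ h2 ?_, h1⟩
    have e : orderOf (ρ * x * ρ⁻¹) = orderOf x := by
      simpa using orderOf_injective (MulAut.conj ρ).toMonoidHom (MulAut.conj ρ).injective x
    rw [e]
    exact h.core_odd.of_dvd_nat (Subgroup.orderOf_dvd_natCard O hxO)
  have hKmap : K.map (MulAut.conj ρ).toMonoidHom = K :=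
    Subgroup.eq_of_le_of_card_ge (by rintro _ ⟨x, hx, rfl⟩; exact hKρ x hx)
      (Subgroup.card_map_of_injective (MulAut.conj ρ).injective).ge
  have hfqρ : ∀ s : ℕ, s.Prime → ∀ x ∈ fq s K, ρ * x * ρ⁻¹ ∈ fq s K := by
    intro s hs x hx
    haveI := Fact.mk hs
    have h1 := fq_map s ρ K
    rw [hKmap] at h1
    rw [h1]
    exact ⟨x, hx, rfl⟩
  -- the `u`-fixed part of a core of `C` lies in that core of `K`
  have hin : ∀ s : ℕ, s.Prime → s ≠ 2 → ∀ x ∈ fq s C, Commute x u → x ∈ fq s K := by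
    intro s hs hs2 x hx hxu
    haveI := Fact.mk hs
    have hxK : x ∈ K := hKmem.2 ⟨hfqO s hs hs2 x hx, hxu⟩
    haveI : ((fq s C).subgroupOf K).Normal := ⟨fun a ha g => by
      rw [Subgroup.mem_subgroupOf] at ha ⊢
      exact conj_fq hs (hC ▸ h.core_le (hKmem.1 g.2).1) ha⟩
    have hp : IsPGroup s ↥((fq s C).subgroupOf K) :=
      (fq_isPGroup s C).comap_of_injective K.subtype K.subtype_injective
    exact ⟨⟨x, hxK⟩, Solv.normal_le_pCore hp (Subgroup.mem_subgroupOf.2 hx), rfl⟩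
  -- `Y₀ = Z(O_q K) ∩ Z(O_q C)`
  obtain ⟨Y₀, hY₀⟩ : ∃ Y₀, Y₀ = (fq q C ⊓ Subgroup.centralizer (fq q C : Set G)) ⊓
      (fq q K ⊓ Subgroup.centralizer (fq q K : Set G)) := ⟨_, rfl⟩
  have hY₀mem : ∀ {x : G}, x ∈ Y₀ ↔ (x ∈ fq q C ∧ ∀ z ∈ fq q C, Commute x z) ∧
      (x ∈ fq q K ∧ ∀ z ∈ fq q K, Commute x z) := by
    intro x
    rw [hY₀, Subgroup.mem_inf, Subgroup.mem_inf, Subgroup.mem_inf, Subgroup.mem_centralizer_iff,
      Subgroup.mem_centralizer_iff]
    exact ⟨fun hh => ⟨⟨hh.1.1, fun z hz => (hh.1.2 z hz).symm⟩, hh.2.1, fun z hz => (hh.2.2 z hz).symm⟩,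
      fun hh => ⟨⟨hh.1.1, fun z hz => (hh.1.2 z hz).symm⟩, hh.2.1, fun z hz => (hh.2.2 z hz).symm⟩⟩
  have hY₀ne : Y₀ ≠ ⊥ := by
    obtain ⟨A, hA⟩ : ∃ A, A = fq q C ⊓ Subgroup.centralizer (fq q C : Set G) := ⟨_, rfl⟩
    haveI : (A.subgroupOf (fq q K)).Normal := ⟨fun a ha g => by
      rw [Subgroup.mem_subgroupOf, hA, Subgroup.mem_inf, Subgroup.mem_centralizer_iff] at ha ⊢
      have hgC : (g : G) ∈ C := hC ▸ h.core_le (hKmem.1 (fq_le q K g.2)).1
      refine ⟨conj_fq hq hgC ha.1, fun z hz => ?_⟩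
      have hz' : (g : G)⁻¹ * z * (g : G) ∈ fq q C := by
        have := conj_fq hq (inv_mem hgC) hz
        rwa [inv_inv] at this
      have := ha.2 _ hz'
      show z * ((g : G) * (a : G) * (g : G)⁻¹) = (g : G) * (a : G) * (g : G)⁻¹ * z
      calc z * ((g : G) * (a : G) * (g : G)⁻¹) = (g : G) * (((g : G)⁻¹ * z * (g : G)) * (a : G)) * (g : G)⁻¹ := by
            group
        _ = (g : G) * ((a : G) * ((g : G)⁻¹ * z * (g : G))) * (g : G)⁻¹ := by rw [this]
        _ = _ := by group⟩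
    have hyA : y ∈ A := by
      rw [hA, Subgroup.mem_inf, Subgroup.mem_centralizer_iff]
      exact ⟨hy, fun z hz => (hyc z hz).symm⟩
    have hyK : y ∈ fq q K := hin q hq hq2 y hy hyu
    obtain ⟨z, hz, hz1, hzc⟩ := exists_central_mem (fq_isPGroup q K) (A.subgroupOf (fq q K))
      (fun e => by
        have hm : (⟨y, hyK⟩ : ↥(fq q K)) ∈ A.subgroupOf (fq q K) := Subgroup.mem_subgroupOf.2 hyA
        rw [e, Subgroup.mem_bot] at hm
        exact hy1 (congrArg Subtype.val hm))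
    intro e
    suffices hzY : (z : G) ∈ Y₀ by
      rw [e, Subgroup.mem_bot] at hzY
      exact hz1 (Subtype.ext hzY)
    rw [hY₀, Subgroup.mem_inf, Subgroup.mem_inf, Subgroup.mem_inf, Subgroup.mem_centralizer_iff (s := (fq q K : Set G))]
    rw [Subgroup.mem_subgroupOf, hA, Subgroup.mem_inf] at hz
    exact ⟨hz, z.2, fun x hx => congrArg Subtype.val (hzc ⟨x, hx⟩).eq⟩
  -- everything relevant normalises `Y₀`
  have hcent : ∀ {g : G}, (∀ x ∈ Y₀, Commute g x) → g ∈ Subgroup.normalizer (Y₀ : Set G) := fun {g} hg =>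
    mem_norm_of_conj fun x hx => by rwa [mul_inv_eq_iff_eq_mul.2 (hg x hx).eq]
  have htY₀ : t ∈ Subgroup.normalizer (Y₀ : Set G) :=
    hcent fun x hx => (hCt x (fq_le q C (hY₀mem.1 hx).1.1)).symm
  have huY₀ : u ∈ Subgroup.normalizer (Y₀ : Set G) :=
    hcent fun x hx => (hKmem.1 (fq_le q K (hY₀mem.1 hx).2.1)).2.symm
  have hKY₀ : K ≤ Subgroup.normalizer (Y₀ : Set G) := by
    intro g hg
    refine mem_norm_of_conj fun x hx => hY₀mem.2 ?_
    obtain ⟨⟨h1, h2⟩, h3, h4⟩ := hY₀mem.1 hx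
    have hgC : g ∈ C := hC ▸ h.core_le (hKmem.1 hg).1
    refine ⟨⟨conj_fq hq hgC h1, fun z hz => ?_⟩, conj_fq hq hg h3, fun z hz => ?_⟩
    · have h5 := (Commute.conj_iff g).2 (h2 _ (conj_fq hq (inv_mem hgC) hz))
      rwa [inv_inv, show g * (g⁻¹ * z * g) * g⁻¹ = z by group] at h5
    · have h5 := (Commute.conj_iff g).2 (h4 _ (conj_fq hq (inv_mem hg) hz))
      rwa [inv_inv, show g * (g⁻¹ * z * g) * g⁻¹ = z by group] at h5
  have hFY₀ : ∀ s : ℕ, s.Prime → s ≠ 2 → fq s C ≤ Subgroup.normalizer (Y₀ : Set G) := by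
    intro s hs _ g hg
    refine hcent fun x hx => ?_
    by_cases hsq : s = q
    · exact ((hY₀mem.1 hx).1.2 g (hsq ▸ hg)).symm
    · exact commute_fq hs hq hsq hg (hY₀mem.1 hx).1.1
  have hgood₀ : Subgroup.normalizer (Y₀ : Set G) ≤ C := by
    subst hC
    refine h.normalizer_le_of hG hK hno hq hq2 hY₀ne (fun x hx => (hY₀mem.1 hx).1.1) htY₀ hFY₀
      fun N hN hle hCN => h.fitting_le hG hu htu hρt hρu (hle htY₀) (hle huY₀) hCN (fun s hs hs2 x hx hxtu => ?_)
        fun s hs hs2 x hx hxu => ?_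
    · have hxt := hCt x (fq_le s _ hx)
      have hxu : Commute x u := by
        have := hxt.inv_right.mul_right hxtu
        rwa [inv_mul_cancel_left] at this
      exact hle (hKY₀ (hKρ x (hKmem.2 ⟨hfqO s hs hs2 x hx, hxu⟩)))
    · refine hle (hKY₀ ?_)
      have h6 := hKρ _ (hKρ x (hKmem.2 ⟨hfqO s hs hs2 x hx, hxu⟩))
      rwa [show ρ * (ρ * x * ρ⁻¹) * ρ⁻¹ = ρ * ρ * x * (ρ * ρ)⁻¹ by group] at h6
  -- now `⟨y⟩`
  have hy0 : Subgroup.zpowers y ≠ ⊥ := fun e => hy1 (Subgroup.mem_bot.1 (e ▸ Subgroup.mem_zpowers y))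
  have hcy : ∀ {g : G}, Commute g y → g ∈ Subgroup.normalizer (Subgroup.zpowers y : Set G) := fun {g} hg =>
    mem_norm_of_conj fun x hx => by
      obtain ⟨i, rfl⟩ := hx
      exact ⟨i, by simp only; rw [mul_inv_eq_iff_eq_mul.2 (hg.zpow_right i).eq]⟩
  subst hC
  refine h.normalizer_le_of hG hK hno hq hq2 hy0 (Subgroup.zpowers_le.2 hy)
    (hcy (hCt y (fq_le q _ hy)).symm) (fun s hs _ g hg => hcy ?_)
    fun N hN hle hCN => h.fitting_le_of_bot hG hCN fun r hr h0 => ?_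
  · by_cases hsq : s = q
    · exact (hyc g (hsq ▸ hg)).symm
    · exact commute_fq hs hq hsq hg hy
  · refine h.other_bot' hG hu htu hρt hρu (hle (hcy (hCt y (fq_le q _ hy)).symm)) (hle (hcy hyu.symm)) hCN
      (Y := Y₀) (fun x hx => hle (hcy ((hY₀mem.1 hx).1.2 y hy)))
      (fun x hx => (hKmem.1 (fq_le q K (hY₀mem.1 hx).2.1)).1)
      (fun x hx => (hKmem.1 (fq_le q K (hY₀mem.1 hx).2.1)).2) ?_ ?_ hr h0
    · exact fun g hg => hgood₀ (hcent fun x hx => (Subgroup.mem_centralizer_iff.1 hg x hx).symm)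
    · intro x hx s hs hs2 a ha hau
      have haK := hin s hs hs2 a ha hau
      have key : ∀ b ∈ fq s K, Commute x b := by
        intro b hb
        by_cases hsq : s = q
        · exact (hY₀mem.1 hx).2.2 b (hsq ▸ hb)
        · exact (commute_fq hs hq hsq hb (hY₀mem.1 hx).2.1).symm
      constructor
      · have h7 := (Commute.conj_iff ρ⁻¹).2 (key _ (hfqρ s hs a haK))
        rwa [inv_inv, show ρ⁻¹ * (ρ * a * ρ⁻¹) * ρ = a by group] at h7
      · have h7 := (Commute.conj_iff (ρ * ρ)⁻¹).2 (key _ (hfqρ s hs _ (hfqρ s hs a haK)))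
        rwa [inv_inv, show (ρ * ρ)⁻¹ * (ρ * (ρ * a * ρ⁻¹) * ρ⁻¹) * (ρ * ρ) = a by group] at h7

end Cfsg.Agent.GW
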