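import Cfsg.Agent.Lib.GW.MaxLayerSplit

/-!
# Conjugates of an involution of the layer

`conj_in_layer`: they are conjugate under the layer and the core, the hypothesis of `normalizer_eq_of_layer`.
-/

set_option autoImplicit false
set_option linter.style.haveILetI false
set_option linter.unusedSectionVars false

namespace Cfsg.Agent.GW

open Cfsg Cfsg.Agent Cfsg.Agent.GW.Reduced

universe u

/-- A perfect group with dihedral Sylow two-subgroup has one class of involutions. -/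
theorem one_class_perfect {Y : Type u} [Group Y] [Finite Y] [Group.IsPerfect Y] (S : Sylow 2 Y) {n : ℕ} (hn : 2 ≤ n)
    (e : (S : Subgroup Y) ≃* DihedralGroup n) (a b : Y) (ha : orderOf a = 2) (hb : orderOf b = 2) :
    ∃ g, g * a * g⁻¹ = b := by
  obtain ⟨k, hk1, rfl⟩ := dihedral_pow S hn e
  by_cases hk : k = 1
  · subst hk
    exact isConj_iff.1 (conj_of_four S (by rw [Nat.card_congr e.toEquiv, DihedralGroup.nat_card]; norm_num) e a b ha hb)
  · exact S0107.result S k (by omega) ⟨e⟩ pResidual_perfect a b ha hb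

variable {G : Type u} [Group G] [Finite G]

/-- Conjugates in `M` of an involution of the layer are conjugate under the layer and the core. -/
theorem conj_in_layer (hG : Minimal G) {M : Subgroup G} [(Cfsg.oddCore ↥M).Normal]
    {L : Subgroup (↥M ⧸ Cfsg.oddCore ↥M)} [L.Normal] (hmod : IsModel L)
    (hLE : L ≤ (Cfsg.layer ↥M).map (QuotientGroup.mk' (Cfsg.oddCore ↥M)))
    {t : ↥M} (ht2 : orderOf t = 2) (htL : QuotientGroup.mk' (Cfsg.oddCore ↥M) t ∈ L) :
    ∀ m ∈ M, ∃ h ∈ lay M ⊔ (Cfsg.oddCore ↥M).map M.subtype, h * (t : G) * h⁻¹ = m * (t : G) * m⁻¹ := by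
  classical
  haveI : Fact (Nat.Prime 2) := ⟨Nat.prime_two⟩
  obtain ⟨hsimp, hnab⟩ := hmod.simple
  haveI := hsimp
  haveI : Group.IsPerfect L := perfect_of_simple hnab
  set π := QuotientGroup.mk' (Cfsg.oddCore ↥M)
  obtain ⟨S, n, -, ⟨e⟩⟩ := hG.sylow
  obtain ⟨TL⟩ := (inferInstance : Nonempty (Sylow 2 L))
  let K : Subgroup G := (L.comap π).map M.subtype
  let f : K →* L :=
    ((π.comp (L.comap π).subtype).codRestrict L fun x => x.2).comp
      ((L.comap π).equivMapOfInjective _ M.subtype_injective).symm.toMonoidHom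
  have hf : Function.Surjective f := by
    rintro ⟨y, hy⟩
    obtain ⟨x, rfl⟩ := QuotientGroup.mk'_surjective _ y
    refine ⟨((L.comap π).equivMapOfInjective _ M.subtype_injective) ⟨x, hy⟩, Subtype.ext ?_⟩
    simp [f, π]
    rfl
  obtain ⟨j, hj, ⟨eL⟩⟩ := (section_sylow S e f hf TL).resolve_left (not_cyclic_of_perfect TL (even_of_simple hnab))
  intro m hm
  obtain ⟨H, hH⟩ : ∃ H : Subgroup ↥M, H = Cfsg.layer ↥M ⊔ Cfsg.oddCore ↥M := ⟨_, rfl⟩
  let b : ↥M := ⟨m, hm⟩ * t * ⟨m, hm⟩⁻¹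
  have hodd : Odd (Nat.card (Cfsg.oddCore ↥M)) := Nat.coprime_two_right.1 (Fusion.card_pPrimeCore_coprime 2 M)
  have hbL : π b ∈ L := by
    show π (⟨m, hm⟩ * t * ⟨m, hm⟩⁻¹) ∈ L
    rw [map_mul, map_mul, map_inv]
    exact (inferInstance : L.Normal).conj_mem _ htL _
  have hb2 : orderOf b = 2 := by
    rw [← ht2]; exact orderOf_injective (MulAut.conj (⟨m, hm⟩ : ↥M)).toMonoidHom (MulAut.conj _).injective t
  have hord : ∀ x : ↥M, orderOf x = 2 → orderOf (π x) = 2 := fun x hx => by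
    refine orderOf_eq_prime (by rw [← map_pow, ← hx, pow_orderOf_eq_one, map_one]) fun h1 => ?_
    have h2 := Subgroup.orderOf_dvd_natCard _ ((QuotientGroup.eq_one_iff x).1 h1)
    rw [hx] at h2
    exact Nat.not_even_iff_odd.2 hodd (even_iff_two_dvd.2 h2)
  obtain ⟨y, hy⟩ := one_class_perfect TL hj eL ⟨π t, htL⟩ ⟨π b, hbL⟩ (by rw [Subgroup.orderOf_mk]; exact hord t ht2)
    (by rw [Subgroup.orderOf_mk]; exact hord b hb2)
  have hmemH : ∀ x : ↥M, π x ∈ L → x ∈ H := by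
    intro x hx
    obtain ⟨e', he', hex⟩ := hLE hx
    rw [hH, ← mul_inv_cancel_left e' x]
    refine mul_mem (Subgroup.mem_sup_left he') (Subgroup.mem_sup_right ((QuotientGroup.eq_one_iff _).1 ?_))
    show π (e'⁻¹ * x) = 1
    rw [map_mul, map_inv, hex, inv_mul_cancel]
  obtain ⟨g, hg⟩ := QuotientGroup.mk'_surjective _ (y : ↥M ⧸ Cfsg.oddCore ↥M)
  obtain ⟨h, hh⟩ := conj_lift ((Cfsg.oddCore ↥M).subgroupOf H)
    (by rw [Nat.card_congr (Subgroup.subgroupOfEquivOfLe (hH ▸ le_sup_right : Cfsg.oddCore ↥M ≤ H)).toEquiv]; exact hodd)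
    (a := (⟨t, hmemH t htL⟩ : H)) (b := ⟨b, hmemH b hbL⟩) (g := ⟨g, hmemH g (by show π g ∈ L; rw [hg]; exact y.2)⟩)
    (by rw [Subgroup.orderOf_mk]; exact ht2) (by rw [Subgroup.orderOf_mk]; exact hb2)
    (Subgroup.mem_subgroupOf.2 (QuotientGroup.eq.1 (by
      show π (g * t * g⁻¹) = π b
      rw [map_mul, map_mul, map_inv, hg]
      exact congrArg Subtype.val hy)))
  refine ⟨((h : ↥M) : G), ?_, congrArg (fun x : H => ((x : ↥M) : G)) hh⟩
  have h2 : ((h : ↥M) : G) ∈ H.map M.subtype := Subgroup.mem_map_of_mem M.subtype h.2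
  have h3 : H.map M.subtype = lay M ⊔ (Cfsg.oddCore ↥M).map M.subtype := by rw [hH, Subgroup.map_sup]; rfl
  exact h3.le h2

end Cfsg.Agent.GW
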