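import Cfsg.Agent.Lib.GW.MaxBasic
import Cfsg.Agent.Lib.GW.Weight

/-!
# The parts of `F(N)` away from `π(F(C))`, second form

When the fusing element does not carry the fixed parts of the cores of `C` into `N`, the weight lemma does the same
work, provided `N` contains elements of `C(t, u)` with centraliser in `C` whose images centralise these fixed parts.
-/

set_option autoImplicit false
set_option linter.unusedSectionVars false
set_option linter.style.haveILetI false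

namespace Cfsg.Agent.GW

open Cfsg Cfsg.Agent
open scoped commutatorElement

universe w

/-- A fixed coset of an involution modulo a normal subgroup of odd order contains a fixed element. -/
theorem exists_fixed_rep {M : Type w} [Group M] [Finite M] {N : Subgroup M} [N.Normal] (hN : Odd (Nat.card ↥N))
    {v c : M} (hv : v * v = 1) (hc : ((v * c * v⁻¹ : M) : M ⧸ N) = (c : M ⧸ N)) :
    ∃ f ∈ N, v * (c * f) * v⁻¹ = c * f := by
  obtain ⟨e, he⟩ : ∃ e, e = c⁻¹ * (v * c * v⁻¹) := ⟨_, rfl⟩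
  have heN : e ∈ N := by
    rw [← QuotientGroup.eq_one_iff, he, QuotientGroup.mk_mul, QuotientGroup.mk_inv, hc, inv_mul_cancel]
  have hew : v * e * v⁻¹ = e⁻¹ := by
    rw [he]
    calc v * (c⁻¹ * (v * c * v⁻¹)) * v⁻¹ = v * c⁻¹ * v⁻¹ * ((v * v) * c * (v * v)⁻¹) := by group
      _ = _ := by rw [hv]; group
  have heo : Odd (orderOf e) := hN.of_dvd_nat (by
    rw [← Subgroup.orderOf_mk _ heN]; exact orderOf_dvd_natCard _)
  obtain ⟨k, hk⟩ := heo
  have hff : e ^ (k + 1) * e ^ (k + 1) = e := by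
    rw [← pow_add, show k + 1 + (k + 1) = orderOf e + 1 by omega, pow_succ, pow_orderOf_eq_one, one_mul]
  refine ⟨e ^ (k + 1), pow_mem heN _, ?_⟩
  calc v * (c * e ^ (k + 1)) * v⁻¹ = c * (c⁻¹ * (v * c * v⁻¹)) * (v * e ^ (k + 1) * v⁻¹) := by group
    _ = c * (e ^ (k + 1) * e ^ (k + 1)) * (e ^ (k + 1))⁻¹ := by rw [← he, ← conj_pow, hew, inv_pow, hff]
    _ = _ := by group

/-- The weight lemma on the Frattini factor of `O_s`. -/
theorem weight_core {M : Type w} [Group M] [Finite M] {r s : ℕ} [Fact r.Prime] [Fact s.Prime] (hr : r ≠ 2)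
    (hs : s ≠ 2) (hrs : r ≠ s) {A : Subgroup M} (hA : IsPGroup r ↥A) (hab : ∀ a ∈ A, ∀ b ∈ A, a * b = b * a)
    {v z : M} (hv : v * v = 1) (hinv : ∀ a ∈ A, v * a * v⁻¹ = a⁻¹) (hzA : ∀ a ∈ A, z * a * z⁻¹ ∈ A)
    (hz : Odd (orderOf z)) (hfix : ∀ x ∈ Cfsg.pCore s M, v * x * v⁻¹ = x → z * x * z⁻¹ = x) :
    ∀ a ∈ A, z * a * z⁻¹ * a⁻¹ ∈ Subgroup.centralizer (Cfsg.pCore s M : Set M) := by
  intro a ha
  obtain ⟨N, hN⟩ : ∃ N, N = (frattini ↥(Cfsg.pCore s M)).map (Cfsg.pCore s M).subtype := ⟨_, rfl⟩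
  haveI : N.Normal := hN ▸ frattini_core_normal s
  haveI := Solv.pCore_normal (G := M) s
  have hP := Solv.pCore_isPGroup (G := M) s
  obtain ⟨f, hf⟩ : ∃ f : M →* M ⧸ N, f = QuotientGroup.mk' N := ⟨_, rfl⟩
  obtain ⟨V, hV⟩ : ∃ V, V = (Cfsg.pCore s M).map f := ⟨_, rfl⟩
  haveI : V.Normal := hV ▸ Subgroup.Normal.map inferInstance f (hf ▸ QuotientGroup.mk'_surjective N)
  have hVab : ∀ x ∈ V, ∀ y ∈ V, x * y = y * x := by
    rw [hV]
    rintro _ ⟨x, hx, rfl⟩ _ ⟨y, hy, rfl⟩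
    rw [← commutatorElement_eq_one_iff_mul_comm, ← map_commutatorElement, hf, QuotientGroup.mk'_apply,
      QuotientGroup.eq_one_iff, hN]
    exact ⟨⁅(⟨x, hx⟩ : ↥(Cfsg.pCore s M)), ⟨y, hy⟩⁆, Solv.commutatorElement_mem_frattini hP _ _, rfl⟩
  have hodd : ∀ {p : ℕ}, p.Prime → p ≠ 2 → ∀ {H : Type w} [Group H] [Finite H] {B : Subgroup H},
      IsPGroup p ↥B → Odd (Nat.card ↥B) := by
    intro p hp hp2 H _ _ B hB
    haveI := Fact.mk hp
    obtain ⟨n, hn⟩ := IsPGroup.iff_card.1 hB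
    rw [hn]
    exact (hp.odd_of_ne_two hp2).pow
  have hPo := hodd (Fact.out : s.Prime) hs hP
  have hVp : IsPGroup s ↥V := hV ▸ hP.map f
  have hAp : IsPGroup r ↥(A.map f) := hA.map f
  have key := weight_kills (V := V) (A := A.map f) hVab (by
      rintro _ ⟨x, hx, rfl⟩ _ ⟨y, hy, rfl⟩
      rw [← map_mul, hab x hx y hy, map_mul])
    (hodd (Fact.out : s.Prime) hs hVp) (hodd (Fact.out : r.Prime) hr hAp)
    (by
      obtain ⟨i, hi⟩ := IsPGroup.iff_card.1 hAp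
      obtain ⟨j, hj⟩ := IsPGroup.iff_card.1 hVp
      rw [hi, hj]
      exact ((Nat.coprime_primes (Fact.out : r.Prime) (Fact.out : s.Prime)).2 hrs).pow i j)
    (u := f v) (z := f z) (by rw [← map_mul, hv, map_one])
    (by
      rintro _ ⟨x, hx, rfl⟩
      rw [← map_inv, ← map_mul, ← map_mul, hinv x hx, map_inv])
    (by
      rintro _ ⟨x, hx, rfl⟩
      exact ⟨z * x * z⁻¹, hzA x hx, by rw [map_mul, map_mul, map_inv]⟩)
    (hz.of_dvd_nat (orderOf_map_dvd f z))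
    (by
      rw [hV]
      rintro _ ⟨c, hc, rfl⟩ hcv
      obtain ⟨e, heN, he⟩ := exists_fixed_rep (N := N)
        (hPo.of_dvd_nat (Subgroup.card_dvd_of_le (hN ▸ Subgroup.map_subtype_le _))) hv (c := c)
        (by rw [hf] at hcv; simpa using hcv)
      have he' : f e = 1 := by rw [hf]; exact (QuotientGroup.eq_one_iff e).2 heN
      have h := congrArg f (hfix _ (mul_mem hc (hN ▸ Subgroup.map_subtype_le _ <| heN)) he)
      simpa [he'] using h)
  refine Solv.centralizes_of_frattini (Cfsg.pCore s M) hP _ (by rw [Subgroup.normalizer_eq_top]; trivial) ?_ ?_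
  · obtain ⟨k, hk⟩ := hA ⟨_, mul_mem (hzA a ha) (inv_mem ha)⟩
    exact Nat.Coprime.coprime_dvd_left (orderOf_dvd_of_pow_eq_one (congrArg Subtype.val hk))
      (((Nat.coprime_primes (Fact.out : r.Prime) (Fact.out : s.Prime)).2 hrs).pow_left k)
  · intro x hx
    rw [← hN, ← QuotientGroup.eq_one_iff, ← QuotientGroup.mk'_apply, ← hf, map_commutatorElement,
      commutatorElement_eq_one_iff_commute, map_mul, map_mul, map_mul, map_inv, map_inv]
    exact (key (f a) ⟨a, ha, rfl⟩ (f x) (hV ▸ ⟨x, hx, rfl⟩)).symm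

variable {G : Type w} [Group G] [Finite G] [IsSimpleGroup G] {t : G} {O : Subgroup G}

/-- A part of `F(N)` away from `π(F(C))` has no fixed point of `v = g t g⁻¹` besides the identity: second form. -/
theorem MaxCent.fixed_trivial' (hG : ¬ IsMulCommutative G) (h : MaxCent t O) {v v' g : G} (hv' : v' * v' = 1)
    (htv : Commute t v) (hgt : g * t * g⁻¹ = v) (hgv : g * v' * g⁻¹ = t) {N : Subgroup G} (htN : t ∈ N)
    (hCN : Cfsg.leadsTo (Subgroup.centralizer ({t} : Set G)) N) {Y : Subgroup G} (hYN : Y ≤ N) (hYO : Y ≤ O)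
    (hYv : ∀ y ∈ Y, Commute y v)
    (hYC : Subgroup.centralizer (Y : Set G) ≤ Subgroup.centralizer ({t} : Set G))
    (hfix : ∀ y ∈ Y, ∀ s : ℕ, s.Prime → s ≠ 2 → ∀ x ∈ fq s (Subgroup.centralizer ({t} : Set G)),
      Commute x v' → Commute (g⁻¹ * y * g) x)
    {r : ℕ} (hr : r.Prime) (h0 : Cfsg.pCore r ↥(Subgroup.centralizer ({t} : Set G)) = ⊥)
    {w : G} (hw : w ∈ fq r N) (hwv : Commute w v) : w = 1 := by
  haveI := Fact.mk hr
  obtain ⟨C, hC⟩ : ∃ C, C = Subgroup.centralizer ({t} : Set G) := ⟨_, rfl⟩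
  have hr2 : r ≠ 2 := fun e => h.two_core_ne (e ▸ h0)
  rw [← hC] at hCN hfix hYC
  have h0' : Cfsg.pCore r ↥C = ⊥ := by rw [hC]; exact h0
  have hWC : fq r N ⊓ C = ⊥ := (BenderUniq.facts hG C N (hC ▸ h.max) hCN).2.2.1 r hr h0'
  have hWn : N ≤ Subgroup.normalizer (fq r N : Set G) := fq_le_norm r hr N
  have hfix0 : ∀ y ∈ fq r N, Commute y t → y = 1 := fun y hy hyt =>
    Subgroup.mem_bot.1 (hWC ▸ ⟨hy, hC ▸ Subgroup.mem_centralizer_singleton_iff.2 hyt.eq⟩)
  have hinvt := inverts h.sq (hWn htN) hfix0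
  -- `A`, the image of the `v`-fixed part
  obtain ⟨A, hA⟩ : ∃ A, A = (fq r N ⊓ Subgroup.centralizer ({v} : Set G)).map (MulAut.conj g⁻¹).toMonoidHom :=
    ⟨_, rfl⟩
  have hAmem : ∀ a, a ∈ A ↔ g * a * g⁻¹ ∈ fq r N ∧ Commute (g * a * g⁻¹) v := by
    intro a
    rw [hA, Subgroup.mem_map_equiv, Subgroup.mem_inf, Subgroup.mem_centralizer_singleton_iff]
    simp [Commute, SemiconjBy]
  have hAC : ∀ a ∈ A, Commute a t := fun a ha => by
    have h1 := ((hAmem a).1 ha).2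
    rw [← hgt] at h1
    exact (Commute.conj_iff g).1 h1
  have hAle : A ≤ C := fun a ha => hC ▸ Subgroup.mem_centralizer_singleton_iff.2 (hAC a ha).eq
  have hAp : IsPGroup r ↥A := hA ▸ ((fq_isPGroup r N).to_le inf_le_left).map _
  have hAinv : ∀ a ∈ A, v' * a * v'⁻¹ = a⁻¹ := by
    intro a ha
    have h1 := hinvt _ ((hAmem a).1 ha).1
    calc v' * a * v'⁻¹ = g⁻¹ * ((g * v' * g⁻¹) * (g * a * g⁻¹) * (g * v' * g⁻¹)⁻¹) * g := by group
      _ = g⁻¹ * (g * a * g⁻¹)⁻¹ * g := by rw [hgv, h1]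
      _ = _ := by group
  have hAab : ∀ a ∈ A, ∀ b ∈ A, a * b = b * a := by
    intro a ha b hb
    have e := hAinv _ (A.mul_mem ha hb)
    rw [show v' * (a * b) * v'⁻¹ = v' * a * v'⁻¹ * (v' * b * v'⁻¹) by group, hAinv a ha, hAinv b hb,
      mul_inv_rev] at e
    calc a * b = (b⁻¹ * a⁻¹)⁻¹ := by group
      _ = _ := by rw [← e]; group
  have hv'C : v' ∈ C := by
    rw [hC]
    refine Subgroup.mem_centralizer_singleton_iff.2 ((Commute.conj_iff g).1 ?_).eq
    rw [hgv, hgt]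
    exact htv
  have hYt : ∀ y ∈ Y, Commute y t := fun y hy =>
    Subgroup.mem_centralizer_singleton_iff.1 (h.core_le (hYO hy))
  have hall : ∀ y ∈ Y, ∀ a ∈ A, Commute (g⁻¹ * y * g) a := by
    intro y hy a ha
    obtain ⟨z, hz⟩ : ∃ z, z = g⁻¹ * y * g := ⟨_, rfl⟩
    rw [← hz]
    have hzC : z ∈ C := by
      rw [hC]
      refine Subgroup.mem_centralizer_singleton_iff.2 ?_
      have := (Commute.conj_iff g⁻¹).2 (hYv y hy)
      rw [inv_inv, show g⁻¹ * v * g = t by rw [← hgt]; group, ← hz] at this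
      exact this.eq
    have hzA : ∀ b ∈ A, z * b * z⁻¹ ∈ A := by
      intro b hb
      refine (hAmem _).2 ?_
      have e : g * (z * b * z⁻¹) * g⁻¹ = y * (g * b * g⁻¹) * y⁻¹ := by rw [hz]; group
      rw [e]
      refine ⟨conj_fq hr (hYN hy) ((hAmem b).1 hb).1, ?_⟩
      exact ((hYv y hy).mul_left ((hAmem b).1 hb).2).mul_left (hYv y hy).inv_left
    have hzodd : Odd (orderOf z) := by
      refine h.core_odd.of_dvd_nat ?_
      rw [hz, show g⁻¹ * y * g = MulAut.conj g⁻¹ y by simp, MulEquiv.orderOf_eq,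
        ← Subgroup.orderOf_mk _ (hYO hy)]
      exact orderOf_dvd_natCard _
    obtain ⟨e, he⟩ : ∃ e, e = z * a * z⁻¹ * a⁻¹ := ⟨_, rfl⟩
    have heA : e ∈ A := he ▸ mul_mem (hzA a ha) (inv_mem ha)
    have heC : e ∈ C := hAle heA
    have heF : (⟨e, heC⟩ : ↥C) ∈ Cfsg.fittingSubgroup ↥C := by
      refine Solv.centralizer_fitting_le (hC ▸ h.solv) (Subgroup.mem_centralizer_iff.2 fun x hx => ?_)
      refine (Subgroup.mem_centralizer_singleton_iff.1
        ((?_ : Cfsg.fittingSubgroup ↥C ≤ Subgroup.centralizer ({(⟨e, heC⟩ : ↥C)} : Set ↥C)) hx))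
      rw [Solv.fitting_eq_iSup_pCore, iSup_le_iff]
      intro p x hx
      refine Subgroup.mem_centralizer_singleton_iff.2 ?_
      haveI := Fact.mk p.2
      by_cases hp2 : (p : ℕ) = 2
      · refine Subtype.ext (h.commute_two (h.core e (hAC e heA) ?_) (b := (x : G)) ?_).symm.eq
        · obtain ⟨k, hk⟩ := hAp ⟨e, heA⟩
          exact ((hr.odd_of_ne_two hr2).pow).of_dvd_nat (orderOf_dvd_of_pow_eq_one (congrArg Subtype.val hk))
        · rw [← hC, ← hp2]
          exact ⟨x, hx, rfl⟩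
      by_cases hpr : (p : ℕ) = r
      · have hx0 : x ∈ Cfsg.pCore r ↥C := hpr ▸ hx
        rw [h0', Subgroup.mem_bot] at hx0
        rw [hx0, one_mul, mul_one]
      have hw' := weight_core (M := ↥C) (r := r) hr2 hp2 (Ne.symm hpr) (A := A.subgroupOf C)
        (hAp.of_equiv (Subgroup.subgroupOfEquivOfLe hAle).symm)
        (fun b hb c hc => Subtype.ext (hAab _ hb _ hc)) (v := ⟨v', hv'C⟩) (z := ⟨z, hzC⟩) (Subtype.ext hv')
        (fun b hb => Subtype.ext (hAinv _ hb)) (fun b hb => hzA _ hb) (by rwa [Subgroup.orderOf_mk])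
        (fun d hd hdv => Subtype.ext (mul_inv_eq_iff_eq_mul.2 (hz ▸ hfix y hy p p.2 hp2 (d : G) ⟨d, hd, rfl⟩
          (mul_inv_eq_iff_eq_mul.1 (congrArg Subtype.val hdv)).symm).eq))
        ⟨a, hAle ha⟩ ha
      have hw'' := Subgroup.mem_centralizer_iff.1 hw' x hx
      rw [show (⟨e, heC⟩ : ↥C) = ⟨z, hzC⟩ * ⟨a, hAle ha⟩ * ⟨z, hzC⟩⁻¹ * ⟨a, hAle ha⟩⁻¹ from Subtype.ext he]
      exact hw''
    have he1 : (⟨e, heC⟩ : ↥C) ∈ Cfsg.pCore r ↥C := by
      refine Solv.pgroup_le_pCore_of_le_fitting ?_ (Subgroup.zpowers_le.2 heF) (Subgroup.mem_zpowers _)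
      obtain ⟨k, hk⟩ := hAp ⟨e, heA⟩
      obtain ⟨j, -, hj⟩ := (Nat.dvd_prime_pow hr).1 (orderOf_dvd_of_pow_eq_one (congrArg Subtype.val hk))
      exact IsPGroup.of_card (n := j) (by rw [Nat.card_zpowers, Subgroup.orderOf_mk]; exact hj)
    rw [h0', Subgroup.mem_bot] at he1
    rw [← commutatorElement_eq_one_iff_commute, commutatorElement_def, ← he]
    exact congrArg Subtype.val he1
  -- so `Y` centralises `w`
  refine hfix0 w hw (Subgroup.mem_centralizer_singleton_iff.1 (hC ▸ hYC ?_))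
  refine Subgroup.mem_centralizer_iff.2 fun y hy => ?_
  have := (Commute.conj_iff g).2 (hall y hy (g⁻¹ * w * g) ((hAmem _).2 (by
    rw [show g * (g⁻¹ * w * g) * g⁻¹ = w by group]; exact ⟨hw, hwv⟩)))
  rw [show g * (g⁻¹ * y * g) * g⁻¹ = y by group, show g * (g⁻¹ * w * g) * g⁻¹ = w by group] at this
  exact this.eq

/-- The Fitting subgroup of `N` has no part away from `π(F(C))`: second form. -/
theorem MaxCent.other_bot' (hG : ¬ IsMulCommutative G) (h : MaxCent t O) {u ρ : G} (hu : u * u = 1)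
    (htu : Commute t u) (hρt : ρ * t * ρ⁻¹ = u) (hρu : ρ * u * ρ⁻¹ = t * u) {N : Subgroup G} (htN : t ∈ N)
    (huN : u ∈ N) (hCN : Cfsg.leadsTo (Subgroup.centralizer ({t} : Set G)) N) {Y : Subgroup G} (hYN : Y ≤ N)
    (hYO : Y ≤ O) (hYu : ∀ y ∈ Y, Commute y u)
    (hYC : Subgroup.centralizer (Y : Set G) ≤ Subgroup.centralizer ({t} : Set G))
    (hfix : ∀ y ∈ Y, ∀ s : ℕ, s.Prime → s ≠ 2 → ∀ x ∈ fq s (Subgroup.centralizer ({t} : Set G)),
      Commute x u → Commute (ρ⁻¹ * y * ρ) x ∧ Commute ((ρ * ρ)⁻¹ * y * (ρ * ρ)) x)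
    {r : ℕ} (hr : r.Prime) (h0 : Cfsg.pCore r ↥(Subgroup.centralizer ({t} : Set G)) = ⊥) : fq r N = ⊥ := by
  haveI := Fact.mk hr
  obtain ⟨hρtu, hσt, hσu, -⟩ := rho_sq hu htu hρt hρu
  have htu2 : t * u * (t * u) = 1 := by
    rw [mul_assoc, ← mul_assoc u, ← htu.eq, mul_assoc t u, hu, mul_one, h.sq]
  have hYt : ∀ y ∈ Y, Commute y t := fun y hy =>
    Subgroup.mem_centralizer_singleton_iff.1 (h.core_le (hYO hy))
  have h1 : ∀ w ∈ fq r N, Commute w u → w = 1 := fun w hw hwu => by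
    refine h.fixed_trivial' hG htu2 htu hρt hρtu htN hCN hYN hYO hYu hYC (fun y hy s hs hs2 x hx hxtu => ?_)
      hr h0 hw hwu
    refine (hfix y hy s hs hs2 x hx ?_).1
    have hxt : Commute x t := Subgroup.mem_centralizer_singleton_iff.1 (fq_le s _ hx)
    have := hxt.inv_right.mul_right hxtu
    rwa [inv_mul_cancel_left] at this
  have h2 : ∀ w ∈ fq r N, Commute w (t * u) → w = 1 := fun w hw hwu =>
    h.fixed_trivial' hG hu ((Commute.refl t).mul_right htu) hσt hσu htN hCN hYN hYO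
      (fun y hy => (hYt y hy).mul_right (hYu y hy)) hYC (fun y hy s hs hs2 x hx hxu => (hfix y hy s hs hs2 x hx hxu).2)
      hr h0 hw hwu
  exact h.bot_of_fixed hG hu htu htN huN hCN h1 h2 hr h0

end Cfsg.Agent.GW
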