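import Cfsg.Agent.Lib.GW.MaxTrick
import Cfsg.Agent.Lib.GW.MaxWeight
import Cfsg.Agent.Lib.GW.MaxLayerConj
import Cfsg.Agent.Lib.GW.FourOrbit
import Cfsg.Agent.Lib.GW.MaxFusion
import Cfsg.Agent.Lib.GW.MaxGood

/-!
# The rotation case: maximal subgroups with a layer over a four Sylow subgroup

`P = ⟨t, u⟩` is a Sylow subgroup and `C = C(t)` maximal.  A maximal subgroup through `t` with a layer contains all
of `P` and a rotation in its layer, and the part of a core fixed by `u` centralises the layer.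
-/

set_option autoImplicit false
set_option linter.unusedSectionVars false
set_option linter.style.haveILetI false

namespace Cfsg.Agent.GW

open Cfsg Cfsg.Agent
open scoped commutatorElement

universe w

variable {G : Type w} [Group G] [Finite G] [IsSimpleGroup G]

/-- the hypotheses of the rotation case: `P = {1, t, u, t u}` a Sylow subgroup, `C(t)` maximal with core `O`, no
central element of an odd core of `C(t)` is fixed by `u` -/
structure RotHyp (t u : G) (O : Subgroup G) (P : Sylow 2 G) : Prop where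
  nonab : ¬ IsMulCommutative G
  kproper : Cfsg.IsKProper G
  mc : MaxCent t O
  rot : Rotates t
  layer : MaxLayer t O
  card : Nat.card P = 4
  exp : ∀ x : P, x * x = 1
  one : ∀ a b : G, orderOf a = 2 → orderOf b = 2 → IsConj a b
  tP : t ∈ (P : Subgroup G)
  uP : u ∈ (P : Subgroup G)
  u_ne : u ≠ 1
  u_ne_t : u ≠ t
  center : ∀ s : ℕ, s.Prime → s ≠ 2 → ∀ z ∈ fq s (Subgroup.centralizer ({t} : Set G)),
    (∀ x ∈ fq s (Subgroup.centralizer ({t} : Set G)), Commute z x) → Commute z u → z = 1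
  lay_center : ∀ M : Subgroup G, IsCoatom M → t ∈ M → ∀ x ∈ lay M ⊓ O,
    x ∈ Subgroup.centralizer (lay M : Set G) → x = 1

variable {t u : G} {O : Subgroup G} {P : Sylow 2 G}

set_option quotPrecheck false in
local notation "Cz" => Subgroup.centralizer ({t} : Set G)

theorem RotHyp.sq (h : RotHyp t u O P) {x : G} (hx : x ∈ (P : Subgroup G)) : x * x = 1 :=
  congrArg Subtype.val (h.exp ⟨x, hx⟩)

theorem RotHyp.uu (h : RotHyp t u O P) : u * u = 1 := h.sq h.uP

theorem RotHyp.comm (h : RotHyp t u O P) {x y : G} (hx : x ∈ (P : Subgroup G)) (hy : y ∈ (P : Subgroup G)) :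
    Commute x y := by
  have h1 := inv_eq_of_mul_eq_one_right (h.sq (mul_mem hx hy))
  rw [mul_inv_rev, inv_eq_of_mul_eq_one_right (h.sq hx), inv_eq_of_mul_eq_one_right (h.sq hy)] at h1
  exact h1.symm

theorem RotHyp.tu (h : RotHyp t u O P) : Commute t u := h.comm h.tP h.uP

theorem RotHyp.uC (h : RotHyp t u O P) : u ∈ Cz := Subgroup.mem_centralizer_singleton_iff.2 h.tu.eq.symm

theorem RotHyp.P_le (h : RotHyp t u O P) : (P : Subgroup G) ≤ Cz := fun x hx =>
  Subgroup.mem_centralizer_singleton_iff.2 (h.comm hx h.tP).eq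

theorem RotHyp.mem_cases (h : RotHyp t u O P) {x : G} (hx : x ∈ (P : Subgroup G)) :
    x = 1 ∨ x = t ∨ x = u ∨ x = t * u := by
  classical
  haveI : Fintype (P : Subgroup G) := Fintype.ofFinite _
  by_contra hc
  push Not at hc
  obtain ⟨h1, h2, h3, h4⟩ := hc
  have e1 : t * u ≠ 1 := fun e => h.u_ne_t (by
    rw [eq_inv_of_mul_eq_one_right e, inv_eq_of_mul_eq_one_left h.mc.sq])
  have e2 : t * u ≠ t := fun e => h.u_ne (mul_eq_left.1 e)
  have e3 : t * u ≠ u := fun e => h.mc.ne (mul_eq_right.1 e)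
  have hle := Finset.card_le_univ ({1, ⟨t, h.tP⟩, ⟨u, h.uP⟩, ⟨t * u, mul_mem h.tP h.uP⟩, ⟨x, hx⟩} :
    Finset (P : Subgroup G))
  rw [← Nat.card_eq_fintype_card, show Nat.card (P : Subgroup G) = 4 from h.card] at hle
  rw [Finset.card_insert_of_notMem (by simp [Subtype.ext_iff, h.mc.ne.symm, h.u_ne.symm, e1.symm, Ne.symm h1]),
    Finset.card_insert_of_notMem (by simp [Subtype.ext_iff, h.u_ne_t.symm, e2.symm, Ne.symm h2, -mul_eq_left, -left_eq_mul]),
    Finset.card_insert_of_notMem (by simp [Subtype.ext_iff, e3.symm, Ne.symm h3, -right_eq_mul]),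
    Finset.card_pair (by simp [Subtype.ext_iff, Ne.symm h4])] at hle
  omega

/-- `C(t) = O P` -/
theorem RotHyp.decomp (h : RotHyp t u O P) {g : G} (hg : g ∈ Cz) :
    ∃ a ∈ O, ∃ p ∈ (P : Subgroup G), g = a * p := by
  haveI : Fact (Nat.Prime 2) := ⟨Nat.prime_two⟩
  have hsup : Cz ≤ O ⊔ (P : Subgroup G) := by
    refine (Subgroup.relIndex_eq_one.1 ?_)
    rw [← not_ne_iff, Nat.ne_one_iff_exists_prime_dvd]
    rintro ⟨r, hr, hrd⟩
    haveI := Fact.mk hr
    by_cases hr2 : r = 2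
    · subst hr2
      have h1 : (P : Subgroup G).relIndex Cz ∣ (P : Subgroup G).index := Subgroup.relIndex_dvd_index_of_le h.P_le
      exact P.not_dvd_index ((hrd.trans (Subgroup.relIndex_dvd_of_le_left _ le_sup_right)).trans h1)
    obtain ⟨Q, hQ⟩ := Solv.exists_isSylIn r Cz
    have hQO : Q ≤ O := fun x hx => by
      obtain ⟨i, hi⟩ := hQ.isPGroup ⟨x, hx⟩
      exact h.mc.core x (Subgroup.mem_centralizer_singleton_iff.1 (hQ.1 hx))
        (((hr.odd_of_ne_two hr2).pow).of_dvd_nat (orderOf_dvd_of_pow_eq_one (congrArg Subtype.val hi)))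
    have h2 : (O ⊔ (P : Subgroup G)).relIndex Cz ∣ Q.relIndex Cz :=
      Subgroup.relIndex_dvd_of_le_left _ (hQO.trans le_sup_left)
    have h3 := hrd.trans h2
    rw [Subgroup.relIndex] at h3
    have h4 := Subgroup.card_mul_index (Q.subgroupOf Cz)
    rw [Nat.card_congr (Subgroup.subgroupOfEquivOfLe hQ.1).toEquiv, hQ.2] at h4
    have h5 : r ^ ((Nat.card ↥Cz).factorization r + 1) ∣ Nat.card ↥Cz := by
      rw [pow_succ]; conv_rhs => rw [← h4]
      exact mul_dvd_mul_left _ h3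
    have := (hr.pow_dvd_iff_le_factorization Nat.card_pos.ne').1 h5
    omega
  have hg' := hsup hg
  rw [← SetLike.mem_coe, Subgroup.coe_mul_of_right_le_normalizer_left _ _ (h.P_le.trans h.mc.core_norm)] at hg'
  obtain ⟨a, ha, p, hp, e⟩ := hg'
  exact ⟨a, ha, p, hp, e.symm⟩

/-- an element commuting with an involution `≠ 1, t` of `P` commutes with `u`, if it commutes with `t` -/
theorem RotHyp.commute_u (h : RotHyp t u O P) {x z : G} (hxt : Commute x t) (hz : z ∈ (P : Subgroup G)) (hz1 : z ≠ 1)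
    (hzt : z ≠ t) (hxz : Commute x z) : Commute x u := by
  rcases h.mem_cases hz with e | e | e | e
  · exact absurd e hz1
  · exact absurd e hzt
  · exact e ▸ hxz
  · have := hxt.mul_right (e ▸ hxz)
    rwa [← mul_assoc, h.mc.sq, one_mul] at this

/-- the element carried into `K = C_O(u)` by a rotation -/
theorem RotHyp.rho_K (h : RotHyp t u O P) {ρ : G} (hρt : ρ * t * ρ⁻¹ = u) (hρu : ρ * u * ρ⁻¹ = t * u) {x : G}
    (hx : x ∈ O) (hxu : Commute x u) : ρ * x * ρ⁻¹ ∈ O ∧ Commute (ρ * x * ρ⁻¹) u := by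
  have h1 : Commute (ρ * x * ρ⁻¹) u := hρt ▸ (Commute.conj_iff ρ).2 (h.mc.core_commute hx)
  have h2 : Commute (ρ * x * ρ⁻¹) (t * u) := hρu ▸ (Commute.conj_iff ρ).2 hxu
  refine ⟨h.mc.core _ ?_ ?_, h1⟩
  · have := h2.mul_right h1
    rwa [show t * u * u = t by rw [mul_assoc, h.uu, mul_one]] at this
  · rw [show ρ * x * ρ⁻¹ = MulAut.conj ρ x by simp, MulEquiv.orderOf_eq]
    exact h.mc.core_orderOf hx

/-- a rotation normalises `C_O(u)` -/
theorem RotHyp.rho_norm (h : RotHyp t u O P) {ρ : G} (hρt : ρ * t * ρ⁻¹ = u) (hρu : ρ * u * ρ⁻¹ = t * u) :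
    ρ ∈ Subgroup.normalizer ((O ⊓ Subgroup.centralizer ({u} : Set G) : Subgroup G) : Set G) :=
  mem_norm_of_conj fun x hx => by
    obtain ⟨h1, h2⟩ := h.rho_K hρt hρu hx.1 (Subgroup.mem_centralizer_singleton_iff.1 hx.2)
    exact ⟨h1, Subgroup.mem_centralizer_singleton_iff.2 h2.eq⟩

/-- **an element of prime power order of `C_O(u)` is not isolated in `C(t)`** -/
theorem RotHyp.not_isolated (h : RotHyp t u O P) {q : ℕ} (hq : q.Prime) (hq2 : q ≠ 2)
    (hne : fq q Cz ≠ ⊥) {x : G} (hx : x ∈ O) (hxu : Commute x u) {k : ℕ} (hxq : orderOf x = q ^ k) :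
    ¬ Subgroup.centralizer ({x} : Set G) ≤ Cz := by
  haveI := Fact.mk hq
  intro hle
  obtain ⟨ρ, hρt, hρu⟩ := h.rot u h.uu h.u_ne h.u_ne_t h.tu
  obtain ⟨hyO, hyu⟩ := h.rho_K hρt hρu hx hxu
  obtain ⟨y, hy⟩ : ∃ y, y = ρ * x * ρ⁻¹ := ⟨_, rfl⟩
  rw [← hy] at hyO hyu
  -- `y` fixes an element of the centre of `O_q(C)`
  obtain ⟨Z, hZ⟩ : ∃ Z, Z = fq q Cz ⊓ Subgroup.centralizer (fq q Cz : Set G) := ⟨_, rfl⟩
  have hZne : Z ≠ ⊥ := by
    haveI : Nontrivial ↥(fq q Cz) := (Subgroup.nontrivial_iff_ne_bot _).2 hne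
    haveI := (fq_isPGroup q Cz).center_nontrivial
    obtain ⟨z, hz⟩ := exists_ne (1 : Subgroup.center ↥(fq q Cz))
    refine fun e => hz (Subtype.ext (Subtype.ext (Subgroup.mem_bot.1 (e ▸ hZ.symm ▸ ⟨(z : ↥(fq q Cz)).2, ?_⟩))))
    exact Subgroup.mem_centralizer_iff.2 fun w hw =>
      congrArg Subtype.val (Subgroup.mem_center_iff.1 z.2 ⟨w, hw⟩)
  have hyn : y ∈ Subgroup.normalizer (Z : Set G) := by
    rw [hZ]
    have h1 := fq_le_norm q hq Cz (h.mc.core_le hyO)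
    exact Subgroup.inf_normalizer_le_normalizer_inf ⟨h1, normalizer_le_norm_cent _ h1⟩
  let φ := MulAut.conjNormal (H := Z.subgroupOf (Subgroup.normalizer (Z : Set G)))
  have hZp : IsPGroup q ↥Z := (fq_isPGroup q Cz).to_le (hZ ▸ inf_le_left)
  have hYp : IsPGroup q ↥(Subgroup.zpowers y) := IsPGroup.of_card (n := k) (by
    rw [Nat.card_zpowers, hy, show ρ * x * ρ⁻¹ = MulAut.conj ρ x by simp, MulEquiv.orderOf_eq, hxq])
  have hsup : IsPGroup q ↥(Z ⊔ Subgroup.zpowers y : Subgroup G) := by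
    refine hZp.to_sup_of_normal_left' hYp ?_
    exact Subgroup.zpowers_le.2 hyn
  haveI : Nontrivial ↥(Z.subgroupOf (Z ⊔ Subgroup.zpowers y)) := by
    rw [Subgroup.nontrivial_iff_ne_bot, Ne, Subgroup.subgroupOf_eq_bot, disjoint_iff, inf_eq_left.2 le_sup_left]
    exact hZne
  haveI : (Z.subgroupOf (Z ⊔ Subgroup.zpowers y)).Normal := by
    rw [Subgroup.normal_subgroupOf_iff_le_normalizer le_sup_left]
    exact sup_le Subgroup.le_normalizer (Subgroup.zpowers_le.2 hyn)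
  obtain ⟨z, hz, hz1, hzc⟩ := exists_central_mem hsup (Z.subgroupOf (Z ⊔ Subgroup.zpowers y))
    ((Subgroup.nontrivial_iff_ne_bot _).1 inferInstance)
  have hzZ : (z : G) ∈ Z := hz
  have hzy : Commute y (z : G) :=
    congrArg Subtype.val (hzc ⟨y, Subgroup.mem_sup_right (Subgroup.mem_zpowers y)⟩).eq
  replace hzZ := hZ.le hzZ
  have hzu : Commute (z : G) u := by
    have h1 : Commute (ρ⁻¹ * (z : G) * ρ) x := by
      have := (Commute.conj_iff ρ⁻¹).2 hzy.symm
      rwa [inv_inv, show ρ⁻¹ * y * ρ = x by rw [hy]; group] at this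
    have h2 := (Commute.conj_iff ρ).2
      (show Commute (ρ⁻¹ * (z : G) * ρ) t from
        Subgroup.mem_centralizer_singleton_iff.1 (hle (Subgroup.mem_centralizer_singleton_iff.2 h1.eq)))
    rwa [hρt, show ρ * (ρ⁻¹ * (z : G) * ρ) * ρ⁻¹ = z by group] at h2
  refine hz1 (Subtype.ext (h.center q hq hq2 _ hzZ.1 (fun w hw => ?_) hzu))
  exact (Subgroup.mem_centralizer_iff.1 hzZ.2 w hw).symm

/-- a maximal subgroup through `t` with a layer: the layer contains `P` -/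
theorem RotHyp.P_le_lay (h : RotHyp t u O P) {M : Subgroup G} {v : G} {T : Subgroup G} (htM : t ∈ M)
    (f : LayerFacts t O M v T) (huM : u ∈ M) : (P : Subgroup G) ≤ lay M := by
  haveI : Fact (Nat.Prime 2) := ⟨Nat.prime_two⟩
  have hPM : (P : Subgroup G) ≤ M := fun x hx => by
    rcases h.mem_cases hx with rfl | rfl | rfl | rfl
    exacts [one_mem _, htM, huM, mul_mem htM huM]
  haveI : Group.IsPerfect ↥(lay M) := ⟨Subgroup.map_injective (lay M).subtype_injective (by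
    rw [Subgroup.map_subtype_commutator, lay_perfect, ← MonoidHom.range_eq_map, Subgroup.range_subtype])⟩
  obtain ⟨S⟩ := (inferInstance : Nonempty (Sylow 2 ↥(lay M)))
  have heven : 2 ∣ Nat.card ↥(lay M) := by
    have h1 : orderOf v = 2 := orderOf_eq_prime (by rw [pow_two]; exact f.v_sq) f.v_ne
    exact h1 ▸ Subgroup.orderOf_dvd_natCard _ f.v_mem
  have hS := not_cyclic_of_perfect S heven
  obtain ⟨Q, hQ⟩ := (S.isPGroup'.map (lay M).subtype).exists_le_sylow
  obtain ⟨S', hS'⟩ : ∃ S', S' = (S : Subgroup ↥(lay M)).map (lay M).subtype := ⟨_, rfl⟩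
  rw [← hS'] at hQ
  have hS'c : Nat.card ↥S' = Nat.card (S : Subgroup ↥(lay M)) :=
    hS' ▸ Subgroup.card_map_of_injective (lay M).subtype_injective
  have hQ4 : Nat.card (Q : Subgroup G) = 4 := (Nat.card_congr (Q.equiv P).toEquiv).trans h.card
  have hS4 : Nat.card ↥S' = 4 := by
    obtain ⟨j, hj⟩ := IsPGroup.iff_card.1 S.isPGroup'
    have hd := hQ4 ▸ Subgroup.card_dvd_of_le hQ
    rw [hS'c, hj] at hd ⊢
    have hj2 : 2 ≤ j := by
      by_contra hlt
      refine hS ?_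
      rcases Nat.lt_succ_iff.1 (Nat.lt_succ_of_lt (not_le.1 hlt)) with h'
      by_cases j0 : j = 0
      · haveI : Subsingleton ↥(S : Subgroup ↥(lay M)) :=
          (Nat.card_eq_one_iff_unique.1 (by rw [hj, j0, pow_zero])).1
        exact isCyclic_of_subsingleton
      · exact isCyclic_of_prime_card (p := 2) (by rw [hj, show j = 1 by omega, pow_one])
    have : 2 ^ j ≤ 2 ^ 2 := Nat.le_of_dvd (by norm_num) hd
    have hj2' : j ≤ 2 := (Nat.pow_le_pow_iff_right (by norm_num)).1 this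
    rw [show j = 2 by omega]; rfl
  have hQlay : (Q : Subgroup G) ≤ lay M := by
    rw [← Subgroup.eq_of_le_of_card_ge hQ (by rw [hQ4, hS4]), hS']
    exact Subgroup.map_subtype_le _
  obtain ⟨g, hg⟩ := MulAction.exists_smul_eq ↥M (Q.subtype (hQlay.trans (lay_le M))) (P.subtype hPM)
  intro x hx
  have hm : (⟨x, hPM hx⟩ : ↥M) ∈ (P.subtype hPM : Subgroup ↥M) := hx
  rw [← hg] at hm
  obtain ⟨y, hy, e⟩ := hm
  rw [show x = (g : G) * (y : G) * (g : G)⁻¹ from (congrArg Subtype.val e).symm.trans rfl]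
  exact (Subgroup.mem_normalizer_iff.1 (lay_norm M g.2) _).1 (hQlay hy)

/-- the reflection `v` is carried to `u` or `t u` by `lay M ∩ O` -/
theorem RotHyp.conj_refl (h : RotHyp t u O P) {M : Subgroup G} {v : G} {T : Subgroup G}
    (f : LayerFacts t O M v T) (hP : (P : Subgroup G) ≤ lay M) :
    ∃ a ∈ lay M ⊓ O, a * v * a⁻¹ ∈ (P : Subgroup G) ∧ a * v * a⁻¹ ≠ 1 ∧ a * v * a⁻¹ ≠ t := by
  haveI : Fact (Nat.Prime 2) := ⟨Nat.prime_two⟩
  obtain ⟨H, hH⟩ : ∃ H, H = lay M ⊓ Cz := ⟨_, rfl⟩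
  have hvH : v ∈ H := hH ▸ ⟨f.v_mem, Subgroup.mem_centralizer_singleton_iff.2 f.v_comm.eq⟩
  have hPH : (P : Subgroup G) ≤ H := hH ▸ le_inf hP h.P_le
  obtain ⟨R, hR⟩ := (IsPGroup.of_card (p := 2) (n := 1) (G := Subgroup.zpowers (⟨v, hvH⟩ : ↥H)) (by
    rw [Nat.card_zpowers, Subgroup.orderOf_mk, orderOf_eq_prime (p := 2) (by rw [pow_two]; exact f.v_sq) f.v_ne,
      pow_one])).exists_le_sylow
  obtain ⟨g, hg⟩ := MulAction.exists_smul_eq ↥H R (P.subtype hPH)
  have hgH := g.2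
  replace hgH := Subgroup.mem_inf.1 (show (g : G) ∈ lay M ⊓ Cz from hH.le hgH)
  have hgv : (g : G) * v * (g : G)⁻¹ ∈ (P : Subgroup G) := by
    have : (g * ⟨v, hvH⟩ * g⁻¹ : ↥H) ∈ (P.subtype hPH : Subgroup ↥H) := by
      rw [← hg]; exact ⟨_, hR (Subgroup.mem_zpowers _), rfl⟩
    exact this
  obtain ⟨a, ha, p, hp, e⟩ := h.decomp hgH.2
  have haL : a ∈ lay M := by
    rw [show a = (g : G) * p⁻¹ by rw [e, mul_inv_cancel_right]]
    exact (lay M).mul_mem hgH.1 ((lay M).inv_mem (hP hp))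
  have hpav : p * v * p⁻¹ = a⁻¹ * ((g : G) * v * (g : G)⁻¹) * a := by rw [e]; group
  refine ⟨p⁻¹ * a * p, ⟨(lay M).mul_mem ((lay M).mul_mem ((lay M).inv_mem (hP hp)) haL) (hP hp), ?_⟩, ?_, ?_, ?_⟩
  · have := (Subgroup.mem_normalizer_iff.1 (h.mc.core_norm (h.P_le (inv_mem hp))) a).1 ha
    rwa [inv_inv] at this
  all_goals rw [show p⁻¹ * a * p * v * (p⁻¹ * a * p)⁻¹ = p⁻¹ * ((g : G) * v * (g : G)⁻¹) * p by rw [e]; group]
  · exact mul_mem (mul_mem (inv_mem hp) hgv) hp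
  all_goals rw [(h.comm (inv_mem hp) hgv).eq, inv_mul_cancel_right]
  · exact fun e => f.v_ne (conj_eq_one_iff.1 e)
  · intro e'
    refine f.v_ne_t ?_
    calc v = (g : G)⁻¹ * ((g : G) * v * (g : G)⁻¹) * g := by group
      _ = t := by rw [e', mul_assoc, ← Subgroup.mem_centralizer_singleton_iff.1 hgH.2, inv_mul_cancel_left]

/-- **the part of a core fixed by `u` centralises the layer** -/
theorem RotHyp.fixed_lay (h : RotHyp t u O P) {M : Subgroup G} {v : G} {T : Subgroup G} (htM : t ∈ M)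
    (f : LayerFacts t O M v T) (huM : u ∈ M) {p : ℕ} (hp : p.Prime) (hp2 : p ≠ 2) {x : G} (hx : x ∈ fq p Cz)
    (hxM : x ∈ M) (hxu : Commute x u) : x ∈ Subgroup.centralizer (lay M : Set G) := by
  haveI := Fact.mk hp
  obtain ⟨a, ha, hP1, hne, hnet⟩ := h.conj_refl f (h.P_le_lay htM f huM)
  obtain ⟨A, hA⟩ : ∃ A, A = M ⊓ fq p Cz := ⟨_, rfl⟩
  have hAC : A ≤ M ⊓ Cz := hA ▸ inf_le_inf_left _ (fq_le p _)
  have hAn : M ⊓ Cz ≤ Subgroup.normalizer (A : Set G) := hA ▸ fun g hg =>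
    Subgroup.inf_normalizer_le_normalizer_inf ⟨Subgroup.le_normalizer hg.1, fq_le_norm p hp _ hg.2⟩
  have haM : a ∈ M := lay_le M ha.1
  have haC : a ∈ Cz := h.mc.core_le ha.2
  obtain ⟨z, hz⟩ : ∃ z, z = a * v * a⁻¹ := ⟨_, rfl⟩
  have hxz : Commute x z := by
    rcases h.mem_cases hP1 with e | e | e | e
    · exact absurd e hne
    · exact absurd e hnet
    · exact hz ▸ e ▸ hxu
    · exact hz ▸ e ▸ (h.mc.core_commute (h.mc.fq_odd_le_core hp hp2 hx)).mul_right hxu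
  have hy : a⁻¹ * x * a ∈ A ⊓ Subgroup.centralizer ({v} : Set G) := by
    refine ⟨?_, Subgroup.mem_centralizer_singleton_iff.2 ?_⟩
    · have := (Subgroup.mem_normalizer_iff.1 (hAn (inv_mem (⟨haM, haC⟩ : a ∈ M ⊓ Cz))) x).1 (hA ▸ ⟨hxM, hx⟩)
      rwa [inv_inv] at this
    · have := (Commute.conj_iff a⁻¹).2 hxz
      rw [inv_inv, hz, show a⁻¹ * (a * v * a⁻¹) * a = v by group] at this
      exact this.eq
  have hcen := f.fixed p hp hp2 A hAC ((fq_isPGroup p _).to_le (hA ▸ inf_le_right)) hAn hy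
  refine Subgroup.mem_centralizer_iff.2 fun l hl => ?_
  have h1 : Commute (a⁻¹ * l * a) (a⁻¹ * x * a) := Subgroup.mem_centralizer_iff.1 hcen _
    (mul_mem (mul_mem (inv_mem ha.1) hl) ha.1)
  have := (Commute.conj_iff a).2 h1
  rw [show a * (a⁻¹ * l * a) * a⁻¹ = l by group, show a * (a⁻¹ * x * a) * a⁻¹ = x by group] at this
  exact this.eq

/-- a rotation inside the layer -/
theorem RotHyp.rot_lay (h : RotHyp t u O P) {M : Subgroup G} (hP : (P : Subgroup G) ≤ lay M) :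
    ∃ ρ ∈ lay M, ρ * t * ρ⁻¹ = u ∧ ρ * u * ρ⁻¹ = t * u := by
  haveI : Fact (Nat.Prime 2) := ⟨Nat.prime_two⟩
  haveI : Group.IsPerfect ↥(lay M) := ⟨Subgroup.map_injective (lay M).subtype_injective (by
    rw [Subgroup.map_subtype_commutator, lay_perfect, ← MonoidHom.range_eq_map, Subgroup.range_subtype])⟩
  let S := P.subtype hP
  let e := Subgroup.subgroupOfEquivOfLe hP
  have hS4 : Nat.card (S : Subgroup ↥(lay M)) = 4 := (Nat.card_congr e.toEquiv).trans h.card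
  haveI : IsKleinFour (S : Subgroup ↥(lay M)) := ⟨hS4, Nat.dvd_antisymm
    (Monoid.exponent_dvd_of_forall_pow_eq_one fun x => e.injective (by
      rw [pow_two]; exact (e.map_mul x x).trans ((h.exp (e x)).trans e.map_one.symm))) (by
    obtain ⟨x, hx⟩ := exists_prime_orderOf_dvd_card' (G := (S : Subgroup ↥(lay M))) 2 (by rw [hS4]; norm_num)
    simpa only [hx] using Monoid.order_dvd_exponent x)⟩
  obtain ⟨ι⟩ := IsKleinFour.nonempty_mulEquiv (G₁ := (S : Subgroup ↥(lay M))) (G₂ := DihedralGroup 2)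
  have ho : ∀ x : ↥(lay M), (x : G) * x = 1 → (x : G) ≠ 1 → orderOf x = 2 := fun x h1 h2 =>
    orderOf_eq_prime (by rw [pow_two]; exact Subtype.ext h1) (fun e => h2 (by rw [e]; rfl))
  obtain ⟨g, hg⟩ := one_class_perfect S le_rfl ι ⟨t, hP h.tP⟩ ⟨u, hP h.uP⟩ (ho _ h.mc.sq h.mc.ne)
    (ho _ h.uu h.u_ne)
  have hSc : (S : Subgroup ↥(lay M)) ≤ Subgroup.centralizer ((S : Subgroup ↥(lay M)) : Set ↥(lay M)) :=
    fun x hx => Subgroup.mem_centralizer_iff.2 fun y hy => Subtype.ext (h.comm hy hx).eq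
  obtain ⟨n, hn, hne⟩ := Fusion.fusion_of_abelian (Fusion.sylIn_top S) hSc (x := (⟨t, hP h.tP⟩ : ↥(lay M)))
    (show (⟨t, hP h.tP⟩ : ↥(lay M)) ∈ (S : Subgroup ↥(lay M)) from h.tP) (g := g)
    (by rw [hg]; exact h.uP)
  rw [hg] at hne
  have hnt : (n : G) * t * (n : G)⁻¹ = u := congrArg Subtype.val hne
  have hnP : ∀ x ∈ (P : Subgroup G), (n : G) * x * (n : G)⁻¹ ∈ (P : Subgroup G) := fun x hx =>
    (Subgroup.mem_normalizer_iff.1 hn ⟨x, hP hx⟩).1 hx
  refine ⟨n, n.2, hnt, ?_⟩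
  rcases h.mem_cases (hnP u h.uP) with e1 | e1 | e1 | e1
  · exact absurd (conj_eq_one_iff.1 e1) h.u_ne
  · -- a swap is impossible
    exfalso
    obtain ⟨k, m, hm, hkm⟩ := Nat.exists_eq_two_pow_mul_odd (orderOf_pos (n : G)).ne'
    obtain ⟨j, hj⟩ := hm
    obtain ⟨w, hw⟩ : ∃ w, w = (n : G) ^ m := ⟨_, rfl⟩
    have hnN : (n : G) ∈ Subgroup.normalizer ((P : Subgroup G) : Set G) := mem_norm_of_conj hnP
    have hwN : w ∈ Subgroup.normalizer ((P : Subgroup G) : Set G) := hw ▸ pow_mem hnN _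
    have hwP : w ∈ (P : Subgroup G) := by
      have hWp : IsPGroup 2 ↥(Subgroup.zpowers w) := fun ⟨x, hx⟩ => by
        obtain ⟨i, rfl⟩ := Subgroup.mem_zpowers_iff.1 hx
        refine ⟨k, Subtype.ext ?_⟩
        show (w ^ i) ^ (2 ^ k) = 1
        rw [← zpow_natCast, ← zpow_mul, mul_comm, zpow_mul, zpow_natCast, hw, ← pow_mul,
          mul_comm m, ← hkm, pow_orderOf_eq_one, one_zpow]
      rw [← P.is_maximal' (P.isPGroup'.to_sup_of_normal_left' hWp (Subgroup.zpowers_le.2 hwN)) le_sup_left]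
      exact Subgroup.mem_sup_right (Subgroup.mem_zpowers w)
    have hswap : ∀ i : ℕ, (n : G) ^ (2 * i + 1) * t * ((n : G) ^ (2 * i + 1))⁻¹ = u := by
      intro i
      induction i with
      | zero => simpa using hnt
      | succ i ih =>
        calc (n : G) ^ (2 * (i + 1) + 1) * t * ((n : G) ^ (2 * (i + 1) + 1))⁻¹
            = (n : G) * ((n : G) * ((n : G) ^ (2 * i + 1) * t * ((n : G) ^ (2 * i + 1))⁻¹) * (n : G)⁻¹) *
              (n : G)⁻¹ := by
              rw [show 2 * (i + 1) + 1 = (2 * i + 1) + 1 + 1 by ring, pow_succ', pow_succ']; group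
          _ = _ := by rw [ih, e1, hnt]
    refine h.u_ne_t ?_
    rw [← hswap j, ← hj, ← hw, (h.comm hwP h.tP).eq, mul_inv_cancel_right]
  · exfalso
    refine h.u_ne_t ?_
    exact mul_left_cancel (mul_right_cancel (e1.trans hnt.symm))
  · exact e1

end Cfsg.Agent.GW
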