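import Cfsg.Agent.Lib.GW.MaxControl
import Cfsg.Agent.Lib.GW.MaxControlInverted
import Cfsg.Agent.Lib.GW.MaxInverted
import Cfsg.Agent.Lib.GW.MaxNoLayer
import Cfsg.Agent.Lib.GW.LayerCenter
import Cfsg.Agent.Lib.GW.RotationLayer

/-!
# A maximal centraliser over a Sylow four group: the core is inverted

With the exclusion of a fixed part of an odd core (`RotHyp`) every reflection inverts `O`.
-/

set_option autoImplicit false
set_option linter.unusedSectionVars false
set_option linter.style.haveILetI false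

namespace Cfsg.Agent.GW

open Cfsg Cfsg.Agent DihedralGroup

universe u

variable {G : Type u} [Group G] [Finite G] [IsSimpleGroup G]

/-- the hypotheses of the rotation case hold -/
theorem Minimal.rotHyp (hG : Minimal G) (Φ : Frame G) (hk : Φ.k = 1) (h : MaxCent Φ.t Φ.O) (hrot : Rotates Φ.t)
    (hlay : MaxLayer Φ.t Φ.O) (i : ZMod (2 ^ Φ.k)) : RotHyp Φ.t (Φ.refl i) Φ.O Φ.S := by
  haveI : NeZero (2 ^ Φ.k) := ⟨by positivity⟩
  have hcard : Nat.card Φ.S = 4 := by
    rw [Nat.card_congr Φ.ι.symm.toEquiv, DihedralGroup.nat_card, hk]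
    norm_num
  have hexp : ∀ x : Φ.S, x * x = 1 := by
    intro x
    obtain ⟨d, rfl⟩ := Φ.ι.surjective x
    rw [← map_mul, ← map_one Φ.ι]
    refine congrArg Φ.ι ?_
    rcases d with j | j
    · rw [r_mul_r, DihedralGroup.one_def]
      refine congrArg r ?_
      have h2 : ((2 : ℕ) : ZMod (2 ^ Φ.k)) = 0 := by
        rw [ZMod.natCast_eq_zero_iff, hk]
        norm_num
      linear_combination j * h2
    · exact sr_mul_self j
  refine ⟨hG.nonab, hG.kProper, h, hrot, hlay, hcard, hexp, fun a b ha hb => hG.oneClass a b ha hb, Φ.t_mem,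
    Φ.refl_mem i, Φ.refl_ne_one i, Φ.refl_ne i,
    fun s hs hs2 z hz hzc hzu => by_contra fun hz1 => h.caseP_false hG hrot (hG.noLayer Φ h hrot hlay) i hs hs2 hz hzc hzu hz1,
    fun M hM htM x hx hxc => ?_⟩
  have h8 : ¬ 8 ∣ Nat.card G := by
    intro h8
    haveI : Fact (Nat.Prime 2) := ⟨Nat.prime_two⟩
    obtain ⟨H, hH⟩ := Sylow.exists_subgroup_card_pow_prime 2 (n := 3) h8
    obtain ⟨S, hS⟩ := (IsPGroup.of_card hH).exists_le_sylow
    have h4 : Nat.card S = 4 := by rw [Nat.card_congr (S.equiv Φ.S).toEquiv, hcard]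
    have h84 := Subgroup.card_le_of_le hS
    rw [hH, show Nat.card (S : Subgroup G) = 4 from h4] at h84
    norm_num at h84
  by_cases hl : Cfsg.layer ↥M = ⊥
  · obtain ⟨hx1, -⟩ := hx
    obtain ⟨y, hy, rfl⟩ := hx1
    rw [hl] at hy
    rw [Subgroup.mem_bot.1 hy]
    rfl
  obtain ⟨v, T, f⟩ := hlay M hM htM hl
  exact hG.lay_center h8 hM.1 f hx.1 hxc

/-- **the data of the inverted core over a four group**, given the exclusion of a fixed part of a core -/
theorem Minimal.maxCase_four (hG : Minimal G) (Φ : Frame G) (hk : Φ.k = 1) (h : MaxCent Φ.t Φ.O) (hrot : Rotates Φ.t)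
    (hlay : MaxLayer Φ.t Φ.O)
    (hrotation : ∀ u : G, RotHyp Φ.t u Φ.O Φ.S → ∀ q : ℕ, q.Prime → q ≠ 2 →
      fq q (Subgroup.centralizer ({Φ.t} : Set G)) ⊓ Subgroup.centralizer ({u} : Set G) ≠ ⊥ → False) :
    BswData Φ :=
  bswData_of_inverted Φ h (h.inverted_of_regular hG hrot fun i s hs hs2 =>
    by_contra fun hne => hrotation _ (hG.rotHyp Φ hk h hrot hlay i) s hs hs2 hne)

end Cfsg.Agent.GW
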