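import Cfsg.Agent.Lib.GW.LayerTorus
import Cfsg.Agent.Lib.GW.MaxInputs

/-!
# The layer facts for a maximal centraliser in the minimal counterexample

`TorusFacts` of `N/O(N)` pulled back to `N`: this is `MaxLayer`.
-/

set_option autoImplicit false
set_option linter.unusedSectionVars false
set_option linter.style.haveILetI false

namespace Cfsg.Agent.GW

open Cfsg Cfsg.Agent Cfsg.Agent.GW.Reduced
open scoped commutatorElement

universe u

section Lift

variable {X : Type u} [Group X] [Finite X]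

/-- an element commuting with an involution modulo an odd subgroup has a representative commuting with it -/
theorem commute_lift (N : Subgroup X) [N.Normal] (hN : Odd (Nat.card N)) {a : X} (ha : a * a = 1) {x : X ⧸ N}
    (hc : Commute x (QuotientGroup.mk' N a)) : ∃ y : X, Commute y a ∧ QuotientGroup.mk' N y = x := by
  haveI : Group.IsSolvable N := Solv.Partition.odd_solvable hN
  set π := QuotientGroup.mk' N
  obtain ⟨g, rfl⟩ := QuotientGroup.mk'_surjective N x
  obtain ⟨d, hd, hgd⟩ := Solv.exists_fixed_in_coset (Subgroup.zpowers a) N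
    (fun y _ => by rw [Subgroup.normalizer_eq_top_iff.2 inferInstance]; trivial)
    (by
      rw [Nat.card_zpowers]
      exact Nat.Coprime.coprime_dvd_left (orderOf_dvd_of_pow_eq_one (by rw [pow_two, ha])) hN.coprime_two_left)
    (Or.inr inferInstance) (x := g) (fun y hy => by
      obtain ⟨i, rfl⟩ := hy
      refine (QuotientGroup.eq_one_iff _).1 ?_
      show π (g⁻¹ * (a ^ i * g * (a ^ i)⁻¹)) = 1
      rw [map_mul, map_mul, map_mul, map_inv, map_inv, map_zpow, ← (hc.zpow_right i).eq, mul_inv_cancel_right,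
        inv_mul_cancel])
  refine ⟨g * d, ?_, by rw [map_mul, show π d = 1 from (QuotientGroup.eq_one_iff d).2 hd, mul_one]⟩
  obtain ⟨i, hi⟩ := (Subgroup.mem_normalizer_iff.1 hgd a).1 (Subgroup.mem_zpowers a)
  have hi : a ^ i = g * d * a * (g * d)⁻¹ := hi
  rcases Int.even_or_odd' i with ⟨j, rfl | rfl⟩
  · rw [zpow_mul, zpow_two, ha, one_zpow, eq_comm, conj_eq_one_iff] at hi
    rw [hi]; exact Commute.one_right _
  · rw [zpow_add_one, zpow_mul, zpow_two, ha, one_zpow, one_mul] at hi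
    exact (mul_inv_eq_iff_eq_mul.1 hi.symm)

/-- an element with the image of an involution has an involution among its powers with the same image -/
theorem involution_of_image {Y : Type u} [Group Y] [Finite Y] (π : X →* Y) (hker : Odd (Nat.card π.ker)) {y : X}
    (h2 : π y * π y = 1) : ∃ n : ℕ, π (y ^ n) = π y ∧ y ^ n * y ^ n = 1 := by
  obtain ⟨k, m, hm, hkm⟩ := Nat.exists_eq_pow_mul_and_not_dvd (orderOf_pos y).ne' 2 (by norm_num)
  obtain ⟨j, hj⟩ : Odd m := Nat.odd_iff.2 (Nat.two_dvd_ne_zero.1 hm)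
  refine ⟨m, by rw [map_pow, hj, pow_succ, pow_mul, pow_two, h2, one_pow, one_mul], ?_⟩
  set z := y ^ m * y ^ m
  have hz : z ∈ π.ker := by
    rw [MonoidHom.mem_ker, map_mul, map_pow, hj, pow_succ, pow_mul, pow_two, h2, one_pow, one_mul, h2]
  refine orderOf_eq_one_iff.1 (Nat.eq_one_of_dvd_coprimes (Nat.Coprime.pow_left k hker.coprime_two_left)
    (orderOf_dvd_of_pow_eq_one ?_) (by rw [← Subgroup.orderOf_mk z hz]; exact orderOf_dvd_natCard _))
  show (y ^ m * y ^ m) ^ 2 ^ k = 1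
  rw [← pow_two, ← pow_mul, ← pow_mul, show m * (2 * 2 ^ k) = 2 ^ k * m * 2 by ring, ← hkm, pow_mul,
    pow_orderOf_eq_one, one_pow]

/-- an element of odd order equal to its inverse is trivial -/
theorem eq_one_of_inverted {Y : Type u} [Group Y] (y : Y) (ho : Odd (orderOf y)) (h : y = y⁻¹) : y = 1 :=
  orderOf_eq_one_iff.1 (Nat.eq_one_of_dvd_coprimes ho.coprime_two_left
    (orderOf_dvd_of_pow_eq_one (by rw [pow_two]; exact mul_eq_one_iff_eq_inv.2 h)) dvd_rfl)

/-- a subgroup of a finite group carried into itself is normalised -/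
theorem norm_of_conj {H : Subgroup X} {g : X} (h : ∀ x ∈ H, g * x * g⁻¹ ∈ H) :
    g ∈ Subgroup.normalizer (H : Set X) := by
  have hmap : H.map (MulAut.conj g).toMonoidHom = H := by
    refine Subgroup.eq_of_le_of_card_ge ?_
      (by rw [Subgroup.card_map_of_injective (MulAut.conj g).injective])
    rintro _ ⟨x, hx, rfl⟩
    exact h x hx
  refine Subgroup.mem_normalizer_iff.2 fun x => ⟨h x, fun hx => ?_⟩
  rw [← hmap] at hx
  obtain ⟨y, hy, e⟩ := hx
  exact (MulAut.conj g).injective e ▸ hy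

end Lift

variable {G : Type u} [Group G] [Finite G]

namespace Minimal

variable (hG : Minimal G)
include hG

/-- the layer facts -/
theorem maxLayer (Φ : Frame G) : MaxLayer Φ.t Φ.O := by
  classical
  haveI := hG.simple
  haveI : Fact (Nat.Prime 2) := ⟨Nat.prime_two⟩
  intro N hN htN hE
  haveI hQn : (Cfsg.oddCore ↥N).Normal := Solv.pPrimeCore_normal 2
  have hodd : Odd (Nat.card (Cfsg.oddCore ↥N)) := Nat.coprime_two_right.1 (Fusion.card_pPrimeCore_coprime 2 ↥N)
  haveI : Group.IsSolvable ↥(Cfsg.oddCore ↥N) := Solv.Partition.odd_solvable hodd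
  haveI : Group.IsPerfect ↥(Cfsg.layer ↥N) := S1247.layer_perfect'
  obtain ⟨L, hLn, hmod, hC⟩ := model_over_core hG hN.1 hE
  haveI := hLn
  obtain ⟨hsimp, hnab⟩ := hmod.simple
  haveI := hsimp
  have hO : ⁅Cfsg.layer ↥N, Cfsg.oddCore ↥N⁆ = ⊥ :=
    Solv.layer_commutator_solvable (Solv.pPrimeCore_normal 2).isSubnormal inferInstance
  set π := QuotientGroup.mk' (Cfsg.oddCore ↥N) with hπ
  -- the Sylow subgroups of the quotient
  have hS : ∀ P : Sylow 2 (↥N ⧸ Cfsg.oddCore ↥N),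
      ∃ m, 2 ≤ m ∧ Nonempty ((P : Subgroup (↥N ⧸ Cfsg.oddCore ↥N)) ≃* DihedralGroup m) := by
    obtain ⟨T, k, hk, ⟨f⟩⟩ := sylow_of_layer Φ.S Φ.ι.symm N hE
    obtain ⟨s⟩ := sylow_quotient (Cfsg.oddCore ↥N) hodd T
    exact fun P => ⟨k, hk, ⟨(P.equiv (T.mapSurjective (QuotientGroup.mk'_surjective _))).trans (s.symm.trans f)⟩⟩
  let t' : ↥N := ⟨Φ.t, htN⟩
  have ht2 : t' * t' = 1 := Subtype.ext Φ.tt
  have hker1 : ∀ c : ↥N, c * c = 1 → π c = 1 → c = 1 := fun c hc h =>
    orderOf_eq_one_iff.1 (Nat.eq_one_of_dvd_coprimes hodd.coprime_two_left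
      (orderOf_dvd_of_pow_eq_one (by rw [pow_two, hc])) (Subgroup.orderOf_dvd_natCard _ ((QuotientGroup.eq_one_iff c).1 h)))
  have hta1 : π t' ≠ 1 := fun h => Φ.t_ne (congrArg Subtype.val (hker1 t' ht2 h))
  obtain ⟨v₀, R, f⟩ := torus_model hmod hC hS (a := π t') (by rw [← map_mul, ht2, map_one]) hta1
  -- the image of the layer
  set E := Cfsg.layer ↥N with hEdef
  have hEn : E.Normal := Local.layer_normal
  have hπE : E.map π = L := by
    refine le_antisymm ?_ ?_
    · have hp : ⁅E, E⁆ = E := by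
        rw [← Subgroup.map_subtype_commutator, (inferInstance : Group.IsPerfect ↥E).commutator_eq_top,
          ← MonoidHom.range_eq_map, Subgroup.range_subtype]
      rw [← hp, Subgroup.map_commutator, Subgroup.commutator_le]
      intro x _ y _
      rw [commutatorElement_def]
      exact f.comm x y
    · haveI : (E.map π).Normal := hEn.map π (QuotientGroup.mk'_surjective _)
      rcases (inferInstance : ((E.map π).subgroupOf L).Normal).eq_bot_or_eq_top with h | h
      · exfalso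
        rw [Subgroup.subgroupOf_eq_bot, disjoint_iff] at h
        have hle : E.map π ≤ Subgroup.centralizer (L : Set (↥N ⧸ Cfsg.oddCore ↥N)) :=
          (Subgroup.commutator_eq_bot_iff_le_centralizer).1 (le_bot_iff.1
            (h ▸ Subgroup.commutator_le_inf (E.map π) L))
        rw [hC, le_bot_iff, Subgroup.map_eq_bot_iff, QuotientGroup.ker_mk'] at hle
        haveI : Nontrivial ↥E := (Subgroup.nontrivial_iff_ne_bot _).2 hE
        haveI : Group.IsSolvable ↥E :=
          Group.isSolvable_of_isSolvable_injective (Subgroup.inclusion_injective hle)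
        exact (Group.IsSolvable.commutator_lt_top_of_nontrivial ↥E).ne Group.IsPerfect.commutator_eq_top
      · exact Subgroup.subgroupOf_eq_top.1 h
  have hmemE : ∀ {x : ↥N}, (x : G) ∈ lay N ↔ x ∈ E := fun {x} =>
    Subgroup.mem_map_iff_mem N.subtype_injective
  -- the centraliser of the layer is the core
  have hcentE : ∀ x : ↥N, (∀ y ∈ E, Commute x y) ↔ π x = 1 := by
    refine fun x => ⟨fun h => ?_, fun h y hy => ?_⟩
    · have : π x ∈ Subgroup.centralizer (L : Set (↥N ⧸ Cfsg.oddCore ↥N)) := Subgroup.mem_centralizer_iff.2 fun l hl => by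
        rw [← hπE] at hl
        obtain ⟨y, hy, rfl⟩ := hl
        exact ((h y hy).map π).eq.symm
      rwa [hC, Subgroup.mem_bot] at this
    · exact (commutatorElement_eq_one_iff_mul_comm.1 (Subgroup.mem_bot.1
        (hO ▸ Subgroup.commutator_mem_commutator hy ((QuotientGroup.eq_one_iff x).1 h)))).symm
  have hcl : ∀ x : ↥N, (x : G) ∈ Subgroup.centralizer (lay N : Set G) ↔ π x = 1 := by
    refine fun x => ⟨fun h => (hcentE x).1 fun y hy => Subtype.ext
      (Subgroup.mem_centralizer_iff.1 h _ (hmemE.2 hy)).symm, fun h => Subgroup.mem_centralizer_iff.2 ?_⟩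
    rintro _ ⟨y, hy, rfl⟩
    exact congrArg Subtype.val ((hcentE x).2 h y hy).eq.symm
  have hlayN : lay N ≤ N := Subgroup.map_subtype_le _
  have hconjE : ∀ g : ↥N, ∀ x ∈ lay N, (g : G) * x * (g : G)⁻¹ ∈ lay N := by
    rintro g _ ⟨y, hy, rfl⟩
    exact ⟨g * y * g⁻¹, hEn.conj_mem y hy g, rfl⟩
  -- an involution of the layer over an involution of `L` centralising the image of `t`
  have hlift : ∀ c : ↥N ⧸ Cfsg.oddCore ↥N, c ∈ L → c * c = 1 → Commute c (π t') →
      ∃ w : ↥N, w ∈ E ∧ w * w = 1 ∧ Commute w t' ∧ π w = c := by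
    intro c hc hc2 hct
    haveI hK : ((Cfsg.oddCore ↥N).subgroupOf E).Normal := inferInstance
    obtain ⟨e, he, rfl⟩ := hπE.ge hc
    -- a representative in the layer commuting with `t`
    have hEnorm : Subgroup.zpowers t' ≤ Subgroup.normalizer ((E ⊓ Cfsg.oddCore ↥N : Subgroup ↥N) : Set ↥N) := by
      intro y _
      haveI : (E ⊓ Cfsg.oddCore ↥N).Normal := inferInstance
      rw [Subgroup.normalizer_eq_top_iff.2 inferInstance]; trivial
    obtain ⟨d, hd, hn⟩ := Solv.exists_fixed_in_coset (Subgroup.zpowers t') (E ⊓ Cfsg.oddCore ↥N) hEnorm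
      (by
        rw [Nat.card_zpowers]
        exact Nat.Coprime.coprime_dvd_left (orderOf_dvd_of_pow_eq_one (by rw [pow_two, ht2]))
          ((hodd.of_dvd_nat (Subgroup.card_dvd_of_le inf_le_right)).coprime_two_left))
      (Or.inl (Group.isSolvable_of_comm fun a b => (inferInstance : IsMulCommutative (Subgroup.zpowers t')).is_comm.comm a b))
      (x := e) (fun y hy => by
        obtain ⟨i, rfl⟩ := hy
        refine ⟨E.mul_mem (E.inv_mem he) (hEn.conj_mem e he _), (QuotientGroup.eq_one_iff _).1 ?_⟩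
        show π (e⁻¹ * (t' ^ i * e * (t' ^ i)⁻¹)) = 1
        rw [map_mul, map_mul, map_mul, map_inv, map_inv, map_zpow, ← (hct.zpow_right i).eq, mul_inv_cancel_right,
          inv_mul_cancel])
    have hπd : π (e * d) = π e := by rw [map_mul, show π d = 1 from (QuotientGroup.eq_one_iff d).2 hd.2, mul_one]
    have hcm : Commute (e * d) t' := by
      obtain ⟨i, hi⟩ := (Subgroup.mem_normalizer_iff.1 hn t').1 (Subgroup.mem_zpowers t')
      have hi : t' ^ i = e * d * t' * (e * d)⁻¹ := hi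
      rcases Int.even_or_odd' i with ⟨j, rfl | rfl⟩
      · rw [zpow_mul, zpow_two, ht2, one_zpow, eq_comm, conj_eq_one_iff] at hi
        exact absurd (congrArg Subtype.val hi) Φ.t_ne
      · rw [zpow_add_one, zpow_mul, zpow_two, ht2, one_zpow, one_mul] at hi
        exact (mul_inv_eq_iff_eq_mul.1 hi.symm)
    obtain ⟨n, hn1, hn2⟩ := involution_of_image π (by rw [QuotientGroup.ker_mk']; exact hodd) (y := e * d)
      (by rw [hπd]; exact hc2)
    exact ⟨(e * d) ^ n, E.pow_mem (E.mul_mem he hd.1) n, hn2, hcm.pow_left n, hn1.trans hπd⟩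
  obtain ⟨v, hvE, hvv, hvt, hvπ⟩ := hlift v₀ f.v_mem f.v_sq f.v_comm
  -- `W = L ∩ O`
  let W : Subgroup G := lay N ⊓ Φ.O
  have hWN : ∀ {x : G}, x ∈ W → x ∈ N := fun hx => hlayN hx.1
  have hWR : ∀ (x : ↥N), (x : G) ∈ W → π x ∈ R := fun x hx => f.R_all _ (hπE.le ⟨x, hmemE.1 hx.1, rfl⟩)
    (Commute.map (Subtype.ext (Subgroup.mem_centralizer_singleton_iff.1 (Φ.O_le hx.2)) : Commute x t') π)
    (Φ.O_odd.of_dvd_nat ((orderOf_map_dvd π x).trans (by
      rw [← Subgroup.orderOf_coe]; exact Subgroup.orderOf_dvd_natCard _ hx.2)))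
  let ρ : W →* R :=
    { toFun := fun x => ⟨π ⟨x, hWN x.2⟩, hWR ⟨x, hWN x.2⟩ x.2⟩
      map_one' := Subtype.ext (map_one π)
      map_mul' := fun x y => Subtype.ext (map_mul π ⟨(x : G), hWN x.2⟩ ⟨(y : G), hWN y.2⟩) }
  have hρ : ∀ x : W, ρ x = 1 → π ⟨x, hWN x.2⟩ = 1 := fun x h => congrArg Subtype.val h
  haveI := f.R_cyclic
  haveI : IsCyclic ρ.range := inferInstance
  have hWcomm : ∀ x ∈ W, ∀ y ∈ W, x * y = y * x := by
    haveI := ρ.rangeRestrict.isMulCommutative_of_isCyclic_of_ker_le_center (by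
      rw [MonoidHom.ker_rangeRestrict]
      intro k hk
      refine Subgroup.mem_center_iff.2 fun w => Subtype.ext ?_
      exact Subgroup.mem_centralizer_iff.1 ((hcl ⟨k, hWN k.2⟩).2 (hρ k hk)) w w.2.1)
    exact fun x hx y hy => congrArg Subtype.val
      ((inferInstance : IsMulCommutative W).is_comm.comm (⟨x, hx⟩ : W) ⟨y, hy⟩)
  have hWodd : ∀ x ∈ W, Odd (orderOf x) := fun x hx =>
    Φ.O_odd.of_dvd_nat (Subgroup.orderOf_dvd_natCard _ hx.2)
  -- an element of `N ∩ C(t)` normalises `W`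
  have hWnorm : ∀ g : ↥N, Commute (g : G) Φ.t → ∀ x ∈ W, (g : G) * x * (g : G)⁻¹ ∈ W := fun g hg x hx =>
    ⟨hconjE g x hx.1, Φ.O_norm g (Subgroup.mem_centralizer_singleton_iff.2 hg.eq) x hx.2⟩
  -- a layer element centralising the image of `W` centralises `W`
  have hcentW : ∀ w : ↥N, w ∈ E → Commute (w : G) Φ.t → (∀ x ∈ R, Commute (π w) x) → ∀ x ∈ W,
      Commute (w : G) x := by
    intro w hwE hwt hwR x hx
    obtain ⟨ζ, hζ⟩ : ∃ ζ, ζ = (w : G) * x * (w : G)⁻¹ * x⁻¹ := ⟨_, rfl⟩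
    have hζW : ζ ∈ W := hζ ▸ mul_mem (hWnorm w hwt x hx) (inv_mem hx)
    have hζ1 : π ⟨ζ, hWN hζW⟩ = 1 := by
      rw [show (⟨ζ, hWN hζW⟩ : ↥N) = w * ⟨x, hWN hx⟩ * w⁻¹ * ⟨x, hWN hx⟩⁻¹ from Subtype.ext hζ, map_mul, map_mul,
        map_mul, map_inv, map_inv, (hwR _ (hWR ⟨x, hWN hx⟩ hx)).eq, mul_inv_cancel_right, mul_inv_cancel]
    have hwζ : Commute (w : G) ζ := Subgroup.mem_centralizer_iff.1 ((hcl ⟨ζ, hWN hζW⟩).2 hζ1) _ (hmemE.2 hwE)
    have hxζ : Commute x ζ := hWcomm x hx ζ hζW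
    -- powers
    have hpow : ∀ n : ℕ, (w : G) ^ n * x * ((w : G) ^ n)⁻¹ = ζ ^ n * x := by
      intro n
      induction n with
      | zero => simp
      | succ n ih =>
        rw [pow_succ' (w : G), show (w : G) * (w : G) ^ n * x * ((w : G) * (w : G) ^ n)⁻¹ =
          (w : G) * ((w : G) ^ n * x * ((w : G) ^ n)⁻¹) * (w : G)⁻¹ by group, ih,
          show (w : G) * (ζ ^ n * x) * (w : G)⁻¹ = ((w : G) * ζ ^ n * (w : G)⁻¹) * ((w : G) * x * (w : G)⁻¹) by group,
          (hwζ.pow_right n).eq, mul_inv_cancel_right,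
          show (w : G) * x * (w : G)⁻¹ = ζ * x by rw [hζ, inv_mul_cancel_right], ← mul_assoc, ← pow_succ]
    obtain ⟨k, m, hm, hkm⟩ := Nat.exists_eq_pow_mul_and_not_dvd (orderOf_pos (w : G)).ne' 2 (by norm_num)
    have hwk : (w : G) ^ 2 ^ k ∈ W := by
      refine ⟨(lay N).pow_mem (hmemE.2 hwE) _, Φ.mem_O_of_odd (hwt.pow_left _) ?_⟩
      rw [orderOf_pow_of_dvd (by positivity) (hkm ▸ dvd_mul_right _ _), hkm, Nat.mul_div_cancel_left _ (by positivity)]
      exact Nat.odd_iff.2 (Nat.two_dvd_ne_zero.1 hm)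
    have h1 := hpow (2 ^ k)
    rw [hWcomm _ hwk x hx, mul_inv_cancel_right] at h1
    have hζ0 : ζ = 1 := orderOf_eq_one_iff.1 (Nat.eq_one_of_dvd_coprimes
      ((hWodd ζ hζW).coprime_two_left.pow_left k) (orderOf_dvd_of_pow_eq_one (mul_eq_right.1 h1.symm)) dvd_rfl)
    rw [hζ0, eq_comm, mul_inv_eq_one, mul_inv_eq_iff_eq_mul] at hζ
    exact hζ
  -- the torus
  have hvt' : Commute (v : G) Φ.t := hvt.map N.subtype
  have hvW : ∀ x ∈ W, (v : G) * x * (v : G)⁻¹ ∈ W := hWnorm v hvt'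
  let T : Subgroup G :=
    { carrier := {x | x ∈ W ∧ (v : G) * x * (v : G)⁻¹ = x⁻¹}
      one_mem' := ⟨one_mem _, by group⟩
      mul_mem' := fun {x y} hx hy => ⟨mul_mem hx.1 hy.1, by
        rw [show (v : G) * (x * y) * (v : G)⁻¹ = ((v : G) * x * (v : G)⁻¹) * ((v : G) * y * (v : G)⁻¹) by group,
          hx.2, hy.2, ← mul_inv_rev, hWcomm x hx.1 y hy.1]⟩
      inv_mem' := fun {x} hx => ⟨inv_mem hx.1, by rw [← conj_inv, hx.2]⟩ }
  have hTW : T ≤ W := fun x hx => hx.1
  have hTdisj : ∀ x ∈ T, x ∈ Subgroup.centralizer (lay N : Set G) → x = 1 := by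
    intro x hx hc
    have h := Subgroup.mem_centralizer_iff.1 hc _ (hmemE.2 hvE)
    have h2 := hx.2
    rw [h, mul_inv_cancel_right] at h2
    exact eq_one_of_inverted x (hWodd x hx.1) h2
  refine ⟨(v : G), T, ?_⟩
  have hinj : Function.Injective (ρ.comp (Subgroup.inclusion hTW)) := by
    rw [injective_iff_map_eq_one]
    intro x hx
    exact Subtype.ext (hTdisj x x.2 ((hcl ⟨x, hWN (hTW x.2)⟩).2 (hρ _ hx)))
  have hTR : Nat.card T ≤ Nat.card R := Nat.card_le_card_of_injective _ hinj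
  have hmem : ∀ {x : G}, x ∈ layCent N → ∃ hx : x ∈ N, π ⟨x, hx⟩ = 1 := fun {x} hx =>
    ⟨hx.1, (hcl ⟨x, hx.1⟩).1 hx.2⟩
  have hvne : (v : G) ≠ Φ.t := fun e => f.v_ne_a (by rw [← hvπ, show v = t' from Subtype.ext e])
  have hne_t : ∀ z : ↥N, z * z = 1 → (z : G) ≠ Φ.t → Commute z t' → π z ≠ π t' := fun z hz hzt hzc e => hzt (by
    have h1 : z * t' = 1 := hker1 _ (by rw [hzc.symm.mul_mul_mul_comm, hz, ht2, one_mul])
      (by rw [map_mul, e, ← map_mul, ht2, map_one])
    exact congrArg Subtype.val ((eq_inv_of_mul_eq_one_left h1).trans (inv_eq_of_mul_eq_one_right ht2)))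
  refine
    { cent_odd := ?_, gen := ?_, comm := ?_, v_mem := hmemE.2 hvE, v_sq := congrArg Subtype.val hvv
      v_ne := fun e => f.v_ne (by rw [← hvπ, show v = 1 from Subtype.ext e, map_one])
      v_ne_t := hvne, v_comm := hvt'
      fixed := ?_, T_le := hTW
      T_cyclic := isCyclic_of_injective _ hinj
      T_inv := fun x hx h => ⟨hx, h⟩
      T_disj := (Subgroup.eq_bot_iff_forall _).2 fun x hx => hTdisj x hx.1 hx.2
      torus := ?_ }
  · refine hodd.of_dvd_nat ?_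
    rw [← Subgroup.card_map_of_injective (K := Cfsg.oddCore ↥N) N.subtype_injective]
    refine Subgroup.card_dvd_of_le fun x hx => ?_
    obtain ⟨hxN, h⟩ := hmem hx
    exact ⟨⟨x, hxN⟩, (QuotientGroup.eq_one_iff _).1 h, rfl⟩
  · intro K hK hKn hKc
    have hKE : K.comap N.subtype ≤ E := fun x hx => hmemE.1 (hK hx)
    haveI : (((K.comap N.subtype).map π).subgroupOf L).Normal := by
      refine ⟨fun x hx g => ?_⟩
      rw [Subgroup.mem_subgroupOf] at hx ⊢
      obtain ⟨k, hk, hk'⟩ := hx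
      obtain ⟨e, he, he'⟩ := hπE.ge g.2
      refine ⟨e * k * e⁻¹, (Subgroup.mem_normalizer_iff.1 (hKn (hmemE.2 he)) _).1 hk, ?_⟩
      rw [map_mul, map_mul, map_inv, hk', he']
      rfl
    rcases (inferInstance : (((K.comap N.subtype).map π).subgroupOf L).Normal).eq_bot_or_eq_top with h | h
    · refine absurd (fun x hx => ?_) hKc
      rw [Subgroup.subgroupOf_eq_bot, disjoint_iff] at h
      refine (hcl ⟨x, hlayN (hK hx)⟩).2 (Subgroup.mem_bot.1 (h ▸
        (⟨⟨⟨x, hlayN (hK hx)⟩, hx, rfl⟩, hπE.le ⟨⟨x, hlayN (hK hx)⟩, hmemE.1 (hK hx), rfl⟩⟩ :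
          π ⟨x, hlayN (hK hx)⟩ ∈ (K.comap N.subtype).map π ⊓ L)))
    · -- `lay N = K (lay N ∩ O(N))`, so the commutators lie in `K`
      have hle : L ≤ (K.comap N.subtype).map π := Subgroup.subgroupOf_eq_top.1 h
      have hsplit : ∀ x ∈ E, ∃ k : ↥N, (k : G) ∈ K ∧ ∀ y ∈ E, Commute (k⁻¹ * x) y := fun x hx => by
        obtain ⟨k, hk, hk'⟩ := hle (hπE.le ⟨x, hx, rfl⟩)
        exact ⟨k, hk, (hcentE _).2 (by rw [map_mul, map_inv, hk', inv_mul_cancel])⟩
      have hKn' : ∀ (e : ↥N) (k : ↥N), e ∈ E → (k : G) ∈ K → ((e * k * e⁻¹ : ↥N) : G) ∈ K := fun e k he hk =>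
        (Subgroup.mem_normalizer_iff.1 (hKn (hmemE.2 he)) _).1 hk
      have hcomm : ∀ x ∈ E, ∀ y ∈ E, ((⁅x, y⁆ : ↥N) : G) ∈ K := by
        intro x hx y hy
        obtain ⟨k, hk, hkc⟩ := hsplit x hx
        have hzy := hkc y hy
        obtain ⟨z, hz⟩ : ∃ z, z = k⁻¹ * x := ⟨_, rfl⟩
        rw [← hz] at hzy
        have e : ⁅x, y⁆ = k * (y * k⁻¹ * y⁻¹) := by
          rw [commutatorElement_def, show x = k * z by rw [hz, mul_inv_cancel_left]]
          calc k * z * y * (k * z)⁻¹ * y⁻¹ = k * (z * y) * z⁻¹ * k⁻¹ * y⁻¹ := by group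
            _ = k * (y * z) * z⁻¹ * k⁻¹ * y⁻¹ := by rw [hzy.eq]
            _ = _ := by group
        rw [e, Subgroup.coe_mul]
        exact K.mul_mem hk (hKn' y k⁻¹ hy (by rw [Subgroup.coe_inv]; exact K.inv_mem hk))
      have hp : ⁅E, E⁆ = E := by
        rw [← Subgroup.map_subtype_commutator, (inferInstance : Group.IsPerfect ↥E).commutator_eq_top,
          ← MonoidHom.range_eq_map, Subgroup.range_subtype]
      rintro _ ⟨x, hx, rfl⟩
      have hEK : E ≤ K.comap N.subtype := by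
        rw [← hp, Subgroup.commutator_le]; exact hcomm
      exact hEK hx
  · intro a ha b hb
    obtain ⟨c, hc⟩ : ∃ c : ↥N, c = ⟨a, ha⟩ * ⟨b, hb⟩ * ⟨a, ha⟩⁻¹ * ⟨b, hb⟩⁻¹ := ⟨_, rfl⟩
    obtain ⟨e, he, he'⟩ := hπE.ge (show π c ∈ L by rw [hc, map_mul, map_mul, map_mul, map_inv, map_inv]; exact f.comm _ _)
    have : ⁅a, b⁆ = (e : G) * (((e⁻¹ * c : ↥N)) : G) := by
      rw [commutatorElement_def, ← Subgroup.coe_mul, mul_inv_cancel_left, hc]; rfl
    rw [this]
    refine Subgroup.mul_mem_sup (hmemE.2 he) ⟨(e⁻¹ * c).2, (hcl _).2 ?_⟩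
    rw [map_mul, map_inv, he', inv_mul_cancel]
  · -- the fixed part
    intro p hp hp2 A hA hAp hAn x hx
    have hAN : A ≤ N := hA.trans inf_le_left
    haveI := Fact.mk hp
    refine (hcl ⟨x, hAN hx.1⟩).2 (f.fixed p hp hp2 ((A.subgroupOf N).map π)
      ((hAp.comap_of_injective N.subtype N.subtype_injective).map π) ?_ ?_ _ ⟨⟨x, hAN hx.1⟩, hx.1, rfl⟩ ?_)
    · rintro _ ⟨y, hy, rfl⟩
      exact Commute.map (Subtype.ext (Subgroup.mem_centralizer_singleton_iff.1 (hA hy).2) : Commute y t') π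
    · intro c hc
      obtain ⟨y, hy, rfl⟩ := commute_lift (Cfsg.oddCore ↥N) hodd ht2 hc
      refine norm_of_conj ?_
      rintro _ ⟨w, hw, rfl⟩
      refine ⟨y * w * y⁻¹, ?_, by rw [map_mul, map_mul, map_inv]⟩
      exact (Subgroup.mem_normalizer_iff.1 (hAn ⟨y.2, Subgroup.mem_centralizer_singleton_iff.2
        (congrArg Subtype.val hy.eq)⟩) _).1 hw
    · rw [← hvπ]
      exact Commute.map (Subtype.ext (Subgroup.mem_centralizer_singleton_iff.1 hx.2) : Commute ⟨x, hAN hx.1⟩ v) π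
  -- the branches
  rcases f.torus with ⟨z₀, hz₀L, hz₀, hz₀1, hz₀a, hz₀c, hz₀R⟩ | ⟨hinvX, hnormX, hidxX⟩
  · right; left
    obtain ⟨z, hzE, hzz, hzt, hzπ⟩ := hlift z₀ hz₀L hz₀ hz₀c
    exact ⟨(z : G), hmemE.2 hzE, congrArg Subtype.val hzz,
      fun e => hz₀1 (by rw [← hzπ, show z = 1 from Subtype.ext e, map_one]),
      fun e => hz₀a (by rw [← hzπ, show z = t' from Subtype.ext e]), hzt.map N.subtype,
      fun x hx => hcentW z hzE (hzt.map N.subtype) (fun r hr => hzπ ▸ hz₀R r hr) x hx.1⟩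
  · right; right
    -- elements of `N ∩ C(t)` normalise the torus
    have hTnorm : ∀ g : ↥N, Commute (g : G) Φ.t → ∀ x ∈ T, (g : G) * x * (g : G)⁻¹ ∈ T := by
      intro g hg x hx
      have hgt : g * t' * g⁻¹ = t' := mul_inv_eq_iff_eq_mul.2 (Subtype.ext hg.eq)
      obtain ⟨w, hw⟩ : ∃ w, w = g * v * g⁻¹ * v := ⟨_, rfl⟩
      have hwE : w ∈ E := hw ▸ E.mul_mem (hEn.conj_mem v hvE g) hvE
      have hgv : Commute (g * v * g⁻¹) t' := by
        have := (Commute.conj_iff g).2 hvt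
        rwa [hgt] at this
      have hwt : Commute w t' := hw ▸ hgv.mul_left hvt
      have hgv2 : g * v * g⁻¹ * (g * v * g⁻¹) = 1 := by
        rw [show g * v * g⁻¹ * (g * v * g⁻¹) = g * (v * v) * g⁻¹ by group, hvv, mul_one, mul_inv_cancel]
      have hgv1 : π (g * v * g⁻¹) ≠ 1 := fun e => f.v_ne (by
        rw [← hvπ]
        rw [map_mul, map_mul, map_inv, conj_eq_one_iff] at e
        exact e)
      have hgvt : ((g * v * g⁻¹ : ↥N) : G) ≠ Φ.t := fun e => hvne (by
        have h1 : g * v * g⁻¹ = g * t' * g⁻¹ := by rw [hgt]; exact Subtype.ext e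
        exact congrArg Subtype.val (mul_left_cancel (mul_right_cancel h1)))
      have hwR : ∀ r ∈ R, Commute (π w) r := by
        intro r hr
        have h1 := hinvX _ (by rw [← map_mul, hgv2, map_one]) hgv1 (hne_t _ hgv2 hgvt hgv) (hgv.map π)
        refine mul_inv_eq_iff_eq_mul.1 (show π w * r * (π w)⁻¹ = r from ?_)
        rw [hw, map_mul, hvπ, show π (g * v * g⁻¹) * v₀ * r * (π (g * v * g⁻¹) * v₀)⁻¹ =
          π (g * v * g⁻¹) * (v₀ * r * v₀⁻¹) * (π (g * v * g⁻¹))⁻¹ by group, f.v_inv r hr, h1 _ (inv_mem hr), inv_inv]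
      have hwx : Commute (w : G) ((g : G) * x * (g : G)⁻¹) :=
        hcentW w hwE (hwt.map N.subtype) hwR _ (hWnorm g hg x hx.1)
      refine ⟨hWnorm g hg x hx.1, ?_⟩
      set y := (g : G) * x * (g : G)⁻¹ with hy
      have hvi : (v : G)⁻¹ = v := inv_eq_of_mul_eq_one_right (congrArg Subtype.val hvv)
      have hgy : ((g * v * g⁻¹ : ↥N) : G) * y * ((g * v * g⁻¹ : ↥N) : G)⁻¹ = y⁻¹ := by
        rw [hy]
        simp only [Subgroup.coe_mul, Subgroup.coe_inv]
        calc (g : G) * v * (g : G)⁻¹ * ((g : G) * x * (g : G)⁻¹) * ((g : G) * v * (g : G)⁻¹)⁻¹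
            = (g : G) * ((v : G) * x * (v : G)⁻¹) * (g : G)⁻¹ := by group
          _ = _ := by rw [hx.2]; group
      have hwv : (w : G)⁻¹ * ((g * v * g⁻¹ : ↥N) : G) = (v : G) := by
        rw [hw, Subgroup.coe_mul, mul_inv_rev, inv_mul_cancel_right, hvi]
      rw [← hwv, show (w : G)⁻¹ * ((g * v * g⁻¹ : ↥N) : G) * y * ((w : G)⁻¹ * ((g * v * g⁻¹ : ↥N) : G))⁻¹ =
        (w : G)⁻¹ * (((g * v * g⁻¹ : ↥N) : G) * y * ((g * v * g⁻¹ : ↥N) : G)⁻¹) * w by group, hgy, mul_assoc,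
        ← hwx.inv_right.eq, inv_mul_cancel_left]
    refine ⟨⟨fun g hg => mem_norm_of_conj (hTnorm ⟨g, hg.1⟩ (Subgroup.mem_centralizer_singleton_iff.1 hg.2)), ?_⟩,
      ?_, ?_, ?_⟩
    · -- the decomposition
      intro l hl
      have hvi : (v : G)⁻¹ = v := inv_eq_of_mul_eq_one_right (congrArg Subtype.val hvv)
      obtain ⟨y, hy⟩ : ∃ y, y = l * ((v : G) * l⁻¹ * (v : G)⁻¹) := ⟨_, rfl⟩
      have hyW : y ∈ W := hy ▸ mul_mem hl (hvW _ (inv_mem hl))
      obtain ⟨j, hj⟩ := hWodd y hyW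
      have hyi : (v : G) * y * (v : G)⁻¹ = y⁻¹ := by
        rw [hy]
        calc (v : G) * (l * ((v : G) * l⁻¹ * (v : G)⁻¹)) * (v : G)⁻¹
            = (v : G) * l * v * l⁻¹ * ((v : G) * v)⁻¹ := by group
          _ = (v : G) * l * (v : G)⁻¹ * l⁻¹ := by rw [show (v : G) * v = 1 from congrArg Subtype.val hvv, hvi]; simp
          _ = _ := by group
      obtain ⟨r, hr⟩ : ∃ r, r = y ^ (j + 1) := ⟨_, rfl⟩
      have hrr : r * r = y := by
        rw [hr, ← pow_add, show j + 1 + (j + 1) = orderOf y + 1 by omega, pow_succ, pow_orderOf_eq_one, one_mul]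
      have hrW : r ∈ W := hr ▸ pow_mem hyW _
      have hri : (v : G) * r * (v : G)⁻¹ = r⁻¹ := by rw [hr, ← conj_pow, hyi, inv_pow]
      refine ⟨r, ⟨hrW, hri⟩, ?_⟩
      have hxW : r⁻¹ * l ∈ W := mul_mem (inv_mem hrW) hl
      have hxv : Commute (v : G) (r⁻¹ * l) := by
        refine mul_inv_eq_iff_eq_mul.1 ?_
        calc (v : G) * (r⁻¹ * l) * (v : G)⁻¹ = ((v : G) * r * (v : G)⁻¹)⁻¹ * ((v : G) * l⁻¹ * (v : G)⁻¹)⁻¹ := by group
          _ = r * (l⁻¹ * y)⁻¹ := by rw [hri, inv_inv, hy]; group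
          _ = r * (r * r)⁻¹ * l := by rw [hrr]; group
          _ = _ := by group
      refine (hcl ⟨r⁻¹ * l, hWN hxW⟩).2 ?_
      have hR := hWR ⟨r⁻¹ * l, hWN hxW⟩ hxW
      have hc := (Commute.map (Subtype.ext hxv.eq : Commute v ⟨r⁻¹ * l, hWN hxW⟩) π)
      rw [hvπ] at hc
      have hi := f.v_inv _ hR
      rw [hc.eq, mul_inv_cancel_right] at hi
      exact eq_one_of_inverted _ (f.R_odd.of_dvd_nat (Subgroup.orderOf_dvd_natCard R hR)) hi
    · -- the reflections invert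
      intro z hzN hz hz1 hzt hzc x hx
      let z' : ↥N := ⟨z, hzN⟩
      have hz' : z' * z' = 1 := Subtype.ext hz
      have hzc' : Commute z' t' := Subtype.ext hzc.eq
      have hπz1 : π z' ≠ 1 := fun h => hz1 (congrArg Subtype.val (hker1 z' hz' h))
      have h1 := hinvX _ (by rw [← map_mul, hz', map_one]) hπz1 (hne_t z' hz' hzt hzc') (hzc'.map π) _
        (hWR ⟨x, hWN hx.1⟩ hx.1)
      have hy : z * x * z⁻¹ * x ∈ T := T.mul_mem (hTnorm z' hzc x hx) hx
      refine eq_inv_of_mul_eq_one_left (hTdisj _ hy ((hcl ⟨_, hWN (hTW hy)⟩).2 ?_))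
      rw [show (⟨z * x * z⁻¹ * x, hWN (hTW hy)⟩ : ↥N) = z' * ⟨x, hWN hx.1⟩ * z'⁻¹ * ⟨x, hWN hx.1⟩ from
        Subtype.ext rfl, map_mul, map_mul, map_mul, map_inv, h1, inv_mul_cancel]
    · -- normalisers
      intro hlc T' hT' hne n hn
      let n' : ↥N := ⟨n, hn.1⟩
      let R' : Subgroup (↥N ⧸ Cfsg.oddCore ↥N) := (T'.subgroupOf N).map π
      have hR' : R' ≤ R := by
        rintro _ ⟨x, hx, rfl⟩
        exact hWR x (hT' hx)
      have hR'1 : R' ≠ ⊥ := fun h => hne fun x hx => (hcl ⟨x, hWN (hT' hx)⟩).2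
        (Subgroup.mem_bot.1 (h ▸ ⟨⟨x, hWN (hT' hx)⟩, hx, rfl⟩))
      have hnR : π n' ∈ Subgroup.normalizer (R' : Set (↥N ⧸ Cfsg.oddCore ↥N)) :=
        Subgroup.le_normalizer_map π ⟨n', Subgroup.mem_normalizer_iff.2 fun y => by
          simp only [Subgroup.mem_subgroupOf, Subgroup.coe_mul, Subgroup.coe_inv]
          exact Subgroup.mem_normalizer_iff.1 hn.2 y, rfl⟩
      have hc := hnormX R' hR' hR'1 _ hnR
      obtain ⟨c, hcdef⟩ : ∃ c, c = n' * t' * n'⁻¹ * t' := ⟨_, rfl⟩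
      have hcπ : π c = 1 := by
        rw [hcdef, map_mul, map_mul, map_mul, map_inv, hc.eq, mul_inv_cancel_right, ← map_mul, ht2, map_one]
      have hct : Commute (c : G) Φ.t :=
        Subgroup.mem_centralizer_singleton_iff.1 (hlc ⟨c.2, (hcl c).2 hcπ⟩)
      have hct' : Commute c t' := Subtype.ext hct.eq
      have hsq : (n' * t' * n'⁻¹) * (n' * t' * n'⁻¹) = 1 := by
        rw [show n' * t' * n'⁻¹ * (n' * t' * n'⁻¹) = n' * (t' * t') * n'⁻¹ by group, ht2, mul_one, mul_inv_cancel]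
      have hcomm : Commute (n' * t' * n'⁻¹) t' := by
        have h := hct'.mul_left (Commute.refl t')
        rwa [hcdef, mul_assoc (n' * t' * n'⁻¹), ht2, mul_one] at h
      have hc1 : c = 1 := hker1 c (by rw [hcdef, hcomm.symm.mul_mul_mul_comm, hsq, ht2, one_mul]) hcπ
      rw [hc1] at hcdef
      have hnt : n' * t' * n'⁻¹ = t' := by
        rw [eq_inv_of_mul_eq_one_left hcdef.symm, inv_eq_of_mul_eq_one_right ht2]
      exact Subgroup.mem_centralizer_singleton_iff.2 (congrArg Subtype.val (mul_inv_eq_iff_eq_mul.1 hnt))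
    · -- the index
      intro P hP
      have hPN : (P : Subgroup G) ≤ N := hP.trans inf_le_left
      let P₁ : Sylow 2 ↥N := P.subtype hPN
      let P₂ := P₁.mapSurjective (QuotientGroup.mk'_surjective (Cfsg.oddCore ↥N))
      obtain ⟨s⟩ := sylow_quotient (Cfsg.oddCore ↥N) hodd P₁
      have hPcard : Nat.card (P₂ : Subgroup (↥N ⧸ Cfsg.oddCore ↥N)) = Nat.card (P : Subgroup G) := by
        rw [← Nat.card_congr s.toEquiv]
        exact Nat.card_congr (Subgroup.subgroupOfEquivOfLe hPN).toEquiv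
      have hb := hidxX P₂ (by
        rintro _ ⟨y, hy, rfl⟩
        exact Subgroup.mem_centralizer_singleton_iff.2 (Commute.map
          (Subtype.ext (Subgroup.mem_centralizer_singleton_iff.1 (hP (Subgroup.mem_subgroupOf.1 hy)).2) :
            Commute y t') π).eq)
      rw [hPcard] at hb
      refine le_trans (Nat.mul_le_mul (Nat.sub_le_sub_right (Nat.mul_le_mul_left _ hTR) 1)
        (Nat.sub_le_sub_right (Nat.mul_le_mul_left _ hTR) 2)) (hb.trans (Nat.mul_le_mul_left 2 ?_))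
      let C := Subgroup.centralizer ({π t'} : Set (↥N ⧸ Cfsg.oddCore ↥N))
      have h1 : (C ⊓ L).relIndex L ≤ C.index := by
        rw [Subgroup.inf_relIndex_right, ← Subgroup.relIndex_top_right]
        refine Subgroup.relIndex_le_of_le_right le_top ?_
        rw [Subgroup.relIndex_top_right]
        exact Subgroup.index_ne_zero_of_finite
      have h2 : C.index ≤ (N ⊓ Subgroup.centralizer ({Φ.t} : Set G)).relIndex N := by
        rw [← C.index_comap_of_surjective (QuotientGroup.mk'_surjective _)]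
        refine Nat.le_of_dvd (Nat.pos_of_ne_zero Subgroup.index_ne_zero_of_finite) (Subgroup.index_dvd_of_le ?_)
        intro y hy
        rw [Subgroup.mem_subgroupOf] at hy
        exact Subgroup.mem_centralizer_singleton_iff.2 (Commute.map
          (Subtype.ext (Subgroup.mem_centralizer_singleton_iff.1 hy.2) : Commute y t') π).eq
      exact h1.trans h2

end Minimal

end Cfsg.Agent.GW
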