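import Cfsg.Agent.Lib.GW.FourParity
import Cfsg.Agent.Lib.Char.CoverBlocks
import Cfsg.Agent.Lib.GW.FourColumns

/-!
# The block of an irreducible character of the centralizer with a fixed correspondent on `C(P)`

A character `ξ` of `C(t)`, irreducible on the odd elements and congruent to a linear character `θ` of `C(P)` fixed
by the cycling element, lies in a block of four twists; this block is the only one of `C(t)` inducing the block of `θ`.
-/

set_option autoImplicit false
set_option linter.unusedSectionVars false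
set_option linter.style.haveILetI false

open scoped ComplexConjugate
open Cfsg

namespace Cfsg.Agent.GW

universe u

section Four

variable {G : Type u} [Group G] [Fintype G] {P : Sylow 2 G}

open scoped Classical in
/-- The four sign characters of a four group are orthogonal. -/
theorem four_dual (hP : Nat.card P = 4) (hexp : ∀ x : P, x * x = 1) :
    ∃ σ : Fin 4 → ((P : Subgroup G) →* ℤˣ), σ 0 = 1 ∧
      ∀ s x : (P : Subgroup G), ∑ k : Fin 4, (σ k s : ℤ) * (σ k x : ℤ) = if x = s then 4 else 0 := by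
  haveI : Fintype (P : Subgroup G) := Fintype.ofFinite _
  obtain ⟨a, ha⟩ : ∃ a : (P : Subgroup G), a ≠ 1 := by
    by_contra! h
    haveI : Subsingleton (P : Subgroup G) := ⟨fun x y => by rw [h x, h y]⟩
    have h1 : Nat.card (P : Subgroup G) = 1 := Nat.card_unique
    rw [show Nat.card (P : Subgroup G) = 4 from hP] at h1
    omega
  obtain ⟨b, hb⟩ : ∃ b : (P : Subgroup G), b ∉ ({1, a} : Finset (P : Subgroup G)) := by
    by_contra! h
    have h1 := Finset.card_le_card (fun x _ => h x : (Finset.univ : Finset (P : Subgroup G)) ⊆ _)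
    rw [Finset.card_univ, ← Nat.card_eq_fintype_card, show Nat.card (P : Subgroup G) = 4 from hP] at h1
    have := Finset.card_le_two (a := (1 : (P : Subgroup G))) (b := a)
    omega
  simp only [Finset.mem_insert, Finset.mem_singleton, not_or] at hb
  obtain ⟨hb1, hba⟩ := hb
  have haa : a * a = 1 := hexp a
  have n1 : a * b ≠ 1 := fun h => hba (by
    rw [← inv_eq_of_mul_eq_one_right h, inv_eq_of_mul_eq_one_right haa])
  have n2 : a * b ≠ a := fun h => hb1 (mul_eq_left.1 h)
  have n3 : a * b ≠ b := fun h => ha (mul_eq_right.1 h)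
  have n4 : a ≠ b := Ne.symm hba
  have cases4 : ∀ s : (P : Subgroup G), s = 1 ∨ s = a ∨ s = b ∨ s = a * b := by
    intro s
    by_contra! h
    obtain ⟨h1, h2, h3, h4⟩ := h
    have hle := Finset.card_le_univ ({1, a, b, a * b, s} : Finset (P : Subgroup G))
    rw [← Nat.card_eq_fintype_card, show Nat.card (P : Subgroup G) = 4 from hP] at hle
    rw [Finset.card_insert_of_notMem (by simp [Ne.symm ha, Ne.symm hb1, Ne.symm n1, Ne.symm h1]),
      Finset.card_insert_of_notMem (by simp [n4, Ne.symm n2, Ne.symm h2, hb1]),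
      Finset.card_insert_of_notMem (by simp [Ne.symm n3, Ne.symm h3, ha]),
      Finset.card_pair (Ne.symm h4)] at hle
    omega
  let σ₁ := fourSign hP hexp a ha
  let σ₂ := fourSign hP hexp b hb1
  have s11 : (σ₁ a : ℤ) = 1 := (fourSign_apply _ _ _ _ _).trans (if_pos (Or.inr rfl))
  have s12 : (σ₁ b : ℤ) = -1 := (fourSign_apply _ _ _ _ _).trans (if_neg (by
    rintro (h | h)
    · exact hb1 h
    · exact n4 h.symm))
  have s21 : (σ₂ a : ℤ) = -1 := (fourSign_apply _ _ _ _ _).trans (if_neg (by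
    rintro (h | h)
    · exact ha h
    · exact n4 h))
  have s22 : (σ₂ b : ℤ) = 1 := (fourSign_apply _ _ _ _ _).trans (if_pos (Or.inr rfl))
  refine ⟨![1, σ₁, σ₂, σ₁ * σ₂], rfl, fun s x => ?_⟩
  simp only [Fin.sum_univ_four, Matrix.cons_val_zero, Matrix.cons_val_one, Matrix.cons_val,
    MonoidHom.mul_apply, MonoidHom.one_apply, Units.val_mul, Units.val_one]
  rcases cases4 s with rfl | rfl | rfl | rfl <;> rcases cases4 x with rfl | rfl | rfl | rfl <;>
    simp [map_mul, s11, s12, s21, s22, n1, n2, n3, n4, Ne.symm n1, Ne.symm n2, Ne.symm n3, Ne.symm n4, ha, hb1,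
      Ne.symm ha, Ne.symm hb1]

end Four

variable {G : Type u} [Group G] [Fintype G] {M : Ideal AlgInt} {P : Sylow 2 G} {t v : G}

local notation "W" => Subgroup.centralizer ((P : Subgroup G) : Set G)
set_option quotPrecheck false in
local notation "C" => Subgroup.centralizer ({t} : Set G)

open scoped Classical in
/-- The data: the four group with its cycling element, the fixed linear character and the character above it. -/
structure CharData (M : Ideal AlgInt) (P : Sylow 2 G) (t v : G)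
    (θ : Subgroup.centralizer ((P : Subgroup G) : Set G) →* ℂˣ)
    (ξ : IrrCharacter (Subgroup.centralizer ({t} : Set G))) : Prop where
  base : LinData P t v (fun _ => 1) 1
  triv : ∀ w : Subgroup.centralizer ((P : Subgroup G) : Set G), (w : G) ∈ (P : Subgroup G) → θ w = 1
  fix : ∀ w w' : Subgroup.centralizer ((P : Subgroup G) : Set G), (w' : G) = v * w * v⁻¹ → θ w' = θ w
  at_t : ∀ a c : Subgroup.centralizer ({t} : Set G), (a : G) = t →
    (ξ : Subgroup.centralizer ({t} : Set G) → ℂ) (a * c) = (ξ : Subgroup.centralizer ({t} : Set G) → ℂ) c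
  odd : Odd (Char.deg (ξ : Subgroup.centralizer ({t} : Set G) → ℂ))
  norm : letI : Fintype (Subgroup.centralizer ({t} : Set G)) := Fintype.ofFinite _
    4 * (Nat.card (Subgroup.centralizer ({t} : Set G)) : ℂ)⁻¹ *
      ∑ y : Subgroup.centralizer ({t} : Set G) with ¬ 2 ∣ orderOf y,
        conj ((ξ : Subgroup.centralizer ({t} : Set G) → ℂ) y) *
          (ξ : Subgroup.centralizer ({t} : Set G) → ℂ) y = 1
  agree : ∀ (c : Subgroup.centralizer ({t} : Set G)) (w : Subgroup.centralizer ((P : Subgroup G) : Set G)),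
    (c : G) = w → MemLocalIdeal M ((ξ : Subgroup.centralizer ({t} : Set G) → ℂ) c /
      (ξ : Subgroup.centralizer ({t} : Set G) → ℂ) 1 - (θ w : ℂ))

variable {θ : Subgroup.centralizer ((P : Subgroup G) : Set G) →* ℂˣ}
  {ξ : IrrCharacter (Subgroup.centralizer ({t} : Set G))}

/-- The coefficient of the block in a character of `G`. -/
noncomputable def xiCoeff (t : G) (ξ : IrrCharacter (Subgroup.centralizer ({t} : Set G))) (χ : G → ℂ) : ℂ :=
  letI : Fintype (Subgroup.centralizer ({t} : Set G)) := Fintype.ofFinite _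
  open scoped Classical in
  4 * (Nat.card (Subgroup.centralizer ({t} : Set G)) : ℂ)⁻¹ *
    ∑ y : Subgroup.centralizer ({t} : Set G) with ¬ 2 ∣ orderOf y,
      conj ((ξ : Subgroup.centralizer ({t} : Set G) → ℂ) y) * χ (t * (y : G))

open scoped Classical in
/-- The block consists of four twists. -/
theorem CharData.exists_twists (hM : IsPModular 2 M) (D : CharData M P t v θ ξ) :
    letI : Fintype C := Fintype.ofFinite _
    ∃ T : Fin 4 → IrrCharacter C, Function.Injective T ∧
      (∀ ψ : IrrCharacter C, ψ ∈ blockOf M (ξ : C → ℂ) ↔ ∃ k, ψ = T k) ∧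
      (∀ (k : Fin 4) (y : C), ¬ 2 ∣ orderOf y → (T k : C → ℂ) y = (ξ : C → ℂ) y) ∧
      ∀ f : C → ℂ, ∑ k, classInner f (T k : C → ℂ) =
        4 * (Nat.card C : ℂ)⁻¹ * ∑ y : C with ¬ 2 ∣ orderOf y, f y * conj ((ξ : C → ℂ) y) := by
  letI : Fintype C := Fintype.ofFinite _
  haveI : Fact (Nat.Prime 2) := ⟨Nat.prime_two⟩
  have hP := Char.pmod_prime hM
  obtain ⟨σ, hσ0, hσ⟩ := four_dual D.base.card D.base.exp
  obtain ⟨η, -, hη1, hKc, hK4⟩ := exists_proj D.base
  let L : Fin 4 → (C →* ℂˣ) := fun k => (Units.map (Int.castRingHom ℂ).toMonoidHom).comp ((σ k).comp η)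
  have hL : ∀ k c, (L k c : ℂ) = ((σ k (η c) : ℤ) : ℂ) := fun k c => rfl
  let T : Fin 4 → IrrCharacter C := fun k => twist (L k) ξ
  have hTy : ∀ (k : Fin 4) (y : C), ¬ 2 ∣ orderOf y → (T k : C → ℂ) y = (ξ : C → ℂ) y := by
    intro k y hy
    simp only [T, twist_apply, hL, (hη1 y).2 hy, map_one, Units.val_one, Int.cast_one, one_mul]
  have hsum : ∀ f : C → ℂ, ∑ k, classInner f (T k : C → ℂ) =
      4 * (Nat.card C : ℂ)⁻¹ * ∑ y : C with ¬ 2 ∣ orderOf y, f y * conj ((ξ : C → ℂ) y) := by
    intro f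
    simp only [classInner, T, twist_apply, hL, map_mul, map_intCast, Finset.mul_sum, Finset.sum_filter]
    rw [Finset.sum_comm]
    refine Finset.sum_congr rfl fun y _ => ?_
    have h := hσ 1 (η y)
    rw [← Int.cast_inj (α := ℂ)] at h
    push_cast at h
    simp only [map_one, Units.val_one, Int.cast_one, one_mul] at h
    calc ∑ k, (Nat.card C : ℂ)⁻¹ * (f y * (((σ k (η y) : ℤ) : ℂ) * conj ((ξ : C → ℂ) y)))
        = (∑ k, ((σ k (η y) : ℤ) : ℂ)) * ((Nat.card C : ℂ)⁻¹ * (f y * conj ((ξ : C → ℂ) y))) := by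
          rw [Finset.sum_mul]; exact Finset.sum_congr rfl fun k _ => by ring
      _ = _ := by
          rw [h, if_congr (hη1 y) rfl rfl]
          split_ifs <;> ring
  -- the twists are distinct
  have hinj : Function.Injective T := by
    intro i j hij
    by_contra hne
    have h1 : ∑ k, classInner (T i : C → ℂ) (T k : C → ℂ) = 1 := by
      rw [hsum, ← D.norm]
      congr 1
      refine Finset.sum_congr rfl fun y hy => ?_
      rw [hTy i y (Finset.mem_filter.1 hy).2]; ring
    rw [← Finset.add_sum_erase _ _ (Finset.mem_univ i), ← Finset.add_sum_erase _ _ (Finset.mem_erase.mpr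
      ⟨Ne.symm hne, Finset.mem_univ j⟩), ← hij, Char.irr_self (T i).2] at h1
    have hnn : ∀ k, ∃ n : ℕ, classInner (T i : C → ℂ) (T k : C → ℂ) = n := fun k =>
      Char.classInner_natCast (Char.irr_isCharacter (T i).2) (Char.irr_isCharacter (T k).2)
    choose n hn using hnn
    simp only [hn, ← Nat.cast_sum] at h1
    have : 1 + (1 + ∑ k ∈ (Finset.univ.erase i).erase j, n k) = 1 := by exact_mod_cast h1
    omega
  refine ⟨T, hinj, fun ψ => ⟨fun hψ => ?_, ?_⟩, hTy, hsum⟩
  · -- a member has the restriction of `ξ` as a constituent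
    let φ : IrrCharacter η.ker := ⟨fun k => (ξ : C → ℂ) k, Char.isIrr_of_norm_one
      (Char.isCharacter_comp η.ker.subtype (Char.irr_isCharacter ξ.2)) (by
        rw [← D.norm]
        simp only [classInner]
        rw [show (Nat.card C : ℂ) = 4 * Nat.card η.ker by rw [← η.ker.index_mul_card, hK4]; push_cast; ring,
          mul_inv, ← mul_assoc, mul_inv_cancel₀ (by norm_num : (4 : ℂ) ≠ 0), one_mul]
        congr 1
        refine Finset.sum_bij (fun k _ => (k : C)) ?_ ?_ ?_ ?_
        · exact fun k _ => Finset.mem_filter.2 ⟨Finset.mem_univ _, (hη1 _).1 k.2⟩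
        · exact fun a _ b _ h => Subtype.ext h
        · exact fun y hy => ⟨⟨y, (hη1 y).2 (Finset.mem_filter.1 hy).2⟩, Finset.mem_univ _, rfl⟩
        · exact fun k _ => mul_comm _ _)⟩
    have hξφ : classInner (fun k : η.ker => (ξ : C → ℂ) k) (φ : η.ker → ℂ) ≠ 0 := by
      rw [show (fun k : η.ker => (ξ : C → ℂ) k) = (φ : η.ker → ℂ) from rfl, Char.irr_self φ.2]
      exact one_ne_zero
    have hne : classInner (fun k : η.ker => (ψ : C → ℂ) k) (φ : η.ker → ℂ) ≠ 0 :=
      Char.constituent_of_sameBlock hM hKc hψ hξφ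
    by_contra hno
    push Not at hno
    refine hne ?_
    have h0 : ∑ k, classInner (ψ : C → ℂ) (T k : C → ℂ) = 0 :=
      Finset.sum_eq_zero fun k _ => by
        rw [Char.irr_orth ψ.2 (T k).2, if_neg fun e => hno k (Subtype.ext e)]
    rw [hsum] at h0
    rw [← h0]
    simp only [classInner]
    rw [show (Nat.card C : ℂ) = 4 * Nat.card η.ker by rw [← η.ker.index_mul_card, hK4]; push_cast; ring,
      mul_inv, ← mul_assoc, mul_inv_cancel₀ (by norm_num : (4 : ℂ) ≠ 0), one_mul]
    congr 1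
    refine Finset.sum_bij (fun k _ => (k : C)) ?_ ?_ ?_ ?_
    · exact fun k _ => Finset.mem_filter.2 ⟨Finset.mem_univ _, (hη1 _).1 k.2⟩
    · exact fun a _ b _ h => Subtype.ext h
    · exact fun y hy => ⟨⟨y, (hη1 y).2 (Finset.mem_filter.1 hy).2⟩, Finset.mem_univ _, rfl⟩
    · exact fun k _ => rfl
  · rintro ⟨k, rfl⟩
    obtain ⟨φ, hφ⟩ := Char.exists_constituent (N := η.ker) ξ
    refine Char.sameBlock_of_pIndex hM (k := 2) (by rw [hK4]; norm_num) (Char.sameBlock_refl hP _) hφ ?_
    rwa [show (fun n : η.ker => (T k : C → ℂ) n) = fun n : η.ker => (ξ : C → ℂ) n from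
      funext fun n => hTy k n ((hη1 n).1 n.2)]

open scoped Classical in
/-- The part of a function in the block at a regular element. -/
theorem CharData.blockPart_xi (hM : IsPModular 2 M) (D : CharData M P t v θ ξ) (χ : G → ℂ) :
    letI : Fintype C := Fintype.ofFinite _
    ∀ y : C, ¬ 2 ∣ orderOf y →
      blockPart (blockOf M (ξ : C → ℂ)) (Char.secFun t χ) y = (ξ : C → ℂ) y * xiCoeff t ξ χ := by
  letI : Fintype C := Fintype.ofFinite _
  intro y hy
  obtain ⟨T, hinj, hmem, hTy, hsum⟩ := D.exists_twists hM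
  rw [Char.blockPart_eq, show (Finset.univ.filter fun ψ : IrrCharacter C => ψ ∈ blockOf M (ξ : C → ℂ)) =
    Finset.univ.image T by ext ψ; simp [hmem, eq_comm], Finset.sum_image fun i _ j _ h => hinj h]
  rw [Finset.sum_congr rfl fun k _ => by rw [hTy k y hy], ← Finset.sum_mul, hsum, mul_comm, xiCoeff]
  congr 2
  exact Finset.sum_congr rfl fun z _ => mul_comm _ _

open scoped Classical in
/-- Orthogonality inside the block at regular elements. -/
theorem CharData.block_orth_xi (hM : IsPModular 2 M) (D : CharData M P t v θ ξ) :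
    letI : Fintype C := Fintype.ofFinite _
    ∀ y y' : C, ¬ 2 ∣ orderOf y → ¬ 2 ∣ orderOf y' →
      ∑ ψ : IrrCharacter C with ψ ∈ blockOf M (ξ : C → ℂ), conj ((ψ : C → ℂ) y) * (ψ : C → ℂ) y' =
        4 * (conj ((ξ : C → ℂ) y) * (ξ : C → ℂ) y') := by
  letI : Fintype C := Fintype.ofFinite _
  intro y y' hy hy'
  obtain ⟨T, hinj, hmem, hTy, -⟩ := D.exists_twists hM
  rw [show (Finset.univ.filter fun ψ : IrrCharacter C => ψ ∈ blockOf M (ξ : C → ℂ)) =
    Finset.univ.image T by ext ψ; simp [hmem, eq_comm], Finset.sum_image fun i _ j _ h => hinj h]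
  rw [Finset.sum_congr rfl fun k _ => by rw [hTy k y hy, hTy k y' hy'], Finset.sum_const, Finset.card_univ,
    Fintype.card_fin]
  simp [nsmul_eq_mul]

open scoped Classical in
/-- The induced central characters agree. -/
theorem CharData.induced_agree (hM : IsPModular 2 M) (D : CharData M P t v θ ξ) (g : G) :
    MemLocalIdeal M (inducedCentralChar C (ξ : C → ℂ) g - inducedCentralChar W (linIrr θ : W → ℂ) g) := by
  have hP := Char.pmod_prime hM
  set u := v * t * v⁻¹ with hu
  simp only [inducedCentralChar, linIrr_apply, map_one, Units.val_one, div_one]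
  rw [finsum_mem_eq_finite_toFinset_sum _ (Set.toFinite _), finsum_mem_eq_finite_toFinset_sum _ (Set.toFinite _)]
  set S : Finset C := (Set.toFinite {h : C | IsConj g (h : G)}).toFinset with hS
  rw [← Finset.sum_filter_add_sum_filter_not S (fun h : C => (h : G) ∈ W)]
  have hf : ∀ h : C, MemLocalRing M ((ξ : C → ℂ) h / (ξ : C → ℂ) 1) := fun h => by
    rw [div_eq_mul_inv, Char.char_one_eq_deg (Char.irr_isCharacter ξ.2)]
    exact Char.memLR_mul hP (Char.memLocalRing_of_isIntegral hP.ne_top (Char.char_isIntegral (Char.irr_isCharacter ξ.2) h))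
      (Char.memLR_inv_natCast hM (fun h2 => Nat.not_even_iff_odd.2 D.odd (even_iff_two_dvd.2 h2)))
  have e : MemLocalIdeal M (∑ h ∈ S.filter (fun h : C => (h : G) ∈ W), (ξ : C → ℂ) h / (ξ : C → ℂ) 1 -
      ∑ w ∈ (Set.toFinite {w : W | IsConj g (w : G)}).toFinset, (θ w : ℂ)) := by
    have e' : ∑ h ∈ S.filter (fun h : C => (h : G) ∈ W), (ξ : C → ℂ) h / (ξ : C → ℂ) 1 =
        ∑ w ∈ (Set.toFinite {w : W | IsConj g (w : G)}).toFinset,
          (ξ : C → ℂ) ⟨(w : G), D.base.W_le w.2⟩ / (ξ : C → ℂ) 1 := by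
      refine Finset.sum_bij (fun h hh => (⟨(h : G), (Finset.mem_filter.mp hh).2⟩ : W)) ?_ ?_ ?_ ?_
      · intro h hh
        simpa [hS] using (Finset.mem_filter.mp hh).1
      · intro a _ b _ hab
        exact Subtype.ext (congrArg (fun x : W => (x : G)) hab)
      · intro w hw
        refine ⟨⟨(w : G), D.base.W_le w.2⟩, Finset.mem_filter.mpr ⟨?_, w.2⟩, rfl⟩
        simpa [hS] using hw
      · intro h _; rfl
    rw [e', ← Finset.sum_sub_distrib]
    exact Char.memLI_sum hP _ _ fun w _ => D.agree _ w rfl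
  have huC : u ∈ C := Subgroup.mem_centralizer_singleton_iff.mpr
    (Char.comm_of_exp_two (P := (P : Subgroup G)) D.base.exp u D.base.uP t D.base.tP)
  have huu : u * u = 1 := D.base.sq D.base.uP
  have h0 : MemLocalIdeal M (∑ h ∈ S.filter (fun h : C => ¬ (h : G) ∈ W), (ξ : C → ℂ) h / (ξ : C → ℂ) 1) := by
    refine Char.DihBlock.memLI_sum_pairs hM _ (fun h : C => ⟨u, huC⟩ * h * ⟨u, huC⟩⁻¹)
      (fun h : C => (ξ : C → ℂ) h / (ξ : C → ℂ) 1) ?_ ?_ ?_ ?_ ?_
    · intro h hh
      obtain ⟨h1, h2⟩ := Finset.mem_filter.mp hh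
      refine Finset.mem_filter.mpr ⟨?_, fun hW => h2 ?_⟩
      · simp only [hS, Set.Finite.mem_toFinset, Set.mem_setOf_eq] at h1 ⊢
        exact h1.trans (isConj_iff.mpr ⟨u, rfl⟩)
      · have hWu : u ∈ W := Subgroup.mem_centralizer_iff.mpr fun x hx =>
          Char.comm_of_exp_two (P := (P : Subgroup G)) D.base.exp x hx u D.base.uP
        have := mul_mem (mul_mem (inv_mem hWu) hW) hWu
        simpa [mul_assoc] using this
    · intro h hh heq
      refine (Finset.mem_filter.mp hh).2 (D.base.mem_W h.2 ?_)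
      have h' : u * (h : G) * u⁻¹ = h := congrArg Subtype.val heq
      exact (mul_inv_eq_iff_eq_mul.mp h').symm
    · intro h _
      refine Subtype.ext ?_
      show u * (u * (h : G) * u⁻¹) * u⁻¹ = h
      calc u * (u * (h : G) * u⁻¹) * u⁻¹ = (u * u) * h * (u * u)⁻¹ := by group
        _ = h := by rw [huu]; simp
    · intro h _
      show _ / _ = _ / _
      rw [Char.isClassFunction_character (Char.irr_isCharacter ξ.2)]
    · exact fun h _ => hf h
  have := Char.memLI_add hP e h0
  convert this using 1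
  ring

open scoped Classical in
/-- A block of `G` with exactly one inducing block at `t`. -/
theorem CharData.exists_block (hM : IsPModular 2 M) (D : CharData M P t v θ ξ) :
    ∃ B : Set (IrrCharacter G), IsPBlock M B ∧ IsInducedBlock M C (blockOf M (ξ : C → ℂ)) B ∧
      ∀ b, IsInducedBlock M C b B → b = blockOf M (ξ : C → ℂ) := by
  haveI : Fact (Nat.Prime 2) := ⟨Nat.prime_two⟩
  letI : Fintype C := Fintype.ofFinite _
  letI : Fintype W := Fintype.ofFinite _
  have hP := Char.pmod_prime hM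
  obtain ⟨B, hB⟩ := Char.exists_induced_centralizer hM (two_pow_order D.base) (b := blockOf M (ξ : C → ℂ)) ⟨_, rfl⟩
  have hPW : (P : Subgroup G) ≤ W := fun a ha => Subgroup.mem_centralizer_iff.mpr fun x hx =>
    Char.comm_of_exp_two (P := (P : Subgroup G)) D.base.exp x hx a ha
  obtain ⟨B', hB'⟩ := Char.inducedBlockDefined_of_local hM P.isPGroup' hPW le_rfl
    (Subgroup.centralizer_le_normalizer _) (b := blockOf M (linIrr θ : W → ℂ)) ⟨_, rfl⟩
  have hBB : B = B' := by
    obtain ⟨χ, hχ⟩ := Char.block_nonempty hP hB.2.1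
    obtain ⟨ψ, hψ⟩ := Char.block_nonempty hP hB'.2.1
    rw [Char.block_eq_blockOf hP hB.2.1 hχ, Char.block_eq_blockOf hP hB'.2.1 hψ]
    refine Char.blockOf_eq_of_sameBlock hP fun g => ?_
    have a := hB.2.2 ξ (Char.self_mem_blockOf hP _) χ hχ g
    have b := hB'.2.2 (linIrr θ) (Char.self_mem_blockOf hP _) ψ hψ g
    have := Char.memLI_sub hP (Char.memLI_sub hP (D.induced_agree hM g) a) (Char.memLI_symm hP b)
    convert this using 1
    ring
  subst hBB
  refine ⟨B, hB.2.1, hB, fun b hb => ?_⟩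
  have hpair := Char.SubsectionOrbits.pair_of_induced hM P.isPGroup' hB'
  have hmax : IsMaximalBrauerPair 2 M B (P : Subgroup G) (blockOf M (linIrr θ : W → ℂ)) :=
    ⟨hpair, fun R g hR hle => (P.is_maximal' hR.1.1 (Char.subpair_le hle))⟩
  have hab : ∀ x ∈ (P : Subgroup G), ∀ y ∈ (P : Subgroup G), x * y = y * x :=
    Char.comm_of_exp_two (P := (P : Subgroup G)) D.base.exp
  have ht2 := D.base.order D.base.tP D.base.t1
  obtain ⟨Φ, -, hsur, hfib⟩ := Char.SubsectionOrbits.exists_orbitMap hM hmax hab ({1, t} : Finset G)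
    (fun x hx => by
      rcases Finset.mem_insert.1 hx with rfl | hx
      · exact ⟨0, by simp⟩
      · rw [Finset.mem_singleton.1 hx]; exact two_pow_order D.base)
    (fun g hg => by
      obtain ⟨k, hk⟩ := hg
      by_cases h1 : g = 1
      · subst h1
        refine ⟨1, ⟨Finset.mem_insert_self _ _, IsConj.refl _⟩, fun x hx => ?_⟩
        exact isConj_one_right.1 hx.2
      obtain ⟨Q, hQ⟩ := (IsPGroup.of_card (n := k) (by rw [Nat.card_zpowers, hk]) :
        IsPGroup 2 (Subgroup.zpowers g)).exists_le_sylow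
      obtain ⟨c, hc⟩ := MulAction.exists_smul_eq G Q P
      have hm : c * g * c⁻¹ ∈ (P : Subgroup G) := by rw [← hc]; exact ⟨g, hQ (Subgroup.mem_zpowers g), rfl⟩
      have hg2 : orderOf g = 2 := by
        have := D.base.order hm (fun h => h1 (conj_eq_one_iff.mp h))
        rwa [← MulAut.conj_apply, MulEquiv.orderOf_eq] at this
      refine ⟨t, ⟨by simp, D.base.one g t hg2 ht2⟩, fun x hx => ?_⟩
      rcases Finset.mem_insert.1 hx.1 with rfl | h
      · rw [isConj_one_left.1 hx.2, orderOf_one] at hg2; omega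
      · exact Finset.mem_singleton.1 h)
  have hstab : v ∈ Char.pairStab hP hmax.1.1.2 := by
    refine (Char.mem_pairStab hP _).mpr ⟨D.base.vN, D.base.normW, fun χ hχ => ?_⟩
    let e : MulAut W := Char.conjC (P : Subgroup G) ⟨v, D.base.vN⟩
    refine ⟨Char.irrComp e⁻¹ χ, ?_, ?_⟩
    · have hc : IsPBlock M (blockOf M (linIrr θ : W → ℂ)) := ⟨_, rfl⟩
      have himg := Char.isPBlock_image (M := M) (Q := (P : Subgroup G)) e⁻¹ hc
      have hinv : Char.irrComp e⁻¹ (linIrr θ) = linIrr θ := by
        refine Subtype.ext (funext fun w => ?_)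
        rw [Char.irrComp_apply, linIrr_apply, linIrr_apply]
        have he : (e (e⁻¹ w) : G) = v * (e⁻¹ w : W) * v⁻¹ := rfl
        rw [MulAut.apply_inv_self] at he
        rw [← D.fix _ w he]
      have hmem : linIrr θ ∈ Char.irrComp e⁻¹ '' blockOf M (linIrr θ : W → ℂ) :=
        ⟨linIrr θ, Char.self_mem_blockOf hP _, hinv⟩
      have hEq : Char.irrComp e⁻¹ '' blockOf M (linIrr θ : W → ℂ) = blockOf M (linIrr θ : W → ℂ) :=
        Char.block_eq_blockOf hP himg hmem
      rw [← hEq]
      exact ⟨χ, hχ, rfl⟩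
    · intro k k' hk
      rw [Char.irrComp_apply]
      have hkk : k' = e k := Subtype.ext (by show _ = v * (k : G) * v⁻¹; exact hk)
      rw [hkk, MulAut.inv_apply_self]
  have hall : ∀ x ∈ (P : Subgroup G), x ≠ 1 → Φ x = Φ t := by
    intro x hx hx1
    have hu : Φ t = Φ (v * t * v⁻¹) := (hfib t D.base.tP D.base.t1 _ D.base.uP D.base.u1).mpr ⟨v, hstab, rfl⟩
    rcases D.base.mem_cases hx with rfl | rfl | rfl | rfl
    · exact absurd rfl hx1
    · rfl
    · exact hu.symm
    · rw [hu]
      exact ((hfib _ D.base.uP D.base.u1 _ hx hx1).mpr ⟨v, hstab, D.base.cyc⟩).symm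
  obtain ⟨z, hz, hz1, he⟩ := hsur t (by simp) D.base.t1 b hb
  obtain ⟨z', hz', hz1', he'⟩ := hsur t (by simp) D.base.t1 _ hB
  have := (he.symm.trans ((hall z hz hz1).trans (hall z' hz' hz1').symm)).trans he'
  exact eq_of_heq (Sigma.mk.inj_iff.mp this).2

open scoped Classical in
/-- The characters of `G` on the section of `t` in the block, and the four coefficients. -/
theorem CharData.exists_column (hM : IsPModular 2 M) (D : CharData M P t v θ ξ) :
    letI : Fintype C := Fintype.ofFinite _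
    ∃ (S : Finset (IrrCharacter G)) (p : IrrCharacter G → ℤ),
      (∀ χ : IrrCharacter G, xiCoeff t ξ (χ : G → ℂ) = p χ) ∧
      (∀ χ ∈ S, (p χ = 1 ∨ p χ = -1) ∧
        ∀ y : C, ¬ 2 ∣ orderOf y → (χ : G → ℂ) (t * (y : G)) = p χ * (ξ : C → ℂ) y) ∧
      (∀ χ, χ ∉ S → p χ = 0) ∧ S.card = 4 ∧
      ∑ χ ∈ S, p χ * (Char.deg (χ : G → ℂ) : ℤ) = 0 := by
  haveI : Fact (Nat.Prime 2) := ⟨Nat.prime_two⟩
  letI : Fintype C := Fintype.ofFinite _
  have hP := Char.pmod_prime hM
  obtain ⟨B, hblock, hind, huniq⟩ := D.exists_block hM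
  obtain ⟨T, hinj, hmem, hTy, hsum⟩ := D.exists_twists hM
  obtain ⟨η, hη, hη1, hKc, hK4⟩ := exists_proj D.base
  -- the coefficients are integers
  have hint : ∀ χ : IrrCharacter G, ∃ n : ℤ, xiCoeff t ξ (χ : G → ℂ) = n := by
    intro χ
    obtain ⟨σ, -, hσ⟩ := four_dual D.base.card D.base.exp
    let L : Fin 4 → (C →* ℂˣ) := fun k => (Units.map (Int.castRingHom ℂ).toMonoidHom).comp ((σ k).comp η)
    choose n hn using fun k => Char.classInner_natCast
      (Char.isCharacter_comp (C : Subgroup G).subtype (Char.irr_isCharacter χ.2))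
      (Char.irr_isCharacter (twist (L k) ξ).2)
    let s : (P : Subgroup G) := ⟨t, D.base.tP⟩
    refine ⟨∑ k, (σ k s : ℤ) * (n k : ℤ), ?_⟩
    let tC : C := ⟨t, Subgroup.mem_centralizer_singleton_iff.mpr rfl⟩
    have hηt : η tC = s := hη tC D.base.tP
    have e : ∑ y : C with ¬ 2 ∣ orderOf y, conj ((ξ : C → ℂ) y) * (χ : G → ℂ) (t * (y : G)) =
        ∑ g : C with η g = s, conj ((ξ : C → ℂ) g) * (χ : G → ℂ) (g : G) := by
      refine Finset.sum_equiv (Equiv.mulLeft tC) (fun w => ?_) fun w _ => ?_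
      · simp [← hη1, hηt]
      · show _ = conj ((ξ : C → ℂ) (tC * w)) * (χ : G → ℂ) ((tC * w : C) : G)
        rw [D.at_t tC w rfl]
        rfl
    rw [xiCoeff, e]
    push_cast
    simp only [← hn, classInner, twist_apply, L, MonoidHom.comp_apply, Units.coe_map, MonoidHom.coe_coe,
      RingHom.toMonoidHom_eq_coe, eq_intCast, map_mul, map_intCast, Finset.mul_sum, Function.comp_apply]
    rw [Finset.sum_filter, Finset.sum_comm]
    refine Finset.sum_congr rfl fun g _ => ?_
    have h := hσ s (η g)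
    have h' : ∑ k : Fin 4, ((σ k s : ℤ) : ℂ) * ((σ k (η g) : ℤ) : ℂ) = if η g = s then 4 else 0 := by
      rw [← Int.cast_inj (α := ℂ)] at h
      push_cast at h
      exact h
    calc (if η g = s then _ else (0 : ℂ))
        = (∑ k : Fin 4, ((σ k s : ℤ) : ℂ) * ((σ k (η g) : ℤ) : ℂ)) *
            ((Nat.card C : ℂ)⁻¹ * (conj ((ξ : C → ℂ) g) * (χ : G → ℂ) (g : G))) := by
          rw [h']; split_ifs <;> ring
      _ = _ := by
          rw [Finset.sum_mul]
          exact Finset.sum_congr rfl fun k _ => by simp only [Subgroup.coe_subtype]; ring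
  choose p hp using hint
  -- only the block carries coefficients
  have hval : ∀ χ ∈ B, ∀ y : C, ¬ 2 ∣ orderOf y →
      (χ : G → ℂ) (t * (y : G)) = (p χ : ℂ) * (ξ : C → ℂ) y := by
    intro χ hχ y hy
    have h := Char.eq_sum_blockPart hP (Char.isClassFunction_secFun (x := t)
      (Char.isClassFunction_character (Char.irr_isCharacter χ.2))) y
    rw [show Char.secFun t (χ : G → ℂ) y = (χ : G → ℂ) (t * (y : G)) from rfl] at h
    rw [h, Finset.sum_eq_single (blockOf M (ξ : C → ℂ)), D.blockPart_xi hM _ y hy, hp, mul_comm]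
    · intro b hb hne
      obtain ⟨ψ, -, rfl⟩ := Finset.mem_image.1 hb
      exact Char.blockPart_secFun_eq_zero hM (two_pow_order D.base) hblock χ hχ (Char.isPBlock_blockOf M ψ)
        (fun hi => hne (huniq _ hi)) y hy
    · intro hno
      exact absurd (Finset.mem_image.2 ⟨ξ, Finset.mem_univ _, rfl⟩) hno
  have hzero : ∀ χ, χ ∉ B → p χ = 0 := by
    intro χ hχ
    have h := D.blockPart_xi hM (χ : G → ℂ) 1 (by simp)
    rw [hp, Char.blockPart_secFun_eq_zero hM (two_pow_order D.base) (Char.isPBlock_blockOf M χ) χ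
      (Char.self_mem_blockOf hP χ) (Char.isPBlock_blockOf M ξ) (fun hi => hχ (by
        rw [Char.induced_unique hP hind hi]; exact Char.self_mem_blockOf hP χ)) 1 (by simp)] at h
    rcases mul_eq_zero.1 h.symm with e | e
    · exact absurd e (Char.irr_one_ne_zero ξ.2)
    · exact_mod_cast e
  set s : Finset (IrrCharacter G) := Finset.univ.filter fun χ => χ ∈ B with hs
  obtain ⟨n, hn⟩ := Char.charOne_eq_natCast (Char.irr_isCharacter ξ.2)
  have hsq : ∑ χ ∈ s, p χ * p χ = 4 := by
    have h := Char.sum_block_section_orth hM (two_pow_order D.base) hblock (1 : C) 1 (by simp) (by simp)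
    rw [show ((Finset.univ : Finset (IrrCharacter C)).image (fun ξ' : IrrCharacter C =>
        blockOf M (ξ' : C → ℂ))).filter (fun b => IsInducedBlock M C b B) = {blockOf M (ξ : C → ℂ)} by
      ext b
      simp only [Finset.mem_filter, Finset.mem_image, Finset.mem_univ, true_and, Finset.mem_singleton]
      exact ⟨fun h => huniq b h.2, fun h => h ▸ ⟨⟨ξ, rfl⟩, hind⟩⟩, Finset.sum_singleton,
      D.block_orth_xi hM 1 1 (by simp) (by simp)] at h
    rw [Finset.sum_congr rfl (g := fun χ : IrrCharacter G => ((p χ * p χ : ℤ) : ℂ) *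
        (conj ((ξ : C → ℂ) 1) * (ξ : C → ℂ) 1)) fun χ hχ => by
      rw [hval χ (Finset.mem_filter.1 hχ).2 1 (by simp), map_mul, map_intCast]; push_cast; ring,
      ← Finset.sum_mul, ← Int.cast_sum] at h
    have hne : conj ((ξ : C → ℂ) 1) * (ξ : C → ℂ) 1 ≠ 0 :=
      mul_ne_zero ((map_ne_zero _).2 (Char.irr_one_ne_zero ξ.2)) (Char.irr_one_ne_zero ξ.2)
    have h' := mul_right_cancel₀ hne h
    exact_mod_cast h'
  have hdeg : ∑ χ ∈ s, p χ * (Char.deg (χ : G → ℂ) : ℤ) = 0 := by
    have h2 : 2 ∣ orderOf (t * ((1 : C) : G)) := by simp [D.base.order D.base.tP D.base.t1]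
    have h := Char.weak_orthogonality hM hblock (x := (1 : G)) (y := t * ((1 : C) : G)) (by simp) h2
    rw [Char.finsum_mem_irr, Finset.sum_congr rfl
      (g := fun χ : IrrCharacter G => conj ((ξ : C → ℂ) 1) * ((p χ * (Char.deg (χ : G → ℂ) : ℤ) : ℤ) : ℂ))
      fun χ hχ => by
      rw [hval χ (Finset.mem_filter.1 hχ).2 1 (by simp), Char.char_one_eq_deg (Char.irr_isCharacter χ.2), map_mul,
        map_intCast]
      push_cast; ring, ← Finset.mul_sum, ← Int.cast_sum] at h
    have h' := (mul_eq_zero.1 h).resolve_left ((map_ne_zero _).2 (Char.irr_one_ne_zero ξ.2))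
    exact_mod_cast h'
  obtain ⟨hall, hcard⟩ := column_support s p (fun χ => Char.deg (χ : G → ℂ)) (fun χ _ => Char.deg_pos χ.2) hsq hdeg
  refine ⟨s.filter fun χ => p χ ≠ 0, p, hp, fun χ hχ => ?_, fun χ hχ => ?_, hcard, ?_⟩
  · obtain ⟨h1, h2⟩ := Finset.mem_filter.1 hχ
    exact ⟨(hall χ h1).resolve_left h2, hval χ (Finset.mem_filter.1 h1).2⟩
  · by_contra h
    by_cases hB : χ ∈ B
    · exact hχ (Finset.mem_filter.2 ⟨Finset.mem_filter.2 ⟨Finset.mem_univ _, hB⟩, h⟩)
    · exact h (hzero χ hB)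
  · refine Eq.trans ?_ hdeg
    refine Finset.sum_subset (Finset.filter_subset _ _) fun χ hχ hn => ?_
    have : p χ = 0 := by_contra fun h => hn (Finset.mem_filter.2 ⟨hχ, h⟩)
    rw [this, zero_mul]

end Cfsg.Agent.GW
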