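import Cfsg.Agent.Lib.GW.RotationComp
import Cfsg.Agent.Lib.GW.RotationBlock
import Cfsg.Agent.Lib.Char.CliffordInd
import Cfsg.Agent.Lib.Char.RelMcKay.Semi

/-!
# The rotation case: the character of `C(t)`

`a ↦ [a, x]` is a homomorphism of `E = ker Φ` into the torus, trivial on `x` and on the torus and not on `d`; a
faithful character of the torus composed with it gives a linear character of `E`, fixed by `P` and with inertia
group `E` in `O`.  Extended trivially to `E P` and induced to `C(t)` it gives the character `ξ` of degree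
`l = |O : E|`, and its restriction to `C(P) ≤ E P` the fixed linear character `θ`.
-/

set_option autoImplicit false
set_option linter.unusedSectionVars false
set_option linter.style.haveILetI false

open scoped ComplexConjugate

namespace Cfsg.Agent.GW

open Cfsg Cfsg.Agent
open Cfsg.Agent.Fusion.Dickson

universe w

/-- a cyclic group has a faithful linear character -/
theorem exists_faithful_hom (T : Type w) [Group T] [Finite T] [IsCyclic T] :
    ∃ χ : T →* ℂˣ, Function.Injective χ := by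
  haveI : NeZero (Nat.card T) := ⟨Nat.card_pos.ne'⟩
  have hζ := Complex.isPrimitiveRoot_exp (Nat.card T) (NeZero.ne _)
  obtain ⟨z, hz⟩ : ∃ z : ℂˣ, IsPrimitiveRoot z (Nat.card T) :=
    ⟨(hζ.isUnit (NeZero.ne _)).unit, IsPrimitiveRoot.coe_units_iff.1 hζ⟩
  let e : T ≃* Subgroup.zpowers z := mulEquivOfCyclicCardEq (by rw [Nat.card_zpowers, ← hz.eq_orderOf])
  exact ⟨(Subgroup.zpowers z).subtype.comp e.toMonoidHom, (Subgroup.zpowers z).subtype_injective.comp e.injective⟩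

variable {G : Type w} [Group G] [Fintype G] [IsSimpleGroup G] {t u : G} {O N : Subgroup G} {P : Sylow 2 G} {q : ℕ}
  [Fact q.Prime] {ρ : G} {d x : G} {Φ : ↥O →* Matrix.SpecialLinearGroup (Fin 2) (ZMod q)}

set_option quotPrecheck false in
local notation "Cz" => Subgroup.centralizer ({t} : Set G)

set_option quotPrecheck false in
local notation "Fq" => fq q (Subgroup.centralizer ({t} : Set G))

/-- **the linear character of the kernel** -/
theorem RotCfg.exists_lambda (c : RotCfg t u O P q N ρ) (s : Shape q t u O N d x) (A : Action q t u O N d x Φ)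
    (g : Range q t u O N d Φ) {A₀ : Subgroup G} (K : Comp q t u O N Φ A₀) :
    ∃ l : ↥Φ.ker →* ℂˣ,
      (∀ a b : ↥Φ.ker, ((b : ↥O) : G) = u * ((a : ↥O) : G) * u⁻¹ → l b = l a) ∧
      (∀ a : ↥Φ.ker, ((a : ↥O) : G) ∈ lay N ⊓ O → l a = 1) ∧
      ∀ h : ↥O, (∀ n : ↥Φ.ker, l (MulAut.conjNormal h n) = l n) → h ∈ Φ.ker := by
  have hd := s.second
  haveI := c.torus_cyclic
  obtain ⟨χ, hχ⟩ := exists_faithful_hom ↥(lay N ⊓ O)
  have hker : ∀ a : ↥Φ.ker,
      ((a : ↥O) : G) * x * ((a : ↥O) : G)⁻¹ * x⁻¹ ∈ Fq ⊓ (lay N ⊓ O) := fun a =>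
    ((A.ker a).1 a.2).2
  have hcen : ∀ a : ↥Φ.ker, ∀ b ∈ O, Commute b (((a : ↥O) : G) * x * ((a : ↥O) : G)⁻¹ * x⁻¹) := fun a b hb =>
    c.core_central s (hker a).1 (hker a).2 hb
  have hxO : x ∈ O := c.fq_core s.x_mem
  let κ : ↥Φ.ker →* ↥(lay N ⊓ O) := MonoidHom.mk'
    (fun a => ⟨((a : ↥O) : G) * x * ((a : ↥O) : G)⁻¹ * x⁻¹, (hker a).2⟩) fun a b => Subtype.ext (by
      have hb := hcen b _ (a : ↥O).2
      obtain ⟨r, hr⟩ : ∃ r, r = ((b : ↥O) : G) * x * ((b : ↥O) : G)⁻¹ * x⁻¹ := ⟨_, rfl⟩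
      rw [← hr] at hb
      show ((a : ↥O) * (b : ↥O) : ↥O).1 * x * (((a : ↥O) * (b : ↥O) : ↥O).1)⁻¹ * x⁻¹ = _ * _
      rw [Subgroup.coe_mul]
      have hra : Commute r (((a : ↥O) : G) * x * ((a : ↥O) : G)⁻¹ * x⁻¹) := hcen a r (hr ▸ (hker b).2.2)
      calc ((a : ↥O) : G) * ((b : ↥O) : G) * x * (((a : ↥O) : G) * ((b : ↥O) : G))⁻¹ * x⁻¹
          = ((a : ↥O) : G) * r * x * ((a : ↥O) : G)⁻¹ * x⁻¹ := by rw [hr]; group
        _ = r * (((a : ↥O) : G) * x * ((a : ↥O) : G)⁻¹ * x⁻¹) := by rw [hb.eq]; group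
        _ = (((a : ↥O) : G) * x * ((a : ↥O) : G)⁻¹ * x⁻¹) * r := hra.eq
        _ = _ := by rw [hr])
  refine ⟨χ.comp κ, fun a b hab => ?_, fun a ha => ?_, fun h hh => ?_⟩
  · show χ (κ b) = χ (κ a)
    congr 1
    refine Subtype.ext ?_
    show ((b : ↥O) : G) * x * ((b : ↥O) : G)⁻¹ * x⁻¹ = ((a : ↥O) : G) * x * ((a : ↥O) : G)⁻¹ * x⁻¹
    obtain ⟨r, hr⟩ : ∃ r, r = ((a : ↥O) : G) * x * ((a : ↥O) : G)⁻¹ * x⁻¹ := ⟨_, rfl⟩
    have hrx : Commute x r := hr ▸ hcen a x hxO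
    have hui : u * r * u⁻¹ = r⁻¹ := c.torus_inv u c.hyp.uP c.hyp.u_ne c.hyp.u_ne_t r (hr ▸ (hker a).2)
    rw [← hr, hab]
    calc u * ((a : ↥O) : G) * u⁻¹ * x * (u * ((a : ↥O) : G) * u⁻¹)⁻¹ * x⁻¹
        = u * ((a : ↥O) : G) * (u⁻¹ * x * u) * ((a : ↥O) : G)⁻¹ * (u⁻¹ * x⁻¹ * u) * u⁻¹ := by group
      _ = u * (((a : ↥O) : G) * x⁻¹ * ((a : ↥O) : G)⁻¹ * x) * u⁻¹ := by
          have hux : u⁻¹ * x * u = x⁻¹ := by
            have := s.x_inv
            rw [inv_eq_of_mul_eq_one_right c.hyp.uu] at this ⊢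
            exact this
          have hux' : u⁻¹ * x⁻¹ * u = x := by
            have := congrArg (·⁻¹) hux
            simpa [mul_assoc] using this
          rw [hux, hux']; group
      _ = u * (x⁻¹ * r⁻¹ * x) * u⁻¹ := by rw [hr]; group
      _ = u * r⁻¹ * u⁻¹ := by rw [mul_assoc x⁻¹, ← hrx.inv_right.eq, inv_mul_cancel_left]
      _ = r := by rw [← conj_inv, hui, inv_inv]
  · show χ (κ a) = 1
    rw [show κ a = 1 from Subtype.ext ?_, map_one]
    show ((a : ↥O) : G) * x * ((a : ↥O) : G)⁻¹ * x⁻¹ = 1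
    rw [← ((g.torus c s A ha).2 x hxO).eq, mul_inv_cancel_right, mul_inv_cancel]
  · -- inertia
    by_contra hhk
    obtain ⟨y, hy⟩ : ∃ y, y = x⁻¹ * ((h : G)⁻¹ * x * (h : G)) := ⟨_, rfl⟩
    have hyF : y ∈ Fq := by
      have h1 := conj_fq c.prime (inv_mem (c.hyp.mc.core_le h.2)) s.x_mem
      rw [inv_inv] at h1
      exact hy ▸ (Fq).mul_mem ((Fq).inv_mem s.x_mem) h1
    have hfix : ∀ n : ↥Φ.ker, Commute ((n : ↥O) : G) y := by
      intro n
      have h1 : κ (MulAut.conjNormal h n) = κ n := hχ (hh n)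
      have h2 := congrArg Subtype.val h1
      change (h : G) * ((n : ↥O) : G) * (h : G)⁻¹ * x * ((h : G) * ((n : ↥O) : G) * (h : G)⁻¹)⁻¹ * x⁻¹ =
        ((n : ↥O) : G) * x * ((n : ↥O) : G)⁻¹ * x⁻¹ at h2
      obtain ⟨r, hr⟩ : ∃ r, r = ((n : ↥O) : G) * x * ((n : ↥O) : G)⁻¹ * x⁻¹ := ⟨_, rfl⟩
      have hrc : ∀ b ∈ O, Commute b r := fun b hb => hr ▸ hcen n b hb
      rw [← hr] at h2
      obtain ⟨X, hX⟩ : ∃ X, X = (h : G)⁻¹ * x * (h : G) := ⟨_, rfl⟩
      have hXr : ((n : ↥O) : G) * X * ((n : ↥O) : G)⁻¹ = r * X := by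
        calc ((n : ↥O) : G) * X * ((n : ↥O) : G)⁻¹
            = (h : G)⁻¹ * ((h : G) * ((n : ↥O) : G) * (h : G)⁻¹ * x * ((h : G) * ((n : ↥O) : G) * (h : G)⁻¹)⁻¹ * x⁻¹) *
                (h : G) * X := by rw [hX]; group
          _ = _ := by rw [h2, (hrc _ (O.inv_mem h.2)).eq, inv_mul_cancel_right]
      have hxr : ((n : ↥O) : G) * x⁻¹ * ((n : ↥O) : G)⁻¹ = x⁻¹ * r⁻¹ := by rw [hr]; group
      refine mul_inv_eq_iff_eq_mul.1 ?_
      rw [hy, ← hX]
      calc ((n : ↥O) : G) * (x⁻¹ * X) * ((n : ↥O) : G)⁻¹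
          = (((n : ↥O) : G) * x⁻¹ * ((n : ↥O) : G)⁻¹) * (((n : ↥O) : G) * X * ((n : ↥O) : G)⁻¹) := by group
        _ = _ := by rw [hxr, hXr]; group
    have hyT : y ∈ lay N ⊓ O := c.center_torus hyF fun f hf =>
      (hfix ⟨⟨f, c.fq_core hf⟩, (g.fit _).2 (inFit_fq c.prime hf)⟩).symm
    -- a part of order prime to `q` fixes `x`
    obtain ⟨e, r, hr, her⟩ := Nat.exists_eq_pow_mul_and_not_dvd (orderOf_pos ((h : G)⁻¹)).ne' q c.prime.one_lt.ne'
    have hyc : ∀ b ∈ O, Commute b y := fun b hb => c.core_central s hyF hyT hb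
    have hpow : ∀ n : ℕ, ((h : G)⁻¹) ^ n * x * (((h : G)⁻¹) ^ n)⁻¹ = x * y ^ n := by
      intro n
      induction n with
      | zero => simp
      | succ n ih =>
        calc ((h : G)⁻¹) ^ (n + 1) * x * (((h : G)⁻¹) ^ (n + 1))⁻¹
            = ((h : G)⁻¹) * (((h : G)⁻¹) ^ n * x * (((h : G)⁻¹) ^ n)⁻¹) * ((h : G)⁻¹)⁻¹ := by
              rw [pow_succ']; group
          _ = ((h : G)⁻¹ * x * (h : G)) * ((h : G)⁻¹ * y ^ n * (h : G)) := by rw [ih]; group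
          _ = x * y * y ^ n := by
              rw [show (h : G)⁻¹ * y ^ n * (h : G) = y ^ n by
                rw [((hyc _ (O.inv_mem h.2)).pow_right n).eq, inv_mul_cancel_right],
                show x * y = (h : G)⁻¹ * x * (h : G) by rw [hy, mul_inv_cancel_left]]
          _ = _ := by rw [mul_assoc, ← pow_succ']
    have hyq : y ^ q ^ e = 1 := by
      have h1 := hpow (orderOf ((h : G)⁻¹))
      rw [pow_orderOf_eq_one, inv_one, mul_one, one_mul, left_eq_mul] at h1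
      obtain ⟨k, hk⟩ := IsPGroup.iff_orderOf.1 (fq_isPGroup q Cz) ⟨y, hyF⟩
      rw [Subgroup.orderOf_mk] at hk
      rw [← orderOf_dvd_iff_pow_eq_one, hk]
      rw [← orderOf_dvd_iff_pow_eq_one, hk, her] at h1
      exact ((c.prime.coprime_iff_not_dvd.2 hr).pow_left k).dvd_of_dvd_mul_right h1
    have hcx : Commute (((h⁻¹) ^ q ^ e : ↥O) : G) x := by
      have h1 := hpow (q ^ e)
      rw [hyq, mul_one] at h1
      rw [Subgroup.coe_pow, Subgroup.coe_inv]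
      exact mul_inv_eq_iff_eq_mul.1 h1
    refine s.x_not ?_
    by_cases h0 : Φ ((h⁻¹) ^ q ^ e) = 1
    · exfalso
      rw [map_pow] at h0
      refine hhk ?_
      rw [MonoidHom.mem_ker, ← inv_eq_one, ← map_inv]
      refine g.semi _ ?_
      rw [tr_of_pow_eq_one q h0]
      norm_num
    · exact lay_le N (K.free _ h0 x s.x_mem hcx).1

open scoped _root_.Classical in
/-- **the character of `C(t)`** -/
theorem RotCfg.exists_char (c : RotCfg t u O P q N ρ) (s : Shape q t u O N d x) (A : Action q t u O N d x Φ)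
    (g : Range q t u O N d Φ) {A₀ : Subgroup G} (K : Comp q t u O N Φ A₀) {M : Ideal AlgInt} (hM : IsPModular 2 M) :
    ∃ (θ : Subgroup.centralizer ((P : Subgroup G) : Set G) →* ℂˣ)
      (ξ : IrrCharacter (Subgroup.centralizer ({t} : Set G))) (uC : Subgroup.centralizer ({t} : Set G)),
      CharData M P t ρ θ ξ ∧ (uC : G) = ρ * t * ρ⁻¹ ∧ (ξ : Subgroup.centralizer ({t} : Set G) → ℂ) uC = 1 ∧
      Char.deg (ξ : Subgroup.centralizer ({t} : Set G) → ℂ) = Nat.card Φ.range ∧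
      ∀ c z : Subgroup.centralizer ({t} : Set G), (z : G) ∈ Subgroup.zpowers (x * d * x⁻¹ * d⁻¹) →
        (ξ : Subgroup.centralizer ({t} : Set G) → ℂ) (c * z) = (ξ : Subgroup.centralizer ({t} : Set G) → ℂ) c := by
  have h := c.hyp
  have hP2 := Char.pmod_prime hM
  obtain ⟨l, hlu, hlT, hlI⟩ := c.exists_lambda s A g K
  -- the four group
  have htt : ρ * u * ρ⁻¹ = t * u := c.rho_u
  have hρtu : ρ * (t * u) * ρ⁻¹ = t := by
    rw [show ρ * (t * u) * ρ⁻¹ = (ρ * t * ρ⁻¹) * (ρ * u * ρ⁻¹) by group, c.rho_t, c.rho_u, ← mul_assoc,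
      ← h.tu.eq, mul_assoc, h.uu, mul_one]
  have hρP : ∀ p ∈ (P : Subgroup G), ρ * p * ρ⁻¹ ∈ (P : Subgroup G) := fun p hp => by
    rcases h.mem_cases hp with rfl | rfl | rfl | rfl
    · simp [Subgroup.one_mem]
    · rw [c.rho_t]; exact h.uP
    · rw [c.rho_u]; exact mul_mem h.tP h.uP
    · rw [hρtu]; exact h.tP
  have hρn : ρ ∈ Subgroup.normalizer ((P : Subgroup G) : Set G) := mem_norm_of_conj hρP
  have hbase : LinData P t ρ (fun _ => 1) 1 :=
    { card := h.card, exp := h.exp, one := h.one, tP := h.tP, t1 := h.mc.ne, vN := hρn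
      vne := by rw [c.rho_t]; exact h.u_ne_t
      cyc := by rw [c.rho_t, c.rho_u]
      back := by rw [c.rho_t, hρtu]
      ret := fun j φ hφ z w _ => by
        have hn : ρ ^ j ∈ Subgroup.normalizer ((P : Subgroup G) : Set G) := pow_mem hρn j
        have hw' := (Subgroup.mem_normalizer_iff.1 (normalizer_le_norm_cent _ hn) (w : G)).1 w.2
        exact (hφ w ⟨_, hw'⟩ rfl).symm
      triv := fun _ _ => rfl }
  obtain ⟨η, hη, hη1, -, -⟩ := exists_proj hbase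
  have hOC : O ≤ Cz := h.mc.core_le
  let ι : ↥O →* ↥Cz := Subgroup.inclusion hOC
  have hηO : ∀ a : ↥O, η (ι a) = 1 := fun a => (hη1 _).2 fun h2 =>
    Nat.not_even_iff_odd.2 (h.mc.core_orderOf a.2) (even_iff_two_dvd.2 (by
      rwa [← Subgroup.orderOf_coe, Subgroup.coe_inclusion] at h2))
  let pC : ↥(P : Subgroup G) →* ↥Cz := Subgroup.inclusion h.P_le
  have hηP : ∀ p : ↥(P : Subgroup G), η (pC p) = p := fun p => hη _ p.2
  -- the odd part
  have hoddO : ∀ y : ↥Cz, ¬ 2 ∣ orderOf y → (y : G) ∈ O := fun y hy =>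
    h.mc.core y (Subgroup.mem_centralizer_singleton_iff.1 y.2) (Nat.odd_iff.2 (Nat.two_dvd_ne_zero.1 (by
      rwa [Subgroup.orderOf_coe])))
  have hodd : ∀ y : ↥Cz, ((y * (pC (η y))⁻¹ : ↥Cz) : G) ∈ O := fun y => hoddO _ ((hη1 _).1 (by
    rw [map_mul, map_inv, hηP, mul_inv_cancel]))
  obtain ⟨od, hod⟩ : ∃ od : ↥Cz → ↥O, ∀ y, ((od y : ↥O) : G) = ((y * (pC (η y))⁻¹ : ↥Cz) : G) :=
    ⟨fun y => ⟨_, hodd y⟩, fun _ => rfl⟩
  have hsplit : ∀ y : ↥Cz, ι (od y) * pC (η y) = y := fun y => Subtype.ext (by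
    rw [Subgroup.coe_mul, Subgroup.coe_inclusion, hod, ← Subgroup.coe_mul, inv_mul_cancel_right])
  have hod_eq : ∀ (y : ↥Cz) (a : ↥O) (p : ↥(P : Subgroup G)), ι a * pC p = y → od y = a := fun y a p he => by
    have hp : η y = p := by rw [← he, map_mul, hηO, hηP, one_mul]
    refine Subtype.ext ?_
    rw [hod, hp, ← he, mul_inv_cancel_right]
    rfl
  -- the conjugation of `P` on `O`
  have hPconj : ∀ (p : ↥(P : Subgroup G)) (a : ↥O), ∃ b : ↥O, ((b : ↥O) : G) = (p : G) * a * (p : G)⁻¹ ∧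
      (Φ b = Φ a ∨ Φ b = (Φ a)⁻¹) ∧
      ∀ (ha : a ∈ Φ.ker) (hb : b ∈ Φ.ker), l ⟨b, hb⟩ = l ⟨a, ha⟩ := by
    intro p a
    have hta : t * (a : G) * t⁻¹ = a := by rw [← (h.mc.core_commute a.2).eq, mul_inv_cancel_right]
    have hu_a : ∀ b : G, b = u * (a : G) * u⁻¹ → ∃ hb : b ∈ O, (Φ ⟨b, hb⟩ = (Φ a)⁻¹) ∧
        ∀ (ha : a ∈ Φ.ker) (hbk : (⟨b, hb⟩ : ↥O) ∈ Φ.ker), l ⟨⟨b, hb⟩, hbk⟩ = l ⟨a, ha⟩ := fun b hb =>
      ⟨hb ▸ c.conj_u_mem a.2, g.inv a _ hb, fun ha hbk => hlu ⟨a, ha⟩ ⟨_, hbk⟩ hb⟩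
    rcases h.mem_cases p.2 with e | e | e | e
    · exact ⟨a, by rw [e]; simp, Or.inl rfl, fun _ _ => rfl⟩
    · exact ⟨a, by rw [e, hta], Or.inl rfl, fun _ _ => rfl⟩
    · obtain ⟨hb, h1, h2⟩ := hu_a _ rfl
      exact ⟨⟨_, hb⟩, by rw [e], Or.inr h1, h2⟩
    · obtain ⟨hb, h1, h2⟩ := hu_a _ rfl
      refine ⟨⟨_, hb⟩, ?_, Or.inr h1, h2⟩
      rw [e, show t * u * (a : G) * (t * u)⁻¹ = t * (u * (a : G) * u⁻¹) * t⁻¹ by group,
        ← (h.mc.core_commute hb).eq, mul_inv_cancel_right]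
  -- products
  have hodmul : ∀ y z : ↥Cz, ∀ b : ↥O, (b : G) = ((η y : ↥(P : Subgroup G)) : G) * (od z : G) *
      ((η y : ↥(P : Subgroup G)) : G)⁻¹ → od (y * z) = od y * b := by
    intro y z b hb
    refine hod_eq _ _ (η y * η z) ?_
    conv_rhs => rw [← hsplit y, ← hsplit z]
    refine Subtype.ext ?_
    simp only [Subgroup.coe_mul, map_mul, Subgroup.coe_inclusion, ι, pC, hb]
    group
  let H : Subgroup ↥Cz :=
    { carrier := {y | od y ∈ Φ.ker}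
      one_mem' := by
        show od 1 ∈ Φ.ker
        rw [hod_eq 1 1 1 (by rw [map_one, map_one, one_mul])]
        exact one_mem _
      mul_mem' := fun {y z} hy hz => by
        obtain ⟨b, hb, hb', -⟩ := hPconj (η y) (od z)
        show od (y * z) ∈ Φ.ker
        rw [hodmul y z b hb]
        refine mul_mem hy ?_
        rcases hb' with e | e <;> rw [MonoidHom.mem_ker, e, MonoidHom.mem_ker.1 hz] <;> simp
      inv_mem' := fun {y} hy => by
        obtain ⟨b, hb, hb', -⟩ := hPconj (η y)⁻¹ (od y)⁻¹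
        show od y⁻¹ ∈ Φ.ker
        rw [hod_eq y⁻¹ b (η y)⁻¹ (by
          conv_rhs => rw [← hsplit y]
          refine Subtype.ext ?_
          simp only [Subgroup.coe_mul, map_inv, Subgroup.coe_inv, Subgroup.coe_inclusion, ι, pC, hb]
          group)]
        have hy' : Φ (od y)⁻¹ = 1 := by rw [map_inv, MonoidHom.mem_ker.1 hy, inv_one]
        rcases hb' with e | e <;> rw [MonoidHom.mem_ker, e, hy'] <;> simp }
  have hmemH : ∀ y : ↥Cz, y ∈ H ↔ od y ∈ Φ.ker := fun y => Iff.rfl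
  let Λ : ↥H →* ℂˣ :=
    { toFun := fun y => l ⟨od y, y.2⟩
      map_one' := by
        rw [show (⟨od ((1 : ↥H) : ↥Cz), (1 : ↥H).2⟩ : ↥Φ.ker) = 1 from
          Subtype.ext (hod_eq _ 1 1 (by rw [map_one, map_one, one_mul]; rfl)), map_one]
      map_mul' := fun y z => by
        obtain ⟨b, hb, hb', hbl⟩ := hPconj (η (y : ↥Cz)) (od (z : ↥Cz))
        have hbk : b ∈ Φ.ker := by
          rcases hb' with e | e <;> rw [MonoidHom.mem_ker, e, MonoidHom.mem_ker.1 z.2] <;> simp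
        rw [← hbl z.2 hbk, ← map_mul]
        exact congrArg l (Subtype.ext (hodmul _ _ b hb)) }
  have hΛ : ∀ (y : ↥H) (a : ↥O) (p : ↥(P : Subgroup G)) (ha : a ∈ Φ.ker), ι a * pC p = (y : ↥Cz) →
      Λ y = l ⟨a, ha⟩ := fun y a p ha he => congrArg l (Subtype.ext (hod_eq _ a p he))
  -- values of the extension by zero
  obtain ⟨ext, hext⟩ : ∃ ext : ↥Cz → ℂ, ext = extendByZero H (fun y : ↥H => (Λ y : ℂ)) := ⟨_, rfl⟩
  have hin : ∀ {y : ↥Cz} (hy : y ∈ H), ext y = (Λ ⟨y, hy⟩ : ℂ) := fun hy => hext ▸ Char.extendByZero_mem H _ hy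
  have hout : ∀ {y : ↥Cz}, y ∉ H → ext y = 0 := fun hy => hext ▸ Char.extendByZero_not_mem H _ hy
  have hconj : ∀ k ∈ H, ∀ y, ext (k * y * k⁻¹) = ext y := by
    intro k hk y
    by_cases hy : y ∈ H
    · rw [hin hy, hin (H.mul_mem (H.mul_mem hk hy) (H.inv_mem hk))]
      congr 1
      rw [show (⟨k * y * k⁻¹, _⟩ : ↥H) = ⟨k, hk⟩ * ⟨y, hy⟩ * ⟨k, hk⟩⁻¹ from rfl, map_mul, map_mul, map_inv,
        mul_comm (Λ ⟨k, hk⟩), mul_inv_cancel_right]
    · rw [hout hy, hout fun h' => hy ?_]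
      have := H.mul_mem (H.mul_mem (H.inv_mem hk) h') hk
      simpa [mul_assoc] using this
  have hshift : ∀ k (hk : k ∈ H), Λ ⟨k, hk⟩ = 1 → ∀ y, ext (y * k) = ext y := by
    intro k hk hk1 y
    by_cases hy : y ∈ H
    · rw [hin hy, hin (H.mul_mem hy hk)]
      congr 1
      rw [show (⟨y * k, _⟩ : ↥H) = ⟨y, hy⟩ * ⟨k, hk⟩ from rfl, map_mul, hk1, mul_one]
    · rw [hout hy, hout fun h' => hy ((H.mul_mem_cancel_right hk).1 h')]
  have hpH : ∀ p : ↥(P : Subgroup G), ∃ hp : pC p ∈ H, Λ ⟨pC p, hp⟩ = 1 := fun p => by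
    have he : od (pC p) = 1 := hod_eq _ 1 p (by rw [map_one, one_mul])
    refine ⟨(hmemH _).2 (he ▸ one_mem _), ?_⟩
    rw [hΛ _ 1 p (one_mem _) (by rw [map_one, one_mul])]
    exact map_one l
  -- the induced character
  let e : ↥O × ↥(P : Subgroup G) ≃ ↥Cz :=
    { toFun := fun ap => ι ap.1 * pC ap.2
      invFun := fun y => (od y, η y)
      left_inv := fun ap => Prod.ext (hod_eq _ ap.1 ap.2 rfl) (by
        show η (ι ap.1 * pC ap.2) = ap.2
        rw [map_mul, hηO, hηP, one_mul])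
      right_inv := hsplit }
  have hcardH : Nat.card ↥H = Nat.card ↥Φ.ker * 4 := by
    rw [← (show Nat.card ↥(P : Subgroup G) = 4 from h.card), ← Nat.card_prod]
    exact Nat.card_congr
      { toFun := fun y => (⟨od y, y.2⟩, η y)
        invFun := fun ap => ⟨e (ap.1, ap.2), (hmemH _).2 ((hod_eq _ (ap.1 : ↥O) ap.2 rfl).symm ▸ ap.1.2)⟩
        left_inv := fun y => Subtype.ext (hsplit y)
        right_inv := fun ap => Prod.ext (Subtype.ext (hod_eq _ (ap.1 : ↥O) ap.2 rfl)) (by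
          show η (ι (ap.1 : ↥O) * pC ap.2) = ap.2
          rw [map_mul, hηO, hηP, one_mul]) }
  have hval : ∀ y : ↥Cz, indFun H (fun z : ↥H => (Λ z : ℂ)) y =
      (Nat.card ↥Φ.ker : ℂ)⁻¹ * ∑ a : ↥O, ext ((ι a)⁻¹ * y * ι a) := by
    intro y
    rw [indFun, ← hext, ← Equiv.sum_comp e, Fintype.sum_prod_type]
    rw [Finset.sum_congr rfl (g := fun a : ↥O => (4 : ℂ) * ext ((ι a)⁻¹ * y * ι a)) fun a _ => ?_, ← Finset.mul_sum,
      hcardH, Nat.cast_mul, ← mul_assoc]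
    · congr 1
      have : (Nat.card ↥Φ.ker : ℂ) ≠ 0 := Nat.cast_ne_zero.2 Nat.card_pos.ne'
      push_cast
      field_simp
    · rw [Finset.sum_congr rfl (g := fun _ => ext ((ι a)⁻¹ * y * ι a)) fun p _ => ?_, Finset.sum_const,
        Finset.card_univ, ← Nat.card_eq_fintype_card, show Nat.card ↥(P : Subgroup G) = 4 from h.card, nsmul_eq_mul,
        Nat.cast_ofNat]
      obtain ⟨hp, -⟩ := hpH p
      show ext ((ι a * pC p)⁻¹ * y * (ι a * pC p)) = _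
      rw [show (ι a * pC p)⁻¹ * y * (ι a * pC p) = (pC p)⁻¹ * ((ι a)⁻¹ * y * ι a) * (pC p)⁻¹⁻¹ by group,
        hconj _ (H.inv_mem hp)]
  have hchar : IsCharacter ↥Cz (indFun H (fun z : ↥H => (Λ z : ℂ))) :=
    Char.isCharacter_indFun H (Char.irr_isCharacter (Char.isIrrCharacter_linear Λ))
  -- on `O`
  have hres : (fun a : ↥O => indFun H (fun z : ↥H => (Λ z : ℂ)) (ι a)) =
      indFun Φ.ker ((linIrr l : IrrCharacter ↥Φ.ker) : ↥Φ.ker → ℂ) := by
    funext y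
    rw [hval, indFun]
    congr 1
    refine Finset.sum_congr rfl fun a _ => ?_
    rw [← map_inv, ← map_mul, ← map_mul]
    have hodi : od (ι (a⁻¹ * y * a)) = a⁻¹ * y * a := hod_eq _ _ 1 (by rw [map_one, mul_one])
    by_cases hk : a⁻¹ * y * a ∈ Φ.ker
    · rw [Char.extendByZero_mem Φ.ker _ hk, hin ((hmemH _).2 (hodi.symm ▸ hk)),
        hΛ _ _ 1 hk (by rw [map_one, mul_one]), linIrr_apply]
    · rw [Char.extendByZero_not_mem Φ.ker _ hk, hout fun h' => hk (hodi ▸ (hmemH _).1 h')]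
  have hirrO : IsIrrCharacter ↥O (fun a : ↥O => indFun H (fun z : ↥H => (Λ z : ℂ)) (ι a)) := by
    rw [hres]
    refine Char.isIrr_indFun_of_inertia Φ.ker (linIrr l) fun a ha => hlI a fun n => ?_
    have := congrFun (congrArg Subtype.val ha) n
    rw [Char.irrComp_apply, linIrr_apply, linIrr_apply] at this
    exact Units.ext this
  obtain ⟨ξ, hξ⟩ : ∃ ξ : IrrCharacter ↥Cz, (ξ : ↥Cz → ℂ) = indFun H (fun z : ↥H => (Λ z : ℂ)) :=
    ⟨⟨_, Char.RelMcKay.isIrr_of_res ι hchar hirrO⟩, rfl⟩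
  have hindex : Φ.ker.index = Nat.card Φ.range := Subgroup.index_ker Φ
  have hξ1 : (ξ : ↥Cz → ℂ) 1 = (Nat.card Φ.range : ℂ) := by
    have := congrFun hres 1
    simp only [map_one] at this
    rw [hξ, this, Char.indFun_one, linIrr_apply, map_one, Units.val_one, mul_one, hindex]
  have hdeg : Char.deg (ξ : ↥Cz → ℂ) = Nat.card Φ.range := Nat.cast_injective (R := ℂ) (by
    rw [← Char.char_one_eq_deg (Char.irr_isCharacter ξ.2), hξ1])
  -- shifts
  have hξshift : ∀ k (hk : k ∈ H), Λ ⟨k, hk⟩ = 1 → (∀ a : ↥O, Commute (ι a) k) → ∀ y,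
      (ξ : ↥Cz → ℂ) (y * k) = (ξ : ↥Cz → ℂ) y := by
    intro k hk hk1 hkc y
    rw [hξ, hval, hval]
    congr 1
    refine Finset.sum_congr rfl fun a _ => ?_
    rw [show (ι a)⁻¹ * (y * k) * ι a = (ι a)⁻¹ * y * (k * ι a) by group, ← (hkc a).eq, ← mul_assoc,
      hshift k hk hk1]
  have hWP : ∀ p ∈ (P : Subgroup G), ∀ k ∈ O, Commute k u → Commute k p := fun p hp k hk hku => by
    rcases h.mem_cases hp with rfl | rfl | rfl | rfl
    · exact Commute.one_right k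
    · exact h.mc.core_commute hk
    · exact hku
    · exact (h.mc.core_commute hk).mul_right hku
  have hWC : Subgroup.centralizer ((P : Subgroup G) : Set G) ≤ Cz := fun w hw =>
    Subgroup.mem_centralizer_singleton_iff.2 (Subgroup.mem_centralizer_iff.1 hw t h.tP).symm
  let wC : ↥(Subgroup.centralizer ((P : Subgroup G) : Set G)) →* ↥Cz := Subgroup.inclusion hWC
  have hWfix : ∀ w, Commute ((od (wC w) : ↥O) : G) u := fun w => by
    rw [hod, Subgroup.coe_mul, Subgroup.coe_inv]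
    refine Commute.mul_left (Subgroup.mem_centralizer_iff.1 w.2 u h.uP).symm (Commute.inv_left ?_)
    exact h.comm (η (wC w)).2 h.uP
  have hkerd : ∀ a : ↥O, Commute (a : G) u → a ∈ Φ.ker := fun a ha => by
    obtain ⟨i, hi⟩ := Subgroup.mem_zpowers_iff.1 (g.fixed a a.2 ha)
    exact (g.fit a).2 (inFit_fq c.prime (hi ▸ (Fq).zpow_mem s.second.mem i))
  have hWH : ∀ w, wC w ∈ H := fun w => (hmemH _).2 (hkerd _ (hWfix w))
  let θ : ↥(Subgroup.centralizer ((P : Subgroup G) : Set G)) →* ℂˣ :=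
    Λ.comp (wC.codRestrict H hWH)
  have huC : ρ * t * ρ⁻¹ ∈ Cz := c.rho_t.symm ▸ h.uC
  refine ⟨θ, ξ, ⟨_, huC⟩,
    { base := hbase, triv := ?_, fix := ?_, at_t := ?_, odd := ?_, norm := ?_, agree := ?_ }, rfl, ?_, hdeg, ?_⟩
  · intro w hw
    obtain ⟨hp, hp1⟩ := hpH ⟨w, hw⟩
    rw [← hp1]
    rfl
  · intro w w' hww
    obtain ⟨k, hk⟩ : ∃ k, k = od (wC w) := ⟨_, rfl⟩
    have hkk : k ∈ Φ.ker := hk ▸ hkerd _ (hWfix w)
    have hρk : Commute ρ (k : G) := c.rho_K k.2 (hk ▸ hWfix w)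
    have hs := congrArg Subtype.val (hsplit (wC w))
    rw [← hk] at hs
    change (k : G) * ((η (wC w) : ↥(P : Subgroup G)) : G) = (w : G) at hs
    have he : ι k * pC ⟨_, hρP _ (η (wC w)).2⟩ = wC w' := Subtype.ext (by
      show (k : G) * (ρ * ((η (wC w) : ↥(P : Subgroup G)) : G) * ρ⁻¹) = (w' : G)
      rw [hww, ← hs, show ρ * ((k : G) * ((η (wC w) : ↥(P : Subgroup G)) : G)) * ρ⁻¹ =
        ρ * (k : G) * (((η (wC w) : ↥(P : Subgroup G)) : G) * ρ⁻¹) by group, hρk.eq]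
      group)
    show Λ ⟨wC w', hWH w'⟩ = Λ ⟨wC w, hWH w⟩
    rw [hΛ ⟨wC w', hWH w'⟩ k _ hkk he, hΛ ⟨wC w, hWH w⟩ k (η (wC w)) hkk (by rw [hk]; exact hsplit _)]
  · intro a y hat
    obtain ⟨hp, hp1⟩ := hpH ⟨t, h.tP⟩
    have ha : a = pC ⟨t, h.tP⟩ := Subtype.ext hat
    have hcm : a * y = y * a := Subtype.ext (by
      rw [Subgroup.coe_mul, Subgroup.coe_mul, hat]
      exact (Subgroup.mem_centralizer_singleton_iff.1 y.2).symm)
    rw [hcm, ha]
    exact hξshift _ hp hp1 (fun b => Subtype.ext (h.mc.core_commute b.2).eq) y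
  · rw [hdeg, ← hindex]
    exact h.mc.core_odd.of_dvd_nat (Subgroup.index_dvd_card _)
  · -- the norm on the odd elements
    letI : Fintype ↥Cz := Fintype.ofFinite _
    have hcardC : Nat.card ↥Cz = Nat.card ↥O * 4 := by
      rw [← Nat.card_congr e, Nat.card_prod, show Nat.card ↥(P : Subgroup G) = 4 from h.card]
    have h1 := Char.irr_self hirrO
    rw [classInner] at h1
    rw [hcardC, Nat.cast_mul, Nat.cast_ofNat, mul_inv, mul_left_comm (4 : ℂ) (Nat.card ↥O : ℂ)⁻¹,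
      mul_inv_cancel₀ (by norm_num : (4 : ℂ) ≠ 0), mul_one, ← h1]
    congr 1
    symm
    refine Finset.sum_bij (fun a _ => ι a) ?_ ?_ ?_ ?_
    · exact fun a _ => Finset.mem_filter.2 ⟨Finset.mem_univ _, (hη1 _).1 (hηO a)⟩
    · exact fun a _ b _ e' => Subgroup.inclusion_injective hOC e'
    · exact fun y hy => ⟨⟨y, hoddO y (Finset.mem_filter.1 hy).2⟩, Finset.mem_univ _, rfl⟩
    · intro a _
      rw [hξ, mul_comm]
  · -- the congruence
    intro y w hyw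
    have hy : y = wC w := Subtype.ext hyw
    subst hy
    show MemLocalIdeal M (_ - ((Λ ⟨wC w, hWH w⟩ : ℂˣ) : ℂ))
    obtain ⟨θw, hθw⟩ : ∃ θw : ℂ, θw = ((Λ ⟨wC w, hWH w⟩ : ℂˣ) : ℂ) := ⟨_, rfl⟩
    rw [← hθw, hξ1, hξ, hval]
    obtain ⟨F, hF⟩ : ∃ F : ↥O → ℂ, ∀ a, F a = ext ((ι a)⁻¹ * wC w * ι a) := ⟨_, fun _ => rfl⟩
    simp only [← hF]
    obtain ⟨σ, hσ⟩ : ∃ σ : ↥O → ↥O, ∀ a, (σ a : G) = u * (a : G) * u⁻¹ :=
      ⟨fun a => ⟨_, c.conj_u_mem a.2⟩, fun _ => rfl⟩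
    let S₁ : Finset ↥O := Finset.univ.filter fun a => Commute (a : G) u
    let S₂ : Finset ↥O := Finset.univ.filter fun a => ¬ Commute (a : G) u
    have hmoved : MemLocalIdeal M (∑ a ∈ S₂, F a) := by
      refine Char.DihBlock.memLI_sum_pairs hM S₂ σ F (fun a ha => ?_) (fun a ha he => ?_) (fun a _ => ?_)
        (fun a _ => ?_) (fun a _ => ?_)
      · refine Finset.mem_filter.2 ⟨Finset.mem_univ _, fun hc => (Finset.mem_filter.1 ha).2 ?_⟩
        rw [hσ] at hc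
        simpa [mul_assoc, h.uu] using (Commute.conj_iff u⁻¹).2 hc
      · refine (Finset.mem_filter.1 ha).2 (Commute.symm (mul_inv_eq_iff_eq_mul.1 ?_))
        rw [← hσ, he]
      · refine Subtype.ext ?_
        rw [hσ, hσ, show u * (u * (a : G) * u⁻¹) * u⁻¹ = u * u * (a : G) * (u * u)⁻¹ by group, h.uu]
        simp
      · obtain ⟨hp, -⟩ := hpH ⟨u, h.uP⟩
        have e' : ι (σ a) = pC ⟨u, h.uP⟩ * ι a * (pC ⟨u, h.uP⟩)⁻¹ := Subtype.ext (hσ a)
        have hw : pC ⟨u, h.uP⟩ * wC w = wC w * pC ⟨u, h.uP⟩ := Subtype.ext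
          (Subgroup.mem_centralizer_iff.1 w.2 u h.uP)
        rw [hF, hF, e', ← hconj _ hp ((ι a)⁻¹ * wC w * ι a)]
        congr 1
        calc (pC ⟨u, h.uP⟩ * ι a * (pC ⟨u, h.uP⟩)⁻¹)⁻¹ * wC w * (pC ⟨u, h.uP⟩ * ι a * (pC ⟨u, h.uP⟩)⁻¹)
            = pC ⟨u, h.uP⟩ * (ι a)⁻¹ * ((pC ⟨u, h.uP⟩)⁻¹ * (wC w * pC ⟨u, h.uP⟩)) * ι a * (pC ⟨u, h.uP⟩)⁻¹ := by
              group
          _ = _ := by rw [← hw]; group
      · rw [hF]
        by_cases hH : (ι a)⁻¹ * wC w * ι a ∈ H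
        · rw [hin hH]
          exact Char.memLocalRing_of_isIntegral hP2.ne_top (linear_isIntegral Λ _)
        · rw [hout hH]
          exact Char.memLocalRing_of_isIntegral hP2.ne_top isIntegral_zero
    have hfixed : ∑ a ∈ S₁, F a = (S₁.card : ℂ) * θw := by
      rw [Finset.sum_congr rfl (g := fun _ => θw) fun a ha => ?_, Finset.sum_const, nsmul_eq_mul]
      have hau : Commute (a : G) u := (Finset.mem_filter.1 ha).2
      have haH : ι a ∈ H := (hmemH _).2 ((hod_eq _ a 1 (by rw [map_one, mul_one])).symm ▸ hkerd a hau)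
      rw [hF, hθw, ← hin (hWH w)]
      have := hconj _ (H.inv_mem haH) (wC w)
      rwa [inv_inv] at this
    have hS1 : Odd S₁.card := by
      have e1 : S₁.card = Nat.card ↥((Subgroup.centralizer ({u} : Set G)).subgroupOf O) := by
        rw [Nat.card_eq_fintype_card, Fintype.card_subtype]
        congr 1
        refine Finset.filter_congr fun a _ => ?_
        rw [Subgroup.mem_subgroupOf, Subgroup.mem_centralizer_singleton_iff]
        exact Iff.rfl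
      rw [e1]
      exact h.mc.core_odd.of_dvd_nat (Subgroup.card_subgroup_dvd_card _)
    have hsum : ∑ a : ↥O, F a = (∑ a ∈ S₁, F a) + ∑ a ∈ S₂, F a :=
      (Finset.sum_filter_add_sum_filter_not _ _ _).symm
    have hO : (Nat.card ↥O : ℂ) = (Nat.card Φ.range : ℂ) * Nat.card ↥Φ.ker := by
      rw [← hindex, ← Nat.cast_mul, Subgroup.index_mul_card]
    obtain ⟨m, hm⟩ : ∃ m : ℕ, Nat.card ↥O = S₁.card + 2 * m := by
      obtain ⟨i, hi⟩ := hS1
      obtain ⟨j, hj⟩ := h.mc.core_odd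
      have : S₁.card ≤ Nat.card ↥O := by
        rw [Nat.card_eq_fintype_card]; exact Finset.card_le_univ _
      exact ⟨j - i, by omega⟩
    have hne : (Nat.card ↥O : ℂ) ≠ 0 := Nat.cast_ne_zero.2 Nat.card_pos.ne'
    have hk0 : (Nat.card ↥Φ.ker : ℂ) ≠ 0 := Nat.cast_ne_zero.2 Nat.card_pos.ne'
    have hl0 : (Nat.card Φ.range : ℂ) ≠ 0 := Nat.cast_ne_zero.2 Nat.card_pos.ne'
    have key : (Nat.card ↥Φ.ker : ℂ)⁻¹ * (∑ a : ↥O, F a) / (Nat.card Φ.range : ℂ) - θw =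
        (Nat.card ↥O : ℂ)⁻¹ * ((∑ a ∈ S₂, F a) + ((2 : ℕ) : ℂ) * (-(m : ℂ) * θw)) := by
      rw [hsum, hfixed]
      have hmC : (Nat.card ↥O : ℂ) = S₁.card + 2 * m := by exact_mod_cast hm
      rw [show (S₁.card : ℂ) = (Nat.card Φ.range : ℂ) * Nat.card ↥Φ.ker - 2 * m by rw [← hO, hmC]; ring, hO]
      field_simp
      push_cast
      ring
    rw [key]
    refine Char.memLI_mul_left hP2 (Char.memLR_inv_natCast hM fun h2 =>
      Nat.not_even_iff_odd.2 h.mc.core_odd (even_iff_two_dvd.2 h2)) (Char.memLI_add hP2 hmoved ?_)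
    refine Char.memLI_mul_right hP2 (Char.memLI_p hM) (Char.memLR_mul hP2 ?_ ?_)
    · exact Char.memLocalRing_of_isIntegral hP2.ne_top
        ((IsIntegral.neg (isIntegral_algebraMap (R := ℤ) (A := ℂ) (x := (m : ℤ)))) |> fun h0 => by simpa using h0)
    · rw [hθw]
      exact Char.memLocalRing_of_isIntegral hP2.ne_top (linear_isIntegral Λ _)
  · -- the value at `u`
    obtain ⟨hp, hp1⟩ := hpH ⟨u, h.uP⟩
    have hu : (⟨_, huC⟩ : ↥Cz) = pC ⟨u, h.uP⟩ := Subtype.ext c.rho_t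
    rw [hu, hξ, hval]
    have hval' : ∀ a : ↥O, ext ((ι a)⁻¹ * pC ⟨u, h.uP⟩ * ι a) = if a ∈ Φ.ker then 1 else 0 := by
      intro a
      obtain ⟨b, hb⟩ : ∃ b : ↥O, (b : G) = u * (a : G) * u⁻¹ := ⟨⟨_, c.conj_u_mem a.2⟩, rfl⟩
      have he : ι (a⁻¹ * b) * pC ⟨u, h.uP⟩ = (ι a)⁻¹ * pC ⟨u, h.uP⟩ * ι a := Subtype.ext (by
        simp only [Subgroup.coe_mul, Subgroup.coe_inv, Subgroup.coe_inclusion, ι, pC, hb]
        group)
      have hΦ : Φ (a⁻¹ * b) = (Φ a)⁻¹ * (Φ a)⁻¹ := by rw [map_mul, map_inv, g.inv a b hb]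
      by_cases ha : a ∈ Φ.ker
      · have hk : a⁻¹ * b ∈ Φ.ker := by
          rw [MonoidHom.mem_ker, hΦ, MonoidHom.mem_ker.1 ha, inv_one, mul_one]
        have hbk : b ∈ Φ.ker := by rw [MonoidHom.mem_ker, g.inv a b hb, MonoidHom.mem_ker.1 ha, inv_one]
        rw [if_pos ha, hin ((hmemH _).2 ((hod_eq _ _ _ he).symm ▸ hk)), hΛ _ _ _ hk he,
          show (⟨a⁻¹ * b, hk⟩ : ↥Φ.ker) = ⟨a, ha⟩⁻¹ * ⟨b, hbk⟩ from rfl, map_mul, map_inv,
          hlu ⟨a, ha⟩ ⟨b, hbk⟩ hb, inv_mul_cancel, Units.val_one]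
      · rw [if_neg ha, hout fun h' => ha ?_]
        have h1 := MonoidHom.mem_ker.1 (hod_eq _ _ _ he ▸ (hmemH _).1 h' : a⁻¹ * b ∈ Φ.ker)
        rw [hΦ, ← mul_inv_rev, inv_eq_one, ← pow_two] at h1
        exact orderOf_eq_one_iff.1 (Nat.eq_one_of_dvd_coprimes
          ((h.mc.core_odd.of_dvd_nat (orderOf_dvd_natCard a)).of_dvd_nat (orderOf_map_dvd Φ a)).coprime_two_left
          (orderOf_dvd_of_pow_eq_one h1) dvd_rfl)
    rw [Finset.sum_congr rfl fun a _ => hval' a, Finset.sum_boole, show (Finset.univ.filter fun a : ↥O => a ∈ Φ.ker).card =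
      Nat.card ↥Φ.ker by rw [Nat.card_eq_fintype_card, Fintype.card_subtype],
      inv_mul_cancel₀ (Nat.cast_ne_zero.2 Nat.card_pos.ne')]
  · -- the centre of the `q`-part
    intro y z hz
    obtain ⟨-, -, -, hT, -, -⟩ := c.commMap s.second
    have hzT : (z : G) ∈ lay N ⊓ O := Subgroup.zpowers_le.2 (hT x s.x_mem) hz
    obtain ⟨h1, h2⟩ := g.torus c s A hzT
    have he : ι ⟨z, hzT.2⟩ * pC 1 = z := by rw [map_one, mul_one]; rfl
    have hk : (⟨z, hzT.2⟩ : ↥O) ∈ Φ.ker := MonoidHom.mem_ker.2 h1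
    have hzH : z ∈ H := (hmemH _).2 ((hod_eq _ _ _ he).symm ▸ hk)
    exact hξshift z hzH ((hΛ ⟨z, hzH⟩ _ 1 hk he).trans (hlT ⟨_, hk⟩ hzT))
      (fun a => Subtype.ext (h2 a a.2).eq) y

end Cfsg.Agent.GW
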