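import Cfsg.Agent.Lib.GW.RotationTorusData
import Cfsg.Agent.Lib.GW.RotationChar

/-!
# The rotation case: conclusion
-/

set_option autoImplicit false
set_option linter.unusedSectionVars false
set_option linter.style.haveILetI false

namespace Cfsg.Agent.GW

open Cfsg Cfsg.Agent

universe w

variable {G : Type w} [Group G] [Finite G] [IsSimpleGroup G] {t u : G} {O : Subgroup G} {P : Sylow 2 G}

/-- **the rotation case: no involution of `P` other than `t` fixes a nontrivial element of `O_q(C(t))`** -/
theorem RotHyp.false (h : RotHyp t u O P) {q : ℕ} (hq : q.Prime) (hq2 : q ≠ 2)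
    (hD : fq q (Subgroup.centralizer ({t} : Set G)) ⊓ Subgroup.centralizer ({u} : Set G) ≠ ⊥) : False := by
  haveI := Fact.mk hq
  haveI := Fintype.ofFinite G
  obtain ⟨N, ρ, c⟩ := h.exists_cfg hq hq2 hD
  obtain ⟨d, x, s⟩ := c.exists_shape
  obtain ⟨Φ, A⟩ := c.exists_action s
  have g := c.exists_range s A
  obtain ⟨A₀, K⟩ := c.exists_comp s A g
  obtain ⟨M, hM⟩ := Char.exists_pModular (p := 2) Nat.prime_two
  exact c.false_of s A g K hM (c.exists_char s A g K hM) (c.torusData s)

end Cfsg.Agent.GW
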