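import Cfsg.Agent.Lib.GW.FourEightCore
import Cfsg.Agent.Lib.GW.DihedralReduced
import Cfsg.Agent.S0254
import Cfsg.Agent.S0495
import Cfsg.Agent.S0497
import Cfsg.Agent.S0984
import Mathlib.FieldTheory.Finite.GaloisField

/-!
# A fused maximal subgroup over an involution centraliser: the group is a model

With trivial core the order formula leaves `168` and `360`; otherwise the order is `2520`.
-/

set_option autoImplicit false
set_option linter.unusedSectionVars false
set_option linter.style.haveILetI false

namespace Cfsg.Agent.GW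

open Subgroup

universe w

variable {G : Type w} [Group G] [Finite G] [IsSimpleGroup G] {t u s : G} {M E : Subgroup G}

namespace FourCtx

variable (h : FourCtx t u s M E)
include h

theorem card_cases : Nat.card G = 168 ∨ Nat.card G = 360 ∨ Nat.card G = 2520 := by
  rcases h.fused_card with hE | h2520
  · obtain ⟨P, hP8, hPgen⟩ := h.sylow
    have hk : Nat.card (E ⊓ centralizer ({s} : Set G) : Subgroup G) = 1 := by
      rw [hE, bot_inf_eq, card_bot]
    obtain ⟨hG, hN, -, X, hX4, hX1, heq⟩ :=
      h.toFourCore.order_formula P hP8 hPgen (f := 1) hk (by rw [hE, card_bot])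
    obtain ⟨p, j, hp0, -, hf, h3N⟩ := orderEight_param M.index 1 X hN (by decide) hX4 hX1 heq
    have hpj : p * j = 1 := by push_cast at hf; omega
    rcases Int.eq_one_or_neg_one_of_mul_eq_one' hpj with ⟨rfl, rfl⟩ | ⟨rfl, rfl⟩
    · right; left
      rw [hG]; omega
    · left
      rw [hG]; omega
  · exact Or.inr (Or.inr h2520)

/-- **the fused case ends in a model** -/
theorem isModel : Reduced.IsModel G := by
  haveI : Fact (Nat.Prime 7) := ⟨by norm_num⟩
  haveI : Fact (Nat.Prime 3) := ⟨Nat.prime_three⟩
  rcases h.card_cases with e | e | e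
  · refine Or.inl ⟨ZMod 7, inferInstance, inferInstance, ?_, ?_, S0495.result e (ZMod.card 7)⟩ <;>
      rw [ZMod.card] <;> decide
  · letI : Fintype (GaloisField 3 2) := Fintype.ofFinite _
    have hF : Fintype.card (GaloisField 3 2) = 9 := by
      rw [← Nat.card_eq_fintype_card, GaloisField.card 3 2 (by norm_num)]
      norm_num
    obtain ⟨e1⟩ := S0497.result e
    obtain ⟨e2⟩ := S0254.result hF
    exact Or.inl ⟨GaloisField 3 2, inferInstance, inferInstance, by rw [hF]; decide, by rw [hF]; decide,
      ⟨e1.trans e2.symm⟩⟩
  · exact Or.inr (S0984.result e)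

end FourCtx

end Cfsg.Agent.GW
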