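import Cfsg.Agent.S1857
import Cfsg.Agent.S1856
import Cfsg.Agent.Lib.Solv.Component
import Cfsg.Agent.Lib.Solv.Cores

/-!
# A maximal subgroup over an involution centraliser that contains the relevant normalisers

Steps (2) and (3) of the uniqueness argument for dihedral Sylow `2`-subgroups: among the maximal subgroups over
`C(t)` (each without components, with odd Fitting subgroup of at least two primes) one contains `N([O_q, t])` for every `q`
with `[O_q, t] ≠ 1`; it then contains the normaliser of every nontrivial subgroup of its Fitting subgroup that is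
invariant under the Fitting subgroup and `t`.
-/

set_option autoImplicit false
set_option linter.unusedSectionVars false
set_option linter.style.haveILetI false

namespace Cfsg.Agent.GW

open Cfsg Cfsg.Agent
open scoped commutatorElement

universe w

variable {G : Type w} [Group G] [Finite G] [IsSimpleGroup G]

/-- `O_q(M)` as a subgroup of the whole group -/
def fq (q : ℕ) (M : Subgroup G) : Subgroup G := (Cfsg.pCore q ↥M).map M.subtype

/-- `[O_q(M), t]` -/
def fqComm (q : ℕ) (t : G) (M : Subgroup G) : Subgroup G := ⁅fq q M, Subgroup.zpowers t⁆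

/-- what is used about every maximal subgroup over `C(t)` -/
structure Over (t : G) (M : Subgroup G) : Prop where
  coatom : IsCoatom M
  le : Subgroup.centralizer ({t} : Set G) ≤ M
  nolayer : Cfsg.layer ↥M = ⊥
  odd : Odd (Nat.card ↥(Cfsg.fittingSubgroup ↥M))
  two : ∃ q₁ q₂ : ℕ, q₁.Prime ∧ q₂.Prime ∧ q₁ ≠ q₂ ∧ q₁ ∣ Nat.card ↥(Cfsg.fittingSubgroup ↥M) ∧
    q₂ ∣ Nat.card ↥(Cfsg.fittingSubgroup ↥M)

/-- the four group `⟨t, u⟩` is fused in `L`: some element of `L` permutes its involutions in a 3-cycle -/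
def Fused (t u : G) (L : Subgroup G) : Prop := ∃ g ∈ L, g * t * g⁻¹ = u ∧ g * u * g⁻¹ = t * u

theorem fq_le (q : ℕ) (M : Subgroup G) : fq q M ≤ M := Subgroup.map_subtype_le _

theorem fq_le_fitting {q : ℕ} (hq : q.Prime) (M : Subgroup G) :
    fq q M ≤ (Cfsg.fittingSubgroup ↥M).map M.subtype :=
  haveI := Fact.mk hq
  Subgroup.map_mono (Solv.pCore_le_fitting q)

theorem conj_fq {q : ℕ} (hq : q.Prime) {M : Subgroup G} {g x : G} (hg : g ∈ M) (hx : x ∈ fq q M) :
    g * x * g⁻¹ ∈ fq q M := by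
  haveI := Fact.mk hq
  haveI := Solv.pCore_normal (G := ↥M) q
  obtain ⟨y, hy, rfl⟩ := hx
  exact ⟨⟨g, hg⟩ * y * ⟨g, hg⟩⁻¹, Subgroup.Normal.conj_mem inferInstance y hy _, rfl⟩

/-- an element with trivial fixed points inverts every element -/
theorem inverts {t : G} (ht : t * t = 1) {W : Subgroup G} (hW : t ∈ Subgroup.normalizer (W : Set G))
    (hfix : ∀ w ∈ W, Commute w t → w = 1) : ∀ w ∈ W, t * w * t⁻¹ = w⁻¹ := by
  obtain ⟨f, hf⟩ : ∃ f : ↥W → ↥W, f = fun w =>
      ⟨t * (w : G) * t⁻¹, (Subgroup.mem_normalizer_iff.1 hW _).1 w.2⟩ := ⟨_, rfl⟩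
  obtain ⟨g, hg⟩ : ∃ g : ↥W → ↥W, g = fun w => w⁻¹ * f w := ⟨_, rfl⟩
  have hinj : Function.Injective g := by
    intro a b hab
    rw [hg, hf] at hab
    have h : (a : G)⁻¹ * (t * a * t⁻¹) = (b : G)⁻¹ * (t * b * t⁻¹) := congrArg Subtype.val hab
    have h1 : (b : G) * (a : G)⁻¹ = t * ((b : G) * (a : G)⁻¹) * t⁻¹ := by
      calc (b : G) * (a : G)⁻¹ = (b : G) * ((a : G)⁻¹ * (t * a * t⁻¹)) * (t * (a : G)⁻¹ * t⁻¹) := by group
        _ = (b : G) * ((b : G)⁻¹ * (t * b * t⁻¹)) * (t * (a : G)⁻¹ * t⁻¹) := by rw [h]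
        _ = _ := by group
    have h2 := hfix _ (W.mul_mem b.2 (W.inv_mem a.2)) (by
      show (b : G) * (a : G)⁻¹ * t = t * ((b : G) * (a : G)⁻¹)
      nth_rw 1 [h1]
      group)
    exact Subtype.ext (mul_inv_eq_one.1 h2).symm
  intro w hw
  obtain ⟨x, hx⟩ := (Finite.injective_iff_surjective.1 hinj) ⟨w, hw⟩
  rw [hg, hf] at hx
  have hx' : (x : G)⁻¹ * (t * x * t⁻¹) = w := congrArg Subtype.val hx
  rw [← hx', inv_eq_of_mul_eq_one_right ht, mul_inv_rev, mul_inv_rev, mul_inv_rev, inv_inv,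
    inv_eq_of_mul_eq_one_right ht]
  calc t * ((x : G)⁻¹ * (t * x * t)) * t = t * (x : G)⁻¹ * t * x * (t * t) := by group
    _ = t * (x : G)⁻¹ * t * x := by rw [ht, mul_one]
    _ = t * ((x : G)⁻¹ * t) * x := by group
    _ = _ := by group

/-- `[X, t]` centralises a subgroup inverted by `t` and normalised by `X` -/
theorem comm_centralizes {t : G} (ht : t * t = 1) {X W : Subgroup G}
    (hX : X ≤ Subgroup.normalizer (W : Set G)) (hinv : ∀ w ∈ W, t * w * t⁻¹ = w⁻¹) :
    ⁅X, Subgroup.zpowers t⁆ ≤ Subgroup.centralizer (W : Set G) := by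
  rw [Subgroup.commutator_le]
  intro x hx y hy
  obtain ⟨k, rfl⟩ : ∃ k : ℕ, y = t ^ k := by
    obtain ⟨k, hk⟩ := (isOfFinOrder_of_finite t).mem_powers_iff_mem_zpowers.2 hy
    exact ⟨k, hk.symm⟩
  refine Subgroup.mem_centralizer_iff.2 fun w hw => ?_
  rcases Nat.even_or_odd k with ⟨j, rfl⟩ | ⟨j, rfl⟩
  · rw [show t ^ (j + j) = 1 by rw [← two_mul, pow_mul, pow_two, ht, one_pow]]
    simp
  rw [pow_succ, pow_mul, pow_two, ht, one_pow, one_mul, commutatorElement_def]
  have h1 : x⁻¹ * w⁻¹ * x ∈ W := by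
    have := (Subgroup.mem_normalizer_iff.1 (hX (X.inv_mem hx)) w⁻¹).1 (W.inv_mem hw)
    simpa using this
  have h2 := hinv _ h1
  have h3 := hinv w hw
  have ht' : t⁻¹ = t := inv_eq_of_mul_eq_one_right ht
  rw [ht'] at h2 h3 ⊢
  have key : x * t * x⁻¹ * t * w * (x * t * x⁻¹ * t)⁻¹ = w := by
    calc x * t * x⁻¹ * t * w * (x * t * x⁻¹ * t)⁻¹
        = x * t * (x⁻¹ * (t * w * t⁻¹) * x) * t⁻¹ * x⁻¹ := by group
      _ = x * (t * (x⁻¹ * w⁻¹ * x) * t) * x⁻¹ := by rw [ht', h3]; group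
      _ = x * (x⁻¹ * w⁻¹ * x)⁻¹ * x⁻¹ := by rw [h2]
      _ = w := by group
  rw [mul_inv_eq_iff_eq_mul] at key
  exact key.symm

/-- a subgroup of odd order inverted by `t` is its own commutator with `t` -/
theorem le_comm {t : G} (ht : t * t = 1) {W : Subgroup G} (hodd : Odd (Nat.card ↥W))
    (hinv : ∀ w ∈ W, t * w * t⁻¹ = w⁻¹) : W ≤ ⁅W, Subgroup.zpowers t⁆ := by
  intro w hw
  have h : ⁅w, t⁆ ∈ ⁅W, Subgroup.zpowers t⁆ := Subgroup.commutator_mem_commutator hw (Subgroup.mem_zpowers t)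
  have h2 : ⁅w, t⁆ = w ^ 2 := by
    rw [commutatorElement_def]
    calc w * t * w⁻¹ * t⁻¹ = w * (t * w⁻¹ * t⁻¹) := by group
      _ = _ := by rw [hinv _ (W.inv_mem hw), inv_inv, pow_two]
  rw [h2] at h
  have hco : Nat.Coprime 2 (orderOf w) := by
    have : orderOf w ∣ Nat.card ↥W := by
      rw [show orderOf w = orderOf (⟨w, hw⟩ : ↥W) from Subgroup.orderOf_coe (⟨w, hw⟩ : ↥W)]
      exact orderOf_dvd_natCard _
    exact (hodd.coprime_two_left).coprime_dvd_right this
  obtain ⟨j, hj⟩ := exists_pow_eq_self_of_coprime hco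
  rw [← hj]
  exact pow_mem h j

theorem Over.fittingNe {t : G} {M : Subgroup G} (h : Over t M) {q : ℕ} (hq : q.Prime)
    (hne : fq q M ≠ ⊥) : q ∣ Nat.card ↥(Cfsg.fittingSubgroup ↥M) :=
  (BenderUniq.core_dvd hq).2 fun h0 => hne (by rw [fq, h0, Subgroup.map_bot])

theorem Over.gfit {t : G} {M : Subgroup G} (h : Over t M) :
    Cfsg.generalizedFittingSubgroup ↥M = Cfsg.fittingSubgroup ↥M := by
  rw [Cfsg.generalizedFittingSubgroup, h.nolayer, bot_sup_eq]

/-- without components the Fitting subgroup contains its centraliser -/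
theorem fit_self_centralizing {H : Type*} [Group H] [Finite H] (hl : Cfsg.layer H = ⊥) :
    Subgroup.centralizer (Cfsg.fittingSubgroup H : Set H) ≤ Cfsg.fittingSubgroup H := by
  have h := Solv.centralizer_gfit_le (G := H)
  rwa [Cfsg.generalizedFittingSubgroup, hl, bot_sup_eq] at h

/-- without components a nontrivial group has a nontrivial Fitting subgroup -/
theorem fitting_ne {N : Subgroup G} (hl : Cfsg.layer ↥N = ⊥) (hN1 : N ≠ ⊥) : Cfsg.fittingSubgroup ↥N ≠ ⊥ := by
  intro h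
  refine hN1 (le_bot_iff.1 fun x hx => ?_)
  have := fit_self_centralizing hl (Subgroup.mem_centralizer_iff.2 fun y hy => by
    rw [h, SetLike.mem_coe, Subgroup.mem_bot] at hy
    rw [hy, one_mul, mul_one] : (⟨x, hx⟩ : ↥N) ∈ _)
  rw [h, Subgroup.mem_bot] at this
  exact Subgroup.mem_bot.2 (congrArg Subtype.val this)

theorem Over.not_pgroup {t : G} {M : Subgroup G} (h : Over t M) :
    ¬ ∃ p : ℕ, p.Prime ∧ IsPGroup p ↥(Cfsg.generalizedFittingSubgroup ↥M) := by
  rintro ⟨p, hp, hpg⟩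
  rw [h.gfit] at hpg
  obtain ⟨q₁, q₂, hq₁, hq₂, hne, hd₁, hd₂⟩ := h.two
  haveI := Fact.mk hp
  obtain ⟨n, hn⟩ := IsPGroup.iff_card.1 hpg
  rw [hn] at hd₁ hd₂
  exact hne (((Nat.prime_dvd_prime_iff_eq hq₁ hp).1 (hq₁.dvd_of_dvd_pow hd₁)).trans
    ((Nat.prime_dvd_prime_iff_eq hq₂ hp).1 (hq₂.dvd_of_dvd_pow hd₂)).symm)

theorem Over.mem {t : G} {M : Subgroup G} (h : Over t M) : t ∈ M :=
  h.le (Subgroup.mem_centralizer_singleton_iff.2 rfl)

theorem fqComm_le {t : G} {q : ℕ} (hq : q.Prime) {M : Subgroup G} (ht : t ∈ M) :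
    fqComm q t M ≤ fq q M := by
  rw [fqComm, Subgroup.commutator_le]
  intro x hx y hy
  rw [commutatorElement_def, mul_assoc, mul_assoc]
  refine mul_mem hx ?_
  have := conj_fq hq (g := y) (Subgroup.zpowers_le.2 ht hy) (inv_mem hx)
  simpa [mul_assoc] using this

/-- `[O_q(M), t]` is normalised by what normalises `O_q(M)` and centralises `t` -/
theorem centralizer_le_norm {t : G} {q : ℕ} (hq : q.Prime) {M : Subgroup G}
    (hC : Subgroup.centralizer ({t} : Set G) ≤ M) :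
    Subgroup.centralizer ({t} : Set G) ≤ Subgroup.normalizer (fqComm q t M : Set G) := by
  have key : ∀ c ∈ Subgroup.centralizer ({t} : Set G), ∀ k ∈ fqComm q t M, c * k * c⁻¹ ∈ fqComm q t M := by
    intro c hc k hk
    have hct : c * t * c⁻¹ = t := by
      rw [Subgroup.mem_centralizer_singleton_iff.1 hc]; group
    have hle : fqComm q t M ≤ (fqComm q t M).comap (MulAut.conj c).toMonoidHom := by
      conv_lhs => rw [fqComm]
      rw [Subgroup.commutator_le]
      intro x hx y hy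
      rw [Subgroup.mem_comap, map_commutatorElement]
      refine Subgroup.commutator_mem_commutator (conj_fq hq (hC hc) hx) ?_
      obtain ⟨n, rfl⟩ := Subgroup.mem_zpowers_iff.1 hy
      refine Subgroup.mem_zpowers_iff.2 ⟨n, ?_⟩
      show t ^ n = c * t ^ n * c⁻¹
      rw [← conj_zpow, hct]
    exact hle hk
  intro c hc
  refine Subgroup.mem_normalizer_iff.2 fun k => ⟨key c hc k, fun hk => ?_⟩
  have := key c⁻¹ (inv_mem hc) _ hk
  simpa [mul_assoc] using this

/-- the Fitting subgroup normalises `[O_q(M), t]` -/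
theorem fitting_le_norm {t : G} {q : ℕ} (hq : q.Prime) {M : Subgroup G} (ht : t ∈ M) :
    (Cfsg.fittingSubgroup ↥M).map M.subtype ≤ Subgroup.normalizer (fqComm q t M : Set G) := by
  rintro _ ⟨x, hx, rfl⟩
  obtain ⟨a, b, rfl, ha, hb⟩ := S1312.pgroup_split ⟨q, hq⟩ hx
  rw [map_mul]
  refine mul_mem ?_ ?_
  · exact Subgroup.normalizer_commutator_ge_left (H₁ := fq q M) (H₂ := Subgroup.zpowers t) ⟨a, ha, rfl⟩
  · refine Subgroup.centralizer_le_normalizer _ (Subgroup.mem_centralizer_iff.2 fun k hk => ?_)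
    obtain ⟨k', hk', rfl⟩ := fqComm_le hq ht hk
    exact congrArg Subtype.val (S1247.others_commute ⟨q, hq⟩ hb hk')

theorem fq_odd {t : G} {M : Subgroup G} (h : Over t M) (q : ℕ) (hq : q.Prime) : Odd (Nat.card ↥(fq q M)) := by
  haveI := Fact.mk hq
  refine h.odd.of_dvd_nat ?_
  rw [← Subgroup.card_map_of_injective M.subtype_injective]
  exact Subgroup.card_dvd_of_le (fq_le_fitting hq M)

/-- leading to `N` by a nontrivial subgroup of the Fitting subgroup whose normaliser lies in `N` -/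
theorem leads {M N Y : Subgroup G} (hY : Y ≠ ⊥)
    (hYF : Y ≤ (Cfsg.fittingSubgroup ↥M).map M.subtype)
    (hN : Subgroup.normalizer (Y : Set G) ≤ N) : Cfsg.leadsTo M N :=
  ⟨Y, hY, hYF, inf_le_right.trans hN⟩

/-- the part of `F(N)` away from `π(F(M))` is inverted by `t` and centralised by every `[O_p(M), t]` -/
theorem other_part (hG : ¬ IsMulCommutative G) {t : G} (ht : t * t = 1) {M N : Subgroup G} (hM : Over t M)
    (hMN : Cfsg.leadsTo M N) (htN : t ∈ N) (hFN : (Cfsg.fittingSubgroup ↥M).map M.subtype ≤ N)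
    {r : ℕ} (hr : r.Prime) (h0 : Cfsg.pCore r ↥M = ⊥) :
    fq r N ⊓ M = ⊥ ∧ (∀ w ∈ fq r N, t * w * t⁻¹ = w⁻¹) ∧
      ∀ p : ℕ, p.Prime → fqComm p t M ≤ Subgroup.centralizer (fq r N : Set G) := by
  have hWM : fq r N ⊓ M = ⊥ := (BenderUniq.facts hG M N hM.coatom hMN).2.2.1 r hr h0
  have hnorm : N ≤ Subgroup.normalizer (fq r N : Set G) := by
    intro g hg
    refine Subgroup.mem_normalizer_iff.2 fun x => ⟨conj_fq hr hg, fun hx => ?_⟩
    have := conj_fq hr (inv_mem hg) hx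
    simpa [mul_assoc] using this
  have hinv := inverts ht (hnorm htN) fun w hw hwt => by
    have : w ∈ fq r N ⊓ M := ⟨hw, hM.le (Subgroup.mem_centralizer_singleton_iff.2 hwt.eq)⟩
    rwa [hWM, Subgroup.mem_bot] at this
  exact ⟨hWM, hinv, fun p hp => comm_centralizes ht (((fq_le_fitting hp M).trans hFN).trans hnorm) hinv⟩

/-- if `F(N)` has no other part, `N` leads back to `M`, so it is `M` -/
theorem eq_of_no_other_part (hG : ¬ IsMulCommutative G) (hK : Cfsg.IsKProper G) {t : G} {M N : Subgroup G}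
    (hM : Over t M) (hN : IsCoatom N) (hMN : Cfsg.leadsTo M N)
    (hlay : (Cfsg.layer ↥N).map N.subtype ≤ M) (hFne : Cfsg.fittingSubgroup ↥N ≠ ⊥)
    (hparts : ∀ r : ℕ, r.Prime → Cfsg.pCore r ↥M = ⊥ → fq r N = ⊥) : N = M := by
  have hF : (Cfsg.fittingSubgroup ↥N).map N.subtype ≤ M := by
    rw [Solv.fitting_eq_iSup_pCore, Subgroup.map_iSup, iSup_le_iff]
    intro r
    by_cases h0 : Cfsg.pCore (r : ℕ) ↥M = ⊥
    · exact (hparts r r.2 h0).le.trans bot_le
    obtain ⟨q₁, q₂, hq₁, hq₂, hne, hd₁, hd₂⟩ := hM.two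
    obtain ⟨q', hq', hne', hd'⟩ : ∃ q' : ℕ, q'.Prime ∧ q' ≠ (r : ℕ) ∧
        q' ∣ Nat.card ↥(Cfsg.fittingSubgroup ↥M) := by
      by_cases h : q₁ = (r : ℕ)
      · exact ⟨q₂, hq₂, fun h2 => hne (h.trans h2.symm), hd₂⟩
      · exact ⟨q₁, hq₁, h, hd₁⟩
    exact ((BenderUniq.facts hG M N hM.coatom hMN).2.2.2 r r.2 h0 _ (Or.inr ⟨q', hq', hne', rfl⟩)).2
      ((BenderUniq.core_dvd hq').1 hd')
  have hgfit : (Cfsg.generalizedFittingSubgroup ↥N).map N.subtype ≤ M := by
    rw [Cfsg.generalizedFittingSubgroup, Subgroup.map_sup]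
    exact sup_le hlay hF
  have hNM : Cfsg.leadsTo N M :=
    ⟨(Cfsg.fittingSubgroup ↥N).map N.subtype, by
      rwa [ne_eq, Subgroup.map_eq_bot_iff_of_injective _ N.subtype_injective], le_rfl, inf_le_left.trans hgfit⟩
  rcases S1857.result hG hK M N hM.coatom hN hMN hNM with h | ⟨p, hp, hpg, -⟩
  · exact h.symm
  · exact absurd ⟨p, hp, hpg⟩ hM.not_pgroup

theorem fqComm_ne {t : G} {q : ℕ} {M : Subgroup G} (h : ¬ fq q M ≤ Subgroup.centralizer ({t} : Set G)) :
    fqComm q t M ≠ ⊥ := by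
  intro h0
  refine h ?_
  rw [fqComm, Subgroup.commutator_eq_bot_iff_le_centralizer] at h0
  exact h0.trans (Subgroup.centralizer_le (Set.singleton_subset_iff.2 (Subgroup.mem_zpowers t)))

/-- a subgroup meeting `M ≥ C(t)` trivially and inverted by `t` has odd order -/
theorem odd_of_inverted {t : G} (ht : t * t = 1) {M W : Subgroup G}
    (hC : Subgroup.centralizer ({t} : Set G) ≤ M) (hWM : W ⊓ M = ⊥)
    (hinv : ∀ w ∈ W, t * w * t⁻¹ = w⁻¹) : Odd (Nat.card ↥W) := by
  rw [← Nat.not_even_iff_odd]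
  intro he
  haveI : Fact (Nat.Prime 2) := ⟨Nat.prime_two⟩
  obtain ⟨x, hx⟩ := exists_prime_orderOf_dvd_card' 2 (even_iff_two_dvd.1 he)
  have hx2 : (x : G) * x = 1 := by
    have := congrArg Subtype.val (pow_orderOf_eq_one x)
    rw [hx, pow_two] at this
    exact this
  have hxt : (x : G) ∈ Subgroup.centralizer ({t} : Set G) := by
    refine Subgroup.mem_centralizer_singleton_iff.2 ?_
    have := hinv x x.2
    rw [inv_eq_of_mul_eq_one_right hx2, mul_inv_eq_iff_eq_mul] at this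
    exact this.symm
  have h1 : (x : G) ∈ W ⊓ M := ⟨x.2, hC hxt⟩
  rw [hWM, Subgroup.mem_bot] at h1
  rw [show x = 1 from Subtype.ext h1, orderOf_one] at hx
  norm_num at hx

/-- `M` contains the normaliser of each nontrivial `[O_q(M), t]` -/
def Good (t : G) (M : Subgroup G) : Prop :=
  ∀ q : ℕ, q.Prime → ¬ fq q M ≤ Subgroup.centralizer ({t} : Set G) →
    Subgroup.normalizer (fqComm q t M : Set G) ≤ M

theorem ne_top_normalizer {t : G} {q : ℕ} (hq : q.Prime) {M : Subgroup G} (hM : Over t M)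
    (hb : ¬ fq q M ≤ Subgroup.centralizer ({t} : Set G)) :
    Subgroup.normalizer (fqComm q t M : Set G) ≠ ⊤ := by
  intro h
  haveI : (fqComm q t M).Normal := Subgroup.normalizer_eq_top_iff.1 h
  rcases IsSimpleGroup.eq_bot_or_eq_top_of_normal _ ‹(fqComm q t M).Normal› with h' | h'
  · exact fqComm_ne hb h'
  · exact hM.coatom.1 (top_le_iff.1 (h' ▸ (fqComm_le hq hM.mem).trans (fq_le q M)))

/-- a second maximal subgroup over `N([O_q(M), t])`: it is `M`, or `⟨t, u⟩` is not fused in it and its Fitting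
subgroup has a part away from `π(F(M))` -/
theorem next (hG : ¬ IsMulCommutative G) (hK : Cfsg.IsKProper G) {t u : G} (ht : t * t = 1) {M N : Subgroup G}
    (hnl : ∀ L : Subgroup G, IsCoatom L → Subgroup.centralizer ({t} : Set G) ≤ L → Cfsg.layer ↥L = ⊥)
    (hM : Over t M) {q : ℕ} (hq : q.Prime) (hb : ¬ fq q M ≤ Subgroup.centralizer ({t} : Set G))
    (hN : IsCoatom N) (hle : Subgroup.normalizer (fqComm q t M : Set G) ≤ N) :
    Subgroup.centralizer ({t} : Set G) ≤ N ∧
      (N = M ∨ (¬ Fused t u N ∧ ∃ r : ℕ, r.Prime ∧ fq r N ≠ ⊥ ∧ (∀ w ∈ fq r N, t * w * t⁻¹ = w⁻¹) ∧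
      fq r N ⊓ M = ⊥ ∧ ∀ p : ℕ, p.Prime → fqComm p t M ≤ Subgroup.centralizer (fq r N : Set G))) := by
  have hCN := (centralizer_le_norm hq hM.le).trans hle
  refine ⟨hCN, ?_⟩
  have hlN := hnl N hN hCN
  have htN : t ∈ N := hCN (Subgroup.mem_centralizer_singleton_iff.2 rfl)
  have hMN : Cfsg.leadsTo M N :=
    leads (fqComm_ne hb) ((fqComm_le hq hM.mem).trans (fq_le_fitting hq M)) hle
  have hFN := (fitting_le_norm hq hM.mem).trans hle
  by_cases hp : ∀ r : ℕ, r.Prime → Cfsg.pCore r ↥M = ⊥ → fq r N = ⊥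
  · refine Or.inl (eq_of_no_other_part hG hK hM hN hMN ?_ ?_ hp)
    · rw [hlN, Subgroup.map_bot]
      exact bot_le
    · exact fitting_ne hlN fun h => fqComm_ne hb (le_bot_iff.1 (h ▸ Subgroup.le_normalizer.trans hle))
  · simp only [not_forall] at hp
    obtain ⟨r, hr, h0, hne⟩ := hp
    obtain ⟨h1, h2, h3⟩ := other_part hG ht hM hMN htN hFN hr h0
    refine Or.inr ⟨?_, r, hr, hne, h2, h1, h3⟩
    rintro ⟨g, hg, hgt, hgu⟩
    -- fused, all three involutions invert the part, which is then trivial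
    refine hne (le_bot_iff.1 fun w hw => ?_)
    have hconj : ∀ a b : G, g * a * g⁻¹ = b → (∀ v ∈ fq r N, a * v * a⁻¹ = v⁻¹) →
        ∀ v ∈ fq r N, b * v * b⁻¹ = v⁻¹ := by
      intro a b hab hinv v hv
      have hv' : g⁻¹ * v * g ∈ fq r N := by simpa using conj_fq hr (inv_mem hg) hv
      calc b * v * b⁻¹ = g * (a * (g⁻¹ * v * g) * a⁻¹) * g⁻¹ := by rw [← hab]; group
        _ = v⁻¹ := by rw [hinv _ hv']; group
    have hu := hconj t u hgt h2
    have htu := hconj u (t * u) hgu hu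
    have h4 : w⁻¹ = w := by
      calc w⁻¹ = (t * u) * w * (t * u)⁻¹ := (htu w hw).symm
        _ = t * (u * w * u⁻¹) * t⁻¹ := by group
        _ = w := by rw [hu w hw, h2 _ (inv_mem hw), inv_inv]
    rw [Subgroup.mem_bot, ← orderOf_eq_one_iff]
    refine Nat.eq_one_of_dvd_coprimes (Odd.coprime_two_left (n := Nat.card ↥(fq r N)) ?_)
      (orderOf_dvd_of_pow_eq_one (by rw [pow_two]; nth_rw 1 [← h4]; exact inv_mul_cancel w)) ?_
    · exact odd_of_inverted ht hM.le h1 h2
    · rw [← Subgroup.orderOf_coe (⟨w, hw⟩ : ↥(fq r N)) |>.symm]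
      exact orderOf_dvd_natCard _

/-- some maximal subgroup over `C(t)` in which `⟨t, u⟩` is not fused is good -/
theorem exists_good (hG : ¬ IsMulCommutative G) (hK : Cfsg.IsKProper G) {t u : G} (ht : t * t = 1)
    (hnl : ∀ L : Subgroup G, IsCoatom L → Subgroup.centralizer ({t} : Set G) ≤ L → Cfsg.layer ↥L = ⊥)
    (hover : ∀ L : Subgroup G, IsCoatom L → Subgroup.centralizer ({t} : Set G) ≤ L → ¬ Fused t u L → Over t L)
    {M : Subgroup G} (hM : Over t M) (hMu : ¬ Fused t u M) :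
    ∃ N : Subgroup G, Over t N ∧ ¬ Fused t u N ∧ Good t N := by
  by_cases hg : Good t M
  · exact ⟨M, hM, hMu, hg⟩
  simp only [Good, not_forall] at hg
  obtain ⟨q, hq, hb, hnle⟩ := hg
  obtain ⟨N, hN, hle⟩ := (eq_top_or_exists_le_coatom (Subgroup.normalizer (fqComm q t M : Set G))).resolve_left
    (ne_top_normalizer hq hM hb)
  obtain ⟨hCN, h⟩ := next (u := u) hG hK ht hnl hM hq hb hN hle
  obtain ⟨hNu, r, hr, hne, hinv, -, -⟩ := h.resolve_left fun h => hnle (h ▸ hle)
  have hov := hover N hN hCN hNu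
  refine ⟨N, hov, hNu, fun s hs hbs => ?_⟩
  obtain ⟨N', hN', hle'⟩ := (eq_top_or_exists_le_coatom (Subgroup.normalizer (fqComm s t N : Set G))).resolve_left
    (ne_top_normalizer hs hov hbs)
  rcases (next (u := u) hG hK ht hnl hov hs hbs hN' hle').2 with h | ⟨-, r', hr', hne', -, hint, hcent⟩
  · exact h ▸ hle'
  exfalso
  -- the other part of `F(N')` centralises the other part of `F(N)`, so lies in `N`
  have hW : fq r N ≤ Subgroup.centralizer (fq r' N' : Set G) :=
    ((le_comm ht (fq_odd hov r hr) hinv).trans le_rfl).trans (hcent r hr)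
  haveI := Fact.mk hr
  haveI := Solv.pCore_normal (G := ↥N) r
  have hne0 : Cfsg.pCore r ↥N ≠ ⊥ := fun h => hne (by rw [fq, h, Subgroup.map_bot])
  have hsub : fq r' N' ≤ N := by
    refine le_trans ?_ (BenderUniq.norm_coatom hov.coatom _ inferInstance hne0).le
    exact (Subgroup.le_centralizer_iff.1 hW).trans (Subgroup.centralizer_le_normalizer _)
  exact hne' (le_bot_iff.1 (hint ▸ le_inf le_rfl hsub))

/-- a good `M` contains the normaliser of every nontrivial subgroup of `F(M)` invariant under `F(M)` and `t`; the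
hypothesis on the layer of the maximal subgroup is supplied by the list of proper simple sections -/
theorem normalizer_le (hG : ¬ IsMulCommutative G) (hK : Cfsg.IsKProper G) {t : G} (ht : t * t = 1)
    {M Y : Subgroup G} (hM : Over t M) (hgood : Good t M) {q : ℕ} (hq : q.Prime)
    (hb : ¬ fq q M ≤ Subgroup.centralizer ({t} : Set G)) (hY : Y ≠ ⊥)
    (hYF : Y ≤ (Cfsg.fittingSubgroup ↥M).map M.subtype)
    (hFY : (Cfsg.fittingSubgroup ↥M).map M.subtype ≤ Subgroup.normalizer (Y : Set G))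
    (htY : t ∈ Subgroup.normalizer (Y : Set G))
    (hlayer : ∀ N : Subgroup G, IsCoatom N → Subgroup.normalizer (Y : Set G) ≤ N →
      fqComm q t M ≤ Subgroup.centralizer ((Cfsg.layer ↥N).map N.subtype : Set G)) :
    Subgroup.normalizer (Y : Set G) ≤ M := by
  have hne : Subgroup.normalizer (Y : Set G) ≠ ⊤ := by
    intro h
    haveI : Y.Normal := Subgroup.normalizer_eq_top_iff.1 h
    rcases IsSimpleGroup.eq_bot_or_eq_top_of_normal Y ‹Y.Normal› with h' | h'
    · exact hY h'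
    · exact hM.coatom.1 (top_le_iff.1 (h' ▸ hYF.trans (Subgroup.map_subtype_le _)))
  obtain ⟨N, hN, hle⟩ := (eq_top_or_exists_le_coatom _).resolve_left hne
  have hMN : Cfsg.leadsTo M N := leads hY hYF hle
  have hcK : Subgroup.centralizer (fqComm q t M : Set G) ≤ M :=
    (Subgroup.centralizer_le_normalizer _).trans (hgood q hq hb)
  suffices h : N = M from h ▸ hle
  refine eq_of_no_other_part hG hK hM hN hMN ((Subgroup.le_centralizer_iff.1 (hlayer N hN hle)).trans hcK) ?_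
    fun r hr h0 => ?_
  · intro h
    refine fqComm_ne hb (le_bot_iff.1 fun x hx => ?_)
    have hxN : x ∈ N := hle (hFY (fq_le_fitting hq M (fqComm_le hq hM.mem hx)))
    have hgf : Cfsg.generalizedFittingSubgroup ↥N = Cfsg.layer ↥N := by
      rw [Cfsg.generalizedFittingSubgroup, h, sup_bot_eq]
    have hmemC : (⟨x, hxN⟩ : ↥N) ∈ Subgroup.centralizer (Cfsg.generalizedFittingSubgroup ↥N : Set ↥N) :=
      Subgroup.mem_centralizer_iff.2 fun y hy =>
        Subtype.ext (Subgroup.mem_centralizer_iff.1 (hlayer N hN hle hx) y ⟨y, hgf ▸ hy, rfl⟩)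
    haveI : (Cfsg.generalizedFittingSubgroup ↥N).Normal := Local.gfit_normal
    haveI := hgf ▸ ‹(Cfsg.generalizedFittingSubgroup ↥N).Normal›
    have hmem : (⟨x, hxN⟩ : ↥N) ∈ Cfsg.generalizedFittingSubgroup ↥N ⊓
        Subgroup.centralizer (Cfsg.generalizedFittingSubgroup ↥N : Set ↥N) := ⟨Solv.centralizer_gfit_le hmemC, hmemC⟩
    letI : CommGroup ↥(Cfsg.generalizedFittingSubgroup ↥N ⊓
        Subgroup.centralizer (Cfsg.generalizedFittingSubgroup ↥N : Set ↥N)) :=
      { (inferInstance : Group ↥(Cfsg.generalizedFittingSubgroup ↥N ⊓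
          Subgroup.centralizer (Cfsg.generalizedFittingSubgroup ↥N : Set ↥N))) with
        mul_comm := fun p q => Subtype.ext (Subgroup.mem_centralizer_iff.1 q.2.2 p p.2.1) }
    have hle' := Solv.normal_le_fitting (N := Cfsg.generalizedFittingSubgroup ↥N ⊓
        Subgroup.centralizer (Cfsg.generalizedFittingSubgroup ↥N : Set ↥N)) inferInstance hmem
    rw [h, Subgroup.mem_bot] at hle'
    exact Subgroup.mem_bot.2 (congrArg Subtype.val hle')
  · obtain ⟨h1, -, h3⟩ := other_part hG ht hM hMN (hle htY) (hFY.trans hle) hr h0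
    exact le_bot_iff.1 (h1 ▸ le_inf le_rfl ((Subgroup.le_centralizer_iff.1 (h3 q hq)).trans hcK))

end Cfsg.Agent.GW
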