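import Cfsg.Agent.Lib.GW.Centralizer
import Cfsg.Agent.Lib.GW.GoodMax

/-!
# A normal four group over `C(t)`: reduction to the Sylow subgroups of order four and eight
-/

set_option autoImplicit false
set_option linter.style.haveILetI false
set_option linter.unusedSectionVars false

namespace Cfsg.Agent.GW

open Cfsg Cfsg.Agent DihedralGroup

universe u

variable {G : Type u} [Group G] [Finite G]

namespace Frame

variable (Φ : Frame G)

/-- The four group `⟨t, u_i⟩`. -/
def U (i : ZMod (2 ^ Φ.k)) : Subgroup G := Subgroup.zpowers Φ.t ⊔ Subgroup.zpowers (Φ.refl i)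

theorem mem_U_iff (i : ZMod (2 ^ Φ.k)) {x : G} :
    x ∈ Φ.U i ↔ x = 1 ∨ x = Φ.t ∨ x = Φ.refl i ∨ x = Φ.t * Φ.refl i := by
  have htt := Φ.tt
  have huu := Φ.uu i
  have hc : Φ.refl i * Φ.t = Φ.t * Φ.refl i := (Φ.commute i).symm.eq
  have htu : Φ.t * (Φ.t * Φ.refl i) = Φ.refl i := by rw [← mul_assoc, htt, one_mul]
  have hut : Φ.refl i * (Φ.t * Φ.refl i) = Φ.t := by rw [← mul_assoc, hc, mul_assoc, huu, mul_one]
  have hut' : Φ.t * Φ.refl i * Φ.refl i = Φ.t := by rw [mul_assoc, huu, mul_one]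
  have htu' : Φ.t * Φ.refl i * Φ.t = Φ.refl i := by rw [mul_assoc, hc, htu]
  let H : Subgroup G :=
    { carrier := {x | x = 1 ∨ x = Φ.t ∨ x = Φ.refl i ∨ x = Φ.t * Φ.refl i}
      one_mem' := Or.inl rfl
      mul_mem' := by
        rintro a b (rfl | rfl | rfl | rfl) (rfl | rfl | rfl | rfl) <;>
          simp [htt, huu, hc, htu, hut, hut', htu', mul_assoc]
      inv_mem' := by
        rintro a (rfl | rfl | rfl | rfl)
        · simp
        · exact Or.inr (Or.inl (inv_eq_of_mul_eq_one_right htt))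
        · exact Or.inr (Or.inr (Or.inl (inv_eq_of_mul_eq_one_right huu)))
        · refine Or.inr (Or.inr (Or.inr (inv_eq_of_mul_eq_one_right ?_)))
          rw [← mul_assoc, htu', huu] }
  constructor
  · exact fun hx => (sup_le (a := Subgroup.zpowers Φ.t) (b := Subgroup.zpowers (Φ.refl i)) (c := H)
      (Subgroup.zpowers_le.2 (Or.inr (Or.inl rfl))) (Subgroup.zpowers_le.2 (Or.inr (Or.inr (Or.inl rfl))))) hx
  · rintro (rfl | rfl | rfl | rfl)
    · exact Subgroup.one_mem _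
    · exact Subgroup.mem_sup_left (Subgroup.mem_zpowers _)
    · exact Subgroup.mem_sup_right (Subgroup.mem_zpowers _)
    · exact Subgroup.mul_mem_sup (Subgroup.mem_zpowers _) (Subgroup.mem_zpowers _)

/-- With a four group as Sylow subgroup no element swaps two involutions. -/
theorem no_swap (hk : Φ.k = 1) {g x y : G} (hg : g ∈ Subgroup.normalizer ((Φ.S : Subgroup G) : Set G))
    (hx : x ∈ (Φ.S : Subgroup G)) (hne : x ≠ y) (hxy : g * x * g⁻¹ = y) (hyx : g * y * g⁻¹ = x) : False := by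
  haveI : Fact (Nat.Prime 2) := ⟨Nat.prime_two⟩
  have hS4 : Nat.card (Φ.S : Subgroup G) = 4 := by
    rw [Nat.card_congr Φ.ι.symm.toEquiv, DihedralGroup.nat_card, hk]; norm_num
  haveI : IsMulCommutative (Φ.S : Subgroup G) :=
    IsPGroup.isMulCommutative_of_card_eq_prime_sq (p := 2) (by rw [hS4]; norm_num)
  obtain ⟨m, hmodd, a, ha⟩ : ∃ m : ℕ, Odd m ∧ ∃ a : ℕ, orderOf g = 2 ^ a * m :=
    ⟨orderOf g / 2 ^ (orderOf g).factorization 2,
      Nat.odd_iff.2 (Nat.two_dvd_ne_zero.1 (Nat.not_dvd_ordCompl Nat.prime_two (orderOf_pos g).ne')),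
      (orderOf g).factorization 2, (Nat.ordProj_mul_ordCompl_eq_self _ 2).symm⟩
  have hy : IsPGroup 2 (Subgroup.zpowers (g ^ m)) := by
    obtain ⟨j, -, hj⟩ := (Nat.dvd_prime_pow Nat.prime_two).1 (orderOf_dvd_of_pow_eq_one
      (show (g ^ m) ^ 2 ^ a = 1 by rw [← pow_mul, mul_comm, ← ha, pow_orderOf_eq_one]))
    exact IsPGroup.of_card (n := j) (by rw [Nat.card_zpowers, hj])
  have heq := Φ.S.is_maximal' (hy.to_sup_of_normal_right' Φ.S.isPGroup' (Subgroup.zpowers_le.2 (pow_mem hg m)))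
    le_sup_right
  have hyS : g ^ m ∈ (Φ.S : Subgroup G) := heq ▸ Subgroup.mem_sup_left (Subgroup.mem_zpowers (g ^ m))
  have hc : g ^ m * x * (g ^ m)⁻¹ = x := by
    rw [show g ^ m * x = x * g ^ m from congrArg Subtype.val
      ((inferInstance : IsMulCommutative (Φ.S : Subgroup G)).is_comm.comm (⟨_, hyS⟩ : (Φ.S : Subgroup G)) ⟨x, hx⟩),
      mul_inv_cancel_right]
  obtain ⟨j, rfl⟩ := hmodd
  have h2 : ∀ j : ℕ, g ^ (2 * j) * x * (g ^ (2 * j))⁻¹ = x := by
    intro j
    induction j with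
    | zero => simp
    | succ j ih =>
      rw [show 2 * (j + 1) = 1 + (1 + 2 * j) by omega, pow_add, pow_add, pow_one]
      calc g * (g * g ^ (2 * j)) * x * (g * (g * g ^ (2 * j)))⁻¹
          = g * (g * (g ^ (2 * j) * x * (g ^ (2 * j))⁻¹) * g⁻¹) * g⁻¹ := by group
        _ = x := by rw [ih, hxy, hyx]
  rw [show 2 * j + 1 = 1 + 2 * j by omega, pow_add, pow_one] at hc
  refine hne ?_
  calc x = g * g ^ (2 * j) * x * (g * g ^ (2 * j))⁻¹ := hc.symm
    _ = g * (g ^ (2 * j) * x * (g ^ (2 * j))⁻¹) * g⁻¹ := by group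
    _ = y := by rw [h2, hxy]

/-- The element of `S` exchanging `u` and `t u` when `|S| ≥ 8`. -/
theorem exists_swap (hk : 2 ≤ Φ.k) (i : ZMod (2 ^ Φ.k)) :
    ∃ w ∈ (Φ.S : Subgroup G), w * Φ.t * w⁻¹ = Φ.t ∧ w * Φ.refl i * w⁻¹ = Φ.t * Φ.refl i := by
  haveI : NeZero (2 ^ Φ.k) := ⟨by positivity⟩
  refine ⟨Φ.hom (r ((2 ^ (Φ.k - 2) : ℕ) : ZMod (2 ^ Φ.k))), Φ.hom_range ▸ ⟨_, rfl⟩, ?_, ?_⟩
  · rw [Φ.t_central _ (Φ.hom_range ▸ ⟨_, rfl⟩), mul_inv_cancel_right]
  · show Φ.hom _ * Φ.hom _ * (Φ.hom _)⁻¹ = Φ.hom _ * Φ.hom _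
    have h4 : (2 : ℕ) ^ Φ.k = 4 * 2 ^ (Φ.k - 2) := by
      rw [show (4 : ℕ) = 2 ^ 2 by norm_num, ← pow_add]; congr 1; omega
    rw [← map_inv, ← map_mul, ← map_mul, ← map_mul, inv_r, r_mul_sr, sr_mul_r, r_mul_sr,
      show (2 ^ Φ.k / 2 : ℕ) = 2 ^ (Φ.k - 2) + 2 ^ (Φ.k - 2) by omega, Nat.cast_add]
    congr 2
    ring

/-- A subgroup over `C(t)` normalising `U` forces `|S| ≤ 8` and, if it is larger than `C(t)`, fuses `U`. -/
theorem fused_of_normalizer (i : ZMod (2 ^ Φ.k)) {M : Subgroup G}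
    (hC : Subgroup.centralizer ({Φ.t} : Set G) ≤ M) (hne : M ≠ Subgroup.centralizer ({Φ.t} : Set G))
    (hN : M ≤ Subgroup.normalizer ((Φ.U i : Subgroup G) : Set G)) : Φ.k ≤ 2 ∧ Fused Φ.t (Φ.refl i) M := by
  haveI : NeZero (2 ^ Φ.k) := ⟨by positivity⟩
  have hSM : (Φ.S : Subgroup G) ≤ M := Φ.S_le.trans hC
  have hk2 : Φ.k ≤ 2 := by
    by_contra hk
    have hmem := (Subgroup.mem_normalizer_iff.1 (hN (hSM (Φ.hom_range ▸ ⟨r 1, rfl⟩ : Φ.hom (r 1) ∈ (Φ.S : Subgroup G))))
      (Φ.refl i)).1 ((Φ.mem_U_iff i).2 (Or.inr (Or.inr (Or.inl rfl))))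
    rw [← hom_sr, ← map_inv, ← map_mul, ← map_mul, inv_r, r_mul_sr, sr_mul_r, Φ.mem_U_iff, ← hom_half, ← hom_sr,
      ← map_mul, r_mul_sr, ← map_one Φ.hom] at hmem
    rcases hmem with h | h | h | h <;> have h' := Φ.hom_inj h
    · rw [DihedralGroup.one_def] at h'; cases h'
    · cases h'
    · have h2 : ((2 : ℕ) : ZMod (2 ^ Φ.k)) = 0 := by push_cast; linear_combination -(DihedralGroup.sr.inj h')
      rw [ZMod.natCast_eq_zero_iff] at h2
      have := Nat.le_of_dvd two_pos h2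
      have := Nat.pow_le_pow_right two_pos (show 3 ≤ Φ.k by omega)
      omega
    · have h2 : ((2 : ℕ) : ZMod (2 ^ Φ.k)) = ((2 ^ Φ.k / 2 : ℕ) : ZMod (2 ^ Φ.k)) := by
        push_cast; linear_combination -(DihedralGroup.sr.inj h')
      have h8 := Nat.pow_le_pow_right two_pos (show 3 ≤ Φ.k by omega)
      have := congrArg ZMod.val h2
      rw [ZMod.val_natCast_of_lt (by omega), ZMod.val_natCast_of_lt (by omega)] at this
      omega
  refine ⟨hk2, ?_⟩
  obtain ⟨g, hgM, hgC⟩ : ∃ g ∈ M, g ∉ Subgroup.centralizer ({Φ.t} : Set G) := by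
    by_contra hno
    push Not at hno
    exact hne (le_antisymm hno hC)
  set t := Φ.t
  set u := Φ.refl i
  have huU : u ∈ Φ.U i := (Φ.mem_U_iff i).2 (Or.inr (Or.inr (Or.inl rfl)))
  have htU : t ∈ Φ.U i := (Φ.mem_U_iff i).2 (Or.inr (Or.inl rfl))
  have hcases : ∀ {g : G}, g ∈ M → ∀ x ∈ Φ.U i, g * x * g⁻¹ = 1 ∨ g * x * g⁻¹ = t ∨ g * x * g⁻¹ = u ∨
      g * x * g⁻¹ = t * u := fun hg x hx =>
    (Φ.mem_U_iff i).1 ((Subgroup.mem_normalizer_iff.1 (hN hg) x).1 hx)
  have hgt : g * t * g⁻¹ ≠ t := fun h =>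
    hgC (Subgroup.mem_centralizer_singleton_iff.2 (mul_inv_eq_iff_eq_mul.1 h))
  -- an element sending `t` to `u`
  obtain ⟨f, hfM, hf⟩ : ∃ f ∈ M, f * t * f⁻¹ = u := by
    rcases hcases hgM t htU with h | h | h | h
    · exact absurd (conj_eq_one_iff.1 h) Φ.t_ne
    · exact absurd h hgt
    · exact ⟨g, hgM, h⟩
    · rcases Nat.lt_or_ge Φ.k 2 with hk | hk
      · -- the inverse of a three-cycle
        have hk1 : Φ.k = 1 := by have := Φ.hk; omega
        have hS : (Φ.U i : Subgroup G) = (Φ.S : Subgroup G) := by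
          have hle : Φ.U i ≤ (Φ.S : Subgroup G) :=
            sup_le (Subgroup.zpowers_le.2 Φ.t_mem) (Subgroup.zpowers_le.2 (Φ.refl_mem i))
          refine le_antisymm hle fun x hx => ?_
          rw [← Φ.hom_range] at hx
          obtain ⟨d, rfl⟩ := hx
          rw [Φ.mem_U_iff]
          rcases (Fusion.DihedralFours.mem_four Φ.two_dvd i d).1
            (Subgroup.mem_centralizer_singleton_iff.2 (Φ.ι.injective (by
              haveI : Fact (Nat.Prime 2) := ⟨Nat.prime_two⟩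
              haveI : IsMulCommutative (Φ.S : Subgroup G) := IsPGroup.isMulCommutative_of_card_eq_prime_sq (p := 2)
                (by rw [Nat.card_congr Φ.ι.symm.toEquiv, DihedralGroup.nat_card, hk1]; norm_num)
              rw [map_mul, map_mul]
              exact (inferInstance : IsMulCommutative (Φ.S : Subgroup G)).is_comm.comm _ _))) with rfl | rfl | rfl | rfl
          · exact Or.inl (map_one _)
          · exact Or.inr (Or.inl rfl)
          · exact Or.inr (Or.inr (Or.inl rfl))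
          · refine Or.inr (Or.inr (Or.inr ?_))
            show Φ.hom _ = Φ.hom _ * Φ.hom _
            rw [← map_mul, r_mul_sr, sub_eq_add_neg, ← eq_neg_of_add_eq_zero_left Φ.half_add]
        have hgS : g ∈ Subgroup.normalizer ((Φ.S : Subgroup G) : Set G) := hS ▸ hN hgM
        rcases hcases hgM (t * u) (Subgroup.mul_mem _ htU huU) with h' | h' | h' | h'
        · exact absurd (conj_eq_one_iff.1 h') fun e =>
            Φ.refl_ne i ((eq_inv_of_mul_eq_one_right e).trans (inv_eq_of_mul_eq_one_right Φ.tt))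
        · exact (Φ.no_swap hk1 hgS Φ.t_mem (fun e => Φ.refl_ne_one i (mul_left_cancel (e.symm.trans (mul_one t).symm))) h h').elim
        · refine ⟨g⁻¹, inv_mem hgM, ?_⟩
          have h'' : g * u * g⁻¹ = t := by
            calc g * u * g⁻¹ = (g * t * g⁻¹)⁻¹ * (g * (t * u) * g⁻¹) := by group
              _ = t := by
                rw [h, h', inv_eq_of_mul_eq_one_right (show t * u * (t * u) = 1 by
                  rw [mul_assoc, ← mul_assoc u, (Φ.commute i).symm.eq, mul_assoc t u u, Φ.uu, mul_one, Φ.tt]),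
                  mul_assoc, Φ.uu, mul_one]
          rw [inv_inv, ← h'']
          group
        · exact absurd (mul_left_cancel (mul_right_cancel (h'.trans h.symm))) fun e =>
            Φ.refl_ne_one i (mul_left_cancel (e.trans (mul_one t).symm))
      · obtain ⟨w, hwS, hwt, hwu⟩ := Φ.exists_swap hk i
        refine ⟨w * g, M.mul_mem (hSM hwS) hgM, ?_⟩
        calc w * g * t * (w * g)⁻¹ = w * (g * t * g⁻¹) * w⁻¹ := by group
          _ = (w * t * w⁻¹) * (w * u * w⁻¹) := by rw [h]; group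
          _ = u := by rw [hwt, hwu, ← mul_assoc, Φ.tt, one_mul]
  -- the image of `u`
  rcases hcases hfM u huU with h | h | h | h
  · exact absurd (conj_eq_one_iff.1 h) (Φ.refl_ne_one i)
  · rcases Nat.lt_or_ge Φ.k 2 with hk | hk
    · have hk1 : Φ.k = 1 := by have := Φ.hk; omega
      refine (Φ.no_swap hk1 (g := f) ?_ Φ.t_mem (Φ.refl_ne i).symm hf h).elim
      have hle : Φ.U i ≤ (Φ.S : Subgroup G) :=
        sup_le (Subgroup.zpowers_le.2 Φ.t_mem) (Subgroup.zpowers_le.2 (Φ.refl_mem i))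
      have h4 : Nat.card (Φ.U i) = 4 := by
        haveI : Fact (Nat.Prime 2) := ⟨Nat.prime_two⟩
        have hd := Subgroup.card_dvd_of_le hle
        rw [Nat.card_congr Φ.ι.symm.toEquiv, DihedralGroup.nat_card, hk1] at hd
        have h3 : 3 ≤ Nat.card (Φ.U i) := by
          let v : Fin 3 → Φ.U i := ![1, ⟨t, htU⟩, ⟨u, huU⟩]
          have hv : Function.Injective v := by
            intro a b hab
            fin_cases a <;> fin_cases b <;>
              simp [v, Subtype.ext_iff, Φ.t_ne, Φ.t_ne.symm, Φ.refl_ne_one i, (Φ.refl_ne_one i).symm, Φ.refl_ne i,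
                (Φ.refl_ne i).symm, t, u] at hab ⊢
          simpa using Nat.card_le_card_of_injective v hv
        have h4' := Nat.le_of_dvd (by norm_num) hd
        rcases (show Nat.card (Φ.U i) = 3 ∨ Nat.card (Φ.U i) = 4 by norm_num at h4'; omega) with h3' | h4''
        · rw [h3'] at hd; omega
        · exact h4''
      rw [← Subgroup.eq_of_le_of_card_ge hle
        (by rw [h4, Nat.card_congr Φ.ι.symm.toEquiv, DihedralGroup.nat_card, hk1]; norm_num)]
      exact hN hfM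
    · obtain ⟨w, hwS, hwt, hwu⟩ := Φ.exists_swap hk i
      refine ⟨f * w, M.mul_mem hfM (hSM hwS), ?_, ?_⟩
      · calc f * w * t * (f * w)⁻¹ = f * (w * t * w⁻¹) * f⁻¹ := by group
          _ = u := by rw [hwt, hf]
      · calc f * w * u * (f * w)⁻¹ = f * (w * u * w⁻¹) * f⁻¹ := by group
          _ = (f * t * f⁻¹) * (f * u * f⁻¹) := by rw [hwu]; simp only [t, u]; group
          _ = t * u := by rw [hf, h]; exact (Φ.commute i).symm.eq
  · exact absurd (mul_left_cancel (mul_right_cancel (h.trans hf.symm))) (Φ.refl_ne i)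
  · exact ⟨f, hfM, hf, h⟩

end Frame

end Cfsg.Agent.GW
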