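import Cfsg.Agent.Lib.GW.AlmostFour
import Cfsg.Agent.Lib.GW.LayerFacts
import Cfsg.Agent.Lib.GW.NormalFour
import Cfsg.Agent.Lib.GW.MaxInputs
import Cfsg.Agent.Lib.GW.FourEightModel
import Cfsg.Agent.Lib.Solv.Generation

/-!
# Sylow subgroups of order eight: no fused normal four group over `C(t)`

The proper subgroups over the four group are read off from their quotients by the odd core, and `FourCtx.isModel`
gives the contradiction.
-/

set_option autoImplicit false
set_option linter.style.haveILetI false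
set_option linter.unusedSectionVars false

namespace Cfsg.Agent.GW

open Cfsg Cfsg.Agent DihedralGroup Cfsg.Agent.GW.Reduced

universe u

section Quotient

variable {X : Type u} [Group X] [Finite X]

/-- odd elements centralising an involution of a quotient by an odd subgroup come from such elements -/
theorem odd_lift (N : Subgroup X) [N.Normal] (hN : Odd (Nat.card N)) {a : X} (ha : a * a = 1) {x : X ⧸ N}
    (hx : Odd (orderOf x)) (hc : Commute x (QuotientGroup.mk' N a)) :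
    ∃ y : X, Odd (orderOf y) ∧ Commute y a ∧ QuotientGroup.mk' N y = x := by
  haveI : Group.IsSolvable N := Solv.Partition.odd_solvable hN
  set π := QuotientGroup.mk' N
  obtain ⟨g, rfl⟩ := QuotientGroup.mk'_surjective N x
  obtain ⟨d, hd, hgd⟩ := Solv.exists_fixed_in_coset (Subgroup.zpowers a) N
    (fun y _ => by rw [Subgroup.normalizer_eq_top_iff.2 inferInstance]; trivial)
    (by
      rw [Nat.card_zpowers]
      exact Nat.Coprime.coprime_dvd_left (orderOf_dvd_of_pow_eq_one (by rw [pow_two, ha])) hN.coprime_two_left)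
    (Or.inr inferInstance) (x := g) (fun y hy => by
      obtain ⟨i, rfl⟩ := hy
      refine (QuotientGroup.eq_one_iff _).1 ?_
      show π (g⁻¹ * (a ^ i * g * (a ^ i)⁻¹)) = 1
      rw [map_mul, map_mul, map_mul, map_inv, map_inv, map_zpow, ← (hc.zpow_right i).eq, mul_inv_cancel_right,
        inv_mul_cancel])
  have hcm : Commute (g * d) a := by
    obtain ⟨i, hi⟩ := (Subgroup.mem_normalizer_iff.1 hgd a).1 (Subgroup.mem_zpowers a)
    have hi : a ^ i = g * d * a * (g * d)⁻¹ := hi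
    rcases Int.even_or_odd' i with ⟨j, rfl | rfl⟩
    · rw [zpow_mul, zpow_two, ha, one_zpow, eq_comm, conj_eq_one_iff] at hi
      rw [hi]; exact Commute.one_right _
    · rw [zpow_add_one, zpow_mul, zpow_two, ha, one_zpow, one_mul] at hi
      exact (mul_inv_eq_iff_eq_mul.1 hi.symm)
  have hπ : π (g * d) = π g := by
    rw [map_mul, show π d = 1 from (QuotientGroup.eq_one_iff d).2 hd, mul_one]
  obtain ⟨k, m, hm, hkm⟩ := Nat.exists_eq_pow_mul_and_not_dvd (orderOf_pos (g * d)).ne' 2 (by norm_num)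
  obtain ⟨j, hj⟩ := exists_pow_eq_self_of_coprime (x := π g) (n := 2 ^ k)
    (Nat.Coprime.pow_left k hx.coprime_two_left)
  refine ⟨((g * d) ^ 2 ^ k) ^ j, Odd.of_dvd_nat (Nat.odd_iff.2 (Nat.two_dvd_ne_zero.1 hm)) (orderOf_dvd_of_pow_eq_one ?_),
    (hcm.pow_left _).pow_left _, ?_⟩
  · rw [← pow_mul, ← pow_mul, show 2 ^ k * (j * m) = 2 ^ k * m * j by ring, ← hkm, pow_mul, pow_orderOf_eq_one,
      one_pow]
  · rw [map_pow, map_pow, hπ, hj]

/-- in a solvable group with a self-centralising normal four group no odd element centralises an involution -/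
theorem solvable_four {V : Subgroup X} (hV : V.Normal) (hK : IsKleinFour V)
    (hC : Subgroup.centralizer (V : Set X) ≤ V) {a x : X} (ha : a * a = 1) (ha1 : a ≠ 1) (hx : Odd (orderOf x))
    (hxa : Commute x a) : x = 1 := by
  classical
  haveI := hK
  letI : Fintype V := Fintype.ofFinite V
  have gen : ∀ v w : V, v ≠ 1 → w ≠ 1 → v ≠ w → ∀ y : V, y = 1 ∨ y = v ∨ y = w ∨ y = v * w := by
    intro v w hv hw hvw y
    have h : y ∈ ({v * w, v, w, 1} : Finset V) := by
      rw [IsKleinFour.eq_finset_univ hv hw hvw]; exact Finset.mem_univ y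
    simp only [Finset.mem_insert, Finset.mem_singleton] at h
    tauto
  have comm_of : ∀ v w : V, v ≠ 1 → w ≠ 1 → v ≠ w → ∀ g : X, Commute g v → Commute g w →
      g ∈ Subgroup.centralizer (V : Set X) := by
    intro v w hv hw hvw g h1 h2
    refine Subgroup.mem_centralizer_iff.2 fun y hy => ?_
    rcases gen v w hv hw hvw ⟨y, hy⟩ with h | h | h | h <;> rw [show y = ((⟨y, hy⟩ : V) : X) from rfl, h]
    · simp
    · exact h1.eq.symm
    · exact h2.eq.symm
    · exact ((h1.mul_right h2).eq.symm : _)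
  have hV1 : ∀ y ∈ V, y * y = 1 := fun y hy => by
    have h := Monoid.pow_exponent_eq_one (⟨y, hy⟩ : V)
    rw [IsKleinFour.exponent_two, pow_two] at h
    exact congrArg Subtype.val h
  by_contra hx1
  -- `x` fixes no involution of `V`
  have hfree : ∀ v : X, v ∈ V → v ≠ 1 → ¬ Commute x v := by
    intro v hv hv1 hxv
    refine hx1 ?_
    obtain ⟨⟨w, hw⟩, hw'⟩ : ∃ w : V, w ≠ 1 ∧ w ≠ ⟨v, hv⟩ := by
      by_contra h
      push Not at h
      have : Fintype.card V ≤ 2 := by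
        refine (Finset.card_le_card (t := ({1, ⟨v, hv⟩} : Finset V)) fun y _ => ?_).trans Finset.card_le_two
        by_cases hy : y = 1
        · simp [hy]
        · simp [h y hy]
      rw [← Nat.card_eq_fintype_card, IsKleinFour.card_four] at this
      omega
    have hx2 : Commute (x * x) w := by
      have hw2 : x * w * x⁻¹ ∈ V := hV.conj_mem w hw x
      have hv' : x * v * x⁻¹ = v := mul_inv_eq_iff_eq_mul.2 hxv.eq
      rcases gen ⟨v, hv⟩ ⟨w, hw⟩ (fun e => hv1 (congrArg Subtype.val e)) hw'.1 (Ne.symm hw'.2) ⟨_, hw2⟩ with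
        h | h | h | h <;> have h' := congrArg Subtype.val h <;> simp only [Subgroup.coe_mul, Subgroup.coe_one] at h'
      · exact absurd (Subtype.ext (conj_eq_one_iff.1 h') : (⟨w, hw⟩ : V) = 1) hw'.1
      · refine absurd (Subtype.ext ?_ : (⟨w, hw⟩ : V) = ⟨v, hv⟩) hw'.2
        exact mul_left_cancel (mul_right_cancel (h'.trans hv'.symm))
      · have hc1 : Commute x w := mul_inv_eq_iff_eq_mul.1 h'
        exact hc1.mul_left hc1
      · refine mul_inv_eq_iff_eq_mul.1 (show x * x * w * (x * x)⁻¹ = w from ?_)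
        calc x * x * w * (x * x)⁻¹ = x * (x * w * x⁻¹) * x⁻¹ := by group
          _ = x * (v * w) * x⁻¹ := by rw [h']
          _ = (x * v * x⁻¹) * (x * w * x⁻¹) := by group
          _ = w := by rw [hv', h', ← mul_assoc, hV1 v hv, one_mul]
    have hxw : Commute x w := by
      obtain ⟨j, hj⟩ := hx
      have : x = (x * x) ^ (j + 1) := by
        rw [← pow_two, ← pow_mul, show 2 * (j + 1) = (2 * j + 1) + 1 by ring, ← hj, pow_succ, pow_orderOf_eq_one,
          one_mul]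
      rw [this]
      exact hx2.pow_left _
    have hxV := hC (comm_of ⟨v, hv⟩ ⟨w, hw⟩ (fun e => hv1 (congrArg Subtype.val e)) hw'.1 (Ne.symm hw'.2) x hxv hxw)
    exact orderOf_eq_one_iff.1 (Nat.eq_one_of_dvd_coprimes hx.coprime_two_left
      (orderOf_dvd_of_pow_eq_one (by rw [pow_two]; exact hV1 x hxV)) dvd_rfl)
  -- an involution fixed by `a`
  obtain ⟨v, hv, hv1, hav⟩ : ∃ v ∈ V, v ≠ 1 ∧ Commute a v := by
    haveI : Nontrivial V := Finite.one_lt_card_iff_nontrivial.1 (by rw [IsKleinFour.card_four]; norm_num)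
    obtain ⟨⟨v, hv⟩, hv'⟩ := exists_ne (1 : V)
    have hai : a⁻¹ = a := inv_eq_of_mul_eq_one_right ha
    by_cases h : a * v * a⁻¹ = v
    · exact ⟨v, hv, fun e => hv' (Subtype.ext e), mul_inv_eq_iff_eq_mul.1 h⟩
    · refine ⟨v * (a * v * a⁻¹), V.mul_mem hv (hV.conj_mem v hv a), fun e => h ?_, ?_⟩
      · rw [eq_inv_of_mul_eq_one_right e, inv_eq_of_mul_eq_one_right (hV1 v hv)]
      · refine mul_inv_eq_iff_eq_mul.1 (show a * (v * (a * v * a⁻¹)) * a⁻¹ = v * (a * v * a⁻¹) from ?_)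
        have hcomm : (a * v * a⁻¹) * v = v * (a * v * a⁻¹) := congrArg Subtype.val
          (mul_comm_of_exponent_two (IsKleinFour.exponent_two (G := V))
            (⟨_, hV.conj_mem v hv a⟩ : V) ⟨v, hv⟩)
        calc a * (v * (a * v * a⁻¹)) * a⁻¹ = (a * v * a⁻¹) * (a * a * v * (a * a)⁻¹) := by group
          _ = (a * v * a⁻¹) * v := by rw [ha]; group
          _ = _ := hcomm
  have hne : (⟨v, hv⟩ : V) ≠ ⟨x * v * x⁻¹, hV.conj_mem v hv x⟩ := fun h =>
    hfree v hv hv1 (mul_inv_eq_iff_eq_mul.1 (congrArg Subtype.val h).symm)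
  have hav' : Commute a (x * v * x⁻¹) := (hxa.symm.mul_right hav).mul_right hxa.symm.inv_right
  have haV := hC (comm_of ⟨v, hv⟩ ⟨_, hV.conj_mem v hv x⟩ (fun e => hv1 (congrArg Subtype.val e))
    (fun e => hv1 (conj_eq_one_iff.1 (congrArg Subtype.val e))) hne a hav hav')
  exact hfree a haV ha1 hxa

end Quotient

variable {G : Type u} [Group G] [Finite G]

namespace Frame

variable (Φ : Frame G)

/-- the elements of `O` centralise a normal four group -/
theorem O_commute (i : ZMod (2 ^ Φ.k)) {M : Subgroup G} (hC : Subgroup.centralizer ({Φ.t} : Set G) ≤ M)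
    (hN : M ≤ Subgroup.normalizer ((Φ.U i : Subgroup G) : Set G)) {y : G} (hy : y ∈ Φ.O) :
    Commute y (Φ.refl i) := by
  have huU : Φ.refl i ∈ Φ.U i := (Φ.mem_U_iff i).2 (Or.inr (Or.inr (Or.inl rfl)))
  obtain ⟨z, hz⟩ : ∃ z, z = y * Φ.refl i * y⁻¹ * (Φ.refl i)⁻¹ := ⟨_, rfl⟩
  have hzU : z ∈ Φ.U i :=
    hz ▸ mul_mem ((Subgroup.mem_normalizer_iff.1 (hN (hC (Φ.O_le hy))) _).1 huU) (inv_mem huU)
  have hzO : z ∈ Φ.O := by
    rw [hz, show y * Φ.refl i * y⁻¹ * (Φ.refl i)⁻¹ = y * (Φ.refl i * y⁻¹ * (Φ.refl i)⁻¹) by group]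
    exact mul_mem hy (Φ.O_norm _ (Φ.S_le (Φ.refl_mem i)) _ (inv_mem hy))
  have hz2 : z * z = 1 := by
    rcases (Φ.mem_U_iff i).1 hzU with h | h | h | h <;> rw [h]
    · exact one_mul 1
    · exact Φ.tt
    · exact Φ.uu i
    · rw [(Φ.commute i).symm.mul_mul_mul_comm, Φ.tt, Φ.uu, one_mul]
  have hz1 : z = 1 := eq_one_of_sq_odd (Φ.O_odd.of_dvd_nat (by
    rw [← Subgroup.orderOf_mk z hzO]; exact orderOf_dvd_natCard _)) hz2
  rw [hz, mul_inv_eq_one, mul_inv_eq_iff_eq_mul] at hz1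
  exact hz1

/-- the odd elements centralising one of the three involutions lie in `O` -/
theorem odd_cent (i : ZMod (2 ^ Φ.k)) {M : Subgroup G} (hC : Subgroup.centralizer ({Φ.t} : Set G) ≤ M)
    (hN : M ≤ Subgroup.normalizer ((Φ.U i : Subgroup G) : Set G)) (hf : Fused Φ.t (Φ.refl i) M) {c : G}
    (hc : c = Φ.t ∨ c = Φ.refl i ∨ c = Φ.t * Φ.refl i) {x : G} (hx : Odd (orderOf x)) (hxc : Commute x c) :
    x ∈ Φ.O := by
  obtain ⟨ρ, -, hρt, hρu⟩ := hf
  set t := Φ.t
  set u := Φ.refl i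
  -- if `g` sends `t` to `c`, then `x` commutes with the images of `t` and `u`
  have key : ∀ g : G, g * t * g⁻¹ = c → Commute x (g * t * g⁻¹) ∧ Commute x (g * u * g⁻¹) := by
    intro g hg
    obtain ⟨x', hx'⟩ : ∃ x', x' = g⁻¹ * x * g := ⟨_, rfl⟩
    have hxx : x = g * x' * g⁻¹ := by rw [hx']; group
    have hoo : orderOf x' = orderOf x := by
      rw [hxx]
      exact (orderOf_injective (MulAut.conj g).toMonoidHom (MulAut.conj g).injective x').symm
    have h1 : Commute x' t := (Commute.conj_iff g).1 (by rw [← hxx, hg]; exact hxc)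
    have h2 : Commute x' u := Φ.O_commute i hC hN (Φ.mem_O_of_odd h1 (hoo ▸ hx))
    exact ⟨by rw [hxx]; exact (Commute.conj_iff g).2 h1, by rw [hxx]; exact (Commute.conj_iff g).2 h2⟩
  refine Φ.mem_O_of_odd ?_ hx
  rcases hc with rfl | rfl | rfl
  · exact hxc
  · obtain ⟨h1, h2⟩ := key ρ hρt
    rw [hρt] at h1
    rw [hρu] at h2
    have := h2.mul_right h1
    rwa [mul_assoc, Φ.uu, mul_one] at this
  · have e : ρ * ρ * t * (ρ * ρ)⁻¹ = t * u := by
      rw [show ρ * ρ * t * (ρ * ρ)⁻¹ = ρ * (ρ * t * ρ⁻¹) * ρ⁻¹ by group, hρt, hρu]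
    obtain ⟨-, h2⟩ := key (ρ * ρ) e
    rwa [show ρ * ρ * u * (ρ * ρ)⁻¹ = ρ * (ρ * u * ρ⁻¹) * ρ⁻¹ by group, hρu,
      show ρ * (t * u) * ρ⁻¹ = ρ * t * ρ⁻¹ * (ρ * u * ρ⁻¹) by group, hρt, hρu, ← mul_assoc,
      ← (Φ.commute i).eq, mul_assoc, Φ.uu, mul_one] at h2

end Frame

namespace Minimal

variable (hG : Minimal G)
include hG

/-- proper subgroups through the four group -/
theorem struct_eight (Φ : Frame G) (hk : Φ.k = 2) (i : ZMod (2 ^ Φ.k)) {M : Subgroup G}
    (hC : Subgroup.centralizer ({Φ.t} : Set G) ≤ M)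
    (hN : M ≤ Subgroup.normalizer ((Φ.U i : Subgroup G) : Set G)) (hf : Fused Φ.t (Φ.refl i) M)
    (L : Subgroup G) (hL : L ≠ ⊤) (htL : Φ.t ∈ L) (huL : Φ.refl i ∈ L) :
    ∃ O : Subgroup G, O ≤ L ∧ O ≤ Φ.O ∧ L ≤ Subgroup.normalizer (O : Set G) ∧
      (Φ.O ⊓ L ≤ O ∨ (2520 * Nat.card O ∣ Nat.card L ∧ O.relIndex (Φ.O ⊓ L) = 3)) := by
  classical
  haveI := hG.simple
  haveI : Fact (Nat.Prime 2) := ⟨Nat.prime_two⟩
  haveI : NeZero (2 ^ Φ.k) := ⟨by positivity⟩
  haveI hQn : (Cfsg.oddCore ↥L).Normal := Solv.pPrimeCore_normal 2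
  set Q := (Cfsg.oddCore ↥L).map L.subtype with hQdef
  have hQodd : Odd (Nat.card (Cfsg.oddCore ↥L)) := Nat.coprime_two_right.1 (Fusion.card_pPrimeCore_coprime 2 ↥L)
  have hQcard : Nat.card Q = Nat.card (Cfsg.oddCore ↥L) := Subgroup.card_map_of_injective L.subtype_injective
  have hQL : Q ≤ L := Subgroup.map_subtype_le _
  have hLQ : L ≤ Subgroup.normalizer (Q : Set G) := fun l hl => mem_norm_of_conj fun x hx => by
    obtain ⟨y, hy, rfl⟩ := hx
    exact ⟨⟨l, hl⟩ * y * ⟨l, hl⟩⁻¹, hQn.conj_mem y hy ⟨l, hl⟩, rfl⟩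
  set t := Φ.t
  set u := Φ.refl i
  have hUL : Φ.U i ≤ L := sup_le (Subgroup.zpowers_le.2 htL) (Subgroup.zpowers_le.2 huL)
  have hU2 : ∀ c ∈ Φ.U i, c * c = 1 := fun c hc => by
    rcases (Φ.mem_U_iff i).1 hc with h | h | h | h <;> rw [h]
    · exact one_mul 1
    · exact Φ.tt
    · exact Φ.uu i
    · rw [(Φ.commute i).symm.mul_mul_mul_comm, Φ.tt, Φ.uu, one_mul]
  have hUS : Φ.U i ≤ (Φ.S : Subgroup G) :=
    sup_le (Subgroup.zpowers_le.2 Φ.t_mem) (Subgroup.zpowers_le.2 (Φ.refl_mem i))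
  have hUp : IsPGroup 2 (Φ.U i) := Φ.S.isPGroup'.to_le hUS
  have hUinv : ∀ c : Φ.U i, c⁻¹ = c := fun c => inv_eq_of_mul_eq_one_right (Subtype.ext (hU2 c c.2))
  have hUcomm : IsMulCommutative (Φ.U i) := ⟨⟨fun a b => by
    rw [← hUinv (a * b), mul_inv_rev, hUinv, hUinv]⟩⟩
  -- the core lies in `O`
  have hQO : Q ≤ Φ.O := by
    have hco : (Nat.card (Φ.U i)).Coprime (Nat.card Q) := by
      obtain ⟨n, hn⟩ := IsPGroup.iff_card.1 hUp
      rw [hn, hQcard]
      exact hQodd.coprime_two_left.pow_left n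
    rw [← Solv.gen_eq (Φ.U i) Q hUcomm (hUL.trans hLQ) hco]
    refine iSup₂_le fun B hB x hx => ?_
    obtain ⟨c, hcB, hc1⟩ : ∃ c ∈ B, c ≠ 1 := by
      by_contra h
      push Not at h
      obtain ⟨-, a, ha, he⟩ := hB
      rw [(Subgroup.eq_bot_iff_forall B).2 h, bot_sup_eq] at he
      have hsub : ∀ y ∈ Φ.U i, y = 1 ∨ y = a := by
        intro y hy
        rw [← he] at hy
        obtain ⟨j, rfl⟩ := hy
        rcases Int.even_or_odd' j with ⟨m, rfl | rfl⟩
        · left; show a ^ (2 * m) = 1; rw [zpow_mul, zpow_two, hU2 a ha, one_zpow]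
        · right; show a ^ (2 * m + 1) = a; rw [zpow_add_one, zpow_mul, zpow_two, hU2 a ha, one_zpow, one_mul]
      rcases hsub t ((Φ.mem_U_iff i).2 (Or.inr (Or.inl rfl))) with h1 | h1
      · exact Φ.t_ne h1
      · rcases hsub u ((Φ.mem_U_iff i).2 (Or.inr (Or.inr (Or.inl rfl)))) with h2 | h2
        · exact Φ.refl_ne_one i h2
        · exact Φ.refl_ne i (h2.trans h1.symm)
    have hodd : Odd (orderOf x) := hQodd.of_dvd_nat (hQcard ▸ Subgroup.orderOf_dvd_natCard Q hx.1)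
    refine Φ.odd_cent i hC hN hf ?_ hodd (Subgroup.mem_centralizer_iff.1 hx.2 c hcB).symm
    rcases (Φ.mem_U_iff i).1 (hB.1 hcB) with h | h | h | h
    · exact absurd h hc1
    · exact Or.inl h
    · exact Or.inr (Or.inl h)
    · exact Or.inr (Or.inr h)
  refine ⟨Q, hQL, hQO, hLQ, ?_⟩
  -- the quotient
  set π := QuotientGroup.mk' (Cfsg.oddCore ↥L) with hπ
  set A := (Φ.O.subgroupOf L).map π with hAdef
  let t' : ↥L := ⟨t, htL⟩
  let u' : ↥L := ⟨u, huL⟩
  have hker : ∀ c : ↥L, c * c = 1 → c ≠ 1 → π c ≠ 1 := fun c hc hc1 h => hc1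
    (eq_one_of_sq_odd (hQodd.of_dvd_nat (Subgroup.orderOf_dvd_natCard _ ((QuotientGroup.eq_one_iff c).1 h))) hc)
  have htt : π t' * π t' = 1 := by rw [← map_mul, show t' * t' = 1 from Subtype.ext Φ.tt, map_one]
  have huu : π u' * π u' = 1 := by rw [← map_mul, show u' * u' = 1 from Subtype.ext (Φ.uu i), map_one]
  have ht1 : π t' ≠ 1 := hker t' (Subtype.ext Φ.tt) fun h => Φ.t_ne (congrArg Subtype.val h)
  have hu1 : π u' ≠ 1 := hker u' (Subtype.ext (Φ.uu i)) fun h => Φ.refl_ne_one i (congrArg Subtype.val h)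
  have hne : π t' ≠ π u' := fun h => hker (t' * u')
    (Subtype.ext (hU2 _ ((Φ.mem_U_iff i).2 (Or.inr (Or.inr (Or.inr rfl))))))
    (fun e => Φ.refl_ne i ((eq_inv_of_mul_eq_one_right (show t * u = 1 from congrArg Subtype.val e)).trans
      (inv_eq_of_mul_eq_one_right Φ.tt))) (by rw [map_mul, h, huu])
  have hAt : ∀ x ∈ A, Commute x (π t') := by
    rintro _ ⟨y, hy, rfl⟩
    exact Commute.map (Subtype.ext (Subgroup.mem_centralizer_singleton_iff.1 (Φ.O_le hy)) : Commute y t') π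
  have hAodd : Odd (Nat.card A) :=
    Φ.O_odd.of_dvd_nat (((Φ.O.subgroupOf L).card_map_dvd π).trans (Subgroup.card_comap_dvd_of_injective Φ.O L.subtype
      L.subtype_injective))
  have hodd : ∀ c, c = π t' ∨ c = π u' ∨ c = π t' * π u' → ∀ x : ↥L ⧸ Cfsg.oddCore ↥L, Odd (orderOf x) →
      Commute x c → Commute x (π t') ∧ Commute x (π u') := by
    intro c hc x hx hxc
    obtain ⟨c', hc', rfl⟩ : ∃ c' : ↥L, ((c' : G) = t ∨ (c' : G) = u ∨ (c' : G) = t * u) ∧ c = π c' := by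
      rcases hc with rfl | rfl | rfl
      · exact ⟨t', Or.inl rfl, rfl⟩
      · exact ⟨u', Or.inr (Or.inl rfl), rfl⟩
      · exact ⟨t' * u', Or.inr (Or.inr rfl), (map_mul π _ _).symm⟩
    have hc2 : c' * c' = 1 := Subtype.ext (hU2 _ ((Φ.mem_U_iff i).2 (Or.inr hc')))
    obtain ⟨y, hy, hyc, rfl⟩ := odd_lift _ hQodd hc2 hx hxc
    have hyO : (y : G) ∈ Φ.O := Φ.odd_cent i hC hN hf hc' (by rwa [Subgroup.orderOf_coe])
      (hyc.map L.subtype)
    exact ⟨Commute.map (Subtype.ext (Subgroup.mem_centralizer_singleton_iff.1 (Φ.O_le hyO)) : Commute y t') π,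
      Commute.map (Subtype.ext (Φ.O_commute i hC hN hyO).eq : Commute y u') π⟩
  -- a Sylow subgroup of the quotient
  obtain ⟨T, hT⟩ := ((hUp.comap_of_injective L.subtype L.subtype_injective).map π).exists_le_sylow
  have htT : π t' ∈ (T : Subgroup (↥L ⧸ Cfsg.oddCore ↥L)) :=
    hT ⟨t', (Φ.mem_U_iff i).2 (Or.inr (Or.inl rfl)), rfl⟩
  have huT : π u' ∈ (T : Subgroup (↥L ⧸ Cfsg.oddCore ↥L)) :=
    hT ⟨u', (Φ.mem_U_iff i).2 (Or.inr (Or.inr (Or.inl rfl))), rfl⟩
  obtain ⟨n, hn, ⟨e⟩⟩ : ∃ n, 2 ≤ n ∧ Nonempty ((T : Subgroup (↥L ⧸ Cfsg.oddCore ↥L)) ≃* DihedralGroup n) := by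
    rcases section_sylow Φ.S Φ.ι.symm π (QuotientGroup.mk'_surjective _) T with h | h
    · exfalso
      haveI := h
      letI : Fintype (T : Subgroup (↥L ⧸ Cfsg.oddCore ↥L)) := Fintype.ofFinite _
      have hle := IsCyclic.card_pow_eq_one_le (α := (T : Subgroup (↥L ⧸ Cfsg.oddCore ↥L))) (n := 2) two_pos
      let S3 : Finset (T : Subgroup (↥L ⧸ Cfsg.oddCore ↥L)) := {1, ⟨π t', htT⟩, ⟨π u', huT⟩}
      have h3 : S3.card = 3 := Finset.card_eq_three.2 ⟨1, ⟨π t', htT⟩, ⟨π u', huT⟩,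
        fun e => ht1 (congrArg Subtype.val e).symm, fun e => hu1 (congrArg Subtype.val e).symm,
        fun e => hne (congrArg Subtype.val e), rfl⟩
      have hsub : S3 ⊆ Finset.univ.filter fun a => a ^ 2 = 1 := by
        intro y hy
        simp only [S3, Finset.mem_insert, Finset.mem_singleton] at hy
        refine Finset.mem_filter.2 ⟨Finset.mem_univ _, ?_⟩
        rcases hy with rfl | rfl | rfl
        · exact one_pow 2
        · exact Subtype.ext (by rw [pow_two]; exact htt)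
        · exact Subtype.ext (by rw [pow_two]; exact huu)
      have := (Finset.card_le_card hsub).trans hle
      omega
    · exact h
  have hO1 : Cfsg.oddCore (↥L ⧸ Cfsg.oddCore ↥L) = ⊥ := Fusion.pPrimeCore_quotient_eq_bot
  have hXdvd : Nat.card (↥L ⧸ Cfsg.oddCore ↥L) ∣ Nat.card G :=
    (Cfsg.oddCore ↥L).card_quotient_dvd_card.trans L.card_subgroup_dvd_card
  have h16 : ¬ 16 ∣ Nat.card (↥L ⧸ Cfsg.oddCore ↥L) := fun h => by
    obtain ⟨m, hm⟩ := h.trans hXdvd
    have h1 := (Φ.S : Subgroup G).card_mul_index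
    have h2 := Φ.S.not_dvd_index
    rw [Nat.card_congr Φ.ι.symm.toEquiv, DihedralGroup.nat_card, hk, hm] at h1
    omega
  have hA : A = ⊥ ∨ (2520 ∣ Nat.card (↥L ⧸ Cfsg.oddCore ↥L) ∧ Nat.card A = 3) := by
    by_cases hs : Group.IsSolvable (↥L ⧸ Cfsg.oddCore ↥L)
    · left
      refine (Subgroup.eq_bot_iff_forall A).2 fun x hx => ?_
      have hxo : Odd (orderOf x) := hAodd.of_dvd_nat (Subgroup.orderOf_dvd_natCard A hx)
      rcases solvable_cases hs hO1 T e with h | ⟨V, hV, hK, hVC⟩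
      · obtain ⟨m, hm⟩ := IsPGroup.iff_orderOf.1 h x
        exact orderOf_eq_one_iff.1 (Nat.eq_one_of_dvd_coprimes (hm ▸ hxo.coprime_two_left.pow_left m) dvd_rfl dvd_rfl)
      · exact solvable_four hV hK hVC htt ht1 hxo (hAt x hx)
    · have hlt : Nat.card L < Nat.card G :=
        lt_of_le_of_ne L.card_le_card_group fun h => hL (Subgroup.card_eq_iff_eq_top L |>.1 h)
      obtain ⟨K, hKn, hmod, hKC⟩ := nonsolvable_model_of (fun K _ SK j hj hd => hG.below K SK j
        (lt_of_le_of_lt (K.card_le_card_group.trans (Nat.card_le_card_of_surjective _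
          (QuotientGroup.mk'_surjective _))) hlt) hj hd) hO1 T hn e hs
      haveI := hKn
      exact almost_four hmod hKC h16 htt huu
        (Commute.map (Subtype.ext (Φ.commute i).eq : Commute t' u') π) ht1 hu1 hne hodd hAodd hAt
  rcases hA with h | ⟨h1, h3⟩
  · left
    intro x hx
    have : π ⟨x, hx.2⟩ ∈ A := ⟨⟨x, hx.2⟩, hx.1, rfl⟩
    rw [h, Subgroup.mem_bot] at this
    exact ⟨⟨x, hx.2⟩, (QuotientGroup.eq_one_iff _).1 this, rfl⟩
  · right
    refine ⟨?_, ?_⟩
    · rw [hQcard, Subgroup.card_eq_card_quotient_mul_card_subgroup (Cfsg.oddCore ↥L)]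
      exact Nat.mul_dvd_mul_right h1 _
    · rw [hQdef, ← Subgroup.subgroupOf_map_subtype, Subgroup.relIndex_map_map_of_injective _ _ L.subtype_injective]
      rwa [← QuotientGroup.ker_mk' (Cfsg.oddCore ↥L), Subgroup.relIndex_ker]

/-- `|S| = 8`: no maximal subgroup over `C(t)` normalises and fuses a four group. -/
theorem eight_four (Φ : Frame G) (hk : Φ.k = 2) (i : ZMod (2 ^ Φ.k)) (M : Subgroup G) (hM : IsCoatom M)
    (hC : Subgroup.centralizer ({Φ.t} : Set G) ≤ M)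
    (hN : M ≤ Subgroup.normalizer ((Φ.U i : Subgroup G) : Set G)) (hf : Fused Φ.t (Φ.refl i) M) : False := by
  haveI := hG.simple
  haveI : Fact (Nat.Prime 2) := ⟨Nat.prime_two⟩
  haveI : NeZero (2 ^ Φ.k) := ⟨by positivity⟩
  have h4 : (4 : ZMod (2 ^ Φ.k)) = 0 := by
    have h : ((4 : ℕ) : ZMod (2 ^ Φ.k)) = 0 := (ZMod.natCast_eq_zero_iff _ _).2 (by rw [hk]; norm_num)
    exact_mod_cast h
  have hhalf : ((2 ^ Φ.k / 2 : ℕ) : ZMod (2 ^ Φ.k)) = 2 := by
    rw [show 2 ^ Φ.k / 2 = 2 by rw [hk]; norm_num]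
    norm_num
  set s := Φ.refl (i + 1) with hs
  have hsu : s * Φ.refl i * s⁻¹ = Φ.t * Φ.refl i := by
    rw [inv_self (Φ.uu (i + 1)), hs, ← Frame.hom_sr, ← Frame.hom_sr, ← Frame.hom_half, ← map_mul, ← map_mul,
      ← map_mul, sr_mul_sr, r_mul_sr, r_mul_sr, hhalf]
    congr 2
    linear_combination h4
  have hSgen : Subgroup.closure ({Φ.refl i * s, Φ.refl i} : Set G) = (Φ.S : Subgroup G) := by
    refine le_antisymm ((Subgroup.closure_le _).2 ?_) ?_
    · rintro x (rfl | rfl)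
      · exact mul_mem (Φ.refl_mem i) (Φ.refl_mem _)
      · exact Φ.refl_mem i
    · intro x hx
      rw [← Φ.hom_range] at hx
      obtain ⟨d, rfl⟩ := hx
      have h1 : Φ.hom (r 1) ∈ Subgroup.closure ({Φ.refl i * s, Φ.refl i} : Set G) := by
        have e : Φ.refl i * s = Φ.hom (r 1) := by
          rw [hs, ← Frame.hom_sr, ← Frame.hom_sr, ← map_mul, sr_mul_sr]
          congr 2
          ring
        rw [← e]
        exact Subgroup.subset_closure (Or.inl rfl)
      have h2 : Φ.hom (sr i) ∈ Subgroup.closure ({Φ.refl i * s, Φ.refl i} : Set G) :=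
        Subgroup.subset_closure (Or.inr rfl)
      rcases d with j | j
      · rw [← ZMod.natCast_rightInverse j, ← DihedralGroup.r_one_pow, map_pow]
        exact pow_mem h1 _
      · rw [show (sr j : DihedralGroup (2 ^ Φ.k)) = sr i * r 1 ^ (j - i).val by
          rw [DihedralGroup.r_one_pow, DihedralGroup.sr_mul_r, ZMod.natCast_rightInverse, add_sub_cancel], map_mul,
          map_pow]
        exact mul_mem h2 (pow_mem h1 _)
  refine hG.notModel (FourCtx.isModel (t := Φ.t) (u := Φ.refl i) (s := s) (M := M) (E := Φ.O)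
    { tt := Φ.tt
      t_ne := Φ.t_ne
      uu := Φ.uu i
      u_ne := Φ.refl_ne_one i
      ut_ne := Φ.refl_ne i
      tu := Φ.commute i
      ss := Φ.uu _
      st := (Φ.commute _).symm
      su := hsu
      cent_le := hC
      normU := ?_
      rot := by obtain ⟨ρ, hρ, h, -⟩ := hf; exact ⟨ρ, hρ, h⟩
      E_odd := Φ.O_odd
      E_t := fun e he => Subgroup.mem_centralizer_singleton_iff.1 (Φ.O_le he)
      E_u := fun e he => Φ.O_commute i hC hN he
      cu := ?_
      one_class := fun a ha ha1 => hG.oneClass _ _ Φ.t_order (orderOf_eq_prime (by rw [pow_two, ha]) ha1)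
      nc := hG.nonab
      coatom := hM
      sylow := ⟨Φ.S, ?_, hSgen⟩
      struct := fun L hL ht hu => hG.struct_eight Φ hk i hC hN hf L hL ht hu })
  · intro m hm a ha
    have haU : a ∈ Φ.U i := (Φ.mem_U_iff i).2 (Or.inr ha)
    rcases (Φ.mem_U_iff i).1 ((Subgroup.mem_normalizer_iff.1 (hN hm) a).1 haU) with h | h
    · exfalso
      rw [conj_eq_one_iff.1 h] at ha
      rcases ha with h' | h' | h'
      · exact Φ.t_ne h'.symm
      · exact Φ.refl_ne_one i h'.symm
      · exact Φ.refl_ne i ((eq_inv_of_mul_eq_one_right h'.symm).trans (inv_eq_of_mul_eq_one_right Φ.tt))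
    · exact h
  · intro g hgt hgu
    have hg : g ∈ Subgroup.centralizer ({Φ.t} : Set G) := Subgroup.mem_centralizer_singleton_iff.2 hgt.eq
    have hn : (Φ.S : Subgroup G) ≤ Subgroup.normalizer (Φ.O : Set G) := fun x hx =>
      mem_norm_of_conj (Φ.O_norm x (Φ.S_le hx))
    rw [← Φ.O_sup, ← SetLike.mem_coe,
      Subgroup.coe_mul_of_right_le_normalizer_left Φ.O (Φ.S : Subgroup G) hn] at hg
    obtain ⟨y, hy, x, hx, rfl⟩ := hg
    have hxu : Commute x (Φ.refl i) := by
      have := (Φ.O_commute i hC hN hy).inv_left.mul_left hgu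
      simpa using this
    have hxU : x ∈ Φ.U i := by
      rw [← Φ.hom_range] at hx
      obtain ⟨d, rfl⟩ := hx
      rw [Φ.mem_U_iff]
      rcases (Fusion.DihedralFours.mem_four Φ.two_dvd i d).1
        (Subgroup.mem_centralizer_singleton_iff.2 (Φ.hom_inj (by
          rw [map_mul, map_mul]; exact hxu.eq))) with rfl | rfl | rfl | rfl
      · exact Or.inl (map_one _)
      · exact Or.inr (Or.inl rfl)
      · exact Or.inr (Or.inr (Or.inl rfl))
      · refine Or.inr (Or.inr (Or.inr ?_))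
        show Φ.hom _ = Φ.hom _ * Φ.hom _
        rw [← map_mul, r_mul_sr, sub_eq_add_neg, ← eq_neg_of_add_eq_zero_left Φ.half_add]
    refine ⟨x, (Φ.mem_U_iff i).1 hxU, y, hy, ?_⟩
    have hyt : Commute y Φ.t := Subgroup.mem_centralizer_singleton_iff.1 (Φ.O_le hy)
    rcases (Φ.mem_U_iff i).1 hxU with h | h | h | h <;> rw [h]
    · simp
    · exact hyt.eq
    · exact (Φ.O_commute i hC hN hy).eq
    · exact (hyt.mul_right (Φ.O_commute i hC hN hy)).eq
  · rw [Nat.card_congr Φ.ι.symm.toEquiv, DihedralGroup.nat_card, hk]; norm_num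

end Minimal

end Cfsg.Agent.GW
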