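import Cfsg.Agent.Lib.GW.ProperStructure
import Cfsg.Agent.S0514

/-!
# The minimal counterexample: the central involution, `C(t) = O S`, the fusing elements
-/

set_option autoImplicit false
set_option linter.style.haveILetI false
set_option linter.unusedSectionVars false

namespace Cfsg.Agent.GW

open Cfsg Cfsg.Agent DihedralGroup

universe u

variable {G : Type u} [Group G] [Finite G]

/-- A dihedral coordinate system of a Sylow subgroup with its central involution. -/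
structure Frame (G : Type u) [Group G] [Finite G] where
  S : Sylow 2 G
  k : ℕ
  hk : 1 ≤ k
  ι : DihedralGroup (2 ^ k) ≃* (S : Subgroup G)

namespace Frame

variable (Φ : Frame G)

/-- The central involution. -/
def t : G := Φ.ι (r ((2 ^ Φ.k / 2 : ℕ) : ZMod (2 ^ Φ.k)))

/-- The reflections. -/
def refl (i : ZMod (2 ^ Φ.k)) : G := Φ.ι (sr i)

/-- The homomorphism into `G`. -/
def hom : DihedralGroup (2 ^ Φ.k) →* G := (Φ.S : Subgroup G).subtype.comp Φ.ι.toMonoidHom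

theorem hom_inj : Function.Injective Φ.hom := (Φ.S : Subgroup G).subtype_injective.comp Φ.ι.injective

theorem hom_range : Φ.hom.range = (Φ.S : Subgroup G) := by
  ext x
  exact ⟨fun ⟨d, hd⟩ => hd ▸ (Φ.ι d).2, fun hx => ⟨Φ.ι.symm ⟨x, hx⟩, by simp [hom]⟩⟩

theorem hom_half : Φ.hom (r ((2 ^ Φ.k / 2 : ℕ) : ZMod (2 ^ Φ.k))) = Φ.t := rfl

theorem hom_sr (i : ZMod (2 ^ Φ.k)) : Φ.hom (sr i) = Φ.refl i := rfl

theorem two_dvd : 2 ∣ 2 ^ Φ.k := dvd_pow_self 2 (by have := Φ.hk; omega)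

theorem half_add : ((2 ^ Φ.k / 2 : ℕ) : ZMod (2 ^ Φ.k)) + ((2 ^ Φ.k / 2 : ℕ) : ZMod (2 ^ Φ.k)) = 0 := by
  rw [← Nat.cast_add, show 2 ^ Φ.k / 2 + 2 ^ Φ.k / 2 = 2 ^ Φ.k by have := Φ.two_dvd; omega, ZMod.natCast_self]

theorem t_mem : Φ.t ∈ (Φ.S : Subgroup G) := Subtype.coe_prop _

theorem refl_mem (i : ZMod (2 ^ Φ.k)) : Φ.refl i ∈ (Φ.S : Subgroup G) := Subtype.coe_prop _

theorem t_central : ∀ s ∈ (Φ.S : Subgroup G), s * Φ.t = Φ.t * s := by
  intro s hs
  rw [← Φ.hom_range] at hs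
  obtain ⟨d, rfl⟩ := hs
  rw [← hom_half, ← map_mul, ← map_mul, Fusion.DihedralFours.center_r_half Φ.two_dvd]

theorem t_order : orderOf Φ.t = 2 := by
  haveI : NeZero (2 ^ Φ.k) := ⟨by positivity⟩
  rw [← hom_half, orderOf_injective _ Φ.hom_inj]
  exact orderOf_eq_prime (by rw [pow_two, r_mul_r, Φ.half_add, DihedralGroup.one_def])
    fun h => Fusion.DihedralFours.half_ne_zero Φ.two_dvd (DihedralGroup.r.inj (h.trans DihedralGroup.one_def))

theorem refl_order (i : ZMod (2 ^ Φ.k)) : orderOf (Φ.refl i) = 2 := by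
  rw [← hom_sr, orderOf_injective _ Φ.hom_inj, orderOf_sr]

theorem refl_ne (i : ZMod (2 ^ Φ.k)) : Φ.refl i ≠ Φ.t := fun h => by
  have := Φ.hom_inj (show Φ.hom (sr i) = Φ.hom _ from h)
  cases this

theorem tt : Φ.t * Φ.t = 1 := by rw [← pow_two, ← Φ.t_order, pow_orderOf_eq_one]

theorem uu (i : ZMod (2 ^ Φ.k)) : Φ.refl i * Φ.refl i = 1 := by rw [← pow_two, ← Φ.refl_order i, pow_orderOf_eq_one]

theorem t_ne : Φ.t ≠ 1 := fun h => by have := Φ.t_order; rw [h, orderOf_one] at this; omega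

theorem refl_ne_one (i : ZMod (2 ^ Φ.k)) : Φ.refl i ≠ 1 := fun h => by
  have := Φ.refl_order i; rw [h, orderOf_one] at this; omega

theorem commute (i : ZMod (2 ^ Φ.k)) : Commute Φ.t (Φ.refl i) := (Φ.t_central _ (Φ.refl_mem i)).symm

/-- The odd core of the centraliser. -/
def O : Subgroup G :=
  (Cfsg.oddCore (Subgroup.centralizer ({Φ.t} : Set G))).map (Subgroup.centralizer ({Φ.t} : Set G)).subtype

theorem O_le : Φ.O ≤ Subgroup.centralizer ({Φ.t} : Set G) := Subgroup.map_subtype_le _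

theorem S_le : (Φ.S : Subgroup G) ≤ Subgroup.centralizer ({Φ.t} : Set G) := fun s hs =>
  Subgroup.mem_centralizer_singleton_iff.2 (Φ.t_central s hs)

theorem O_odd : Odd (Nat.card Φ.O) := by
  rw [O, Subgroup.card_map_of_injective (Subgroup.centralizer ({Φ.t} : Set G)).subtype_injective]
  exact Nat.coprime_two_right.1 (Fusion.card_pPrimeCore_coprime 2 _)

theorem O_norm : ∀ c ∈ Subgroup.centralizer ({Φ.t} : Set G), ∀ y ∈ Φ.O, c * y * c⁻¹ ∈ Φ.O := by
  rintro c hc _ ⟨y, hy, rfl⟩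
  haveI : (Cfsg.oddCore (Subgroup.centralizer ({Φ.t} : Set G))).Characteristic := Fusion.pPrimeCore_characteristic
  exact ⟨⟨c, hc⟩ * y * ⟨c, hc⟩⁻¹, (inferInstance : (Cfsg.oddCore _).Normal).conj_mem y hy ⟨c, hc⟩, rfl⟩

theorem O_sup : Φ.O ⊔ (Φ.S : Subgroup G) = Subgroup.centralizer ({Φ.t} : Set G) := by
  haveI : Fact (Nat.Prime 2) := ⟨Nat.prime_two⟩
  haveI : NeZero (2 ^ Φ.k) := ⟨by positivity⟩
  set C := Subgroup.centralizer ({Φ.t} : Set G)
  refine le_antisymm (sup_le Φ.O_le Φ.S_le) ?_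
  obtain ⟨N, hNn, hNodd, j, hj⟩ :=
    S0514.result Φ.S (2 ^ Φ.k) (by simpa using Nat.pow_le_pow_right two_pos Φ.hk) ⟨Φ.ι.symm⟩ Φ.t Φ.t_order
  have hNO : N ≤ Cfsg.oddCore C := Fusion.le_pPrimeCore (Nat.coprime_two_right.2 hNodd)
  have htop : Cfsg.oddCore C ⊔ ((Φ.S : Subgroup G)).subgroupOf C = ⊤ := by
    rw [← Subgroup.index_eq_one]
    refine Nat.eq_one_of_dvd_coprimes (a := 2 ^ j) (b := ((Φ.S : Subgroup G).subgroupOf C).index) ?_ ?_
      (Subgroup.index_dvd_of_le le_sup_right)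
    · exact Nat.Coprime.pow_left j ((Nat.prime_two.coprime_iff_not_dvd).2 fun h =>
        Φ.S.not_dvd_index (h.trans (Subgroup.relIndex_dvd_index_of_le Φ.S_le)))
    · rw [← hj]
      exact Subgroup.index_dvd_of_le (hNO.trans le_sup_left)
  intro c hc
  obtain ⟨a, ha, b, hb, e⟩ := Subgroup.mem_sup_of_normal_left.1 (htop ▸ Subgroup.mem_top (⟨c, hc⟩ : C))
  rw [show c = (a : G) * (b : G) from congrArg Subtype.val e.symm]
  exact Subgroup.mul_mem_sup ⟨a, ha, rfl⟩ (Subgroup.mem_subgroupOf.1 hb)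

end Frame

namespace Minimal

variable (hG : Minimal G)
include hG

theorem exists_frame : Nonempty (Frame G) := by
  obtain ⟨S, n, hn, ⟨e⟩⟩ := hG.sylow
  obtain ⟨k, hk, rfl⟩ := dihedral_pow S hn e
  exact ⟨⟨S, k, hk, e.symm⟩⟩

/-- Each four group `⟨t, u⟩` has a fusing element of order three on it. -/
theorem exists_rho (Φ : Frame G) (i : ZMod (2 ^ Φ.k)) :
    ∃ ρ : G, ρ * Φ.t * ρ⁻¹ = Φ.refl i ∧ ρ * Φ.refl i * ρ⁻¹ = Φ.t * Φ.refl i := by
  haveI : Fact (Nat.Prime 2) := ⟨Nat.prime_two⟩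
  haveI : NeZero (2 ^ Φ.k) := ⟨by positivity⟩
  set t := Φ.t
  set u := Φ.refl i
  -- `U`: the four elements
  have hUfour : ∀ d : DihedralGroup (2 ^ Φ.k), d ∈ Fusion.DihedralFours.four (2 ^ Φ.k) i →
      Φ.hom d = 1 ∨ Φ.hom d = t ∨ Φ.hom d = u ∨ Φ.hom d = t * u := by
    intro d hd
    rcases (Fusion.DihedralFours.mem_four Φ.two_dvd i d).1 hd with rfl | rfl | rfl | rfl
    · exact Or.inl (map_one _)
    · exact Or.inr (Or.inl rfl)
    · exact Or.inr (Or.inr (Or.inl rfl))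
    · refine Or.inr (Or.inr (Or.inr ?_))
      show Φ.hom _ = Φ.hom _ * Φ.hom _
      rw [← map_mul, r_mul_sr, sub_eq_add_neg, ← eq_neg_of_add_eq_zero_left Φ.half_add]
  by_cases hk : Φ.k = 1
  · -- the four group is the Sylow subgroup
    have hS4 : Nat.card (Φ.S : Subgroup G) = 4 := by
      rw [Nat.card_congr Φ.ι.symm.toEquiv, DihedralGroup.nat_card, hk]; norm_num
    haveI : IsMulCommutative (Φ.S : Subgroup G) :=
      IsPGroup.isMulCommutative_of_card_eq_prime_sq (p := 2) (by rw [hS4]; norm_num)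
    obtain ⟨g, hg⟩ := isConj_iff.1 (hG.oneClass t u Φ.t_order (Φ.refl_order i))
    obtain ⟨n, hn, hne⟩ := Φ.S.conj_eq_normalizer_conj_of_mem t g⁻¹ Φ.t_mem
      (by rw [inv_inv, hg]; exact Φ.refl_mem i)
    rw [inv_inv, hg] at hne
    refine ⟨n⁻¹, by rw [inv_inv]; exact hne.symm, ?_⟩
    set ρ := n⁻¹
    have hρn : ρ ∈ Subgroup.normalizer ((Φ.S : Subgroup G) : Set G) := inv_mem hn
    have hρt : ρ * t * ρ⁻¹ = u := by simp only [ρ, inv_inv]; exact hne.symm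
    have hmem : ρ * u * ρ⁻¹ ∈ (Φ.S : Subgroup G) := (Subgroup.mem_normalizer_iff.1 hρn _).1 (Φ.refl_mem i)
    have hcases : ∀ x ∈ (Φ.S : Subgroup G), x = 1 ∨ x = t ∨ x = u ∨ x = t * u := by
      intro x hx
      rw [← Φ.hom_range] at hx
      obtain ⟨d, rfl⟩ := hx
      refine hUfour d ?_
      refine Subgroup.mem_centralizer_singleton_iff.2 (Φ.ι.injective ?_)
      rw [map_mul, map_mul]
      exact (inferInstance : IsMulCommutative (Φ.S : Subgroup G)).is_comm.comm _ _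
    rcases hcases _ hmem with h | h | h | h
    · exact absurd (conj_eq_one_iff.1 h) (Φ.refl_ne_one i)
    · -- the transposition is impossible
      exfalso
      obtain ⟨m, hmodd, a, ha⟩ : ∃ m : ℕ, Odd m ∧ ∃ a : ℕ, orderOf ρ = 2 ^ a * m :=
        ⟨orderOf ρ / 2 ^ (orderOf ρ).factorization 2,
          Nat.odd_iff.2 (Nat.two_dvd_ne_zero.1 (Nat.not_dvd_ordCompl Nat.prime_two (orderOf_pos ρ).ne')),
          (orderOf ρ).factorization 2, (Nat.ordProj_mul_ordCompl_eq_self _ 2).symm⟩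
      have hy : IsPGroup 2 (Subgroup.zpowers (ρ ^ m)) := by
        obtain ⟨j, -, hj⟩ := (Nat.dvd_prime_pow Nat.prime_two).1 (orderOf_dvd_of_pow_eq_one
          (show (ρ ^ m) ^ 2 ^ a = 1 by rw [← pow_mul, mul_comm, ← ha, pow_orderOf_eq_one]))
        exact IsPGroup.of_card (n := j) (by rw [Nat.card_zpowers, hj])
      have hle := hy.to_sup_of_normal_right' Φ.S.isPGroup' (Subgroup.zpowers_le.2 (pow_mem hρn m))
      have heq := Φ.S.is_maximal' hle le_sup_right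
      have hyS : ρ ^ m ∈ (Φ.S : Subgroup G) :=
        heq ▸ Subgroup.mem_sup_left (Subgroup.mem_zpowers (ρ ^ m))
      have hc : ρ ^ m * t * (ρ ^ m)⁻¹ = t := by rw [Φ.t_central _ hyS, mul_inv_cancel_right]
      obtain ⟨j, rfl⟩ := hmodd
      have h2 : ∀ j : ℕ, ρ ^ (2 * j) * t * (ρ ^ (2 * j))⁻¹ = t := by
        intro j
        induction j with
        | zero => simp
        | succ j ih =>
          rw [show 2 * (j + 1) = 1 + (1 + 2 * j) by omega, pow_add, pow_add, pow_one]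
          calc ρ * (ρ * ρ ^ (2 * j)) * t * (ρ * (ρ * ρ ^ (2 * j)))⁻¹
              = ρ * (ρ * (ρ ^ (2 * j) * t * (ρ ^ (2 * j))⁻¹) * ρ⁻¹) * ρ⁻¹ := by group
            _ = t := by rw [ih, hρt, h]
      rw [show 2 * j + 1 = 1 + 2 * j by omega, pow_add, pow_one] at hc
      refine Φ.refl_ne i (show u = t from ?_)
      calc u = ρ * t * ρ⁻¹ := hρt.symm
        _ = ρ * (ρ ^ (2 * j) * t * (ρ ^ (2 * j))⁻¹) * ρ⁻¹ := by rw [h2]
        _ = ρ * ρ ^ (2 * j) * t * (ρ * ρ ^ (2 * j))⁻¹ := by group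
        _ = t := hc
    · exact absurd (mul_left_cancel (mul_right_cancel (h.trans hρt.symm))) (Φ.refl_ne i)
    · exact h
  · have h4 : (2 : ℕ) ^ Φ.k = 4 * 2 ^ (Φ.k - 2) := by
      have := Φ.hk
      rw [show (4 : ℕ) = 2 ^ 2 by norm_num, ← pow_add]
      congr 1
      omega
    obtain ⟨g, hg⟩ := isConj_iff.1 (hG.oneClass u t (Φ.refl_order i) Φ.t_order)
    obtain ⟨n, hn, hne⟩ := Fusion.DihedralFours.exists_normalizer_moving Φ.S h4 Φ.hom Φ.hom_inj Φ.hom_range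
      (i := i) (g := g) (by rw [Frame.hom_half, Frame.hom_sr]; exact hg)
    rw [Frame.hom_half, Frame.hom_sr] at hne
    have hn' : n⁻¹ * t * n = u := by rw [show t = n * u * n⁻¹ from hne.symm]; group
    have hmem : n⁻¹ * u * n ∈ (Fusion.DihedralFours.four (2 ^ Φ.k) i).map Φ.hom := by
      have := (Subgroup.mem_normalizer_iff.1 (inv_mem hn) u).1
        ⟨sr i, (Fusion.DihedralFours.mem_four Φ.two_dvd i _).2 (Or.inr (Or.inr (Or.inl rfl))), rfl⟩
      simpa using this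
    obtain ⟨d, hd, hde⟩ := hmem
    rcases hUfour d hd with h | h | h | h <;> rw [hde] at h
    · exact absurd (conj_eq_one_iff.1 (show n⁻¹ * u * n⁻¹⁻¹ = 1 by rw [inv_inv]; exact h)) (Φ.refl_ne_one i)
    · -- compose with the swap of `u` and `t u`
      set w := Φ.hom (r ((2 ^ (Φ.k - 2) : ℕ) : ZMod (2 ^ Φ.k))) with hw
      have hwt : w * t * w⁻¹ = t := by
        rw [Φ.t_central w (by rw [← Φ.hom_range]; exact ⟨_, rfl⟩), mul_inv_cancel_right]
      have hwu : w * u * w⁻¹ = t * u := by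
        show Φ.hom _ * Φ.hom _ * (Φ.hom _)⁻¹ = Φ.hom _ * Φ.hom _
        rw [← map_inv, ← map_mul, ← map_mul, ← map_mul, inv_r, r_mul_sr, sr_mul_r, r_mul_sr,
          show (2 ^ Φ.k / 2 : ℕ) = 2 ^ (Φ.k - 2) + 2 ^ (Φ.k - 2) by omega, Nat.cast_add]
        congr 2
        ring
      refine ⟨n⁻¹ * w, ?_, ?_⟩
      · rw [show n⁻¹ * w * t * (n⁻¹ * w)⁻¹ = n⁻¹ * (w * t * w⁻¹) * n by group, hwt, hn']
      · rw [show n⁻¹ * w * u * (n⁻¹ * w)⁻¹ = n⁻¹ * (w * u * w⁻¹) * n by group, hwu,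
          show n⁻¹ * (t * u) * n = (n⁻¹ * t * n) * (n⁻¹ * u * n) by group, hn', h]
        exact ((Φ.commute i).symm.eq)
    · exact absurd (mul_left_cancel (mul_right_cancel (h.trans hn'.symm))) (Φ.refl_ne i)
    · exact ⟨n⁻¹, by rw [inv_inv, hn'], by rw [inv_inv, h]⟩

end Minimal

end Cfsg.Agent.GW
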