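import Cfsg.Agent.Lib.GW.LayerFacts
import Cfsg.Agent.Lib.GW.Centralizer
import Cfsg.Agent.Lib.GW.ProperStructure

/-!
# The layer of a maximal subgroup meets the four groups

`layer_meet` is the field `meet` of the external facts.
-/

set_option autoImplicit false
set_option linter.style.haveILetI false
set_option linter.unusedSectionVars false

namespace Cfsg.Agent.GW

open Cfsg Cfsg.Agent Cfsg.Agent.GW.Reduced DihedralGroup
open scoped commutatorElement

universe u

/-- A noncyclic normal subgroup of a dihedral group has index at most two. -/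
theorem dihedral_normal_index {m : ℕ} [NeZero m] (T : Subgroup (DihedralGroup m)) [hT : T.Normal] (hc : ¬ IsCyclic T) :
    ∀ a b : DihedralGroup m, a ∉ T → b ∉ T → a * b ∈ T := by
  obtain ⟨j, hj⟩ : ∃ j, sr j ∈ T := by
    by_contra hno
    push Not at hno
    refine hc ?_
    have hle : T ≤ Subgroup.zpowers (r 1 : DihedralGroup m) := fun x hx => by
      rcases x with i | i
      · exact ⟨(i.val : ℤ), by simp [r_one_pow]⟩
      · exact absurd hx (hno i)
    exact isCyclic_of_injective (Subgroup.inclusion hle) (Subgroup.inclusion_injective hle)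
  have h2 : r 2 ∈ T := by
    have h1 := T.mul_mem (hT.conj_mem _ hj (r 1)) hj
    rwa [inv_r, r_mul_sr, sr_mul_r, sr_mul_sr, show j - (j - 1 + -1) = (2 : ZMod m) by ring] at h1
  have hev : ∀ i : ℕ, r ((2 * i : ℕ) : ZMod m) ∈ T := fun i => by
    have := T.pow_mem h2 i
    rwa [show (r (2 : ZMod m) : DihedralGroup m) = r 1 ^ 2 by rw [r_one_pow]; norm_num, ← pow_mul, r_one_pow] at this
  -- every element outside `T` is congruent to `r 1`
  have key : ∀ x : DihedralGroup m, x ∉ T → x * (r 1)⁻¹ ∈ T := by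
    intro x hx
    have hr : ∀ i : ZMod m, r i ∈ T ∨ r i * (r 1)⁻¹ ∈ T := fun i => by
      rcases Nat.even_or_odd' i.val with ⟨c, hc | hc⟩
      · left; rw [← ZMod.natCast_rightInverse i, hc]; exact hev c
      · right
        rw [← ZMod.natCast_rightInverse i, hc, inv_r, r_mul_r, Nat.cast_add, Nat.cast_one, add_neg_cancel_right]
        exact hev c
    rcases x with i | i
    · exact (hr i).resolve_left hx
    · have e : (sr i : DihedralGroup m) = sr j * r (i - j) := by rw [sr_mul_r, add_sub_cancel]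
      rcases hr (i - j) with h | h
      · exact absurd (e ▸ T.mul_mem hj h) hx
      · rw [e, mul_assoc]; exact T.mul_mem hj h
  intro a b ha hb
  by_cases h11 : (r 1 : DihedralGroup m) ∈ T
  · exact absurd (by rw [← inv_mul_cancel_right a (r 1)]; exact T.mul_mem (key a ha) h11) ha
  have hsq : (r 1 : DihedralGroup m) * r 1 ∈ T := by
    rw [r_mul_r]; norm_num; exact h2
  have h3 : r 1 * (b * (r 1)⁻¹) * (r 1)⁻¹ ∈ T := hT.conj_mem _ (key b hb) _
  have h4 := T.mul_mem (T.mul_mem (key a ha) h3) hsq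
  have e : a * (r 1)⁻¹ * (r 1 * (b * (r 1)⁻¹) * (r 1)⁻¹) * (r 1 * r 1) = a * b := by group
  rwa [e] at h4

/-- The field `meet` of the external facts. -/
theorem layer_meet {G : Type u} [Group G] [Finite G] (hmin : Minimal G) (Φ : Frame G) (i : ZMod (2 ^ Φ.k))
    (N : Subgroup G) (hN : IsCoatom N) (htN : Φ.t ∈ N) (huN : Φ.refl i ∈ N) (hE : Cfsg.layer ↥N ≠ ⊥) :
    Φ.refl i ∈ (Cfsg.layer ↥N).map N.subtype ∨ Φ.t * Φ.refl i ∈ (Cfsg.layer ↥N).map N.subtype ∨
      (Φ.t ∈ (Cfsg.layer ↥N).map N.subtype ∧ ∃ s : G, Commute s Φ.t ∧ s * Φ.refl i * s⁻¹ = Φ.t * Φ.refl i) := by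
  classical
  haveI : Fact (Nat.Prime 2) := ⟨Nat.prime_two⟩
  haveI : (Cfsg.oddCore ↥N).Normal := Solv.pPrimeCore_normal 2
  obtain ⟨L, hLn, hmod, hC⟩ := model_over_core hmin hN.1 hE
  haveI := hLn
  obtain ⟨hsimp, hnab⟩ := hmod.simple
  haveI := hsimp
  haveI : Group.IsPerfect L := perfect_of_simple hnab
  have hodd : Odd (Nat.card (Cfsg.oddCore ↥N)) := Nat.coprime_two_right.1 (Fusion.card_pPrimeCore_coprime 2 ↥N)
  haveI : Group.IsSolvable ↥(Cfsg.oddCore ↥N) := Solv.Partition.odd_solvable hodd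
  haveI : Group.IsPerfect ↥(Cfsg.layer ↥N) := S1247.layer_perfect'
  have hO : ⁅Cfsg.layer ↥N, Cfsg.oddCore ↥N⁆ = ⊥ :=
    Solv.layer_commutator_solvable (Solv.pPrimeCore_normal 2).isSubnormal inferInstance
  set π := QuotientGroup.mk' (Cfsg.oddCore ↥N) with hπdef
  -- `L` lies in the image of the layer
  have hLE : L ≤ (Cfsg.layer ↥N).map π := by
    haveI : ((Cfsg.layer ↥N).map π).Normal := (Local.layer_normal (H := ↥N)).map π (QuotientGroup.mk'_surjective _)
    rcases (inferInstance : (((Cfsg.layer ↥N).map π).subgroupOf L).Normal).eq_bot_or_eq_top with h | h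
    · exfalso
      rw [Subgroup.subgroupOf_eq_bot, disjoint_iff] at h
      have hle : (Cfsg.layer ↥N).map π ≤ Subgroup.centralizer (L : Set (↥N ⧸ Cfsg.oddCore ↥N)) :=
        (Subgroup.commutator_eq_bot_iff_le_centralizer).1 (le_bot_iff.1
          (h ▸ Subgroup.commutator_le_inf ((Cfsg.layer ↥N).map π) L))
      rw [hC, le_bot_iff, Subgroup.map_eq_bot_iff, QuotientGroup.ker_mk'] at hle
      haveI : Nontrivial ↥(Cfsg.layer ↥N) := (Subgroup.nontrivial_iff_ne_bot _).2 hE
      haveI : Group.IsSolvable ↥(Cfsg.layer ↥N) :=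
        Group.isSolvable_of_isSolvable_injective (Subgroup.inclusion_injective hle)
      exact (Group.IsSolvable.commutator_lt_top_of_nontrivial ↥(Cfsg.layer ↥N)).ne Group.IsPerfect.commutator_eq_top
    · exact Subgroup.subgroupOf_eq_top.1 h
  -- involutions over `L` lie in the layer
  have hlift : ∀ z : ↥N, z * z = 1 → π z ∈ L → (z : G) ∈ (Cfsg.layer ↥N).map N.subtype := by
    intro z hz hzL
    obtain ⟨e, he, hez⟩ := hLE hzL
    obtain ⟨o, ho⟩ : ∃ o, o = e⁻¹ * z := ⟨_, rfl⟩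
    have hoO : o ∈ Cfsg.oddCore ↥N := (QuotientGroup.eq_one_iff o).1 (by
      show π o = 1
      rw [ho, map_mul, map_inv, hez, inv_mul_cancel])
    have hc : e * o = o * e := commutatorElement_eq_one_iff_mul_comm.1
      (Subgroup.mem_bot.1 (hO ▸ Subgroup.commutator_mem_commutator he hoO))
    have hz' : z = e * o := by rw [ho, mul_inv_cancel_left]
    have ho2 : o ^ 2 ∈ Cfsg.layer ↥N := by
      have : e ^ 2 * o ^ 2 = 1 := by rw [← (show Commute e o from hc).mul_pow, ← hz', pow_two, hz]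
      rw [eq_inv_of_mul_eq_one_right this]
      exact inv_mem (pow_mem he 2)
    obtain ⟨j, hj⟩ : Odd (orderOf o) := hodd.of_dvd_nat (by
      rw [← Subgroup.orderOf_mk o hoO]; exact orderOf_dvd_natCard _)
    have ho' : o ∈ Cfsg.layer ↥N := by
      have : o = (o ^ 2) ^ (j + 1) := by
        rw [← pow_mul, show 2 * (j + 1) = (2 * j + 1) + 1 by ring, ← hj, pow_succ, pow_orderOf_eq_one, one_mul]
      rw [this]
      exact pow_mem ho2 _
    exact ⟨z, hz' ▸ mul_mem he ho', rfl⟩
  -- a Sylow subgroup through the four group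
  let t' : ↥N := ⟨Φ.t, htN⟩
  let u' : ↥N := ⟨Φ.refl i, huN⟩
  have hVS : IsPGroup 2 ↥((Φ.S : Subgroup G).comap N.subtype) :=
    Φ.S.isPGroup'.comap_of_injective N.subtype N.subtype_injective
  obtain ⟨P, hP⟩ := hVS.exists_le_sylow
  have htP : t' ∈ (P : Subgroup ↥N) := hP Φ.t_mem
  have huP : u' ∈ (P : Subgroup ↥N) := hP (Φ.refl_mem i)
  let T : Subgroup (P : Subgroup ↥N) := (L.comap π).subgroupOf (P : Subgroup ↥N)
  haveI : T.Normal := inferInstance
  have hTc : ¬ IsCyclic T := by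
    intro hcyc
    obtain ⟨TL⟩ := (inferInstance : Nonempty (Sylow 2 L))
    obtain ⟨R, hR⟩ := (TL.isPGroup'.map L.subtype).exists_le_sylow
    obtain ⟨g, hg⟩ := MulAction.exists_smul_eq (↥N ⧸ Cfsg.oddCore ↥N) R
      (P.mapSurjective (QuotientGroup.mk'_surjective (Cfsg.oddCore ↥N)))
    have he : 2 ∣ Nat.card L := even_of_simple hnab
    let ρ : T →* ↥((P.mapSurjective (QuotientGroup.mk'_surjective (Cfsg.oddCore ↥N)) : Subgroup _) ⊓ L) :=
      { toFun := fun x => ⟨π ((x : (P : Subgroup ↥N)) : ↥N), ⟨_, (x : (P : Subgroup ↥N)).2, rfl⟩, x.2⟩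
        map_one' := Subtype.ext (map_one π)
        map_mul' := fun a b => Subtype.ext (map_mul π _ _) }
    have hρ : Function.Surjective ρ := by
      rintro ⟨y, ⟨x, hx, rfl⟩, hy⟩
      exact ⟨⟨⟨x, hx⟩, hy⟩, rfl⟩
    haveI : IsCyclic ↥((P.mapSurjective (QuotientGroup.mk'_surjective (Cfsg.oddCore ↥N)) : Subgroup _) ⊓ L) :=
      isCyclic_of_surjective ρ hρ
    have hmem : ∀ x : L, x ∈ (TL : Subgroup L) →
        g * (x : ↥N ⧸ Cfsg.oddCore ↥N) * g⁻¹ ∈
          (P.mapSurjective (QuotientGroup.mk'_surjective (Cfsg.oddCore ↥N)) : Subgroup _) ⊓ L := by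
      intro x hx
      refine ⟨?_, hLn.conj_mem _ x.2 g⟩
      rw [← hg, Sylow.coe_subgroup_smul]
      exact ⟨_, hR ⟨x, hx, rfl⟩, rfl⟩
    refine not_cyclic_of_perfect TL he (isCyclic_of_injective
      (((MulAut.conj g).toMonoidHom.comp (L.subtype.comp (TL : Subgroup L).subtype)).codRestrict _ fun x => hmem x x.2)
      fun a b hab => Subtype.ext (Subtype.ext ((MulAut.conj g).injective (congrArg Subtype.val hab))))
  -- `T` is everything or of index two
  have htu' : t' * t' = 1 := Subtype.ext Φ.tt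
  have huu' : u' * u' = 1 := Subtype.ext (Φ.uu i)
  let g : (P : Subgroup ↥N) ≃* (P : Subgroup ↥N).map N.subtype :=
    (P : Subgroup ↥N).equivMapOfInjective _ N.subtype_injective
  obtain ⟨U, hU⟩ := (P.isPGroup'.map N.subtype).exists_le_sylow
  have hcases : (T = ⊤) ∨ (2 ≤ Φ.k ∧ ∀ a b : (P : Subgroup ↥N), a ∉ T → b ∉ T → a * b ∈ T) := by
    rcases two_subgroup_cases ((U.equiv Φ.S).trans Φ.ι.symm) _ hU with h | ⟨-, h4⟩ | ⟨m, hm, ⟨d⟩⟩
    · exfalso
      haveI := g.isCyclic.2 h
      exact hTc inferInstance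
    · left
      rw [← Nat.card_congr g.toEquiv] at h4
      rcases (Nat.dvd_prime_pow Nat.prime_two).1 ((show (4 : ℕ) = 2 ^ 2 by norm_num) ▸ h4 ▸ T.card_subgroup_dvd_card)
        with ⟨j, hj, hT⟩
      rcases (show j ≤ 1 ∨ j = 2 by omega) with hj' | rfl
      · exfalso
        refine hTc ?_
        rcases (show j = 0 ∨ j = 1 by omega) with rfl | rfl
        · haveI : Subsingleton T := (Nat.card_eq_one_iff_unique.1 hT).1
          infer_instance
        · exact isCyclic_of_prime_card hT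
      · exact Subgroup.eq_top_of_card_eq _ (hT.trans h4.symm)
    · right
      constructor
      · have h1 : Nat.card ((P : Subgroup ↥N).map N.subtype) ∣ Nat.card (U : Subgroup G) := Subgroup.card_dvd_of_le hU
        rw [Nat.card_congr d.toEquiv, DihedralGroup.nat_card,
          Nat.card_congr ((U.equiv Φ.S).trans Φ.ι.symm).toEquiv, DihedralGroup.nat_card] at h1
        have h2 := Nat.le_of_dvd (by positivity) h1
        by_contra hk
        have : Φ.k = 1 := by have := Φ.hk; omega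
        rw [this] at h2
        omega
      · haveI : NeZero m := ⟨by omega⟩
        intro a b ha hb
        let j := g.trans d
        haveI : (T.map j.toMonoidHom).Normal := (inferInstance : T.Normal).map _ j.surjective
        have hc' : ¬ IsCyclic (T.map j.toMonoidHom) := fun h =>
          hTc ((T.equivMapOfInjective _ j.injective).isCyclic.2 h)
        have hmem : ∀ x, j x ∈ T.map j.toMonoidHom ↔ x ∈ T := fun x => Subgroup.mem_map_iff_mem (f := j.toMonoidHom) j.injective
        have := dihedral_normal_index (T.map j.toMonoidHom) hc' (j a) (j b) (fun h => ha ((hmem a).1 h))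
          (fun h => hb ((hmem b).1 h))
        rw [← map_mul] at this
        exact (hmem _).1 this
  have hTmem : ∀ x : (P : Subgroup ↥N), x ∈ T → π (x : ↥N) ∈ L := fun x hx => hx
  rcases hcases with h | ⟨hk, h⟩
  · exact Or.inl (hlift u' huu' (hTmem ⟨u', huP⟩ (h ▸ Subgroup.mem_top _)))
  by_cases hu : (⟨u', huP⟩ : (P : Subgroup ↥N)) ∈ T
  · exact Or.inl (hlift u' huu' (hTmem _ hu))
  by_cases ht : (⟨t', htP⟩ : (P : Subgroup ↥N)) ∈ T
  · refine Or.inr (Or.inr ⟨hlift t' htu' (hTmem _ ht), ?_⟩)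
    obtain ⟨j, hj⟩ : ∃ j, Φ.k = j + 2 := ⟨Φ.k - 2, by omega⟩
    refine ⟨Φ.hom (r ((2 ^ j : ℕ) : ZMod (2 ^ Φ.k))), (Φ.t_central _ (Φ.hom_range ▸ ⟨_, rfl⟩)), ?_⟩
    rw [← Φ.hom_sr, ← Φ.hom_half, ← map_inv, ← map_mul, ← map_mul, ← map_mul, inv_r, r_mul_sr, sr_mul_r, r_mul_sr]
    congr 2
    have e : 2 ^ Φ.k / 2 = 2 ^ j + 2 ^ j := by rw [hj, pow_succ, pow_succ]; omega
    rw [e, Nat.cast_add]
    ring
  · exact Or.inr (Or.inl (hlift (t' * u')
      (Subtype.ext (by
        show Φ.t * Φ.refl i * (Φ.t * Φ.refl i) = 1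
        rw [(Φ.commute i).symm.mul_mul_mul_comm, Φ.tt, Φ.uu, one_mul]))
      (hTmem _ (h ⟨t', htP⟩ ⟨u', huP⟩ ht hu))))

end Cfsg.Agent.GW
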