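import Cfsg.Agent.Lib.Fusion.ZJControl
import Cfsg.Agent.Lib.Solv.Generation
import Cfsg.Agent.S0118

/-!
# A maximal subgroup `E·S` over the involution centraliser with one prime in its Fitting subgroup

Step (1) of the uniqueness argument for dihedral Sylow `2`-subgroups: if `M = E·S` (`E` of odd order, `S` a
`2`-group centralising `t`) contains `C(t)`, is `q`-constrained and `t` is conjugate to the two other involutions
of a four group `⟨t, u⟩ ≤ S`, then `t` centralises `O_q(M)`.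
-/

set_option autoImplicit false
set_option linter.unusedSectionVars false
set_option linter.style.haveILetI false

namespace Cfsg.Agent.GW

open Cfsg Cfsg.Agent Cfsg.Agent.Fusion Cfsg.Agent.Solv
open scoped Pointwise

universe w

variable {G : Type w} [Group G] [Finite G]

/-- an element of odd order inverted by an involution `v` gives a conjugate of `v` -/
theorem exists_half {v e : G} (he : Odd (orderOf e)) (hv : v * v = 1) (hev : e * v * (e * v) = 1) :
    ∃ i : ℕ, e ^ i * v * (e ^ i)⁻¹ = e * v := by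
  obtain ⟨k, hk⟩ := he
  refine ⟨k + 1, ?_⟩
  have hinv : v * e * v⁻¹ = e⁻¹ := by
    rw [inv_eq_of_mul_eq_one_right hv]
    refine eq_inv_of_mul_eq_one_right ?_
    simpa [mul_assoc] using hev
  have h1 : v * (e ^ (k + 1))⁻¹ = e ^ (k + 1) * v := by
    have h := conj_pow (a := v) (b := e) (i := k + 1)
    rw [hinv, inv_pow] at h
    rw [h]
    calc v * (v * e ^ (k + 1) * v⁻¹) = v * v * e ^ (k + 1) * v⁻¹ := by group
      _ = _ := by rw [hv, one_mul, inv_eq_of_mul_eq_one_right hv]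
  rw [mul_assoc, h1, ← mul_assoc, ← pow_add, show k + 1 + (k + 1) = orderOf e + 1 by omega, pow_succ,
    pow_orderOf_eq_one, one_mul]

variable {q : ℕ} [Fact q.Prime] {M : Subgroup G}

/-- one fused involution of the four group: its fixed points in `O_q(M)` centralise `t`.  The involution `u` is not
conjugate to `t` in `M`, and `⟨t, u⟩` is a Sylow `2`-subgroup of `C_M(u)`; `M` controls the fusion of `q`-subgroups. -/
theorem fixed_le (hq : q ≠ 2) (hfree : ¬ Cfsg.Involves (Matrix.SpecialLinearGroup (Fin 2) (ZMod q)) G)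
    {t u ρ : G} (ht2 : t * t = 1) (ht1 : t ≠ 1) (htu : Commute t u) (hu2 : u * u = 1) (hρ : ρ * t * ρ⁻¹ = u)
    (hC : Subgroup.centralizer ({t} : Set G) ≤ M) (htM : t ∈ M) (huM : u ∈ M)
    (hns : ∀ g ∈ M, g * t * g⁻¹ ≠ u)
    (hsyl : ∀ z ∈ M, z * z = 1 → Commute z u → z ≠ 1 → z ≠ u →
      ∃ h ∈ M, h * u * h⁻¹ = u ∧ (h * z * h⁻¹ = t ∨ h * z * h⁻¹ = t * u))
    (P : Sylow q G) (hPM : (P : Subgroup G) ≤ M)
    (hZ : Subgroup.normalizer (Cfsg.centerThompsonOf q (P : Subgroup G) : Set G) ≤ M) :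
    ∀ x ∈ Cfsg.pCore q M, Commute (x : G) u → Commute (x : G) t := by
  classical
  obtain ⟨H, hHdef⟩ : ∃ H, H = M ⊓ Subgroup.centralizer ({u} : Set G) := ⟨_, rfl⟩
  obtain ⟨RH⟩ := (inferInstance : Nonempty (Sylow q H))
  obtain ⟨R, hR⟩ : ∃ R, R = (RH : Subgroup H).map H.subtype := ⟨_, rfl⟩
  have hRq : IsPGroup q R := hR ▸ RH.isPGroup'.map _
  have hRH : R ≤ H := hR ▸ Subgroup.map_subtype_le _
  have hRu : ∀ x ∈ R, x * u = u * x := fun x hx =>
    Subgroup.mem_centralizer_singleton_iff.1 (hHdef ▸ hRH hx : x ∈ M ⊓ _).2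
  have hρu : ρ⁻¹ * u * ρ = t := by rw [← hρ]; group
  have hT0C : R.map (MulAut.conj ρ⁻¹).toMonoidHom ≤ Subgroup.centralizer ({t} : Set G) := by
    rintro _ ⟨x, hx, rfl⟩
    refine Subgroup.mem_centralizer_singleton_iff.2 ?_
    show ρ⁻¹ * x * ρ⁻¹⁻¹ * t = t * (ρ⁻¹ * x * ρ⁻¹⁻¹)
    rw [inv_inv, ← hρu]
    calc ρ⁻¹ * x * ρ * (ρ⁻¹ * u * ρ) = ρ⁻¹ * (x * u) * ρ := by group
      _ = ρ⁻¹ * (u * x) * ρ := by rw [hRu x hx]
      _ = _ := by group
  have hT0q : IsPGroup q (R.map (MulAut.conj ρ⁻¹).toMonoidHom) := hRq.map _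
  -- move both into the Sylow subgroup
  have hmove : ∀ A : Subgroup G, IsPGroup q A → A ≤ M →
      ∃ a ∈ M, ∀ x ∈ A, a * x * a⁻¹ ∈ (P : Subgroup G) := by
    intro A hA hAM
    obtain ⟨P₁, hP₁⟩ := (hA.comap_subtype (K := M)).exists_le_sylow
    obtain ⟨k, hk⟩ := MulAction.exists_smul_eq M P₁ (P.subtype hPM)
    refine ⟨k, k.2, fun x hx => ?_⟩
    have h2 : k * ⟨x, hAM hx⟩ * k⁻¹ ∈ ((P.subtype hPM : Sylow q M) : Subgroup M) := by
      rw [← hk, Sylow.coe_subgroup_smul]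
      exact Subgroup.smul_mem_pointwise_smul _ (MulAut.conj k) _ (hP₁ (show (⟨x, hAM hx⟩ : M) ∈ A.comap M.subtype from hx))
    exact h2
  obtain ⟨a, haM, haP⟩ := hmove R hRq (hRH.trans (hHdef ▸ inf_le_left))
  obtain ⟨b, hbM, hbP⟩ := hmove _ hT0q (hT0C.trans hC)
  have hfree' : ¬ ∃ (H K : Subgroup G) (_ : (K.subgroupOf H).Normal),
      Nonempty ((H ⧸ K.subgroupOf H) ≃* Matrix.SpecialLinearGroup (Fin 2) (ZMod q)) := hfree
  obtain ⟨n, hn, hne⟩ := Cfsg.Agent.S0118.result hq hfree' P (R.map (MulAut.conj a).toMonoidHom : Set G)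
    (by rintro _ ⟨x, hx, rfl⟩; exact haP x hx) (a * ρ * b⁻¹) (by
      rintro _ ⟨_, ⟨x, hx, rfl⟩, rfl⟩
      show _ ∈ (P : Subgroup G)
      have := hbP (ρ⁻¹ * x * ρ) ⟨x, hx, by simp [MulAut.conj_apply]⟩
      simpa [mul_assoc, MulAut.conj_apply] using this)
  obtain ⟨m, hm⟩ : ∃ m, m = a⁻¹ * n * b := ⟨_, rfl⟩
  have hmM : m ∈ M := hm ▸ M.mul_mem (M.mul_mem (M.inv_mem haM) (hZ hn)) hbM
  have hmx : ∀ x ∈ R, m⁻¹ * x * m = ρ⁻¹ * x * ρ := by
    intro x hx
    rw [hm]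
    calc (a⁻¹ * n * b)⁻¹ * x * (a⁻¹ * n * b) = b⁻¹ * (n⁻¹ * (a * x * a⁻¹) * n) * b := by group
      _ = b⁻¹ * ((a * ρ * b⁻¹)⁻¹ * (a * x * a⁻¹) * (a * ρ * b⁻¹)) * b := by rw [hne (a * x * a⁻¹) ⟨x, hx, rfl⟩]
      _ = _ := by group
  -- the centraliser of the image
  obtain ⟨T, hT⟩ : ∃ T, T = R.map (MulAut.conj ρ⁻¹).toMonoidHom := ⟨_, rfl⟩
  rw [← hT] at hT0C hT0q
  obtain ⟨L, hL⟩ : ∃ L, L = Subgroup.centralizer (T : Set G) := ⟨_, rfl⟩
  have htL : t ∈ L := hL ▸ Subgroup.mem_centralizer_iff.2 fun x hx =>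
    Subgroup.mem_centralizer_singleton_iff.1 (hT0C hx)
  have hw₁L : m⁻¹ * u * m ∈ L := by
    rw [hL]
    refine Subgroup.mem_centralizer_iff.2 fun y hy => ?_
    rw [hT] at hy
    obtain ⟨x, hx, rfl⟩ := hy
    show ρ⁻¹ * x * ρ⁻¹⁻¹ * (m⁻¹ * u * m) = m⁻¹ * u * m * (ρ⁻¹ * x * ρ⁻¹⁻¹)
    rw [inv_inv, ← hmx x hx]
    have hxu : x * u = u * x := hRu x hx
    calc m⁻¹ * x * m * (m⁻¹ * u * m) = m⁻¹ * (x * u) * m := by group
      _ = _ := by rw [hxu]; group
  obtain ⟨w₁, hw₁⟩ : ∃ w₁, w₁ = m⁻¹ * u * m := ⟨_, rfl⟩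
  rw [← hw₁] at hw₁L
  have hw₁M : w₁ ∈ M := hw₁ ▸ M.mul_mem (M.mul_mem (M.inv_mem hmM) huM) hmM
  have hw₁2 : w₁ * w₁ = 1 := by
    rw [hw₁, show m⁻¹ * u * m * (m⁻¹ * u * m) = m⁻¹ * (u * u) * m by group, hu2, mul_one, inv_mul_cancel]
  have hw₁i : w₁⁻¹ = w₁ := inv_eq_of_mul_eq_one_right hw₁2
  have hti : t⁻¹ = t := inv_eq_of_mul_eq_one_right ht2
  obtain ⟨x, hx⟩ : ∃ x, x = t * w₁ := ⟨_, rfl⟩
  have hxL : x ∈ L := hx ▸ L.mul_mem htL hw₁L
  have hxw : x * w₁ = t := by rw [hx, mul_assoc, hw₁2, mul_one]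
  obtain ⟨j, hj⟩ : ∃ j, orderOf x = j + j := by
    rcases Nat.even_or_odd (orderOf x) with h | h
    · exact h
    exfalso
    obtain ⟨i, hi⟩ := exists_half h hw₁2 (by rw [hxw, ht2])
    rw [hxw, hw₁] at hi
    refine hns (m * (x ^ i)⁻¹) (M.mul_mem hmM (M.inv_mem (M.pow_mem (hx ▸ M.mul_mem htM hw₁M) i))) ?_
    rw [← hi]
    group
  have hj0 : 0 < j := by
    have := orderOf_pos x
    omega
  obtain ⟨z, hz⟩ : ∃ z, z = x ^ j := ⟨_, rfl⟩
  have hz2 : z * z = 1 := by rw [hz, ← pow_add, ← hj, pow_orderOf_eq_one]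
  have hz1 : z ≠ 1 := hz ▸ pow_ne_one_of_lt_orderOf hj0.ne' (by omega)
  have hwx : w₁ * x * w₁⁻¹ = x⁻¹ := by
    rw [hx, mul_inv_rev, hti, mul_assoc, mul_assoc, mul_inv_cancel, mul_one, hw₁i]
  have hzw : Commute z w₁ := by
    have h := conj_pow (a := w₁) (b := x) (i := j)
    rw [hwx, inv_pow, ← hz, inv_eq_of_mul_eq_one_right hz2] at h
    show z * w₁ = w₁ * z
    nth_rw 1 [h]
    rw [inv_mul_cancel_right]
  have hzne : z ≠ w₁ := by
    intro h
    have hc : Commute x w₁ := h ▸ hz ▸ Commute.self_pow x j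
    have h2 : x ^ 2 = 1 := by
      rw [pow_two]
      have : x⁻¹ = x := by rw [← hwx, ← hc.eq, mul_inv_cancel_right]
      calc x * x = x * x⁻¹ := by rw [this]
        _ = 1 := mul_inv_cancel x
    have : j = 1 := by
      have := Nat.le_of_dvd (by norm_num) (orderOf_dvd_of_pow_eq_one h2)
      omega
    rw [hz, this, pow_one, hx, mul_eq_right] at h
    exact ht1 h
  obtain ⟨h, hhM, hhu, hhz⟩ := hsyl (m * z * m⁻¹)
    (M.mul_mem (M.mul_mem hmM (hz ▸ M.pow_mem (hx ▸ M.mul_mem htM hw₁M) j)) (M.inv_mem hmM))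
    (by rw [show m * z * m⁻¹ * (m * z * m⁻¹) = m * (z * z) * m⁻¹ by group, hz2, mul_one, mul_inv_cancel])
    (by
      have := (Commute.conj_iff m).2 hzw
      rwa [show m * w₁ * m⁻¹ = u by rw [hw₁]; group] at this)
    (fun h => hz1 (by
      calc z = m⁻¹ * (m * z * m⁻¹) * m := by group
        _ = 1 := by rw [h]; group))
    (fun h => hzne (by
      calc z = m⁻¹ * (m * z * m⁻¹) * m := by group
        _ = w₁ := by rw [h, hw₁]))
  obtain ⟨c, hc⟩ : ∃ c, c = (h * m)⁻¹ := ⟨_, rfl⟩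
  have hcw : c⁻¹ * w₁ * c⁻¹⁻¹ = u := by
    rw [hc, inv_inv, hw₁, show h * m * (m⁻¹ * u * m) * (h * m)⁻¹ = h * u * h⁻¹ by group, hhu]
  have hcz : c⁻¹ * z * c⁻¹⁻¹ = h * (m * z * m⁻¹) * h⁻¹ := by rw [hc]; group
  obtain ⟨T', hT'⟩ : ∃ T', T' = T.map (MulAut.conj c⁻¹).toMonoidHom := ⟨_, rfl⟩
  have hT'q : IsPGroup q T' := hT' ▸ hT0q.map _
  have hT'c : ∀ y ∈ T', Commute y t ∧ Commute y u := by
    intro y hy
    rw [hT'] at hy
    obtain ⟨a, ha, rfl⟩ := hy
    have hzL : z ∈ L := hz ▸ L.pow_mem hxL j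
    have haz : Commute a z := Subgroup.mem_centralizer_iff.1 (hL ▸ hzL) a ha
    have haw : Commute a w₁ := Subgroup.mem_centralizer_iff.1 (hL ▸ hw₁L) a ha
    have h1 := (Commute.conj_iff c⁻¹).2 haw
    have h2 := (Commute.conj_iff c⁻¹).2 haz
    rw [hcw] at h1
    rw [hcz] at h2
    refine ⟨?_, h1⟩
    rcases hhz with h3 | h3 <;> rw [h3] at h2
    · exact h2
    · have := h2.mul_right h1
      rw [show t * u * u = t by rw [mul_assoc, hu2, mul_one]] at this
      exact this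
  have hT'M : T' ≤ M := fun y hy => hC (Subgroup.mem_centralizer_singleton_iff.2 (hT'c y hy).1.eq)
  -- `T'` is a Sylow subgroup of `C_M(u)` centralised by `t`
  have hT'H : T' ≤ H := fun y hy =>
    hHdef ▸ ⟨hT'M hy, Subgroup.mem_centralizer_singleton_iff.2 (hT'c y hy).2.eq⟩
  have hcard : Nat.card (T'.subgroupOf H) = Nat.card (RH : Subgroup H) := by
    rw [Nat.card_congr (Subgroup.subgroupOfEquivOfLe hT'H).toEquiv, hT',
      Subgroup.card_map_of_injective (MulAut.conj c⁻¹).injective, hT,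
      Subgroup.card_map_of_injective (MulAut.conj ρ⁻¹).injective, hR,
      Subgroup.card_map_of_injective H.subtype_injective]
  intro y hy hyu
  haveI := Solv.pCore_normal (G := ↥M) q
  have hHM : H ≤ M := hHdef ▸ inf_le_left
  obtain ⟨W, hW⟩ : ∃ W, W = (Cfsg.pCore q M).comap (Subgroup.inclusion hHM) := ⟨_, rfl⟩
  haveI : W.Normal := hW ▸ Subgroup.Normal.comap inferInstance _
  have hWq : IsPGroup q W := hW ▸ (Solv.pCore_isPGroup (G := ↥M) q).comap_of_injective _ (Subgroup.inclusion_injective hHM)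
  obtain ⟨R₂, hR₂⟩ := (hWq.to_sup_of_normal_left (hT'q.comap_subtype (K := H))).exists_le_sylow
  have heq : T'.subgroupOf H = (R₂ : Subgroup H) := Subgroup.eq_of_le_of_card_ge
    (le_sup_right.trans hR₂) (by rw [hcard]; exact (Nat.card_congr (R₂.equiv RH).toEquiv).le)
  have hyH : (y : G) ∈ H := hHdef ▸ ⟨y.2, Subgroup.mem_centralizer_singleton_iff.2 hyu.eq⟩
  have hyW : (⟨(y : G), hyH⟩ : H) ∈ W := hW ▸ (show Subgroup.inclusion hHM ⟨(y : G), hyH⟩ ∈ Cfsg.pCore q M from hy)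
  have hyT : (⟨(y : G), hyH⟩ : H) ∈ T'.subgroupOf H := heq ▸ hR₂ (Subgroup.mem_sup_left hyW)
  exact (hT'c _ hyT).1

/-- Step (1): `t` centralises `O_q(M)` for a `q`-constrained maximal subgroup `M` over `C(t)` in which neither of
the two other involutions of the four group `⟨t, u⟩` is fused to `t`. -/
theorem centralizes_pCore [IsSimpleGroup G] (hq : q ≠ 2)
    (hfree : ¬ Cfsg.Involves (Matrix.SpecialLinearGroup (Fin 2) (ZMod q)) G)
    {t u ρ σ : G} (ht2 : t * t = 1) (ht1 : t ≠ 1) (htu : Commute t u) (hu2 : u * u = 1) (hne : u ≠ t) (hu1 : u ≠ 1)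
    (hρ : ρ * t * ρ⁻¹ = u) (hσ : σ * t * σ⁻¹ = t * u)
    (hM : IsCoatom M) (hC : Subgroup.centralizer ({t} : Set G) ≤ M)
    (hns : ∀ g ∈ M, g * t * g⁻¹ ≠ u) (hns' : ∀ g ∈ M, g * t * g⁻¹ ≠ t * u)
    (hsyl : ∀ z ∈ M, z * z = 1 → Commute z u → z ≠ 1 → z ≠ u →
      ∃ h ∈ M, h * u * h⁻¹ = u ∧ (h * z * h⁻¹ = t ∨ h * z * h⁻¹ = t * u))
    (hsyl' : ∀ z ∈ M, z * z = 1 → Commute z (t * u) → z ≠ 1 → z ≠ t * u →
      ∃ h ∈ M, h * (t * u) * h⁻¹ = t * u ∧ (h * z * h⁻¹ = t ∨ h * z * h⁻¹ = u))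
    (hc : Subgroup.centralizer (Cfsg.pCore q M : Set M) ≤ Cfsg.pCore q M)
    (hqd : Cfsg.pCore q M ≠ ⊥) :
    ∀ x ∈ Cfsg.pCore q M, Commute (x : G) t := by
  classical
  have htM : t ∈ M := hC (Subgroup.mem_centralizer_singleton_iff.2 rfl)
  have huM : u ∈ M := hC (Subgroup.mem_centralizer_singleton_iff.2 htu.eq.symm)
  -- the Thompson centre of a Sylow subgroup of `M`
  obtain ⟨T⟩ := (inferInstance : Nonempty (Sylow q M))
  obtain ⟨QT, hT⟩ : ∃ QT, QT = (T : Subgroup M).map M.subtype := ⟨_, rfl⟩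
  have hQTp : IsPGroup q QT := hT ▸ T.isPGroup'.map _
  have hst : ∀ (P : Subgroup M) [P.Normal], IsPGroup q P → IsPStableOn q P := fun P _ hP =>
    isPStableOn_of_not_involves_sl2 hq
      (fun h => hfree (involves_trans h (involves_subgroup involves_refl M))) P hP
  haveI hZn := centerThompsonOf_normal (X := M) hq hc hst T
  have hTne : (T : Subgroup M) ≠ ⊥ := fun h => hqd (le_bot_iff.1 (h ▸ pCore_le_sylow T))
  obtain ⟨Z, hZdef⟩ : ∃ Z, Z = Cfsg.centerThompsonOf q QT := ⟨_, rfl⟩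
  have hZmap : Z = (inducedFunctor (wZE q) (T : Subgroup M)).map M.subtype := by
    rw [hZdef, ← inducedFunctor_map_of_injOn isCharPFunctor_wZE M.subtype M.subtype_injective.injOn T.isPGroup', ← hT,
      inducedFunctor_wZE]
  have hZ1 : Z ≠ ⊥ := by
    rw [hZmap, ne_eq, Subgroup.map_eq_bot_iff_of_injective _ M.subtype_injective]
    intro h
    rw [inducedFunctor, Subgroup.map_eq_bot_iff_of_injective _ (Subgroup.subtype_injective _)] at h
    exact (isCharPFunctor_wZE (p := q)).1 _ T.isPGroup' (Subgroup.nontrivial_iff_ne_bot _ |>.2 hTne) h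
  have hMN : M ≤ Subgroup.normalizer (Z : Set G) := by
    intro g hg
    rw [hZmap]
    exact Subgroup.le_normalizer_map _ ⟨⟨g, hg⟩, by rw [Subgroup.normalizer_eq_top]; trivial, rfl⟩
  have hNM : Subgroup.normalizer (Z : Set G) ≤ M := by
    rcases hM.le_iff.1 hMN with h | h
    · exfalso
      haveI : Z.Normal := Subgroup.normalizer_eq_top_iff.1 h
      rcases IsSimpleGroup.eq_bot_or_eq_top_of_normal Z inferInstance with h' | h'
      · exact hZ1 h'
      · refine hM.1 (eq_top_iff.2 ?_)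
        rw [← h', hZmap]
        exact Subgroup.map_subtype_le _
    · exact h.le
  obtain ⟨P, hPQ⟩ : ∃ P : Sylow q G, (P : Subgroup G) = QT := by
    obtain ⟨P, hP⟩ := hQTp.exists_le_sylow
    refine ⟨P, by_contra fun hne => ?_⟩
    haveI : Group.IsNilpotent (P : Subgroup G) := P.isPGroup'.isNilpotent
    have hsub : QT.subgroupOf (P : Subgroup G) < ⊤ := by
      rw [lt_top_iff_ne_top, ne_eq, Subgroup.subgroupOf_eq_top]
      exact fun h => hne (le_antisymm h hP)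
    obtain ⟨y, hy, hyQ⟩ := SetLike.exists_of_lt
      (Group.normalizerCondition_of_isNilpotent (QT.subgroupOf (P : Subgroup G)) hsub)
    have hyN : (y : G) ∈ Subgroup.normalizer (QT : Set G) := by
      rw [Subgroup.mem_normalizer_iff] at hy ⊢
      intro z
      constructor
      · intro hz
        exact (hy ⟨z, hP hz⟩).1 hz
      · intro hz
        have hzP : z ∈ (P : Subgroup G) := by
          have := (P : Subgroup G).mul_mem ((P : Subgroup G).mul_mem ((P : Subgroup G).inv_mem y.2) (hP hz)) y.2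
          rwa [show (y : G)⁻¹ * ((y : G) * z * (y : G)⁻¹) * (y : G) = z by group] at this
        exact (hy ⟨z, hzP⟩).2 hz
    have hyM : (y : G) ∈ M := hNM (by
      rw [hZdef, ← zElem_eq]
      exact normalizer_le_zElem QT hyN)
    have hp : IsPGroup q ((QT ⊔ Subgroup.zpowers (y : G)).subgroupOf M) :=
      (P.isPGroup'.to_le (sup_le hP (Subgroup.zpowers_le.2 y.2))).comap_subtype
    have hEq := T.is_maximal' hp fun a ha => by
      show (a : G) ∈ QT ⊔ Subgroup.zpowers (y : G)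
      exact Subgroup.mem_sup_left (hT ▸ ⟨a, ha, rfl⟩)
    have : (⟨(y : G), hyM⟩ : M) ∈ (T : Subgroup M) := hEq ▸ Subgroup.mem_sup_right (Subgroup.mem_zpowers _)
    exact hyQ (hT ▸ ⟨_, this, rfl⟩ : (y : G) ∈ QT)
  have hZP : Subgroup.normalizer (Cfsg.centerThompsonOf q (P : Subgroup G) : Set G) ≤ M := by
    rw [hPQ, ← hZdef]; exact hNM
  have hPM : (P : Subgroup G) ≤ M := hPQ ▸ hT ▸ Subgroup.map_subtype_le _
  have h1 := fixed_le hq hfree ht2 ht1 htu hu2 hρ hC htM huM hns hsyl P hPM hZP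
  have htu2 : t * u * (t * u) = 1 := by
    rw [mul_assoc, ← mul_assoc u, ← htu.eq, mul_assoc t u, hu2, mul_one, ht2]
  have h2 := fixed_le hq hfree ht2 ht1 (Commute.mul_right (Commute.refl t) htu) htu2 hσ hC htM
    (M.mul_mem htM huM) hns' (fun z h1 h2 h3 h4 h5 => by
      obtain ⟨h, hh, e1, e2⟩ := hsyl' z h1 h2 h3 h4 h5
      refine ⟨h, hh, e1, ?_⟩
      rwa [← mul_assoc, ht2, one_mul]) P hPM hZP
  -- generation by the fixed points of the four group
  obtain ⟨U, hUdef⟩ : ∃ U, U = Subgroup.closure ({t, u} : Set G) := ⟨_, rfl⟩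
  have hUM : U ≤ M := by
    rw [hUdef, Subgroup.closure_le]
    rintro a (rfl | rfl)
    exacts [htM, huM]
  have hUc : IsMulCommutative U := by
    rw [hUdef]
    refine Subgroup.isMulCommutative_closure ?_
    rintro a (rfl | rfl) b (rfl | rfl)
    exacts [rfl, htu.eq, htu.eq.symm, rfl]
  haveI := Solv.pCore_normal (G := ↥M) q
  obtain ⟨W, hW⟩ : ∃ W, W = (Cfsg.pCore q M).map M.subtype := ⟨_, rfl⟩
  have hUW : U ≤ Subgroup.normalizer (W : Set G) := fun g hg => hW ▸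
    Subgroup.le_normalizer_map _ ⟨⟨g, hUM hg⟩, by rw [Subgroup.normalizer_eq_top]; trivial, rfl⟩
  have hco : (Nat.card U).Coprime (Nat.card W) := by
    haveI : Fact (Nat.Prime 2) := ⟨Nat.prime_two⟩
    obtain ⟨k, hk⟩ := IsPGroup.iff_card.1 (show IsPGroup q W from hW ▸ (Solv.pCore_isPGroup (G := ↥M) q).map _)
    have hU4 : IsPGroup 2 U := fun ⟨a, ha⟩ => ⟨1, by
      rw [pow_one, pow_two]
      refine Subtype.ext ?_
      show a * a = 1
      revert ha
      rw [hUdef]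
      intro ha
      induction ha using Subgroup.closure_induction with
      | mem b hb => exact hb.elim (fun h => h ▸ ht2) fun h => (Set.mem_singleton_iff.1 h) ▸ hu2
      | one => rw [mul_one]
      | mul b c hb hc ihb ihc =>
        have hbc : b * c = c * b :=
          congrArg Subtype.val (hUc.is_comm.comm (⟨b, hUdef ▸ hb⟩ : U) ⟨c, hUdef ▸ hc⟩)
        calc b * c * (b * c) = b * (c * b) * c := by group
          _ = b * b * (c * c) := by rw [← hbc]; group
          _ = 1 := by rw [ihb, ihc, one_mul]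
      | inv b _ ih => rw [← mul_inv_rev, ih, inv_one]⟩
    obtain ⟨l, hl⟩ := IsPGroup.iff_card.1 hU4
    rw [hk, hl]
    exact Nat.Coprime.pow l k ((Nat.coprime_primes Nat.prime_two Fact.out).2 (Ne.symm hq))
  have hgen : W ≤ Subgroup.centralizer ({t} : Set G) := by
    rw [← gen_eq U W hUc hUW hco]
    refine iSup₂_le fun B hB x hx => ?_
    obtain ⟨hBU, a, ha, hBa⟩ := hB
    have hinv : ∀ b ∈ U, b = 1 ∨ b = t ∨ b = u ∨ b = t * u := by
      intro b hb
      rw [hUdef] at hb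
      have hti : t⁻¹ = t := inv_eq_of_mul_eq_one_right ht2
      have hui : u⁻¹ = u := inv_eq_of_mul_eq_one_right hu2
      induction hb using Subgroup.closure_induction with
      | mem b hb => exact hb.elim (fun h => Or.inr (Or.inl h)) fun h => Or.inr (Or.inr (Or.inl h))
      | one => simp
      | mul a b _ _ iha ihb =>
        rcases iha with h | h | h | h <;> rcases ihb with h' | h' | h' | h' <;> rw [h, h'] <;>
          first
            | exact Or.inr (Or.inl (by rw [← mul_assoc, ← htu.eq, mul_assoc, hu2, mul_one]))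
            | simp [ht2, hu2, htu2, htu.eq.symm, mul_assoc, ← mul_assoc t t, ← mul_assoc u u]
      | inv a _ iha =>
        rcases iha with h | h | h | h <;> rw [h] <;> simp [hti, hui, htu.eq]
    have hBne : ∃ b ∈ B, b = t ∨ b = u ∨ b = t * u := by
      by_contra hcon
      push Not at hcon
      have hB1 : B = ⊥ := (Subgroup.eq_bot_iff_forall B).2 fun b hb => by
        rcases hinv b (hBU hb) with h | h | h | h
        · exact h
        all_goals exact absurd h (by have := hcon b hb; tauto)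
      rw [hB1, bot_sup_eq] at hBa
      have htm : t ∈ Subgroup.zpowers a := hBa ▸ hUdef ▸ Subgroup.subset_closure (Or.inl rfl)
      have hum : u ∈ Subgroup.zpowers a := hBa ▸ hUdef ▸ Subgroup.subset_closure (Or.inr rfl)
      have ha2 : a ^ (2 : ℤ) = 1 := by
        rw [zpow_two]
        rcases hinv a ha with rfl | rfl | rfl | rfl <;> simp [ht2, hu2, htu2]
      have key : ∀ b ∈ Subgroup.zpowers a, b = 1 ∨ b = a := by
        rintro b ⟨i, rfl⟩
        rcases Int.even_or_odd i with ⟨j, rfl⟩ | ⟨j, rfl⟩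
        · left
          show a ^ (j + j) = 1
          rw [← two_mul, zpow_mul, ha2, one_zpow]
        · right
          show a ^ (2 * j + 1) = a
          rw [zpow_add, zpow_mul, ha2, one_zpow, one_mul, zpow_one]
      exact hne (((key u hum).resolve_left hu1).trans ((key t htm).resolve_left ht1).symm)
    obtain ⟨b, hbB, hb⟩ := hBne
    have hxb : Commute x b := (Subgroup.mem_centralizer_iff.1 hx.2 b hbB).symm
    obtain ⟨x', hx', rfl⟩ := (hW ▸ hx.1 : x ∈ (Cfsg.pCore q M).map M.subtype)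
    refine Subgroup.mem_centralizer_singleton_iff.2 ?_
    rcases hb with rfl | rfl | rfl
    · exact hxb.eq
    · exact (h1 x' hx' hxb).eq
    · exact (h2 x' hx' hxb).eq
  intro x hx
  exact Subgroup.mem_centralizer_singleton_iff.1 (hgen (hW ▸ ⟨x, hx, rfl⟩))

end Cfsg.Agent.GW
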