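import Cfsg.Agent.Lib.GW.OtherPart
import Cfsg.Agent.Lib.GW.QType

/-!
# Every maximal subgroup over `C(t)` fuses each four group

The main theorem of the uniqueness argument for dihedral Sylow `2`-subgroups: a maximal subgroup `M ≥ C(t)` in which
the four group `⟨t, u⟩` is not fused leads to a contradiction.
-/

set_option autoImplicit false
set_option linter.unusedSectionVars false
set_option linter.style.haveILetI false

namespace Cfsg.Agent.GW

open Cfsg Cfsg.Agent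

universe w

variable {G : Type w} [Group G] [Finite G] [IsSimpleGroup G]

/-- what is used about a maximal subgroup over `C(t)` in which `⟨t, u⟩` is not fused -/
structure Unfused (t u : G) (L : Subgroup G) : Prop where
  odd : Odd (Nat.card ↥(Cfsg.fittingSubgroup ↥L))
  ns : ∀ g ∈ L, g * t * g⁻¹ ≠ u
  ns' : ∀ g ∈ L, g * t * g⁻¹ ≠ t * u
  syl : ∀ z ∈ L, z * z = 1 → Commute z u → z ≠ 1 → z ≠ u →
    ∃ h ∈ L, h * u * h⁻¹ = u ∧ (h * z * h⁻¹ = t ∨ h * z * h⁻¹ = t * u)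
  syl' : ∀ z ∈ L, z * z = 1 → Commute z (t * u) → z ≠ 1 → z ≠ t * u →
    ∃ h ∈ L, h * (t * u) * h⁻¹ = t * u ∧ (h * z * h⁻¹ = t ∨ h * z * h⁻¹ = u)

theorem layer_bot_of_solvable {N : Subgroup G} (hs : Group.IsSolvable ↥N) : Cfsg.layer ↥N = ⊥ := by
  by_contra hne
  haveI : Nontrivial ↥(Cfsg.layer ↥N) := (Subgroup.nontrivial_iff_ne_bot _).2 hne
  haveI : Group.IsSolvable ↥(Cfsg.layer ↥N) := inferInstance
  have hp := S1247.layer_perfect' (H := ↥N)
  exact (Group.IsSolvable.commutator_lt_top_of_nontrivial ↥(Cfsg.layer ↥N)).ne hp.commutator_eq_top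

theorem layer_bot_of_equiv {A B : Type*} [Group A] [Group B] (e : A ≃* B) (h : Cfsg.layer A = ⊥) :
    Cfsg.layer B = ⊥ := by
  refine sSup_eq_bot.2 fun K hK => ?_
  have hK' : Cfsg.IsComponent (K.map e.symm.toMonoidHom) :=
    ⟨hK.1.map e.symm.surjective, Local.isQuasisimple_congr (K.equivMapOfInjective e.symm.toMonoidHom e.symm.injective) hK.2⟩
  have hb : K.map e.symm.toMonoidHom ≤ ⊥ := h ▸ le_sSup hK'
  exact (Subgroup.map_eq_bot_iff_of_injective K e.symm.injective).1 (le_bot_iff.1 hb)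

/-- some `q` has `[O_q(M), t] ≠ 1` -/
theorem exists_bad {t : G} (ht : t * t = 1) (ht1 : t ≠ 1) {M : Subgroup G} (htM : t ∈ M)
    (hs : Cfsg.layer ↥M = ⊥) (hodd : Odd (Nat.card ↥(Cfsg.fittingSubgroup ↥M))) :
    ∃ q : ℕ, q.Prime ∧ ¬ fq q M ≤ Subgroup.centralizer ({t} : Set G) := by
  by_contra hcon
  push Not at hcon
  have htF : (⟨t, htM⟩ : ↥M) ∈ Cfsg.fittingSubgroup ↥M := by
    refine fit_self_centralizing hs (Subgroup.mem_centralizer_iff.2 fun y hy => ?_)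
    have hle : Cfsg.fittingSubgroup ↥M ≤ Subgroup.centralizer ({(⟨t, htM⟩ : ↥M)} : Set ↥M) := by
      rw [Solv.fitting_eq_iSup_pCore, iSup_le_iff]
      intro p y hy
      exact Subgroup.mem_centralizer_singleton_iff.2 (Subtype.ext
        (Subgroup.mem_centralizer_singleton_iff.1 (hcon p p.2 ⟨y, hy, rfl⟩)))
    exact Subgroup.mem_centralizer_singleton_iff.1 (hle hy)
  refine ht1 (congrArg Subtype.val (orderOf_eq_one_iff.1 (Nat.eq_one_of_dvd_coprimes hodd.coprime_two_left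
    (orderOf_dvd_of_pow_eq_one (by rw [pow_two]; exact Subtype.ext ht)) ?_) : (⟨t, htM⟩ : ↥M) = 1))
  rw [← Subgroup.orderOf_mk _ htF]
  exact orderOf_dvd_natCard _

/-- two primes divide `|F(M)|` -/
theorem over_of_unfused {t u ρ : G} (ht : t * t = 1) (hu : u * u = 1) (htu : Commute t u) (ht1 : t ≠ 1)
    (hu1 : u ≠ 1) (hne : u ≠ t) (hρt : ρ * t * ρ⁻¹ = u) (hρu : ρ * u * ρ⁻¹ = t * u)
    (hfree : ∀ q : ℕ, q.Prime → q ≠ 2 → ¬ Cfsg.Involves (Matrix.SpecialLinearGroup (Fin 2) (ZMod q)) G)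
    {M : Subgroup G} (hM : IsCoatom M) (hC : Subgroup.centralizer ({t} : Set G) ≤ M)
    (hs : Cfsg.layer ↥M = ⊥) (h : Unfused t u M) : Over t M := by
  refine ⟨hM, hC, hs, h.odd, ?_⟩
  have htM : t ∈ M := hC (Subgroup.mem_centralizer_singleton_iff.2 rfl)
  obtain ⟨q, hq, hb⟩ := exists_bad ht ht1 htM hs h.odd
  haveI := Fact.mk hq
  have hne' : Cfsg.pCore q ↥M ≠ ⊥ := fun h0 => hb (by rw [fq, h0, Subgroup.map_bot]; exact bot_le)
  have hqd := (BenderUniq.core_dvd hq).2 hne'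
  have hq2 : q ≠ 2 := by
    rintro rfl
    exact Nat.not_even_iff_odd.2 h.odd (even_iff_two_dvd.2 hqd)
  by_contra hcon
  refine hb ?_
  have hF : Cfsg.fittingSubgroup ↥M ≤ Cfsg.pCore q ↥M := by
    rw [Solv.fitting_eq_iSup_pCore, iSup_le_iff]
    intro p
    by_cases hpq : (p : ℕ) = q
    · rw [hpq]
    · by_contra hp
      exact hcon ⟨p, q, p.2, hq, hpq, (BenderUniq.core_dvd p.2).2 (fun h0 => hp (h0.le.trans bot_le)), hqd⟩
  have hc : Subgroup.centralizer (Cfsg.pCore q ↥M : Set ↥M) ≤ Cfsg.pCore q ↥M :=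
    ((Subgroup.centralizer_le (SetLike.coe_subset_coe.2 hF)).trans (fit_self_centralizing hs)).trans hF
  haveI := Fusion.pPrimeCore_characteristic (p := 2) (G := ↥M)
  haveI := Solv.pCore_normal (G := ↥M) q
  obtain ⟨σ, hσ⟩ : ∃ σ, σ = ρ * ρ := ⟨_, rfl⟩
  have key := centralizes_pCore (q := q) hq2 (hfree q hq hq2) ht ht1 htu hu
    hne hu1 hρt (σ := σ) (hσ ▸ (rho_sq hu htu hρt hρu).2.1) hM hC
    h.ns h.ns' h.syl h.syl' hc hne'
  rintro _ ⟨y, hy, rfl⟩
  exact Subgroup.mem_centralizer_singleton_iff.2 (key y hy).eq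

/-- the core of the argument: `ρ` lies in the good maximal subgroup -/
theorem rho_mem (hG : ¬ IsMulCommutative G) (hK : Cfsg.IsKProper G) {t u ρ : G} (ht : t * t = 1)
    (hu : u * u = 1) (htu : Commute t u) (ht1 : t ≠ 1) (hu1 : u ≠ 1) (hne : u ≠ t) (hρt : ρ * t * ρ⁻¹ = u)
    (hρu : ρ * u * ρ⁻¹ = t * u)
    (hfree : ∀ q : ℕ, q.Prime → q ≠ 2 → ¬ Cfsg.Involves (Matrix.SpecialLinearGroup (Fin 2) (ZMod q)) G)
    (hlayer : LayerCentralises G)
    (hmeet : ∀ N : Subgroup G, IsCoatom N → t ∈ N → u ∈ N → Cfsg.layer ↥N ≠ ⊥ →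
      u ∈ (Cfsg.layer ↥N).map N.subtype ∨ t * u ∈ (Cfsg.layer ↥N).map N.subtype ∨
        (t ∈ (Cfsg.layer ↥N).map N.subtype ∧ ∃ s : G, Commute s t ∧ s * u * s⁻¹ = t * u))
    {M : Subgroup G} (hM : Over t M) (hgood : Good t M) {q : ℕ} [hq : Fact q.Prime] (hq2 : q ≠ 2)
    (hnc : ¬ ∀ v ∈ fq q M, Commute v u → Commute v t) : ρ ∈ M := by
  obtain ⟨hρtu, hσt, hσu, hσtu⟩ := rho_sq hu htu hρt hρu
  have hb : ¬ fq q M ≤ Subgroup.centralizer ({t} : Set G) := fun h =>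
    hnc fun v hv _ => Subgroup.mem_centralizer_singleton_iff.1 (h hv)
  have hD1 := meet_ne_bot ht hu htu hρt hρu hM hq2 (hfree q hq.out hq2) hnc
  obtain ⟨x, hxQ, hx1, hxt, hxu, hxtu⟩ := exists_moved ht hu htu hρt hρu hM.le hnc
  obtain ⟨σ, hσ⟩ : ∃ σ, σ = ρ * ρ := ⟨_, rfl⟩
  rw [← hσ] at hσt hσu hσtu hD1 hxQ
  obtain ⟨D, hD⟩ : ∃ D, D = fq q M ⊓ (fq q M).map (MulAut.conj σ).toMonoidHom := ⟨_, rfl⟩
  rw [← hD] at hD1
  have hDM : D ≤ M := hD ▸ inf_le_left.trans (fq_le q M)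
  obtain ⟨N, hN, hle⟩ := (eq_top_or_exists_le_coatom (Subgroup.normalizer (D : Set G))).resolve_left (by
    intro h
    haveI : D.Normal := Subgroup.normalizer_eq_top_iff.1 h
    rcases IsSimpleGroup.eq_bot_or_eq_top_of_normal D inferInstance with h' | h'
    · exact hD1 h'
    · exact hM.coatom.1 (top_le_iff.1 (h' ▸ hDM)))
  have hparts : ∀ r : ℕ, r.Prime → Cfsg.pCore r ↥M = ⊥ → fq r N = ⊥ := fun r hr h0 =>
    other_part_bot hG hK ht hu htu ht1 hρt hρu hlayer hM hgood hq2 hb (hσ ▸ hD ▸ hD1) hN (hσ ▸ hD ▸ hle) hr h0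
  have htM := hM.mem
  have huM : u ∈ M := hM.le (Subgroup.mem_centralizer_singleton_iff.2 htu.eq.symm)
  have htuM : t * u ∈ M := M.mul_mem htM huM
  have hconjσ : ∀ {a b : G}, σ * a * σ⁻¹ = b → σ⁻¹ * b * σ = a := by
    intro a b h; rw [← h]; group
  have hKM : ∀ g : G, Commute g t → g ∈ M := fun g hg => hM.le (Subgroup.mem_centralizer_singleton_iff.2 hg.eq)
  have htN : t ∈ N := hle (hD ▸ mem_norm_meet hq.out htM (hconjσ hσu ▸ huM))
  have huN : u ∈ N := hle (hD ▸ mem_norm_meet hq.out huM (hconjσ hσtu ▸ htuM))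
  have hCtu : ∀ g : G, Commute g (t * u) → σ⁻¹ * g * σ ∈ M := fun g hg => hKM _ (by
    have := (Commute.conj_iff σ⁻¹).2 hg
    rwa [inv_inv, hconjσ hσt] at this)
  have hQp : IsPGroup q ↥((fq q M).map (MulAut.conj σ).toMonoidHom) := (fq_isPGroup q M).map _
  have hodd : ∀ {a : G} {P : Subgroup G}, IsPGroup q ↥P → a ∈ P → Odd (orderOf a) := by
    intro a P hP ha
    obtain ⟨k, hk⟩ := IsPGroup.iff_orderOf.1 hP ⟨a, ha⟩
    rw [Subgroup.orderOf_mk] at hk
    rw [hk]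
    exact (hq.out.odd_of_ne_two hq2).pow
  have hsq : ∀ {a : G}, Odd (orderOf a) → a * a = 1 → a = 1 := by
    intro a ha h2
    exact orderOf_eq_one_iff.1 (Nat.eq_one_of_dvd_coprimes ha.coprime_two_left
      (orderOf_dvd_of_pow_eq_one (by rw [pow_two, h2])) dvd_rfl)
  -- no components
  have hlay : Cfsg.layer ↥N = ⊥ := by
    by_contra hL
    have hxodd := hodd hQp hxQ
    have hxN : x ∈ N := hle (hD ▸ mem_norm_meet hq.out (hKM x hxt) (by
      obtain ⟨v, hv, rfl⟩ := hxQ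
      show σ⁻¹ * (σ * v * σ⁻¹) * σ ∈ M
      rw [show σ⁻¹ * (σ * v * σ⁻¹) * σ = v by group]
      exact fq_le q M hv))
    have htu2 : t * u * (t * u) = 1 := by
      rw [mul_assoc, ← mul_assoc u, ← htu.eq, mul_assoc t u, hu, mul_one, ht]
    have htu1 : t * u ≠ 1 := fun h => hne (by
      calc u = t * (t * u) := by rw [← mul_assoc, ht, one_mul]
        _ = t := by rw [h, mul_one])
    have hx2 := hlayer N hN (t * u) (N.mul_mem htN huN) htu2 htu1 q hq.out hq2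
      ((fq q M).map (MulAut.conj σ).toMonoidHom ⊓ N) inf_le_right (hQp.to_le inf_le_left)
      (by
        refine mem_norm_of_conj fun y hy => ⟨?_, N.mul_mem (N.mul_mem (N.mul_mem htN huN) hy.2)
          (N.inv_mem (N.mul_mem htN huN))⟩
        obtain ⟨v, hv, rfl⟩ := hy.1
        refine ⟨σ⁻¹ * (t * u) * σ * v * (σ⁻¹ * (t * u) * σ)⁻¹, conj_fq hq.out (by rw [hconjσ hσt]; exact htM) hv, ?_⟩
        show σ * (σ⁻¹ * (t * u) * σ * v * (σ⁻¹ * (t * u) * σ)⁻¹) * σ⁻¹ = t * u * (σ * v * σ⁻¹) * (t * u)⁻¹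
        group)
      (by
        rintro g ⟨hg, hgN⟩
        refine mem_norm_of_conj fun y hy => ⟨?_, N.mul_mem (N.mul_mem hgN hy.2) (N.inv_mem hgN)⟩
        obtain ⟨v, hv, rfl⟩ := hy.1
        refine ⟨σ⁻¹ * g * σ * v * (σ⁻¹ * g * σ)⁻¹,
          conj_fq hq.out (hCtu g (Subgroup.mem_centralizer_singleton_iff.1 hg)) hv, ?_⟩
        show σ * (σ⁻¹ * g * σ * v * (σ⁻¹ * g * σ)⁻¹) * σ⁻¹ = g * (σ * v * σ⁻¹) * g⁻¹
        group)
    have hxx : x * x ∈ Subgroup.centralizer ((Cfsg.layer ↥N).map N.subtype : Set G) := by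
      have h := hx2 (Subgroup.commutator_mem_commutator ⟨hxQ, hxN⟩ (Subgroup.mem_zpowers (t * u)))
      rwa [commutatorElement_def, show x * (t * u) * x⁻¹ * (t * u)⁻¹ = x * ((t * u) * x⁻¹ * (t * u)⁻¹) by group,
        show (t * u) * x⁻¹ * (t * u)⁻¹ = ((t * u) * x * (t * u)⁻¹)⁻¹ by group, hxtu, inv_inv] at h
    have hxL : x ∈ Subgroup.centralizer ((Cfsg.layer ↥N).map N.subtype : Set G) := by
      obtain ⟨j, hj⟩ := exists_pow_eq_self_of_coprime hxodd.coprime_two_left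
      rw [← hj, pow_two]
      exact pow_mem hxx j
    have hkill : ∀ a : G, a ∈ (Cfsg.layer ↥N).map N.subtype → ∀ y : G,
        y ∈ Subgroup.centralizer ((Cfsg.layer ↥N).map N.subtype : Set G) → a * y * a⁻¹ = y⁻¹ → Odd (orderOf y) →
        y = 1 := by
      intro a ha y hy hay hyo
      have h := Subgroup.mem_centralizer_iff.1 hy a ha
      rw [h, mul_inv_cancel_right] at hay
      refine hsq hyo ?_
      calc y * y = y * y⁻¹ := by rw [← hay]
        _ = 1 := mul_inv_cancel y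
    rcases hmeet N hN htN huN hL with h | h | ⟨h, s, hst, hsu⟩
    · exact hx1 (hkill u h x hxL hxu hxodd)
    · exact hx1 (hkill (t * u) h x hxL hxtu hxodd)
    simp only [not_forall] at hnc
    obtain ⟨v, hv, hvu, hvt⟩ := hnc
    obtain ⟨v', hv'⟩ : ∃ v', v' = s * v * s⁻¹ := ⟨_, rfl⟩
    have hv'q : v' ∈ fq q M := hv' ▸ conj_fq hq.out (hKM s hst) hv
    have hsts : s * t * s⁻¹ = t := mul_inv_eq_iff_eq_mul.2 hst.eq
    have hv'tu : Commute v' (t * u) := by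
      have := (Commute.conj_iff s).2 hvu
      rwa [hsu, ← hv'] at this
    have hv't : ¬ Commute v' t := fun h => hvt ((Commute.conj_iff s).1 (by rwa [hsts, ← hv']))
    obtain ⟨y, hy⟩ : ∃ y, y = v'⁻¹ * (t * v' * t⁻¹) := ⟨_, rfl⟩
    have hyq : y ∈ fq q M := hy ▸ mul_mem (inv_mem hv'q) (conj_fq hq.out htM hv'q)
    have hyt : t * y * t⁻¹ = y⁻¹ := by
      rw [hy]
      calc t * (v'⁻¹ * (t * v' * t⁻¹)) * t⁻¹ = t * v'⁻¹ * t⁻¹ * ((t * t) * v' * (t * t)⁻¹) := by group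
        _ = _ := by rw [ht]; group
    have hy1 : y ≠ 1 := by
      intro h
      rw [hy, inv_mul_eq_one] at h
      refine hv't ?_
      show v' * t = t * v'
      nth_rw 1 [h]
      rw [inv_mul_cancel_right]
    have hytu : Commute y (t * u) := by
      rw [hy]
      exact hv'tu.inv_left.mul_left ((((Commute.refl t).mul_right htu).mul_left hv'tu).mul_left
        ((Commute.refl t).mul_right htu).inv_left)
    have hyN : y ∈ N := hle (hD ▸ mem_norm_meet hq.out (fq_le q M hyq) (hCtu y hytu))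
    have hy2 := hlayer N hN t htN ht ht1 q hq.out hq2 (fq q M ⊓ N) inf_le_right ((fq_isPGroup q M).to_le inf_le_left)
      (mem_norm_of_conj fun z hz => ⟨conj_fq hq.out htM hz.1, N.mul_mem (N.mul_mem htN hz.2) (N.inv_mem htN)⟩)
      (fun g hg => mem_norm_of_conj fun z hz =>
        ⟨conj_fq hq.out (hM.le hg.1) hz.1, N.mul_mem (N.mul_mem hg.2 hz.2) (N.inv_mem hg.2)⟩)
    have hyy : y * y ∈ Subgroup.centralizer ((Cfsg.layer ↥N).map N.subtype : Set G) := by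
      have h := hy2 (Subgroup.commutator_mem_commutator ⟨hyq, hyN⟩ (Subgroup.mem_zpowers t))
      rwa [commutatorElement_def, show y * t * y⁻¹ * t⁻¹ = y * (t * y * t⁻¹)⁻¹ by group, hyt, inv_inv] at h
    have hyodd := hodd (fq_isPGroup q M) hyq
    obtain ⟨j, hj⟩ := exists_pow_eq_self_of_coprime hyodd.coprime_two_left
    refine hy1 (hkill t h y ?_ hyt hyodd)
    rw [← hj, pow_two]
    exact pow_mem hyy j
  have hMN : Cfsg.leadsTo M N := leads hD1 ((hD ▸ inf_le_left : D ≤ fq q M).trans (fq_le_fitting hq.out M)) hle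
  have hNM : N = M := eq_of_no_other_part hG hK hM hN hMN (by rw [hlay, Subgroup.map_bot]; exact bot_le)
    (fitting_ne hlay fun h => hD1 (le_bot_iff.1 (h ▸ Subgroup.le_normalizer.trans hle))) hparts
  -- the conjugate
  obtain ⟨N', hN'⟩ : ∃ N', N' = N.map (MulAut.conj σ⁻¹).toMonoidHom := ⟨_, rfl⟩
  have hco : IsCoatom N' := by
    rw [hN']
    exact (MulEquiv.mapSubgroup (MulAut.conj σ⁻¹)).isCoatom_iff N |>.2 hN
  have hDq : D.map (MulAut.conj σ⁻¹).toMonoidHom ≤ fq q M := by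
    rintro _ ⟨d, hd, rfl⟩
    rw [hD] at hd
    obtain ⟨y, hy, rfl⟩ := hd.2
    show σ⁻¹ * (σ * y * σ⁻¹) * σ⁻¹⁻¹ ∈ fq q M
    rwa [show σ⁻¹ * (σ * y * σ⁻¹) * σ⁻¹⁻¹ = y by group]
  have hD1' : D.map (MulAut.conj σ⁻¹).toMonoidHom ≠ ⊥ := by
    rw [ne_eq, Subgroup.map_eq_bot_iff_of_injective _ (MulAut.conj σ⁻¹).injective]
    exact hD1
  have hle' : Subgroup.normalizer (D.map (MulAut.conj σ⁻¹).toMonoidHom : Set G) ≤ N' := by
    rw [← Subgroup.map_equiv_normalizer_eq, hN']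
    exact Subgroup.map_mono hle
  have hs' : Cfsg.layer ↥N' = ⊥ := by
    rw [hN', hNM]
    exact layer_bot_of_equiv (M.equivMapOfInjective (MulAut.conj σ⁻¹).toMonoidHom (MulAut.conj σ⁻¹).injective) hM.nolayer
  have hNM' : N' = M := eq_of_no_other_part hG hK hM hco
    (leads hD1' (hDq.trans (fq_le_fitting hq.out M)) hle')
    (by rw [hs', Subgroup.map_bot]; exact bot_le)
    (fitting_ne hs' fun h => hD1' (le_bot_iff.1 (h ▸ Subgroup.le_normalizer.trans hle')))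
    (fun r hr h0 => by
      haveI := Fact.mk hr
      rw [hN', fq_map r σ⁻¹ N, hparts r hr h0, Subgroup.map_bot])
  -- `σ` normalises `M`
  have hσM : σ⁻¹ ∈ M := by
    have hnorm : σ⁻¹ ∈ Subgroup.normalizer (M : Set G) := mem_norm_of_conj fun m hm => by
      have h : σ⁻¹ * m * σ⁻¹⁻¹ ∈ N' := hN' ▸ ⟨m, hNM.symm ▸ hm, rfl⟩
      rwa [hNM'] at h
    have hMne : M ≠ ⊥ := fun h => ht1 (Subgroup.mem_bot.1 (h ▸ htM))
    rcases hM.coatom.le_iff.1 (Subgroup.le_normalizer (H := M)) with h | h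
    · exfalso
      haveI : M.Normal := Subgroup.normalizer_eq_top_iff.1 h
      rcases IsSimpleGroup.eq_bot_or_eq_top_of_normal M inferInstance with h' | h'
      · exact hMne h'
      · exact hM.coatom.1 h'
    · exact h ▸ hnorm
  have h3 : Commute (ρ * σ) t := by
    refine mul_inv_eq_iff_eq_mul.1 ?_
    calc ρ * σ * t * (ρ * σ)⁻¹ = ρ * (σ * t * σ⁻¹) * ρ⁻¹ := by group
      _ = t := by rw [hσt, hρtu]
  have : ρ = (ρ * σ) * σ⁻¹ := by group
  rw [this]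
  exact M.mul_mem (hKM _ h3) hσM

/-- No maximal subgroup over `C(t)` leaves `⟨t, u⟩` unfused. -/
theorem unfused_contradiction (hG : ¬ IsMulCommutative G) (hK : Cfsg.IsKProper G) {t u ρ : G} (ht : t * t = 1)
    (hu : u * u = 1) (htu : Commute t u) (ht1 : t ≠ 1) (hu1 : u ≠ 1) (hne : u ≠ t) (hρt : ρ * t * ρ⁻¹ = u)
    (hρu : ρ * u * ρ⁻¹ = t * u)
    (hfree : ∀ q : ℕ, q.Prime → q ≠ 2 → ¬ Cfsg.Involves (Matrix.SpecialLinearGroup (Fin 2) (ZMod q)) G)
    (hnl : ∀ L : Subgroup G, IsCoatom L → Subgroup.centralizer ({t} : Set G) ≤ L → Cfsg.layer ↥L = ⊥)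
    (hunf : ∀ L : Subgroup G, IsCoatom L → Subgroup.centralizer ({t} : Set G) ≤ L → ¬ Fused t u L → Unfused t u L)
    (hlayer : LayerCentralises G)
    (hmeet : ∀ N : Subgroup G, IsCoatom N → t ∈ N → u ∈ N → Cfsg.layer ↥N ≠ ⊥ →
      u ∈ (Cfsg.layer ↥N).map N.subtype ∨ t * u ∈ (Cfsg.layer ↥N).map N.subtype ∨
        (t ∈ (Cfsg.layer ↥N).map N.subtype ∧ ∃ s : G, Commute s t ∧ s * u * s⁻¹ = t * u))
    {M : Subgroup G} (hM : IsCoatom M) (hC : Subgroup.centralizer ({t} : Set G) ≤ M)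
    (hMu : ¬ Fused t u M) : False := by
  have hover : ∀ L : Subgroup G, IsCoatom L → Subgroup.centralizer ({t} : Set G) ≤ L → ¬ Fused t u L → Over t L :=
    fun L hL hCL hLu =>
      over_of_unfused ht hu htu ht1 hu1 hne hρt hρu hfree hL hCL (hnl L hL hCL) (hunf L hL hCL hLu)
  obtain ⟨M₀, hM₀, hM₀u, hgood⟩ := exists_good hG hK ht hnl hover (hover M hM hC hMu) hMu
  suffices hρ : ρ ∈ M₀ from hM₀u ⟨ρ, hρ, hρt, hρu⟩
  obtain ⟨q, hq, hb⟩ := exists_bad ht ht1 hM₀.mem hM₀.nolayer hM₀.odd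
  haveI := Fact.mk hq
  have hne' : Cfsg.pCore q ↥M₀ ≠ ⊥ := fun h0 => hb (by rw [fq, h0, Subgroup.map_bot]; exact bot_le)
  have hq2 : q ≠ 2 := by
    rintro rfl
    exact Nat.not_even_iff_odd.2 hM₀.odd (even_iff_two_dvd.2 ((BenderUniq.core_dvd hq).2 hne'))
  by_cases h1 : ∀ v ∈ fq q M₀, Commute v u → Commute v t
  swap
  · exact rho_mem hG hK ht hu htu ht1 hu1 hne hρt hρu hfree hlayer hmeet hM₀ hgood hq2 h1
  by_cases h2 : ∀ v ∈ fq q M₀, Commute v (t * u) → Commute v t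
  · have huM : u ∈ M₀ := hM₀.le (Subgroup.mem_centralizer_singleton_iff.2 htu.eq.symm)
    exact absurd (four_gen ht hu htu ht1 hu1 hne (fq_odd hM₀ q hq) (fq_le_norm q hq M₀ hM₀.mem)
      (fq_le_norm q hq M₀ huM) h1 h2) hb
  have htu2 : t * u * (t * u) = 1 := by
    rw [mul_assoc, ← mul_assoc u, ← htu.eq, mul_assoc t u, hu, mul_one, ht]
  have htu1 : t * u ≠ 1 := fun h => hne (by
    calc u = t * (t * u) := by rw [← mul_assoc, ht, one_mul]
      _ = t := by rw [h, mul_one])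
  have hρtu := (rho_sq hu htu hρt hρu).1
  have e : t * (t * u) = u := by rw [← mul_assoc, ht, one_mul]
  have hinv : ρ⁻¹ ∈ M₀ := rho_mem (u := t * u) hG hK ht htu2 ((Commute.refl t).mul_right htu) ht1 htu1
    (fun h => hu1 (by rw [← e, h, ht]))
    (by rw [inv_inv]; nth_rw 1 [← hρtu]; group)
    (by rw [e, inv_inv, ← hρu]; group)
    hfree hlayer
    (fun N hN htN htuN hL => by
      have huN : u ∈ N := e ▸ N.mul_mem htN htuN
      rcases hmeet N hN htN huN hL with h | h | ⟨h, s, hst, hsu⟩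
      · exact Or.inr (Or.inl (by rwa [e]))
      · exact Or.inl h
      · refine Or.inr (Or.inr ⟨h, s⁻¹, hst.inv_left, ?_⟩)
        rw [e, ← hsu]; group)
    hM₀ hgood hq2 h2
  simpa using M₀.inv_mem hinv

end Cfsg.Agent.GW
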