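import Cfsg.Agent.Lib.GW.Centralizer
import Cfsg.Agent.Lib.GW.FusedMax
import Cfsg.Agent.S0206

/-!
# Solvable maximal subgroups over the centraliser of the central involution

`unfused_of_solvable` is the field `unfused` of the external facts, given solvability.
-/

set_option autoImplicit false
set_option linter.style.haveILetI false
set_option linter.unusedSectionVars false

namespace Cfsg.Agent.GW

open Cfsg Cfsg.Agent Cfsg.Agent.GW.Reduced DihedralGroup
open scoped Pointwise

universe u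

variable {G : Type u} [Group G] [Finite G]

/-- A four group given by two commuting involutions. -/
theorem klein_pair {Y : Type u} [Group Y] [Finite Y] {t u : Y} (ht : t * t = 1) (hu : u * u = 1) (htu : Commute t u)
    (ht1 : t ≠ 1) (hu1 : u ≠ 1) (hne : u ≠ t) : IsKleinFour ↥(Subgroup.closure ({t, u} : Set Y)) := by
  obtain ⟨e⟩ := S0206.result t u (orderOf_eq_prime (by rw [pow_two, ht]) ht1) (orderOf_eq_prime (by rw [pow_two, hu]) hu1) hne.symm
  have ho : orderOf (t * u) = 2 := orderOf_eq_prime (by rw [pow_two, htu.symm.mul_mul_mul_comm, ht, hu, one_mul])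
    (fun h => hne (by rw [mul_eq_one_iff_eq_inv, inv_eq_of_mul_eq_one_right hu] at h; exact h.symm))
  refine ⟨?_, ?_⟩
  · rw [Nat.card_congr e.toEquiv, DihedralGroup.nat_card, ho]
  · rw [Monoid.exponent_eq_of_mulEquiv e, DihedralGroup.exponent, ho]; rfl

theorem four_closure {X : Type u} [Group X] [Finite X] {V : Subgroup X} [IsKleinFour V] {a b : X} (ha : a ∈ V) (hb : b ∈ V)
    (ha1 : a ≠ 1) (hb1 : b ≠ 1) (hab : a ≠ b) {x : X} (hx : x ∈ V) : x = 1 ∨ x = a ∨ x = b ∨ x = a * b := by
  classical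
  haveI : Fintype V := Fintype.ofFinite V
  have hab1 : (⟨a, ha⟩ : V) * ⟨b, hb⟩ ≠ 1 := fun h => hab (by
    rw [mul_eq_one_iff_eq_inv, IsKleinFour.inv_eq_self] at h
    exact congrArg Subtype.val h)
  have h3 : (⟨a, ha⟩ : V) * ⟨b, hb⟩ = ⟨a * b, V.mul_mem ha hb⟩ := rfl
  rcases Classical.em (x = 1 ∨ x = a ∨ x = b) with h | h
  · rcases h with h | h | h
    · exact Or.inl h
    · exact Or.inr (Or.inl h)
    · exact Or.inr (Or.inr (Or.inl h))
  push Not at h
  refine Or.inr (Or.inr (Or.inr ?_))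
  have := IsKleinFour.eq_mul_of_ne_all (x := (⟨a, ha⟩ : V)) (y := ⟨b, hb⟩) (z := ⟨x, hx⟩)
    (fun e => ha1 (congrArg Subtype.val e)) (fun e => hb1 (congrArg Subtype.val e))
    (fun e => hab (congrArg Subtype.val e)) (fun e => h.1 (congrArg Subtype.val e))
    (fun e => h.2.1 (congrArg Subtype.val e)) (fun e => h.2.2 (congrArg Subtype.val e))
  exact congrArg Subtype.val this

/-- Fusion modulo a normal subgroup of odd order lifts to exact fusion of a four group. -/
theorem fused_lift {Y : Type u} [Group Y] [Finite Y] (O : Subgroup Y) [O.Normal] (hO : Odd (Nat.card O)) {t u g : Y}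
    (ht : t * t = 1) (hu : u * u = 1) (htu : Commute t u) (ht1 : t ≠ 1) (hu1 : u ≠ 1) (hne : u ≠ t)
    (h1 : (g * t * g⁻¹)⁻¹ * u ∈ O) (h2 : (g * u * g⁻¹)⁻¹ * (t * u) ∈ O) :
    ∃ h : Y, h * t * h⁻¹ = u ∧ h * u * h⁻¹ = t * u := by
  classical
  haveI : Fact (Nat.Prime 2) := ⟨Nat.prime_two⟩
  haveI : IsKleinFour ↥(Subgroup.closure ({t, u} : Set Y)) := klein_pair ht hu htu ht1 hu1 hne
  set U := Subgroup.closure ({t, u} : Set Y)
  have htU : t ∈ U := Subgroup.subset_closure (Or.inl rfl)
  have huU : u ∈ U := Subgroup.subset_closure (Or.inr rfl)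
  set π := QuotientGroup.mk' O
  have e1 : π (g * t * g⁻¹) = π u := QuotientGroup.eq.2 h1
  have e2 : π (g * u * g⁻¹) = π (t * u) := QuotientGroup.eq.2 h2
  have hU2 : IsPGroup 2 U := IsPGroup.of_card (n := 2) (by rw [IsKleinFour.card_four]; norm_num)
  let K : Subgroup Y := O ⊔ U
  have hgK : U.map (MulAut.conj g).toMonoidHom ≤ K := by
    have hK : K = (U.map π).comap π := by
      rw [Subgroup.comap_map_eq, QuotientGroup.ker_mk', sup_comm]
    rw [hK]
    rintro _ ⟨x, hx, rfl⟩
    show π (g * x * g⁻¹) ∈ U.map π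
    rcases four_closure htU huU ht1 hu1 hne.symm hx with rfl | rfl | rfl | rfl
    · rw [mul_one, mul_inv_cancel, map_one]; exact one_mem _
    · rw [e1]; exact Subgroup.mem_map_of_mem π huU
    · rw [e2]; exact Subgroup.mem_map_of_mem π (mul_mem htU huU)
    · rw [show g * (t * u) * g⁻¹ = g * t * g⁻¹ * (g * u * g⁻¹) by group, map_mul, e1, e2, ← map_mul]
      exact Subgroup.mem_map_of_mem π (mul_mem huU (mul_mem htU huU))
  have hcop : (Nat.card U).Coprime (Nat.card O) := by
    rw [IsKleinFour.card_four, show (4 : ℕ) = 2 ^ 2 by norm_num]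
    exact hO.coprime_two_left.pow_left 2
  obtain ⟨d, hd, hdA⟩ := Solv.sz_conj_rel O U (MulAut.conj g • U)
    (fun y _ => by rw [Subgroup.normalizer_eq_top_iff.2 inferInstance]; trivial)
    (by
      intro y hy
      rw [Solv.mem_conj_smul] at hy
      exact hgK ⟨_, hy, show g * (g⁻¹ * y * g) * g⁻¹ = y by group⟩)
    hcop.symm (Solv.card_conj_smul _ _) (Or.inr (by haveI := hU2.isNilpotent; infer_instance))
  refine ⟨d⁻¹ * g, ?_, ?_⟩
  all_goals
    have hmap : ∀ x ∈ U, d⁻¹ * g * x * (d⁻¹ * g)⁻¹ ∈ U := fun x hx => by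
      have hy : g * x * g⁻¹ ∈ MulAut.conj g • U := ⟨x, hx, rfl⟩
      rw [← hdA] at hy
      obtain ⟨z, hz, hze⟩ := hy
      have hze : d * z * d⁻¹ = g * x * g⁻¹ := hze
      rw [show d⁻¹ * g * x * (d⁻¹ * g)⁻¹ = d⁻¹ * (g * x * g⁻¹) * d by group, ← hze]
      rwa [show d⁻¹ * (d * z * d⁻¹) * d = z by group]
    have hπ : ∀ x, π (d⁻¹ * g * x * (d⁻¹ * g)⁻¹) = π (g * x * g⁻¹) := fun x => by
      simp [π, (QuotientGroup.eq_one_iff d).2 hd]
    have hinj : ∀ x ∈ U, ∀ y ∈ U, π x = π y → x = y := fun x hx y hy h => by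
      have hm : x⁻¹ * y ∈ U ⊓ O := ⟨U.mul_mem (U.inv_mem hx) hy, QuotientGroup.eq.1 h⟩
      rw [Subgroup.inf_eq_bot_of_coprime hcop, Subgroup.mem_bot, inv_mul_eq_one] at hm
      exact hm
  · exact hinj _ (hmap t htU) _ huU ((hπ t).trans e1)
  · exact hinj _ (hmap u huU) _ (mul_mem htU huU) ((hπ u).trans e2)

/-- The field `unfused` of the external facts. -/
theorem unfused_of_solvable (Φ : Frame G) (i : ZMod (2 ^ Φ.k)) (M : Subgroup G)
    (hC : Subgroup.centralizer ({Φ.t} : Set G) ≤ M) (hs : Group.IsSolvable M)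
    (hodd : Odd (Nat.card (Cfsg.fittingSubgroup M))) (hnf : ¬ Fused Φ.t (Φ.refl i) M) :
    Unfused Φ.t (Φ.refl i) M := by
  classical
  haveI : Fact (Nat.Prime 2) := ⟨Nat.prime_two⟩
  haveI : (Cfsg.oddCore M).Normal := Solv.pPrimeCore_normal 2
  have hSM : (Φ.S : Subgroup G) ≤ M := Φ.S_le.trans hC
  set π := QuotientGroup.mk' (Cfsg.oddCore M) with hπ
  have hcard : Odd (Nat.card (Cfsg.oddCore M)) := Nat.coprime_two_right.1 (Fusion.card_pPrimeCore_coprime 2 M)
  let T : Sylow 2 M := Φ.S.subtype hSM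
  let T' := T.mapSurjective (QuotientGroup.mk'_surjective (Cfsg.oddCore M))
  obtain ⟨sq⟩ := sylow_quotient (Cfsg.oddCore M) hcard T
  let eS : (T : Subgroup M) ≃* DihedralGroup (2 ^ Φ.k) := (Subgroup.subgroupOfEquivOfLe hSM).trans Φ.ι.symm
  haveI : Group.IsSolvable (M ⧸ Cfsg.oddCore M) :=
    Group.isSolvable_of_surjective (f := π) (QuotientGroup.mk'_surjective _)
  let t' : M := ⟨Φ.t, hSM Φ.t_mem⟩
  let u' : M := ⟨Φ.refl i, hSM (Φ.refl_mem i)⟩
  have htt : t' * t' = 1 := Subtype.ext Φ.tt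
  have huu : u' * u' = 1 := Subtype.ext (Φ.uu i)
  have htu : Commute t' u' := Subtype.ext (Φ.commute i).eq
  have ht1 : t' ≠ 1 := fun h => Φ.t_ne (congrArg Subtype.val h)
  have hu1 : u' ≠ 1 := fun h => Φ.refl_ne_one i (congrArg Subtype.val h)
  have hne : u' ≠ t' := fun h => Φ.refl_ne i ((congrArg Subtype.val h) :)
  have hinj : ∀ x ∈ (T : Subgroup M), π x = 1 → x = 1 := fun x hx h => by
    have hm : x ∈ (T : Subgroup M) ⊓ Cfsg.oddCore M := ⟨hx, (QuotientGroup.eq_one_iff x).1 h⟩
    obtain ⟨j, hj⟩ := IsPGroup.iff_card.1 T.isPGroup'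
    rwa [Subgroup.inf_eq_bot_of_coprime (hj ▸ hcard.coprime_two_left.pow_left j), Subgroup.mem_bot] at hm
  have htT : t' ∈ (T : Subgroup M) := Φ.t_mem
  have huT : u' ∈ (T : Subgroup M) := Φ.refl_mem i
  have hπne : π t' ≠ π u' := fun h => hne (inv_mul_eq_one.1
    (hinj _ (mul_mem (inv_mem htT) huT) (by rw [map_mul, map_inv, h, inv_mul_cancel]))).symm
  have hπne' : π t' ≠ π (t' * u') := fun h => hu1 (hinj _ huT (by rwa [map_mul, left_eq_mul] at h))
  have hπt1 : π t' ≠ 1 := fun h => ht1 (hinj _ htT h)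
  have hπu1 : π u' ≠ 1 := fun h => hu1 (hinj _ huT h)
  have hπtu1 : π (t' * u') ≠ 1 := fun h => hne (by
    have := hinj _ (mul_mem htT huT) h
    rw [mul_eq_one_iff_eq_inv, inv_eq_of_mul_eq_one_right huu] at this
    exact this.symm)
  have hcenT : ∀ s ∈ (T' : Subgroup (M ⧸ Cfsg.oddCore M)), Commute s (π t') := by
    rintro _ ⟨s, hs, rfl⟩
    exact (show Commute s t' from Subtype.ext (Φ.t_central _ hs)).map π
  have hfour : ∀ V : Subgroup (M ⧸ Cfsg.oddCore M), V.Normal → IsKleinFour V → π t' ∈ V := by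
    intro V hVn hV
    haveI := hV
    have hVT : V ≤ (T' : Subgroup (M ⧸ Cfsg.oddCore M)) := by
      obtain ⟨U, hU⟩ := (IsPGroup.of_card (p := 2) (n := 2) (G := V) (by rw [IsKleinFour.card_four]; norm_num)).exists_le_sylow
      obtain ⟨g, hg⟩ := MulAction.exists_smul_eq (M ⧸ Cfsg.oddCore M) U T'
      intro v hv
      rw [← hg, Sylow.coe_subgroup_smul]
      exact ⟨g⁻¹ * v * g, hU (by simpa using hVn.conj_mem v hv g⁻¹), show g * (g⁻¹ * v * g) * g⁻¹ = v by group⟩
    by_contra hn
    exact hn (four_self T' (sq.symm.trans eS) V hV (by rw [← map_mul, htt, map_one]) fun v hv => (hcenT v (hVT hv)).eq)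
  have hcases := solvable_cases (inferInstance : Group.IsSolvable (M ⧸ Cfsg.oddCore M)) Fusion.pPrimeCore_quotient_eq_bot
    T' (sq.symm.trans eS)
  -- no conjugate of `t` in the four group
  have key : ∀ w : M, w ∈ (T : Subgroup M) → π w ≠ π t' → π w ≠ 1 → w * w = 1 → Commute t' w → w ≠ t' → w ≠ 1 →
      (∀ h : M, h * t' * h⁻¹ = w → h * w * h⁻¹ = t' * w → False) → ∀ x : M ⧸ Cfsg.oddCore M, x * π t' * x⁻¹ ≠ π w := by
    intro w hw hwt hw1 hww htw hwne hwne1 hno x hx
    rcases hcases with hp | ⟨V, hVn, hV, hVc⟩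
    · have hxT : x ∈ (T' : Subgroup (M ⧸ Cfsg.oddCore M)) := by
        rw [← T'.is_maximal' (hp.to_subgroup ⊤) le_top]; trivial
      rw [(hcenT x hxT).eq, mul_inv_cancel_right] at hx
      exact hwt hx.symm
    · haveI := hV
      have htV := hfour V hVn hV
      have hwV : π w ∈ V := hx ▸ hVn.conj_mem _ htV x
      -- a three-cycle gives exact fusion
      have hfin : ∀ z, z * π t' * z⁻¹ = π w → z * π w * z⁻¹ ≠ π t' * π w := by
        intro z h1 h2
        obtain ⟨g, rfl⟩ := QuotientGroup.mk'_surjective _ z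
        obtain ⟨h, e1, e2⟩ := fused_lift (Cfsg.oddCore M) hcard htt hww htw ht1 hwne1 hwne
          (g := g) (QuotientGroup.eq.1 (by
            show π (g * t' * g⁻¹) = π w
            rw [map_mul, map_mul, map_inv]; exact h1))
          (QuotientGroup.eq.1 (by
            show π (g * w * g⁻¹) = π (t' * w)
            rw [map_mul, map_mul, map_inv, map_mul]; exact h2))
        exact hno h e1 e2
      rcases four_closure htV hwV hπt1 hw1 (Ne.symm hwt) (hVn.conj_mem _ hwV x) with h | h | h | h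
      · exact hw1 (conj_eq_one_iff.1 h)
      · -- `x` exchanges them; the class of `t` is odd, hence holds all three
        obtain ⟨y, hy⟩ : ∃ y, y * π t' * y⁻¹ = π t' * π w := by
          by_contra hcon
          push Not at hcon
          have hset : MulAction.orbit (ConjAct (M ⧸ Cfsg.oddCore M)) (π t') = {π t', π w} := by
            ext a
            constructor
            · rintro ⟨c, rfl⟩
              show c • π t' ∈ _
              rw [ConjAct.smul_def]
              rcases four_closure htV hwV hπt1 hw1 (Ne.symm hwt)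
                (hVn.conj_mem _ htV (ConjAct.ofConjAct c)) with e | e | e | e
              · exact absurd (conj_eq_one_iff.1 e) hπt1
              · exact Or.inl e
              · exact Or.inr e
              · exact absurd e (hcon _)
            · rintro (rfl | rfl)
              · exact MulAction.mem_orbit_self _
              · exact ⟨ConjAct.toConjAct x, by show ConjAct.toConjAct x • π t' = _; rw [ConjAct.smul_def]; exact hx⟩
          have hc2 := MulAction.index_stabilizer (ConjAct (M ⧸ Cfsg.oddCore M)) (π t')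
          rw [hset, Set.ncard_pair (Ne.symm hwt)] at hc2
          have hdvd : (MulAction.stabilizer (ConjAct (M ⧸ Cfsg.oddCore M)) (π t')).index ∣
              ((T' : Subgroup (M ⧸ Cfsg.oddCore M)).map ConjAct.toConjAct.toMonoidHom).index :=
            Subgroup.index_dvd_of_le (by
              rintro _ ⟨a, ha, rfl⟩
              show ConjAct.toConjAct a • π t' = π t'
              rw [ConjAct.smul_def]
              show a * π t' * a⁻¹ = π t'
              rw [(hcenT a ha).eq, mul_inv_cancel_right])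
          rw [hc2, show ((T' : Subgroup (M ⧸ Cfsg.oddCore M)).map ConjAct.toConjAct.toMonoidHom).index = (T' : Subgroup (M ⧸ Cfsg.oddCore M)).index from Subgroup.index_map_equiv _ ConjAct.toConjAct] at hdvd
          exact T'.not_dvd_index hdvd
        have hyx : ∀ a, y * x * a * (y * x)⁻¹ = y * (x * a * x⁻¹) * y⁻¹ := fun a => by group
        rcases four_closure htV hwV hπt1 hw1 (Ne.symm hwt) (hVn.conj_mem _ hwV y) with e | e | e | e
        · exact hw1 (conj_eq_one_iff.1 e)
        · -- `y` is a three-cycle backwards: use its square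
          refine hfin (y * y) ?_ ?_
          · rw [show y * y * π t' * (y * y)⁻¹ = y * (y * π t' * y⁻¹) * y⁻¹ by group, hy,
              show y * (π t' * π w) * y⁻¹ = y * π t' * y⁻¹ * (y * π w * y⁻¹) by group, hy, e,
              mul_assoc, ← (htw.map π).eq, ← mul_assoc, ← map_mul, htt, map_one, one_mul]
          · rw [show y * y * π w * (y * y)⁻¹ = y * (y * π w * y⁻¹) * y⁻¹ by group, e, hy]
        · refine hfin (y * x) ?_ ?_
          · rw [hyx, hx, e]
          · rw [hyx, h, hy]
        · exact hwt ((MulAut.conj y).injective (e.trans hy.symm))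
      · exact hwt ((MulAut.conj x).injective (h.trans hx.symm))
      · exact hfin x hx h
  -- the two nonconjugacy facts
  have hnfg : ∀ h : M, h * t' * h⁻¹ = u' → h * u' * h⁻¹ = t' * u' → False := fun h e1 e2 =>
    hnf ⟨h, h.2, congrArg Subtype.val e1, congrArg Subtype.val e2⟩
  have htuw : t' * (t' * u') = u' := by rw [← mul_assoc, htt, one_mul]
  have hns := key u' huT (Ne.symm hπne) hπu1 huu htu hne hu1 hnfg
  have hns' := key (t' * u') (mul_mem htT huT) (Ne.symm hπne') hπtu1
    (by rw [htu.symm.mul_mul_mul_comm, htt, huu, one_mul]) ((Commute.refl t').mul_right htu)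
    (fun h => hu1 (mul_eq_left.1 h)) (fun h => hπtu1 (by rw [h, map_one]))
    (fun h e1 e2 => hnfg (h * h)
      (by rw [show h * h * t' * (h * h)⁻¹ = h * (h * t' * h⁻¹) * h⁻¹ by group, e1, e2, htuw])
      (by
        rw [htuw] at e2
        have hu' : h * u' * h⁻¹ = t' := by
          calc h * u' * h⁻¹ = (h * t' * h⁻¹)⁻¹ * (h * (t' * u') * h⁻¹) := by group
            _ = t' := by
              rw [e1, e2, mul_inv_rev, inv_eq_of_mul_eq_one_right huu, inv_eq_of_mul_eq_one_right htt,
                htu.symm.eq, mul_assoc, huu, mul_one]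
        rw [show h * h * u' * (h * h)⁻¹ = h * (h * u' * h⁻¹) * h⁻¹ by group, hu', e1]))
  have hns0 : ∀ g ∈ M, g * Φ.t * g⁻¹ ≠ Φ.refl i := fun g hg e => hns (π ⟨g, hg⟩) (by
    rw [← map_mul, ← map_inv, ← map_mul]; exact congrArg π (Subtype.ext e))
  have hns0' : ∀ g ∈ M, g * Φ.t * g⁻¹ ≠ Φ.t * Φ.refl i := fun g hg e => hns' (π ⟨g, hg⟩) (by
    rw [← map_mul, ← map_inv, ← map_mul]; exact congrArg π (Subtype.ext e))
  -- involutions centralising a reflection of the four group
  have syl : ∀ a o : G, a ∈ (Φ.S : Subgroup G) → o ∈ (Φ.S : Subgroup G) → a * a = 1 → a ≠ 1 → a ≠ Φ.t → o = Φ.t * a →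
      (∀ g ∈ M, g * Φ.t * g⁻¹ ≠ a) → ∀ z ∈ M, z * z = 1 → Commute z a → z ≠ 1 → z ≠ a →
        ∃ h ∈ M, h * a * h⁻¹ = a ∧ (h * z * h⁻¹ = Φ.t ∨ h * z * h⁻¹ = o) := by
    intro a o ha _ haa ha1 hat ho hnsa z hzM hzz hza hz1 hz2
    have hta : Commute Φ.t a := (Φ.t_central a ha).symm
    haveI : IsKleinFour ↥(Subgroup.closure ({Φ.t, a} : Set G)) :=
      klein_pair Φ.tt haa hta Φ.t_ne ha1 hat
    set U := Subgroup.closure ({Φ.t, a} : Set G)
    have htU : Φ.t ∈ U := Subgroup.subset_closure (Or.inl rfl)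
    have haU : a ∈ U := Subgroup.subset_closure (Or.inr rfl)
    let H : Subgroup G := M ⊓ Subgroup.centralizer ({a} : Set G)
    have haH : ∀ g ∈ H, Commute g a := fun g hg => Subgroup.mem_centralizer_singleton_iff.1 hg.2
    have hUH : U ≤ H := by
      rw [Subgroup.closure_le]
      rintro x (rfl | rfl)
      · exact ⟨hSM Φ.t_mem, Subgroup.mem_centralizer_singleton_iff.2 hta.eq⟩
      · exact ⟨hSM ha, Subgroup.mem_centralizer_singleton_iff.2 rfl⟩
    obtain ⟨R, hR⟩ := ((IsPGroup.of_card (p := 2) (n := 2) (G := U) (by rw [IsKleinFour.card_four]; norm_num)).comap_of_injective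
      H.subtype H.subtype_injective).exists_le_sylow
    obtain ⟨R', hR'⟩ := ((R.isPGroup'.map (Subgroup.inclusion (inf_le_left : H ≤ M)))).exists_le_sylow
    obtain ⟨g, hg⟩ := MulAction.exists_smul_eq M R' T
    have hgS : ∀ x ∈ (R : Subgroup H), (g : G) * (x : G) * (g : G)⁻¹ ∈ (Φ.S : Subgroup G) := fun x hx => by
      have : g * Subgroup.inclusion (inf_le_left : H ≤ M) x * g⁻¹ ∈ (T : Subgroup M) := by
        rw [← hg, Sylow.coe_subgroup_smul]
        exact ⟨_, hR' ⟨x, hx, rfl⟩, rfl⟩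
      exact this
    have haR : (⟨a, hUH haU⟩ : H) ∈ (R : Subgroup H) := hR haU
    obtain ⟨b, hb⟩ : ∃ b, b = (g : G) * a * (g : G)⁻¹ := ⟨_, rfl⟩
    have hbS : b ∈ (Φ.S : Subgroup G) := hb ▸ hgS _ haR
    have hbt : b ≠ Φ.t := fun h => hnsa ((g⁻¹ : M) : G) (g⁻¹).2 (by rw [← h, hb]; push_cast; group)
    obtain ⟨d, hd⟩ := (Φ.hom_range ▸ hbS : b ∈ Φ.hom.range)
    have hd2 : d * d = 1 := Φ.hom_inj (by rw [map_mul, hd, map_one, hb]; calc
      (g : G) * a * (g : G)⁻¹ * ((g : G) * a * (g : G)⁻¹) = (g : G) * (a * a) * (g : G)⁻¹ := by group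
      _ = 1 := by rw [haa, mul_one, mul_inv_cancel])
    obtain ⟨j, rfl⟩ : ∃ j, d = sr j := by
      rcases d with j | j
      · exfalso
        rw [r_mul_r, DihedralGroup.one_def] at hd2
        rcases Fusion.zmod_double_eq_zero (DihedralGroup.r.inj hd2) with h | h
        · rw [h, ← DihedralGroup.one_def, map_one, hb] at hd
          exact ha1 (conj_eq_one_iff.1 hd.symm)
        · rw [h, Φ.hom_half] at hd
          exact hbt hd.symm
      · exact ⟨j, rfl⟩
    -- so the Sylow subgroup of the centraliser is the four group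
    have hcard4 : Nat.card (R : Subgroup H) ≤ 4 := by
      let W : Finset G := {1, Φ.t, b, Φ.t * b}
      have hW : ∀ x ∈ (R : Subgroup H), (g : G) * (x : G) * (g : G)⁻¹ ∈ W := by
        intro x hx
        have hxb : Commute ((g : G) * (x : G) * (g : G)⁻¹) b := hb ▸ (Commute.conj_iff (g : G)).2 (haH x x.2)
        obtain ⟨e, he⟩ := (Φ.hom_range ▸ hgS x hx : (g : G) * (x : G) * (g : G)⁻¹ ∈ Φ.hom.range)
        rw [← he, ← hd] at hxb
        have heq : e * sr j = sr j * e := Φ.hom_inj (by rw [map_mul, map_mul]; exact hxb.eq)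
        rw [← he]
        rcases e with l | l
        · rw [r_mul_sr, sr_mul_r] at heq
          have h2 : l + l = 0 := by linear_combination -(DihedralGroup.sr.inj heq)
          rcases Fusion.zmod_double_eq_zero h2 with h | h
          · simp [W, h, ← DihedralGroup.one_def]
          · simp [W, h, Φ.hom_half]
        · rw [sr_mul_sr, sr_mul_sr] at heq
          have h2 : (l - j) + (l - j) = 0 := by linear_combination -(DihedralGroup.r.inj heq)
          rcases Fusion.zmod_double_eq_zero h2 with h | h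
          · simp [W, sub_eq_zero.1 h, hd]
          · have e' : (sr l : DihedralGroup (2 ^ Φ.k)) = r ((2 ^ Φ.k / 2 : ℕ) : ZMod (2 ^ Φ.k)) * sr j := by
              rw [r_mul_sr]; congr 1
              linear_combination h + Φ.half_add
            have hl : Φ.hom (sr l) = Φ.t * b := by rw [e', map_mul, hd, Φ.hom_half]
            simp [W, hl]
      let f : ↥(R : Subgroup H) → W := fun x => ⟨_, hW x x.2⟩
      have hf : Function.Injective f := fun x y h => Subtype.ext (Subtype.ext ((MulAut.conj (g : G)).injective (congrArg Subtype.val h)))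
      refine (Nat.card_le_card_of_injective f hf).trans ?_
      rw [Nat.card_eq_finsetCard]
      exact Finset.card_le_four
    have hRU : ∀ x ∈ (R : Subgroup H), (x : G) ∈ U := by
      have heq : U.comap H.subtype = (R : Subgroup H) := Subgroup.eq_of_le_of_card_ge hR (by
        have e4 : Nat.card (U.comap H.subtype : Subgroup H) = 4 :=
          (Nat.card_congr (Subgroup.subgroupOfEquivOfLe hUH).toEquiv).trans IsKleinFour.card_four
        omega)
      exact fun x hx => (heq ▸ hx : x ∈ U.comap H.subtype)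
    let z' : H := ⟨z, hzM, Subgroup.mem_centralizer_singleton_iff.2 hza.eq⟩
    obtain ⟨R₂, hR₂⟩ := (IsPGroup.of_card (p := 2) (n := 1) (G := Subgroup.zpowers z') (by
      rw [Nat.card_zpowers, pow_one]
      exact orderOf_eq_prime (by rw [pow_two]; exact Subtype.ext hzz) fun h => hz1 (congrArg Subtype.val h))).exists_le_sylow
    obtain ⟨h, hh⟩ := MulAction.exists_smul_eq H R₂ R
    have hmem : h * z' * h⁻¹ ∈ (R : Subgroup H) := by
      rw [← hh, Sylow.coe_subgroup_smul]
      exact ⟨z', hR₂ (Subgroup.mem_zpowers z'), rfl⟩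
    have hha : (h : G) * a * (h : G)⁻¹ = a := by rw [(haH h h.2).eq, mul_inv_cancel_right]
    refine ⟨h, h.2.1, hha, ?_⟩
    rcases four_closure htU haU Φ.t_ne ha1 hat.symm (hRU _ hmem) with e | e | e | e
    · exact absurd (conj_eq_one_iff.1 e) hz1
    · exact Or.inl e
    · exact absurd ((MulAut.conj (h : G)).injective (e.trans hha.symm)) hz2
    · exact Or.inr (e.trans ho.symm)
  refine ⟨hodd, hns0, hns0', syl (Φ.refl i) _ (Φ.refl_mem i) (mul_mem Φ.t_mem (Φ.refl_mem i)) (Φ.uu i)
    (Φ.refl_ne_one i) (Φ.refl_ne i) rfl hns0, syl (Φ.t * Φ.refl i) _ (mul_mem Φ.t_mem (Φ.refl_mem i)) (Φ.refl_mem i)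
    (by rw [(Φ.commute i).symm.mul_mul_mul_comm, Φ.tt, Φ.uu, one_mul])
    (fun h => hπtu1 (by rw [show t' * u' = 1 from Subtype.ext h, map_one]))
    (fun h => Φ.refl_ne_one i (mul_eq_left.1 h)) (by rw [← mul_assoc, Φ.tt, one_mul]) hns0'⟩

end Cfsg.Agent.GW
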