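import Cfsg.Agent.Lib.GW.ProperStructure
import Cfsg.Agent.Lib.GW.Centralizer
import Cfsg.Agent.Lib.GW.NormalFour
import Cfsg.Agent.Lib.GW.MaxShape
import Cfsg.Agent.Lib.GW.PslInvariant

/-!
# The Fitting subgroup of a maximal subgroup over a nonmaximal involution centraliser

`shape_of_minimal` is the field `shape` of the external facts.
-/

set_option autoImplicit false
set_option linter.style.haveILetI false
set_option linter.unusedSectionVars false

namespace Cfsg.Agent.GW

open Cfsg Cfsg.Agent Cfsg.Agent.GW.Reduced DihedralGroup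

universe u

theorem central_unique {m : ℕ} (hm : 3 ≤ m) {a b : DihedralGroup m} (ha : a ∈ Subgroup.center (DihedralGroup m))
    (hb : b ∈ Subgroup.center (DihedralGroup m)) (ha1 : a ≠ 1) (hb1 : b ≠ 1) : a = b := by
  haveI : NeZero m := ⟨by omega⟩
  have key : ∀ c ∈ Subgroup.center (DihedralGroup m), c ≠ 1 → ∃ l : ZMod m, c = r l ∧ l.val * 2 = m := by
    intro c hc hc1
    rcases c with l | l
    · have h := Subgroup.mem_center_iff.1 hc (sr 0)
      rw [sr_mul_r, r_mul_sr] at h
      have h2 : ((l.val * 2 : ℕ) : ZMod m) = 0 := by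
        push_cast; rw [ZMod.natCast_rightInverse l]; linear_combination DihedralGroup.sr.inj h
      obtain ⟨q, hq⟩ := (ZMod.natCast_eq_zero_iff _ _).1 h2
      have hl : l.val ≠ 0 := fun h0 => hc1 (by rw [(ZMod.val_eq_zero l).1 h0, DihedralGroup.one_def])
      have := ZMod.val_lt l
      rcases q with _ | _ | q
      · omega
      · exact ⟨l, rfl, by omega⟩
      · nlinarith
    · exfalso
      have h := Subgroup.mem_center_iff.1 hc (r 1)
      rw [r_mul_sr, sr_mul_r] at h
      have h2 : ((2 : ℕ) : ZMod m) = 0 := by push_cast; linear_combination -(DihedralGroup.sr.inj h)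
      have := Nat.le_of_dvd two_pos ((ZMod.natCast_eq_zero_iff _ _).1 h2)
      omega
  obtain ⟨l, rfl, hl⟩ := key a ha ha1
  obtain ⟨j, rfl, hj⟩ := key b hb hb1
  rw [ZMod.val_injective m (by omega : l.val = j.val)]

variable {G : Type u} [Group G] [Finite G]

/-- The field `shape` of the external facts. -/
theorem shape_of_minimal (hG : Minimal G) (Φ : Frame G) (M : Subgroup G) (hM : IsCoatom M)
    (hC : Subgroup.centralizer ({Φ.t} : Set G) ≤ M) (hne : M ≠ Subgroup.centralizer ({Φ.t} : Set G)) :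
    Odd (Nat.card (Cfsg.fittingSubgroup M)) ∨
      ∃ i, M ≤ Subgroup.normalizer ((Φ.U i : Subgroup G) : Set G) := by
  classical
  haveI : Fact (Nat.Prime 2) := ⟨Nat.prime_two⟩
  haveI := hG.simple
  by_cases hodd : Odd (Nat.card (Cfsg.fittingSubgroup M))
  · exact Or.inl hodd
  right
  have hSM : (Φ.S : Subgroup G) ≤ M := Φ.S_le.trans hC
  have hQne : Cfsg.pCore 2 M ≠ ⊥ :=
    (BenderUniq.core_dvd Nat.prime_two).1 (even_iff_two_dvd.1 (Nat.not_odd_iff_even.1 hodd))
  haveI : (Cfsg.pCore 2 M).Normal := Solv.pCore_normal 2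
  obtain ⟨Q, hQ⟩ : ∃ Q, Q = (Cfsg.pCore 2 M).map M.subtype := ⟨_, rfl⟩
  have hQS : Q ≤ (Φ.S : Subgroup G) := by
    rw [hQ]; rintro _ ⟨x, hx, rfl⟩
    exact Fusion.pCore_le_sylow (Φ.S.subtype hSM) hx
  have hQn : ∀ g ∈ M, ∀ x ∈ Q, g * x * g⁻¹ ∈ Q := by
    rw [hQ]; rintro g hg _ ⟨x, hx, rfl⟩
    exact ⟨⟨g, hg⟩ * x * ⟨g, hg⟩⁻¹, Subgroup.Normal.conj_mem inferInstance x hx _, rfl⟩
  have hQne' : Q ≠ ⊥ := by
    rw [hQ, Ne, Subgroup.map_eq_bot_iff_of_injective _ M.subtype_injective]; exact hQne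
  -- a fixed involution gives the centraliser
  have hfix : ∀ z : G, orderOf z = 2 → (∀ g ∈ M, g * z * g⁻¹ = z) → False := by
    intro z hz hg
    obtain ⟨c, hc⟩ := isConj_iff.1 (hG.oneClass Φ.t z Φ.t_order hz)
    have hMz : M ≤ Subgroup.centralizer ({z} : Set G) := fun g hg' =>
      Subgroup.mem_centralizer_singleton_iff.2 (mul_inv_eq_iff_eq_mul.1 (hg g hg'))
    refine hne (le_antisymm ?_ hC)
    have hcard : Nat.card ↥(Subgroup.centralizer ({z} : Set G)) ≤ Nat.card ↥(Subgroup.centralizer ({Φ.t} : Set G)) := by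
      let f : Subgroup.centralizer ({z} : Set G) → Subgroup.centralizer ({Φ.t} : Set G) := fun x =>
        ⟨c⁻¹ * (x : G) * c, Subgroup.mem_centralizer_singleton_iff.2 (by
          have hx : (x : G) * z = z * x := Subgroup.mem_centralizer_singleton_iff.1 x.2
          calc c⁻¹ * (x : G) * c * Φ.t = c⁻¹ * ((x : G) * (c * Φ.t * c⁻¹)) * c := by group
            _ = c⁻¹ * (c * Φ.t * c⁻¹ * (x : G)) * c := by simp only [hc, hx]
            _ = Φ.t * (c⁻¹ * (x : G) * c) := by group)⟩
      exact Nat.card_le_card_of_injective f fun x y h =>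
        Subtype.ext (mul_left_cancel (mul_right_cancel (congrArg Subtype.val h)))
    exact (Subgroup.eq_of_le_of_card_ge hC ((Nat.le_of_dvd Nat.card_pos (Subgroup.card_dvd_of_le hMz)).trans hcard)).ge
  obtain ⟨⟨z, hzQ⟩, hz⟩ := exists_prime_orderOf_dvd_card' (G := Q) 2 (by
    obtain ⟨j, hj⟩ := IsPGroup.iff_card.1 (Φ.S.isPGroup'.to_le hQS)
    rcases j with _ | j
    · exact absurd (Subgroup.card_eq_one.1 (hj.trans (pow_zero 2))) hQne'
    · exact hj ▸ dvd_pow_self 2 (Nat.succ_ne_zero j))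
  rcases two_subgroup_cases Φ.ι.symm Q hQS with h | ⟨h1, h4⟩ | ⟨m, hm, ⟨d⟩⟩
  · exfalso
    haveI := h
    refine hfix z (by rw [← hz, Subgroup.orderOf_mk]) fun g hg => ?_
    have hz' : g * z * g⁻¹ ∈ Q := hQn g hg z hzQ
    have ho : orderOf (⟨_, hz'⟩ : Q) = orderOf (⟨z, hzQ⟩ : Q) := by
      rw [Subgroup.orderOf_mk, Subgroup.orderOf_mk]
      exact orderOf_injective (MulAut.conj g).toMonoidHom (MulAut.conj g).injective z
    have heq : Subgroup.zpowers (⟨_, hz'⟩ : Q) = Subgroup.zpowers (⟨z, hzQ⟩ : Q) := by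
      classical
      haveI := Fintype.ofFinite Q
      have hS : ∀ w : Q, orderOf w = 2 → Subgroup.zpowers w = Subgroup.zpowers (⟨z, hzQ⟩ : Q) := fun w hw => by
        have hcard : (Finset.univ.filter fun a : Q => a ^ 2 = 1).card ≤ 2 := IsCyclic.card_pow_eq_one_le two_pos
        by_contra hne'
        have hwz : w ≠ ⟨z, hzQ⟩ := fun e => hne' (e ▸ rfl)
        have h3 : ({1, w, ⟨z, hzQ⟩} : Finset Q) ⊆ Finset.univ.filter fun a : Q => a ^ 2 = 1 := by
          intro a ha
          simp only [Finset.mem_insert, Finset.mem_singleton] at ha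
          refine Finset.mem_filter.2 ⟨Finset.mem_univ _, ?_⟩
          rcases ha with rfl | rfl | rfl
          · exact one_pow 2
          · exact orderOf_dvd_iff_pow_eq_one.1 hw.dvd
          · exact orderOf_dvd_iff_pow_eq_one.1 hz.dvd
        have h3' : ({1, w, ⟨z, hzQ⟩} : Finset Q).card = 3 :=
          Finset.card_eq_three.2 ⟨1, w, ⟨z, hzQ⟩, fun e => by rw [← e, orderOf_one] at hw; omega,
            fun e => by rw [← e, orderOf_one] at hz; omega, hwz, rfl⟩
        have := Finset.card_le_card h3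
        omega
      exact hS _ (ho.trans hz)
    obtain ⟨j, hj⟩ := Subgroup.mem_zpowers_iff.1 (heq ▸ Subgroup.mem_zpowers (⟨_, hz'⟩ : Q))
    have hj' : z ^ j = g * z * g⁻¹ := congrArg Subtype.val hj
    have hz2 : z * z = 1 := by rw [← pow_two, ← orderOf_dvd_iff_pow_eq_one, ← hz, Subgroup.orderOf_mk]
    rcases Int.even_or_odd' j with ⟨l, rfl | rfl⟩
    · rw [zpow_mul, zpow_two, hz2, one_zpow, eq_comm, conj_eq_one_iff] at hj'
      rw [hj']; group
    · rw [zpow_add_one, zpow_mul, zpow_two, hz2, one_zpow, one_mul] at hj'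
      exact hj'.symm
  · haveI : IsKleinFour Q := ⟨h4, Nat.dvd_antisymm (Monoid.exponent_dvd_of_forall_pow_eq_one fun x =>
      Subtype.ext (by rw [Subgroup.coe_pow, pow_two]; exact h1 x x.2)) (hz ▸ Monoid.order_dvd_exponent _)⟩
    have htQ : Φ.t ∈ Q := four_self Φ.S Φ.ι.symm Q inferInstance Φ.tt fun v hv => Φ.t_central v (hQS hv)
    obtain ⟨x, hx, hx1, hxt⟩ : ∃ x ∈ Q, x ≠ 1 ∧ x ≠ Φ.t := by
      by_contra hcon
      push Not at hcon
      have hle : Q ≤ Subgroup.zpowers Φ.t := fun y hy => by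
        by_cases hy1 : y = 1
        · rw [hy1]; exact one_mem _
        · rw [hcon y hy hy1]; exact Subgroup.mem_zpowers _
      have := Subgroup.card_dvd_of_le hle
      rw [h4, Nat.card_zpowers, Φ.t_order] at this
      omega
    obtain ⟨e, he⟩ := (Φ.hom_range ▸ hQS hx : x ∈ Φ.hom.range)
    rcases e with l | l
    · exfalso
      have h2 : (r l : DihedralGroup (2 ^ Φ.k)) * r l = 1 := Φ.hom_inj (by rw [map_mul, he, map_one]; exact h1 x hx)
      rw [r_mul_r, DihedralGroup.one_def] at h2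
      rcases Fusion.zmod_double_eq_zero (DihedralGroup.r.inj h2) with h | h
      · rw [h, ← DihedralGroup.one_def, map_one] at he; exact hx1 he.symm
      · rw [h, Φ.hom_half] at he; exact hxt he.symm
    · refine ⟨l, fun g hg => ?_⟩
      have hU : (Φ.U l : Subgroup G) = Q := by
        ext y
        rw [Φ.mem_U_iff, ← Φ.hom_sr, he]
        constructor
        · rintro (rfl | rfl | rfl | rfl)
          exacts [one_mem _, htQ, hx, mul_mem htQ hx]
        · exact fun hy => four_closure htQ hx Φ.t_ne hx1 hxt.symm hy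
      rw [hU]
      haveI := hG.simple
      exact mem_norm_of_conj (hQn g hg)
  · exfalso
    obtain ⟨⟨c, hcc⟩, hc1⟩ : ∃ c : Subgroup.center Q, c ≠ 1 := by
      haveI : Nontrivial Q := (Subgroup.nontrivial_iff_ne_bot Q).2 hQne'
      haveI := (Φ.S.isPGroup'.to_le hQS).center_nontrivial
      exact exists_ne 1
    have hcen : ∀ w : Q, (∀ v, Commute v w) → w ≠ 1 → w = c := by
      intro w hw hw1
      refine d.injective (central_unique hm ?_ ?_ (fun h => hw1 (d.injective (h.trans (map_one d).symm)))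
        (fun h => hc1 (Subtype.ext (d.injective (h.trans (map_one d).symm)))))
      · exact Subgroup.mem_center_iff.2 fun v => by obtain ⟨v, rfl⟩ := d.surjective v; rw [← map_mul, ← map_mul, (hw v).eq]
      · exact Subgroup.mem_center_iff.2 fun v => by
          obtain ⟨v, rfl⟩ := d.surjective v; rw [← map_mul, ← map_mul, Subgroup.mem_center_iff.1 hcc v]
    have hgc : ∀ g ∈ M, g * (c : G) * g⁻¹ = c := by
      intro g hg
      refine congrArg Subtype.val (hcen ⟨_, hQn g hg c c.2⟩ (fun v => Subtype.ext ?_) fun h => ?_)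
      · have hv := hQn g⁻¹ (inv_mem hg) v v.2
        rw [inv_inv] at hv
        have h := congrArg (fun q : Q => g * (q : G) * g⁻¹) (Subgroup.mem_center_iff.1 hcc ⟨_, hv⟩)
        simp only [Subgroup.coe_mul] at h
        show (v : G) * (g * (c : G) * g⁻¹) = g * (c : G) * g⁻¹ * (v : G)
        calc (v : G) * (g * (c : G) * g⁻¹) = g * (g⁻¹ * (v : G) * g * (c : G)) * g⁻¹ := by group
          _ = g * ((c : G) * (g⁻¹ * (v : G) * g)) * g⁻¹ := h
          _ = _ := by group
      · have h' : g * (c : G) * g⁻¹ = 1 := congrArg Subtype.val h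
        exact hc1 (Subtype.ext (Subtype.ext (conj_eq_one_iff.1 h')))
    refine hfix c ?_ hgc
    rw [Subgroup.orderOf_coe]
    have hcM : ∀ v : Q, Commute v (c * c) := fun v =>
      (show Commute v c from Subgroup.mem_center_iff.1 hcc v).mul_right (Subgroup.mem_center_iff.1 hcc v)
    refine orderOf_eq_prime ?_ (fun h => hc1 (Subtype.ext h))
    rw [pow_two]
    by_contra hcc2
    have := hcen _ hcM hcc2
    exact hc1 (Subtype.ext (by simpa using this))

end Cfsg.Agent.GW
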