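import Cfsg.Agent.Lib.GW.Centralizer
import Cfsg.Agent.Lib.GW.NormalFour
import Cfsg.Agent.Lib.GW.FusedMax
import Cfsg.Agent.S0508
import Cfsg.Agent.Lib.Small.SimpleOrderTools

/-!
# Assembly of the theorem of Gorenstein and Walter

`External` lists what the assembly takes from the other files; everything else is deduced here.
-/

set_option autoImplicit false
set_option linter.style.haveILetI false
set_option linter.unusedSectionVars false

namespace Cfsg.Agent.GW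

open Cfsg Cfsg.Agent DihedralGroup Cfsg.Agent.GW.Reduced

universe u

variable {G : Type u} [Group G] [Finite G]

/-- A nontrivial normal subgroup of a dihedral two-group contains the central involution. -/
theorem half_mem_of_normal {k : ℕ} (hk : 2 ≤ k) (N : Subgroup (DihedralGroup (2 ^ k))) (hN : N.Normal) (hne : N ≠ ⊥) :
    r ((2 ^ k / 2 : ℕ) : ZMod (2 ^ k)) ∈ N := by
  haveI : Fact (Nat.Prime 2) := ⟨Nat.prime_two⟩
  haveI : NeZero (2 ^ k) := ⟨by positivity⟩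
  have hrot : ∀ i : ZMod (2 ^ k), i ≠ 0 → r i ∈ N → r ((2 ^ k / 2 : ℕ) : ZMod (2 ^ k)) ∈ N := by
    intro i hi hmem
    have h2 : 2 ∣ orderOf (r i : DihedralGroup (2 ^ k)) := by
      obtain ⟨j, hj, hj'⟩ := (Nat.dvd_prime_pow Nat.prime_two).1
        (show orderOf (r i : DihedralGroup (2 ^ k)) ∣ 2 ^ k by
          rw [orderOf_r]; exact Nat.div_dvd_of_dvd (Nat.gcd_dvd_left _ _))
      rcases j with _ | j
      · exact absurd (DihedralGroup.r.inj ((orderOf_eq_one_iff.1 (hj'.trans (pow_zero 2))).trans DihedralGroup.one_def)) hi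
      · exact hj' ▸ dvd_pow_self 2 (Nat.succ_ne_zero j)
    have ho : orderOf ((r i : DihedralGroup (2 ^ k)) ^ (orderOf (r i : DihedralGroup (2 ^ k)) / 2)) = 2 := by
      rw [orderOf_pow_of_dvd (Nat.div_ne_zero_iff.2 ⟨two_ne_zero, Nat.le_of_dvd (orderOf_pos _) h2⟩)
        (Nat.div_dvd_of_dvd h2), Nat.div_div_self h2 (orderOf_pos _).ne']
    have hc : (r i : DihedralGroup (2 ^ k)) ^ (orderOf (r i : DihedralGroup (2 ^ k)) / 2) =
        r ((2 ^ k / 2 : ℕ) : ZMod (2 ^ k)) := by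
      rw [show (r i : DihedralGroup (2 ^ k)) = r 1 ^ i.val by rw [r_one_pow, ZMod.natCast_rightInverse], ← pow_mul,
        r_one_pow] at ho ⊢
      rcases Fusion.zmod_double_eq_zero (show ((i.val * (orderOf ((r 1 : DihedralGroup (2 ^ k)) ^ i.val) / 2) : ℕ) :
          ZMod (2 ^ k)) + _ = 0 by
        have := pow_orderOf_eq_one (r ((i.val * (orderOf ((r 1 : DihedralGroup (2 ^ k)) ^ i.val) / 2) : ℕ) :
          ZMod (2 ^ k)) : DihedralGroup (2 ^ k))
        rw [ho, pow_two, r_mul_r, DihedralGroup.one_def] at this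
        exact DihedralGroup.r.inj this) with h | h
      · rw [h, ← DihedralGroup.one_def, orderOf_one] at ho; omega
      · rw [h]
    exact hc ▸ N.pow_mem hmem _
  obtain ⟨⟨x, hx⟩, hx1'⟩ := Subgroup.ne_bot_iff_exists_ne_one.1 hne
  have hx1 : x ≠ 1 := fun e => hx1' (Subtype.ext e)
  rcases x with i | i
  · exact hrot i (fun h0 => hx1 (by rw [h0, ← DihedralGroup.one_def])) hx
  · refine hrot 2 ?_ ?_
    · intro h0
      have h' : ((2 : ℕ) : ZMod (2 ^ k)) = 0 := by exact_mod_cast h0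
      rw [ZMod.natCast_eq_zero_iff] at h'
      have := Nat.le_of_dvd two_pos h'
      have := Nat.pow_le_pow_right two_pos hk
      omega
    · have h1 := N.mul_mem (hN.conj_mem _ hx (r 1)) hx
      rwa [inv_r, r_mul_sr, sr_mul_r, sr_mul_sr, show i - (i - 1 + -1) = (2 : ZMod (2 ^ k)) by ring] at h1

/-- In a solvable subgroup over `C(t)` the two classes of four groups are not both fused. -/
theorem not_both_fused (Φ : Frame G) (hk : 2 ≤ Φ.k) (M : Subgroup G)
    (hM : Subgroup.centralizer ({Φ.t} : Set G) ≤ M) (hs : Group.IsSolvable M)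
    (h0 : Fused Φ.t (Φ.refl 0) M) (h1 : Fused Φ.t (Φ.refl 1) M) : False := by
  haveI : Fact (Nat.Prime 2) := ⟨Nat.prime_two⟩
  haveI : NeZero (2 ^ Φ.k) := ⟨by positivity⟩
  have hSM : (Φ.S : Subgroup G) ≤ M := Φ.S_le.trans hM
  set π := QuotientGroup.mk' (Cfsg.oddCore M) with hπ
  have hodd : Odd (Nat.card (Cfsg.oddCore M)) := Nat.coprime_two_right.1 (Fusion.card_pPrimeCore_coprime 2 M)
  let T : Sylow 2 M := Φ.S.subtype hSM
  let eS : (T : Subgroup M) ≃* DihedralGroup (2 ^ Φ.k) := (Subgroup.subgroupOfEquivOfLe hSM).trans Φ.ι.symm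
  set ψ : DihedralGroup (2 ^ Φ.k) →* M ⧸ Cfsg.oddCore M := π.comp ((T : Subgroup M).subtype.comp eS.symm.toMonoidHom)
  have hψ : Function.Injective ψ := by
    rw [injective_iff_map_eq_one]
    intro d hd
    have h2 : ((eS.symm d : (T : Subgroup M)) : M) ∈ Cfsg.oddCore M := (QuotientGroup.eq_one_iff _).1 hd
    obtain ⟨j, hj⟩ := IsPGroup.iff_orderOf.1 T.isPGroup' (eS.symm d)
    refine eS.symm.injective ((Subtype.ext (orderOf_eq_one_iff.1 (Nat.eq_one_of_dvd_coprimes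
      (show Nat.Coprime (2 ^ j) (Nat.card (Cfsg.oddCore M)) from (Nat.coprime_two_left.2 hodd).pow_left j) ?_
      (Subgroup.orderOf_dvd_natCard _ h2)))).trans (map_one eS.symm).symm)
    rw [← hj, Subgroup.orderOf_coe]
  set T' := T.mapSurjective (QuotientGroup.mk'_surjective (Cfsg.oddCore M))
  have hrange : ψ.range = (T' : Subgroup (M ⧸ Cfsg.oddCore M)) := by
    refine le_antisymm ?_ ?_
    · rintro _ ⟨d, rfl⟩
      exact ⟨_, (eS.symm d).2, rfl⟩
    · rintro _ ⟨x, hx, rfl⟩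
      exact ⟨eS ⟨x, hx⟩, by simp [ψ, π]⟩
  let e' : (T' : Subgroup (M ⧸ Cfsg.oddCore M)) ≃* DihedralGroup (2 ^ Φ.k) :=
    ((MonoidHom.ofInjective hψ).trans (MulEquiv.subgroupCongr hrange)).symm
  haveI : Group.IsSolvable (M ⧸ Cfsg.oddCore M) :=
    Group.isSolvable_of_surjective (f := π) (QuotientGroup.mk'_surjective _)
  have htM : Φ.t ∈ M := hSM Φ.t_mem
  set a := ψ (r ((2 ^ Φ.k / 2 : ℕ) : ZMod (2 ^ Φ.k))) with ha
  have hat : π ⟨Φ.t, htM⟩ = a := congrArg π (Subtype.ext rfl)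
  have hau : ∀ i, π ⟨Φ.refl i, hSM (Φ.refl_mem i)⟩ = ψ (sr i) := fun i => congrArg π (Subtype.ext rfl)
  have moved : ∀ i, Fused Φ.t (Φ.refl i) M → ∃ x, x * a * x⁻¹ = ψ (sr i) ∧
      x * ψ (sr i) * x⁻¹ = a * ψ (sr i) := by
    rintro i ⟨ρ, hρ, h1, h2⟩
    refine ⟨π ⟨ρ, hρ⟩, ?_, ?_⟩
    · rw [← hat, ← hau, ← map_mul, ← map_inv, ← map_mul]
      exact congrArg π (Subtype.ext h1)
    · rw [← hat, ← hau, ← map_mul, ← map_inv, ← map_mul, ← map_mul]
      exact congrArg π (Subtype.ext h2)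
  obtain ⟨x₀, hx0, hx0'⟩ := moved 0 h0
  obtain ⟨x₁, hx1, hx1'⟩ := moved 1 h1
  rcases solvable_cases (inferInstance : Group.IsSolvable (M ⧸ Cfsg.oddCore M))
      Fusion.pPrimeCore_quotient_eq_bot T' e' with hp | ⟨V, hVn, hV, -⟩
  · -- a two-element permutes three involutions cyclically
    have hne : ψ (sr 0) ≠ a := fun h => by cases hψ h
    have hne' : a * ψ (sr 0) ≠ a := fun h => by
      have := hψ ((mul_eq_left.1 h).trans (map_one ψ).symm)
      cases this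
    have h3 : x₀ * (a * ψ (sr 0)) * x₀⁻¹ = a := by
      have haa : a * a = 1 := by
        rw [ha, ← map_mul, r_mul_r, Φ.half_add, ← DihedralGroup.one_def, map_one]
      have hcm : ψ (sr 0) * a = a * ψ (sr 0) := by
        rw [ha, ← map_mul, ← map_mul, Fusion.DihedralFours.center_r_half Φ.two_dvd]
      have huu : ψ (sr 0) * ψ (sr 0) = 1 := by rw [← map_mul, sr_mul_sr, sub_self, ← DihedralGroup.one_def, map_one]
      calc x₀ * (a * ψ (sr 0)) * x₀⁻¹ = (x₀ * a * x₀⁻¹) * (x₀ * ψ (sr 0) * x₀⁻¹) := by group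
        _ = a := by rw [hx0, hx0', ← mul_assoc, hcm, mul_assoc, huu, mul_one]
    have hcyc : ∀ n : ℕ, x₀ ^ (3 * n) * a * (x₀ ^ (3 * n))⁻¹ = a := by
      intro n
      induction n with
      | zero => simp
      | succ n ih =>
        rw [show 3 * (n + 1) = 1 + (1 + (1 + 3 * n)) by omega, pow_add, pow_add, pow_add, pow_one]
        calc x₀ * (x₀ * (x₀ * x₀ ^ (3 * n))) * a * (x₀ * (x₀ * (x₀ * x₀ ^ (3 * n))))⁻¹
            = x₀ * (x₀ * (x₀ * (x₀ ^ (3 * n) * a * (x₀ ^ (3 * n))⁻¹) * x₀⁻¹) * x₀⁻¹) * x₀⁻¹ := by group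
          _ = a := by rw [ih, hx0, hx0', h3]
    obtain ⟨j, hj⟩ := hp x₀
    have hm : 2 ^ j % 3 = 1 ∨ 2 ^ j % 3 = 2 := by
      have : ¬ 3 ∣ 2 ^ j := fun h => by have := Nat.prime_three.dvd_of_dvd_pow h; omega
      omega
    rcases hm with hm | hm
    · have h := hj
      rw [show 2 ^ j = 1 + 3 * (2 ^ j / 3) by omega, pow_add, pow_one] at h
      refine hne ?_
      calc ψ (sr 0) = x₀ * (x₀ ^ (3 * (2 ^ j / 3)) * a * (x₀ ^ (3 * (2 ^ j / 3)))⁻¹) * x₀⁻¹ := by rw [hcyc, hx0]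
        _ = x₀ * x₀ ^ (3 * (2 ^ j / 3)) * a * (x₀ * x₀ ^ (3 * (2 ^ j / 3)))⁻¹ := by group
        _ = a := by rw [h]; group
    · have h := hj
      rw [show 2 ^ j = 1 + (1 + 3 * (2 ^ j / 3)) by omega, pow_add, pow_add, pow_one] at h
      refine hne' ?_
      calc a * ψ (sr 0) = x₀ * (x₀ * (x₀ ^ (3 * (2 ^ j / 3)) * a * (x₀ ^ (3 * (2 ^ j / 3)))⁻¹) * x₀⁻¹) * x₀⁻¹ := by
            rw [hcyc, hx0, hx0']
        _ = x₀ * (x₀ * x₀ ^ (3 * (2 ^ j / 3))) * a * (x₀ * (x₀ * x₀ ^ (3 * (2 ^ j / 3))))⁻¹ := by group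
        _ = a := by rw [h]; group
  · haveI := hVn
    haveI := hV
    have hVT : V ≤ (T' : Subgroup (M ⧸ Cfsg.oddCore M)) := by
      have hVp : IsPGroup 2 V := IsPGroup.of_card (n := 2) (by rw [IsKleinFour.card_four]; norm_num)
      obtain ⟨U, hU⟩ := hVp.exists_le_sylow
      obtain ⟨g, hg⟩ := MulAction.exists_smul_eq (M ⧸ Cfsg.oddCore M) U T'
      intro v hv
      rw [← hg, Sylow.coe_subgroup_smul]
      exact ⟨g⁻¹ * v * g, hU (by simpa using hVn.conj_mem v hv g⁻¹),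
        show g * (g⁻¹ * v * g) * g⁻¹ = v by group⟩
    have hN : V.comap ψ ≠ ⊥ := fun h => by
      obtain ⟨v, hv⟩ := exists_prime_orderOf_dvd_card' (G := V) 2 (by rw [IsKleinFour.card_four]; norm_num)
      obtain ⟨d, hd⟩ : (v : M ⧸ Cfsg.oddCore M) ∈ ψ.range := hrange ▸ hVT v.2
      have hd1 : d ∈ V.comap ψ := show ψ d ∈ V by rw [hd]; exact v.2
      rw [h, Subgroup.mem_bot] at hd1
      rw [hd1, map_one] at hd
      rw [show v = 1 from Subtype.ext hd.symm, orderOf_one] at hv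
      omega
    have haV : a ∈ V := half_mem_of_normal hk (V.comap ψ) (hVn.comap ψ) hN
    have hu0 : ψ (sr 0) ∈ V := hx0 ▸ hVn.conj_mem a haV x₀
    have hu1 : ψ (sr 1) ∈ V := hx1 ▸ hVn.conj_mem a haV x₁
    have hc : ψ (sr 0 * sr 1) = ψ (sr 1 * sr 0) := by
      rw [map_mul, map_mul]
      exact congrArg Subtype.val (mul_comm_of_exponent_two (IsKleinFour.exponent_two (G := V))
        (⟨_, hu0⟩ : V) ⟨_, hu1⟩)
    have h := hψ hc
    rw [sr_mul_sr, sr_mul_sr] at h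
    have h20 : ((2 : ℕ) : ZMod (2 ^ Φ.k)) = 0 := by push_cast; linear_combination DihedralGroup.r.inj h
    rw [ZMod.natCast_eq_zero_iff] at h20
    have := Nat.le_of_dvd two_pos h20
    have := Nat.pow_le_pow_right two_pos hk
    omega

/-- What the assembly takes from the other files, for one frame. -/
structure External (Φ : Frame G) : Prop where
  /-- maximal subgroups over `C(t)` are solvable -/
  solv : ∀ M : Subgroup G, IsCoatom M → Subgroup.centralizer ({Φ.t} : Set G) ≤ M → Group.IsSolvable M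
  /-- over a nonmaximal `C(t)` the Fitting subgroup is odd, or a four group is normal -/
  shape : ∀ M : Subgroup G, IsCoatom M → Subgroup.centralizer ({Φ.t} : Set G) ≤ M →
    M ≠ Subgroup.centralizer ({Φ.t} : Set G) →
    Odd (Nat.card (Cfsg.fittingSubgroup M)) ∨
      ∃ i, M ≤ Subgroup.normalizer ((Φ.U i : Subgroup G) : Set G)
  unfused : ∀ i, ∀ M : Subgroup G, IsCoatom M → Subgroup.centralizer ({Φ.t} : Set G) ≤ M →
    Odd (Nat.card (Cfsg.fittingSubgroup M)) → ¬ Fused Φ.t (Φ.refl i) M → Unfused Φ.t (Φ.refl i) M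
  layer : LayerCentralises G
  meet : ∀ i, ∀ N : Subgroup G, IsCoatom N → Φ.t ∈ N → Φ.refl i ∈ N → Cfsg.layer ↥N ≠ ⊥ →
      Φ.refl i ∈ (Cfsg.layer ↥N).map N.subtype ∨ Φ.t * Φ.refl i ∈ (Cfsg.layer ↥N).map N.subtype ∨
        (Φ.t ∈ (Cfsg.layer ↥N).map N.subtype ∧ ∃ s : G, Commute s Φ.t ∧ s * Φ.refl i * s⁻¹ = Φ.t * Φ.refl i)
  /-- `|S| = 8`: a normal four group fused in `M` -/
  eightFour : Φ.k = 2 → ∀ i, ∀ M : Subgroup G, IsCoatom M → Subgroup.centralizer ({Φ.t} : Set G) ≤ M →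
    M ≤ Subgroup.normalizer ((Φ.U i : Subgroup G) : Set G) → Fused Φ.t (Φ.refl i) M → False
  /-- a four group as Sylow subgroup: no fused proper subgroup over `C(t)` -/
  fusedFour : Φ.k = 1 → ∀ i, ∀ M : Subgroup G, IsCoatom M → Subgroup.centralizer ({Φ.t} : Set G) ≤ M →
    Fused Φ.t (Φ.refl i) M → False
  /-- the hypotheses of Brauer–Suzuki–Wall when `C(t)` is maximal -/
  bsw : IsCoatom (Subgroup.centralizer ({Φ.t} : Set G)) →
    (Φ.O ≠ ⊥ → IsCyclic ((Φ.S : Subgroup G) ⊓ Subgroup.centralizer (Φ.O : Set G) : Subgroup G) ∧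
      ((Φ.S : Subgroup G) ⊓ Subgroup.centralizer (Φ.O : Set G)).relIndex (Φ.S : Subgroup G) = 2) ∧
    (∀ s ∈ (Φ.S : Subgroup G), s ∉ Subgroup.centralizer (Φ.O : Set G) → ∀ y ∈ Φ.O, s * y * s⁻¹ = y⁻¹) ∧
    (∀ Y : Subgroup G, Y ≤ Φ.O → Y ≠ ⊥ → Subgroup.normalizer (Y : Set G) ≤ Subgroup.centralizer ({Φ.t} : Set G))

theorem centralizer_coatom {Φ : Frame G} (hG : Minimal G) (h : External Φ) :
    IsCoatom (Subgroup.centralizer ({Φ.t} : Set G)) := by
  haveI := hG.simple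
  by_contra hC
  have hne : Subgroup.centralizer ({Φ.t} : Set G) ≠ ⊤ := fun e => by
    have hz : Φ.t ∈ Subgroup.center G := Subgroup.mem_center_iff.2 fun g =>
      Subgroup.mem_centralizer_singleton_iff.1 (e ▸ Subgroup.mem_top g)
    rcases (inferInstance : (Subgroup.center G).Normal).eq_bot_or_eq_top with h' | h'
    · exact Φ.t_ne (Subgroup.mem_bot.1 (h' ▸ hz))
    · exact hG.nonab ⟨⟨fun a b => (Subgroup.mem_center_iff.1 (h' ▸ Subgroup.mem_top b) a)⟩⟩
  obtain h' | ⟨M, hM, hCM⟩ := eq_top_or_exists_le_coatom (Subgroup.centralizer ({Φ.t} : Set G))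
  · exact hne h'
  have hneC : ∀ L : Subgroup G, IsCoatom L → L ≠ Subgroup.centralizer ({Φ.t} : Set G) :=
    fun L hL e => hC (e ▸ hL)
  have hodd : ∀ L : Subgroup G, IsCoatom L → Subgroup.centralizer ({Φ.t} : Set G) ≤ L →
      Odd (Nat.card (Cfsg.fittingSubgroup L)) := fun L hL hCL =>
    (h.shape L hL hCL (hneC L hL)).resolve_right fun ⟨i, hi⟩ => by
      obtain ⟨hk2, hf⟩ := Φ.fused_of_normalizer i hCL (hneC L hL) hi
      rcases (show Φ.k = 1 ∨ Φ.k = 2 by have := Φ.hk; omega) with hk | hk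
      · exact h.fusedFour hk i L hL hCL hf
      · exact h.eightFour hk i L hL hCL hi hf
  have hfused : ∀ i, Fused Φ.t (Φ.refl i) M := by
    intro i
    by_contra hi
    obtain ⟨ρ, hρt, hρu⟩ := hG.exists_rho Φ i
    exact unfused_contradiction hG.nonab hG.kProper Φ.tt (Φ.uu i) (Φ.commute i) Φ.t_ne (Φ.refl_ne_one i)
      (Φ.refl_ne i) hρt hρu hG.free
      (fun L hL hCL => layer_bot_of_solvable (h.solv L hL hCL)) (fun L hL hCL => h.unfused i L hL hCL (hodd L hL hCL)) h.layer (h.meet i)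
      hM hCM hi
  by_cases hk : Φ.k = 1
  · exact h.fusedFour hk 0 M hM hCM (hfused 0)
  · exact not_both_fused Φ (by have := Φ.hk; omega) M hCM (h.solv M hM hCM) (hfused 0) (hfused 1)

/-- The external facts leave no minimal counterexample. -/
theorem no_minimal_of_external (hG : Minimal G) (hext : ∀ Φ : Frame G, External Φ) : False := by
  haveI := hG.simple
  obtain ⟨Φ⟩ := hG.exists_frame
  obtain ⟨ha, hb, hc⟩ := (hext Φ).bsw (centralizer_coatom hG (hext Φ))
  obtain ⟨F, hF, hFt, ho, ⟨e⟩⟩ := S0508.result Φ.S (2 ^ Φ.k)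
    (by simpa using Nat.pow_le_pow_right two_pos Φ.hk) ⟨Φ.ι.symm⟩ Φ.t Φ.t_order Φ.t_mem Φ.t_central Φ.O rfl ha hb hc
  refine hG.notModel (Or.inl ⟨F, hF, hFt, ho, ?_, ⟨e⟩⟩)
  by_contra h3
  have h2 : 2 ≤ Fintype.card F := Fintype.one_lt_card
  have hq : Fintype.card F = 3 := by obtain ⟨j, hj⟩ := ho; omega
  have hcard := Classical.Dickson.card_psl F
  rw [hq] at hcard
  norm_num at hcard
  have h12 : Nat.card G = 12 := by rw [Nat.card_congr e.toEquiv]; omega
  haveI : Fact (Nat.Prime 2) := ⟨Nat.prime_two⟩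
  have hS : Nat.card (Φ.S : Subgroup G) = 2 * 2 ^ Φ.k := by
    rw [Nat.card_congr Φ.ι.symm.toEquiv, DihedralGroup.nat_card]
  have hi := Subgroup.card_mul_index (Φ.S : Subgroup G)
  rw [hS, h12] at hi
  have hk1 : Φ.k = 1 := by
    have hk4 : ¬ 2 ≤ Φ.k := fun hk => by
      have h8 : 8 ∣ 12 := by
        have h8' : 2 ^ 3 ∣ 2 * 2 ^ Φ.k := by
          rw [← pow_succ']; exact pow_dvd_pow 2 (by omega)
        exact (h8'.trans (Dvd.intro _ hi))
      omega
    have := Φ.hk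
    omega
  rw [hk1] at hi
  have hne : (Φ.S : Subgroup G) ≠ ⊤ := fun e' => by
    rw [e', Subgroup.index_top] at hi
    omega
  have hd := Small.SmallOrders.card_dvd_index_factorial (Φ.S : Subgroup G) hne
  rw [show (Φ.S : Subgroup G).index = 3 by omega, h12] at hd
  exact absurd hd (by decide)

/-- The perfect case, once the external facts are supplied. -/
theorem perfectClass_of_external
    (hext : ∀ (G : Type u) [Group G] [Finite G], Minimal G → ∀ Φ : Frame G, External Φ) : PerfectClass.{u} :=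
  perfectClass_of_no_minimal fun G _ _ hG => no_minimal_of_external hG (hext G hG)

end Cfsg.Agent.GW
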