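import Cfsg.Agent.Lib.GW.MaxInner
import Cfsg.Agent.Lib.GW.Assembly

/-!
# The outer reflection of a nonsolvable maximal subgroup over `C(t)`

`exists_unfused_refl`: for `|S| ≥ 8` a nonsolvable maximal subgroup over `C(t)` does not conjugate `t` to some reflection.
-/

set_option autoImplicit false
set_option linter.style.haveILetI false
set_option linter.unusedSectionVars false

namespace Cfsg.Agent.GW

open Cfsg Cfsg.Agent Cfsg.Agent.GW.Reduced DihedralGroup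

universe u

variable {G : Type u} [Group G] [Finite G]

/-- A nonsolvable maximal subgroup over `C(t)`: `t` lies over the simple subgroup, some reflection outside, and is
not a conjugate of `t` there. -/
theorem exists_unfused_refl (hG : Minimal G) (Φ : Frame G) (hk : 2 ≤ Φ.k) (M : Subgroup G) (hM : IsCoatom M)
    (hC : Subgroup.centralizer ({Φ.t} : Set G) ≤ M) (hns : ¬ Group.IsSolvable M) :
    ∃ i, (∀ g ∈ M, g * Φ.t * g⁻¹ ≠ Φ.refl i) ∧ ∀ g ∈ M, g * Φ.t * g⁻¹ ≠ Φ.t * Φ.refl i := by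
  classical
  haveI : Fact (Nat.Prime 2) := ⟨Nat.prime_two⟩
  haveI := hG.simple
  haveI : (Cfsg.oddCore ↥M).Normal := Solv.pPrimeCore_normal 2
  haveI : NeZero (2 ^ Φ.k) := ⟨by positivity⟩
  have hSM : (Φ.S : Subgroup G) ≤ M := Φ.S_le.trans hC
  have hodd : Odd (Nat.card (Cfsg.oddCore M)) := Nat.coprime_two_right.1 (Fusion.card_pPrimeCore_coprime 2 M)
  haveI : Group.IsSolvable ↥(Cfsg.oddCore M) := Solv.Partition.odd_solvable hodd
  let T : Sylow 2 M := Φ.S.subtype hSM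
  set π := QuotientGroup.mk' (Cfsg.oddCore M) with hπ
  let T' := T.mapSurjective (QuotientGroup.mk'_surjective (Cfsg.oddCore M))
  obtain ⟨sq⟩ := sylow_quotient (Cfsg.oddCore M) hodd T
  let eS : (T : Subgroup M) ≃* DihedralGroup (2 ^ Φ.k) := (Subgroup.subgroupOfEquivOfLe hSM).trans Φ.ι.symm
  have hlt : Nat.card M < Nat.card G :=
    lt_of_le_of_ne M.card_le_card_group fun h => hM.1 (Subgroup.card_eq_iff_eq_top M |>.1 h)
  obtain ⟨L, hLn, hmod, hCL⟩ := nonsolvable_model_of (X := M ⧸ Cfsg.oddCore M)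
    (fun L _ SL j hj hd => hG.below L SL j (lt_of_le_of_lt (L.card_le_card_group.trans
      (Nat.card_le_card_of_surjective _ (QuotientGroup.mk'_surjective _))) hlt) hj hd)
    Fusion.pPrimeCore_quotient_eq_bot T' (Nat.one_lt_two_pow (by have := Φ.hk; omega)) (sq.symm.trans eS)
    (fun hs => hns (Group.isSolvable_of_ker_le_range (Cfsg.oddCore M).subtype π
      (by rw [QuotientGroup.ker_mk', Subgroup.range_subtype])))
  haveI := hLn
  obtain ⟨hsimp, hnab⟩ := hmod.simple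
  haveI := hsimp
  -- the homomorphism of the dihedral group into the quotient
  let ψ : DihedralGroup (2 ^ Φ.k) →* M ⧸ Cfsg.oddCore M := π.comp ((T : Subgroup M).subtype.comp eS.symm.toMonoidHom)
  have hrange : ψ.range = (T' : Subgroup (M ⧸ Cfsg.oddCore M)) := by
    refine le_antisymm ?_ ?_
    · rintro _ ⟨d, rfl⟩
      exact ⟨_, (eS.symm d).2, rfl⟩
    · rintro _ ⟨x, hx, rfl⟩
      exact ⟨eS ⟨x, hx⟩, by simp [ψ, π]⟩
  have hT'L : ¬ (T' : Subgroup (M ⧸ Cfsg.oddCore M)) ≤ L := exists_outer hG Φ hk M hM hC L hmod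
  have hne : L.comap ψ ≠ ⊥ := by
    intro h
    -- the Sylow subgroup would meet `L` trivially
    obtain ⟨x, hx⟩ := exists_prime_orderOf_dvd_card' (G := L) 2 (even_of_simple hnab)
    have hz : IsPGroup 2 (Subgroup.zpowers (x : M ⧸ Cfsg.oddCore M)) :=
      IsPGroup.of_card (n := 1) (by rw [Nat.card_zpowers, Subgroup.orderOf_coe, hx, pow_one])
    obtain ⟨R, hR⟩ := hz.exists_le_sylow
    obtain ⟨g, hg⟩ := MulAction.exists_smul_eq (M ⧸ Cfsg.oddCore M) R T'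
    have hmem : g * (x : M ⧸ Cfsg.oddCore M) * g⁻¹ ∈ (T' : Subgroup (M ⧸ Cfsg.oddCore M)) := by
      rw [← hg, Sylow.coe_subgroup_smul]
      exact ⟨_, hR (Subgroup.mem_zpowers _), rfl⟩
    obtain ⟨d, hd⟩ : g * (x : M ⧸ Cfsg.oddCore M) * g⁻¹ ∈ ψ.range := hrange ▸ hmem
    have hd1 : d ∈ L.comap ψ := by
      show ψ d ∈ L
      rw [hd]; exact hLn.conj_mem _ x.2 g
    rw [h, Subgroup.mem_bot] at hd1
    rw [hd1, map_one, eq_comm, conj_eq_one_iff] at hd
    rw [show x = 1 from Subtype.ext hd, orderOf_one] at hx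
    omega
  have htL : ψ (r ((2 ^ Φ.k / 2 : ℕ) : ZMod (2 ^ Φ.k))) ∈ L :=
    half_mem_of_normal hk (L.comap ψ) (hLn.comap ψ) hne
  obtain ⟨i, hi⟩ : ∃ i, ψ (sr i) ∉ L := by
    by_contra hno
    push Not at hno
    refine hT'L ?_
    rw [← hrange]
    rintro _ ⟨d, rfl⟩
    rcases d with j | j
    · rw [show (r j : DihedralGroup (2 ^ Φ.k)) = sr 0 * sr j by rw [sr_mul_sr, sub_zero], map_mul]
      exact L.mul_mem (hno 0) (hno j)
    · exact hno j
  have hat : π ⟨Φ.t, hSM Φ.t_mem⟩ = ψ (r ((2 ^ Φ.k / 2 : ℕ) : ZMod (2 ^ Φ.k))) := congrArg π (Subtype.ext rfl)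
  have hau : π ⟨Φ.refl i, hSM (Φ.refl_mem i)⟩ = ψ (sr i) := congrArg π (Subtype.ext rfl)
  refine ⟨i, fun g hg e => ?_, fun g hg e => ?_⟩
  · refine hi ?_
    rw [← hau, show (⟨Φ.refl i, hSM (Φ.refl_mem i)⟩ : M) = ⟨g, hg⟩ * ⟨Φ.t, hSM Φ.t_mem⟩ * ⟨g, hg⟩⁻¹ from
      Subtype.ext e.symm, map_mul, map_mul, map_inv, hat]
    exact hLn.conj_mem _ htL _
  · refine hi ?_
    rw [← hau, show (⟨Φ.refl i, hSM (Φ.refl_mem i)⟩ : M) =
      ⟨Φ.t, hSM Φ.t_mem⟩⁻¹ * (⟨g, hg⟩ * ⟨Φ.t, hSM Φ.t_mem⟩ * ⟨g, hg⟩⁻¹) from Subtype.ext (by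
        show Φ.refl i = Φ.t⁻¹ * (g * Φ.t * g⁻¹)
        rw [e, inv_mul_cancel_left]), map_mul, map_inv π, map_mul, map_mul, map_inv, hat]
    exact L.mul_mem (L.inv_mem htL) (hLn.conj_mem _ htL _)

end Cfsg.Agent.GW
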