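import Cfsg.Agent.Lib.GW.UnfusedGeneral
import Cfsg.Agent.Lib.GW.FourFused
import Cfsg.Agent.Lib.GW.EightFour
import Cfsg.Agent.Lib.GW.LayerMeet
import Cfsg.Agent.Lib.GW.MaxFitting
import Cfsg.Agent.Lib.GW.MaxOuter
import Cfsg.Agent.Lib.GW.NormalFour

/-!
# Solvability without layer

For `|S| ≥ 8`: if every maximal subgroup over `C(t)` with components is solvable (so there is none), then every
maximal subgroup over `C(t)` is solvable: a nonsolvable one leaves some four group `⟨t, u⟩` unfused, which the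
uniqueness argument excludes.
-/

set_option autoImplicit false
set_option linter.style.haveILetI false
set_option linter.unusedSectionVars false

namespace Cfsg.Agent.GW

open Cfsg Cfsg.Agent

universe u

variable {G : Type u} [Group G] [Finite G]

/-- `C(t) = O S` is solvable. -/
theorem centralizer_solvable (Φ : Frame G) : Group.IsSolvable ↥(Subgroup.centralizer ({Φ.t} : Set G)) := by
  haveI : Fact (Nat.Prime 2) := ⟨Nat.prime_two⟩
  set C := Subgroup.centralizer ({Φ.t} : Set G) with hC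
  haveI : (Cfsg.oddCore ↥C).Normal := Solv.pPrimeCore_normal 2
  haveI : Group.IsSolvable ↥(Cfsg.oddCore ↥C) :=
    Solv.Partition.odd_solvable (Nat.coprime_two_right.1 (Fusion.card_pPrimeCore_coprime 2 C))
  have htop : Cfsg.oddCore ↥C ⊔ (Φ.S.subtype Φ.S_le : Subgroup ↥C) = ⊤ := by
    refine Subgroup.map_injective C.subtype_injective ?_
    rw [Subgroup.map_sup, ← MonoidHom.range_eq_map, Subgroup.range_subtype]
    show Φ.O ⊔ ((Φ.S : Subgroup G).subgroupOf C).map C.subtype = C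
    rw [Subgroup.map_subgroupOf_eq_of_le Φ.S_le]
    exact Φ.O_sup
  have hs : Group.IsSolvable (↥C ⧸ Cfsg.oddCore ↥C) := by
    haveI : Group.IsNilpotent (Φ.S.subtype Φ.S_le : Subgroup ↥C) := (Φ.S.subtype Φ.S_le).isPGroup'.isNilpotent
    refine Group.isSolvable_of_surjective (f := (QuotientGroup.mk' (Cfsg.oddCore ↥C)).comp
      (Φ.S.subtype Φ.S_le : Subgroup ↥C).subtype) fun x => ?_
    obtain ⟨c, rfl⟩ := QuotientGroup.mk'_surjective _ x
    obtain ⟨a, ha, b, hb, rfl⟩ := Subgroup.mem_sup_of_normal_left.1 (htop ▸ Subgroup.mem_top c)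
    exact ⟨⟨b, hb⟩, by rw [map_mul, show QuotientGroup.mk' (Cfsg.oddCore ↥C) a = 1 from (QuotientGroup.eq_one_iff a).2 ha, one_mul]; rfl⟩
  exact Group.isSolvable_of_ker_le_range (Cfsg.oddCore ↥C).subtype (QuotientGroup.mk' (Cfsg.oddCore ↥C))
    (by rw [QuotientGroup.ker_mk', Subgroup.range_subtype])

theorem solv_no_layer (hG : Minimal G) (Φ : Frame G) (hk : 2 ≤ Φ.k)
    (hsl : ∀ M : Subgroup G, IsCoatom M → Subgroup.centralizer ({Φ.t} : Set G) ≤ M → Cfsg.layer ↥M ≠ ⊥ →
      Group.IsSolvable M)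
    (M : Subgroup G) (hM : IsCoatom M) (hC : Subgroup.centralizer ({Φ.t} : Set G) ≤ M) : Group.IsSolvable M := by
  haveI := hG.simple
  by_contra hns
  have hnl : ∀ L : Subgroup G, IsCoatom L → Subgroup.centralizer ({Φ.t} : Set G) ≤ L → Cfsg.layer ↥L = ⊥ :=
    fun L hL hCL => by_contra fun h => h (layer_bot_of_solvable (hsl L hL hCL h))
  have hneC : ∀ L : Subgroup G, IsCoatom L → L ≠ Subgroup.centralizer ({Φ.t} : Set G) := fun L hL e => by
    rcases (e ▸ hL : IsCoatom (Subgroup.centralizer ({Φ.t} : Set G))).le_iff.1 hC with h | h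
    · exact hM.1 h
    · exact hns (h ▸ centralizer_solvable Φ)
  have hodd : ∀ L : Subgroup G, IsCoatom L → Subgroup.centralizer ({Φ.t} : Set G) ≤ L →
      Odd (Nat.card (Cfsg.fittingSubgroup L)) := fun L hL hCL =>
    (shape_of_minimal hG Φ L hL hCL (hneC L hL)).resolve_right fun ⟨i, hi⟩ => by
      obtain ⟨hk2, hf⟩ := Φ.fused_of_normalizer i hCL (hneC L hL) hi
      exact hG.eight_four Φ (by omega) i L hL hCL hi hf
  obtain ⟨i, hi, -⟩ := exists_unfused_refl hG Φ hk M hM hC hns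
  obtain ⟨ρ, hρt, hρu⟩ := hG.exists_rho Φ i
  exact unfused_contradiction hG.nonab hG.kProper Φ.tt (Φ.uu i) (Φ.commute i) Φ.t_ne (Φ.refl_ne_one i)
    (Φ.refl_ne i) hρt hρu hG.free hnl
    (fun L hL hCL hnf => unfused_of_not_fused Φ hk i L hCL (hodd L hL hCL) hnf)
    (layerCentralises hG) (fun N hN ht hu hE => layer_meet hG Φ i N hN ht hu hE)
    hM hC fun ⟨g, hg, hgt, _⟩ => hi g hg hgt

end Cfsg.Agent.GW
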