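import Cfsg.Agent.Lib.GW.SolvLayer
import Cfsg.Agent.Lib.GW.SolvNoLayer

/-!
# Maximal subgroups over `C(t)` are solvable for `|S| ≥ 8`

The field `solv` of `Remaining`.
-/

set_option autoImplicit false

namespace Cfsg.Agent.GW

universe u

variable {G : Type u} [Group G] [Finite G]

/-- the field `solv` -/
theorem solv_large (hG : Minimal G) (Φ : Frame G) (hk : 2 ≤ Φ.k) (M : Subgroup G) (hM : IsCoatom M)
    (hC : Subgroup.centralizer ({Φ.t} : Set G) ≤ M) : Group.IsSolvable M :=
  solv_no_layer hG Φ hk (solv_layer hG Φ hk) M hM hC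

end Cfsg.Agent.GW
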