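import Cfsg.Agent.Lib.GW.Glue
import Cfsg.Agent.Lib.GW.MaxCentralizer
import Cfsg.Agent.Lib.GW.MaxFour
import Cfsg.Agent.Lib.GW.RotationEnd
import Cfsg.Agent.Lib.GW.MaxLayerProof
import Cfsg.Agent.Lib.GW.SolvLarge

/-!
# The theorem of Gorenstein and Walter: the perfect case
-/

set_option autoImplicit false
set_option linter.unusedSectionVars false

namespace Cfsg.Agent.GW

open Cfsg Cfsg.Agent Cfsg.Agent.GW.Reduced

universe u

variable {G : Type u} [Group G] [Finite G]

/-- nothing remains for a frame of a minimal counterexample -/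
theorem remaining (hG : Minimal G) (Φ : Frame G) : Remaining Φ := by
  refine ⟨?_⟩
  intro _ h hrot hlay
  rcases Nat.lt_or_ge Φ.k 2 with hk | hk
  · exact hG.maxCase_four Φ (by have := Φ.hk; omega) h hrot hlay
      (fun u hu q hq hq2 hD => hu.false hq hq2 hD)
  · exact h.bswData_eight hG hrot hlay hk

/-- **perfect groups with dihedral Sylow two-subgroups** -/
theorem perfectClass : PerfectClass.{u} :=
  perfectClass_of_remaining fun _ _ _ hG Φ => remaining hG Φ

end Cfsg.Agent.GW
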