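import Cfsg.Agent.Lib.GW.MaxLines
import Cfsg.Agent.Lib.GW.MaxGood

/-!
# Layers over a maximal centraliser: setting up the counting configuration

A maximal `N ≠ C` with layer holding the odd cores and the normaliser of a subgroup of `O_q(C)` gives a maximal
subgroup `N₁` with layer holding the normaliser of `O_q(C) ∩ C(v)`; the centraliser of its layer lies in `C`.
-/

set_option autoImplicit false
set_option linter.unusedSectionVars false
set_option linter.style.haveILetI false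

namespace Cfsg.Agent.GW

open Cfsg Cfsg.Agent
open scoped commutatorElement

universe w

/-- the centraliser of `F*` lies in the Fitting subgroup -/
theorem centralizer_gfit_le_fit {H : Type w} [Group H] [Finite H] :
    Subgroup.centralizer (Cfsg.generalizedFittingSubgroup H : Set H) ≤ Cfsg.fittingSubgroup H := by
  haveI : (Cfsg.generalizedFittingSubgroup H).Normal := Local.gfit_normal
  haveI : (Subgroup.centralizer (Cfsg.generalizedFittingSubgroup H : Set H)).Normal :=
    Solv.centralizer_normal_of_normal _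
  refine Solv.normal_le_fitting ?_
  letI : CommGroup ↥(Subgroup.centralizer (Cfsg.generalizedFittingSubgroup H : Set H)) :=
    { (inferInstance : Group ↥(Subgroup.centralizer (Cfsg.generalizedFittingSubgroup H : Set H))) with
      mul_comm := fun a b => Subtype.ext (Subgroup.mem_centralizer_iff.1 b.2 _ (Solv.centralizer_gfit_le a.2)) }
  infer_instance

variable {G : Type w} [Group G] [Finite G] [IsSimpleGroup G] {t : G} {O : Subgroup G}

set_option quotPrecheck false in
local notation "Cz" => Subgroup.centralizer ({t} : Set G)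

/-- if `F(N) ≤ C(t)` the centraliser of the layer lies in `C(t)` -/
theorem MaxCent.layCent_le (h : MaxCent t O) {N : Subgroup G} (htN : t ∈ N) (hodd : Odd (Nat.card ↥(layCent N)))
    (hF : (Cfsg.fittingSubgroup ↥N).map N.subtype ≤ Cz) : layCent N ≤ Cz := by
  intro y hy
  have htinv : t⁻¹ = t := inv_eq_of_mul_eq_one_right h.sq
  obtain ⟨c, hc⟩ : ∃ c, c = y * (t * y⁻¹ * t⁻¹) := ⟨_, rfl⟩
  have hcM : c ∈ layCent N := hc ▸
    mul_mem hy ((Subgroup.mem_normalizer_iff.1 (layCent_norm N htN) _).1 (inv_mem hy))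
  have hcC : c ∈ Cz := by
    refine hF ⟨⟨c, hcM.1⟩, centralizer_gfit_le_fit (Subgroup.mem_centralizer_iff.2 ?_), rfl⟩
    intro x hx
    refine Subgroup.mem_centralizer_singleton_iff.1 ((?_ : Cfsg.generalizedFittingSubgroup ↥N ≤
      Subgroup.centralizer ({(⟨c, hcM.1⟩ : ↥N)} : Set ↥N)) hx)
    rw [Cfsg.generalizedFittingSubgroup, sup_le_iff]
    refine ⟨fun x hx => ?_, fun x hx => ?_⟩
    · refine Subgroup.mem_centralizer_singleton_iff.2 (Subtype.ext ?_)
      show (x : G) * c = c * x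
      exact Subgroup.mem_centralizer_iff.1 hcM.2 _ ⟨x, hx, rfl⟩
    · refine Subgroup.mem_centralizer_singleton_iff.2 (Subtype.ext ?_)
      show (x : G) * c = c * x
      have hxt : Commute t (x : G) := (Subgroup.mem_centralizer_singleton_iff.1 (hF ⟨x, hx, rfl⟩)).symm
      haveI : (Cfsg.fittingSubgroup ↥N).Normal := Solv.fittingSubgroup_normal
      have hyx : Commute t (y⁻¹ * (x : G) * y) := by
        refine (Subgroup.mem_centralizer_singleton_iff.1 (hF ⟨_, Subgroup.Normal.conj_mem inferInstance x hx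
          (⟨y, hy.1⟩⁻¹ : ↥N), ?_⟩)).symm
        show y⁻¹ * (x : G) * y⁻¹⁻¹ = _
        rw [inv_inv]
      have e : c * x * c⁻¹ = x := by
        rw [hc]
        calc y * (t * y⁻¹ * t⁻¹) * x * (y * (t * y⁻¹ * t⁻¹))⁻¹
            = y * t * (y⁻¹ * (t⁻¹ * x * t) * y) * t⁻¹ * y⁻¹ := by group
          _ = y * (t * (y⁻¹ * x * y) * t⁻¹) * y⁻¹ := by
            rw [show t⁻¹ * (x : G) * t = x by rw [mul_assoc, ← hxt.eq, inv_mul_cancel_left]]
            group
          _ = _ := by rw [hyx.eq, mul_inv_cancel_right]; group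
      exact (mul_inv_eq_iff_eq_mul.1 e).symm
  have hci : t * c * t⁻¹ = c⁻¹ := by
    rw [hc]
    calc t * (y * (t * y⁻¹ * t⁻¹)) * t⁻¹ = t * y * t * y⁻¹ * (t * t)⁻¹ := by group
      _ = t * y * t * y⁻¹ := by rw [h.sq]; group
      _ = t * y * t⁻¹ * y⁻¹ := by rw [htinv]
      _ = _ := by group
  have h1 := eq_one_of_inv_fix (odd_orderOf hodd hcM) hci (Subgroup.mem_centralizer_singleton_iff.1 hcC).symm
  refine Subgroup.mem_centralizer_singleton_iff.2 ?_
  have h2 : y * (t * y⁻¹ * t⁻¹) = 1 := hc ▸ h1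
  calc y * t = y * t * y⁻¹ * t⁻¹ * (t * y) := by group
    _ = y * (t * y⁻¹ * t⁻¹) * (t * y) := by group
    _ = _ := by rw [h2, one_mul]

/-- elements centralising `t` and `v` conjugate into `O ∩ C(v)` normalise `O_q(C) ∩ C(v)` -/
theorem MaxCent.mem_norm_fixed (_h : MaxCent t O) {q : ℕ} (hq : q.Prime) {v : G} {g : G} (hg : g ∈ Cz)
    (hgv : Commute g v) :
    g ∈ Subgroup.normalizer ((fq q Cz ⊓ Subgroup.centralizer ({v} : Set G) : Subgroup G) : Set G) := by
  refine mem_norm_of_conj fun x hx => ⟨conj_fq hq hg hx.1, Subgroup.mem_centralizer_singleton_iff.2 ?_⟩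
  have := (Commute.conj_iff g).2 (show Commute x v from Subgroup.mem_centralizer_singleton_iff.1 hx.2)
  rwa [show g * v * g⁻¹ = v by rw [hgv.eq, mul_inv_cancel_right]] at this

/-- the configuration -/
theorem MaxCent.exists_cfg (hG : ¬ IsMulCommutative G) (h : MaxCent t O) (hrot : Rotates t) (hlay : MaxLayer t O)
    {N : Subgroup G} (hN : IsCoatom N) (htN : t ∈ N) (hNC : N ≠ Cz)
    (hFN : ∀ s : ℕ, s.Prime → s ≠ 2 → fq s Cz ≤ N) (hl : Cfsg.layer ↥N ≠ ⊥)
    {q : ℕ} (hq : q.Prime) (hq2 : q ≠ 2) {Y : Subgroup G} (_hY : Y ≠ ⊥) (hYq : Y ≤ fq q Cz)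
    (hYN : Subgroup.normalizer (Y : Set G) ≤ N) :
    ∃ (N₁ : Subgroup G) (v₁ : G) (T₁ : Subgroup G), Cfg t O N₁ v₁ T₁ q := by
  haveI := Fact.mk hq
  obtain ⟨v, T, f⟩ := hlay N hN htN hl
  obtain ⟨D, hD⟩ : ∃ D, D = fq q Cz ⊓ Subgroup.centralizer ({v} : Set G) := ⟨_, rfl⟩
  have hDfix := h.fixed_lay f hq hq2 (hFN q hq hq2)
  have hD1 : D ≠ ⊥ := by
    intro h0
    have hFT : fq q Cz ≤ T := fun a ha => by
      obtain ⟨r, hr, d, hd, rfl⟩ := h.decomp f hq hq2 (hFN q hq hq2) ha
      rw [← hDfix, ← hD, h0, Subgroup.mem_bot] at hd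
      rw [hd, mul_one]
      exact hr.2
    haveI := f.T_cyclic
    haveI : IsCyclic ↥(fq q Cz) := isCyclic_of_injective (Subgroup.inclusion hFT) (Subgroup.inclusion_injective hFT)
    have hCN : Cz ≤ N := fun g hg => by
      refine hYN (mem_norm_of_conj fun y hy => ?_)
      obtain ⟨g₀, hg₀⟩ := IsCyclic.exists_generator (α := ↥(fq q Cz))
      obtain ⟨k, hk⟩ := Subgroup.mem_zpowers_iff.1 (hg₀ ⟨y, hYq hy⟩)
      obtain ⟨i, hi⟩ := Subgroup.mem_zpowers_iff.1 (hg₀ ⟨g * g₀ * g⁻¹, conj_fq hq hg g₀.2⟩)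
      have hk' : ((g₀ : G)) ^ k = y := by simpa using congrArg Subtype.val hk
      have hi' : ((g₀ : G)) ^ i = g * g₀ * g⁻¹ := by simpa using congrArg Subtype.val hi
      rw [← hk', ← conj_zpow, ← hi', ← zpow_mul, mul_comm, zpow_mul, hk']
      exact Y.zpow_mem hy i
    rcases hCN.eq_or_lt with he | he
    · exact hNC he.symm
    · exact hN.1 (h.max.2 _ he)
  have hDq : D ≤ fq q Cz := hD ▸ inf_le_left
  have hne : Subgroup.normalizer (D : Set G) ≠ ⊤ := fun htop => by
    rcases (Subgroup.normalizer_eq_top_iff.1 htop).eq_bot_or_eq_top with he | he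
    · exact hD1 he
    · exact h.max.1 (top_le_iff.1 (he ▸ hDq.trans (fq_le q _)))
  obtain ⟨M, hM, hle⟩ := (eq_top_or_exists_le_coatom _).resolve_left hne
  have hL := h.lsub htN hl f
  have hLD : lay N ≤ Subgroup.centralizer (D : Set G) :=
    Subgroup.le_centralizer_iff.1 fun y hy => ((hD ▸ hDfix).le hy).2
  obtain ⟨v₁, T₁, f₁, hle₁, htM, hlM⟩ := h.trick hG hlay hL hq hD1 hDq hLD hM hle
  have hab := h.fq_comm htN hl f hq hq2 (hFN q hq hq2)
  have hMF : ∀ s : ℕ, s.Prime → s ≠ 2 → fq s Cz ≤ M := fun s hs _ a ha => hle <|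
    Subgroup.centralizer_le_normalizer _ <| Subgroup.mem_centralizer_iff.2 fun y hy => by
      by_cases hsq : s = q
      · exact hab y (hDq hy) a (hsq ▸ ha)
      · exact (commute_fq hq hs (Ne.symm hsq) (hDq hy) ha).eq
  have hD₁ : D = fq q Cz ⊓ Subgroup.centralizer ({v₁} : Set G) := by
    rw [hD, h.fixed_sub hrot f₁ hMF hL hle₁ hq hq2, h.fixed_lay f₁ hq hq2 (hMF q hq hq2)]
  obtain ⟨ρ, hρt, hρu⟩ := hrot v₁ f₁.v_sq f₁.v_ne f₁.v_ne_t f₁.v_comm.symm
  obtain ⟨hρtu, hσt, hσu, -⟩ := rho_sq f₁.v_sq f₁.v_comm.symm hρt hρu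
  have hin : ∀ g : G, Commute g t → Commute g v₁ → g ∈ M := fun g hgt hgv =>
    hle (hD₁.symm ▸ h.mem_norm_fixed hq (Subgroup.mem_centralizer_singleton_iff.2 hgt.eq) hgv)
  have hFM : (Cfsg.fittingSubgroup ↥M).map M.subtype ≤ Cz := by
    refine h.fitting_le hG f₁.v_sq f₁.v_comm.symm hρt hρu htM (lay_le M f₁.v_mem)
      (leads hD1 (hDq.trans (fq_le_fitting hq _)) hle) (fun s _ _ x hx hxtu => ?_) (fun s _ _ x hx hxu => ?_)
    · have hxt : Commute x t := Subgroup.mem_centralizer_singleton_iff.1 (fq_le s _ hx)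
      refine hin _ ?_ ?_
      · rw [← hρtu]
        exact (Commute.conj_iff ρ).2 hxtu
      · rw [← hρt]
        exact (Commute.conj_iff ρ).2 hxt
    · have hxt : Commute x t := Subgroup.mem_centralizer_singleton_iff.1 (fq_le s _ hx)
      refine hin _ ?_ ?_
      · rw [← hσu]
        exact (Commute.conj_iff _).2 hxu
      · have h1 : Commute (ρ * ρ * x * (ρ * ρ)⁻¹) (t * v₁) := by
          rw [← hσt]
          exact (Commute.conj_iff _).2 hxt
        have h2 : Commute (ρ * ρ * x * (ρ * ρ)⁻¹) t := by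
          rw [← hσu]
          exact (Commute.conj_iff _).2 hxu
        have := h2.inv_right.mul_right h1
        rwa [inv_mul_cancel_left] at this
  exact ⟨M, v₁, T₁,
    { mc := h
      rot := hrot
      layer := hlay
      nonab := hG
      coatom := hM
      tN := htM
      layer_ne := hlM
      cores_le := hMF
      facts := f₁
      prime := hq
      odd := hq2
      D_ne := hD₁ ▸ hD1
      D_norm := hD₁ ▸ hle
      cent_le := h.layCent_le htM f₁.cent_odd hFM }⟩

end Cfsg.Agent.GW
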