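import Cfsg.Agent.Lib.GW.PslFour
import Cfsg.Agent.Lib.GW.ProperStructure
import Cfsg.Agent.S2119
import Mathlib.GroupTheory.Perm.Centralizer

/-!
# A four group in an almost simple group over a model

If the Sylow `2`-subgroups have order at most eight and the involutions of the four group have the same odd order
elements in their centralisers, such elements are trivial, or the model is `A₇` and they form a group of order three.
-/

set_option autoImplicit false
set_option linter.unusedSectionVars false
set_option linter.style.haveILetI false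

namespace Cfsg.Agent.GW

open Cfsg Cfsg.Agent Cfsg.Agent.GW.Reduced

universe u

/-- an odd subgroup centralising an even involution of `S₇` has order one or three -/
theorem seven_centraliser {A : Subgroup (Equiv.Perm (Fin 7))} (hA : Odd (Nat.card A)) {τ : Equiv.Perm (Fin 7)}
    (h1 : τ ≠ 1) (h2 : τ * τ = 1) (hs : Equiv.Perm.sign τ = 1)
    (hc : A ≤ Subgroup.centralizer ({τ} : Set (Equiv.Perm (Fin 7)))) : Nat.card A ∣ 3 := by
  have ho : orderOf τ = 2 := orderOf_eq_prime (by rw [pow_two, h2]) h1
  obtain ⟨n, hn⟩ := Equiv.Perm.cycleType_prime_order (ho.symm ▸ Nat.prime_two)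
  rw [ho] at hn
  have hsum : τ.cycleType.sum ≤ 7 := by
    rw [Equiv.Perm.sum_cycleType]; exact (Finset.card_le_univ _).trans_eq (Fintype.card_fin 7)
  rw [hn, Multiset.sum_replicate] at hsum
  rw [Equiv.Perm.sign_of_cycleType, hn, Multiset.sum_replicate, Multiset.card_replicate] at hs
  have hn3 : n ≤ 2 := by simp at hsum; omega
  have hn1 : n = 1 := by
    interval_cases n
    · simp [pow_succ] at hs
    · rfl
    · simp [pow_succ] at hs
  subst hn1
  have hd := Subgroup.card_dvd_of_le hc
  rw [Equiv.Perm.nat_card_centralizer, hn, Fintype.card_fin, show Multiset.replicate (1 + 1) 2 = {2, 2} from rfl]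
    at hd
  have hd' : Nat.card A ∣ 2 ^ 4 * 3 := by simpa [Nat.factorial] using hd
  exact (Nat.Coprime.pow_right 4 (Nat.coprime_two_right.2 hA)).dvd_of_dvd_mul_left hd'

variable {X : Type u} [Group X] [Finite X]

/-- the almost simple case -/
theorem almost_four {L : Subgroup X} [L.Normal] (hmod : IsModel L) (hC : Subgroup.centralizer (L : Set X) = ⊥)
    (h16 : ¬ 16 ∣ Nat.card X) {a b : X} (ha : a * a = 1) (hb : b * b = 1) (hab : Commute a b) (ha1 : a ≠ 1)
    (hb1 : b ≠ 1) (hne : a ≠ b)
    (hodd : ∀ c, c = a ∨ c = b ∨ c = a * b → ∀ x : X, Odd (orderOf x) → Commute x c → Commute x a ∧ Commute x b)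
    {A : Subgroup X} (hA : Odd (Nat.card A)) (hAa : ∀ x ∈ A, Commute x a) :
    A = ⊥ ∨ (2520 ∣ Nat.card X ∧ Nat.card A = 3) := by
  haveI : Fact (Nat.Prime 2) := ⟨Nat.prime_two⟩
  have hinjN : Function.Injective (MulAut.conjNormal : X →* MulAut L) := by
    rw [injective_iff_map_eq_one]
    intro x hx
    have : x ∈ Subgroup.centralizer (L : Set X) := Subgroup.mem_centralizer_iff.2 fun l hl => by
      have h := congrArg Subtype.val (DFunLike.congr_fun hx (⟨l, hl⟩ : L))
      simp only [MulAut.conjNormal_apply, MulAut.one_apply] at h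
      exact (mul_inv_eq_iff_eq_mul.1 h).symm
    rwa [hC, Subgroup.mem_bot] at this
  rcases hmod with ⟨F, hF, hFt, ho, h3, ⟨i⟩⟩ | ⟨⟨i⟩⟩
  · left
    have h2F : (2 : F) ≠ 0 := by
      obtain ⟨p, hp⟩ := CharP.exists F
      obtain ⟨d, hpp, hd⟩ := FiniteField.card F p
      intro h
      haveI : CharP F 2 := CharTwo.of_one_ne_zero_of_two_eq_zero one_ne_zero h
      have := CharP.eq F hp (inferInstance : CharP F 2)
      rw [hd, this] at ho
      exact Nat.not_even_iff_odd.2 ho (Nat.even_pow.2 ⟨even_two, d.ne_zero⟩)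
    let Θ := (MulAut.congr i).toMonoidHom.comp (MulAut.conjNormal : X →* MulAut L)
    refine (Subgroup.eq_bot_iff_forall A).2 fun x hx => Psl.four_centralised h2F
      (by obtain ⟨j, hj⟩ := ho; omega) Θ ((MulAut.congr i).injective.comp hinjN) (fun m => ?_) h16 ha hb hab ha1 hb1
      hne hodd (hA.of_dvd_nat (Subgroup.orderOf_dvd_natCard A hx)) (hAa x hx)
    obtain ⟨y, rfl⟩ := i.surjective m
    refine ⟨y, ?_⟩
    ext z
    obtain ⟨w, rfl⟩ := i.surjective z
    simp [Θ, MulAut.congr, ← map_inv, ← map_mul]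
    rfl
  · have hm : IsModel L := Or.inr ⟨i⟩
    obtain ⟨hsimp, hnab⟩ := hm.simple
    haveI := hsimp
    let aut : Equiv.Perm (Fin 7) ≃* MulAut (alternatingGroup (Fin 7)) :=
      MulEquiv.ofBijective _ (S2119.result 7 (by norm_num) (by norm_num))
    let τ : X →* Equiv.Perm (Fin 7) :=
      aut.symm.toMonoidHom.comp ((MulAut.congr i).toMonoidHom.comp MulAut.conjNormal)
    have hτ : Function.Injective τ := aut.symm.injective.comp ((MulAut.congr i).injective.comp hinjN)
    have hL : Nat.card L = 2520 := by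
      rw [Nat.card_congr i.toEquiv, nat_card_alternatingGroup, Nat.card_eq_fintype_card, Fintype.card_fin]
      rfl
    have hX : 2520 ∣ Nat.card X := hL ▸ L.card_subgroup_dvd_card
    have hidx : ¬ 2 ∣ L.index := fun h => h16 (by
      rw [← L.card_mul_index, hL]
      exact (show (16 : ℕ) ∣ 2520 * 2 by norm_num).trans (Nat.mul_dvd_mul_left _ h))
    have haL : a ∈ L := by
      rw [← QuotientGroup.eq_one_iff, ← orderOf_eq_one_iff]
      exact Nat.eq_one_of_dvd_coprimes ((Nat.prime_two.coprime_iff_not_dvd).2 hidx)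
        (orderOf_dvd_of_pow_eq_one (by rw [pow_two, ← QuotientGroup.mk_mul, ha, QuotientGroup.mk_one]))
        (orderOf_dvd_natCard _)
    have hsign : Equiv.Perm.sign (τ a) = 1 := by
      let χ := (Equiv.Perm.sign.comp τ).comp L.subtype
      rcases (inferInstance : χ.ker.Normal).eq_bot_or_eq_top with h | h
      · exfalso
        exact hnab ⟨⟨fun p q => (MonoidHom.ker_eq_bot_iff χ).1 h (by rw [map_mul, map_mul, mul_comm])⟩⟩
      · exact MonoidHom.mem_ker.1 (show (⟨a, haL⟩ : L) ∈ χ.ker from h ▸ Subgroup.mem_top _)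
    have h3 := seven_centraliser (A := A.map τ) (τ := τ a)
      (by rwa [Subgroup.card_map_of_injective hτ])
      (fun h => ha1 (hτ (h.trans (map_one τ).symm))) (by rw [← map_mul, ha, map_one]) hsign (by
        rintro _ ⟨x, hx, rfl⟩
        rw [Subgroup.mem_centralizer_singleton_iff]
        exact ((hAa x hx).map τ).eq)
    rw [Subgroup.card_map_of_injective hτ] at h3
    rcases (Nat.dvd_prime Nat.prime_three).1 h3 with h | h
    · exact Or.inl (Subgroup.card_eq_one.1 h)
    · exact Or.inr ⟨hX, h⟩

end Cfsg.Agent.GW
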