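import Cfsg.Agent.Lib.GW.Setup
import Cfsg.Agent.S2602
import Cfsg.Prelude.Def_KGroupFacts

/-!
# Induction to the minimal counterexample
-/

set_option autoImplicit false
set_option linter.style.haveILetI false
set_option linter.unusedSectionVars false

namespace Cfsg.Agent.GW

open Cfsg Cfsg.Agent Cfsg.Agent.GW.Reduced

universe u v

variable {X : Type u} [Group X] [Finite X]

theorem eq_one_of_solvable_target [Group.IsPerfect X] {H : Type v} [Group H] [Group.IsSolvable H] (f : X →* H)
    (x : X) : f x = 1 := by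
  haveI : Group.IsPerfect f.range := Group.IsPerfect.ofSurjective f.rangeRestrict_surjective
  haveI : Group.IsSolvable f.range := Group.isSolvable_of_isSolvable_injective (f := f.range.subtype) f.range.subtype_injective
  by_contra hne
  haveI : Nontrivial f.range := ⟨⟨f x, x, rfl⟩, 1, fun h => hne (congrArg Subtype.val h)⟩
  exact (Group.IsSolvable.commutator_lt_top_of_nontrivial f.range).ne Group.IsPerfect.commutator_eq_top

/-- An involution commuting with a four group lies in it. -/
theorem four_self (S : Sylow 2 X) {n : ℕ} (e : (S : Subgroup X) ≃* DihedralGroup n) (V : Subgroup X)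
    (hV : IsKleinFour V) {c : X} (hc : c * c = 1) (hcV : ∀ v ∈ V, v * c = c * v) : c ∈ V := by
  haveI : Fact (Nat.Prime 2) := ⟨Nat.prime_two⟩
  by_contra hn
  have hsq : ∀ v ∈ V, v * v = 1 := fun v hv => congrArg Subtype.val (IsKleinFour.mul_self (⟨v, hv⟩ : V))
  have hcm : ∀ v ∈ V, ∀ w ∈ V, v * w = w * v := fun v hv w hw =>
    congrArg Subtype.val (mul_comm_of_exponent_two (IsKleinFour.exponent_two (G := V)) (⟨v, hv⟩ : V) ⟨w, hw⟩)
  let E : Subgroup X :=
    { carrier := {x | ∃ v ∈ V, x = v ∨ x = c * v}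
      one_mem' := ⟨1, V.one_mem, Or.inl rfl⟩
      mul_mem' := by
        rintro a b ⟨v, hv, ha⟩ ⟨w, hw, hb⟩
        refine ⟨v * w, V.mul_mem hv hw, ?_⟩
        rcases ha with rfl | rfl <;> rcases hb with rfl | rfl
        · exact Or.inl rfl
        · right; rw [← mul_assoc, hcV _ hv, mul_assoc]
        · exact Or.inr (mul_assoc _ _ _)
        · left; rw [mul_assoc c, ← mul_assoc v, hcV _ hv, mul_assoc c, ← mul_assoc, hc, one_mul]
      inv_mem' := by
        rintro a ⟨v, hv, rfl | rfl⟩
        · exact ⟨a, hv, Or.inl (inv_eq_of_mul_eq_one_right (hsq _ hv))⟩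
        · refine ⟨v, hv, Or.inr (inv_eq_of_mul_eq_one_right ?_)⟩
          rw [mul_assoc c, ← mul_assoc v, hcV _ hv, mul_assoc c, ← mul_assoc, hc, one_mul, hsq _ hv] }
  have hE : IsPGroup 2 E := fun ⟨a, v, hv, ha⟩ => ⟨1, Subtype.ext (by
    rw [pow_one, Subgroup.coe_pow, pow_two, Subgroup.coe_one]
    rcases ha with rfl | rfl
    · exact hsq _ hv
    · rw [mul_assoc c, ← mul_assoc v, hcV _ hv, mul_assoc c, ← mul_assoc, hc, one_mul, hsq _ hv])⟩
  obtain ⟨U, hU⟩ := hE.exists_le_sylow
  let eU : (U : Subgroup X) ≃* DihedralGroup n := (U.equiv S).trans e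
  haveI := dihedral_neZero eU
  have hVU : V ≤ (U : Subgroup X) := fun v hv => hU ⟨v, hv, Or.inl rfl⟩
  let j : V →* DihedralGroup n := eU.toMonoidHom.comp (Subgroup.inclusion hVU)
  have hj : Function.Injective j := eU.injective.comp (Subgroup.inclusion_injective hVU)
  have hself := Fusion.dihedral_four_self_centralizing (T := j.range)
    (by rintro _ ⟨a, rfl⟩ _ ⟨b, rfl⟩; rw [← map_mul, ← map_mul]; exact congrArg j (Subtype.ext (hcm a a.2 b b.2)))
    (by rintro _ ⟨a, rfl⟩; rw [← map_mul, show a * a = 1 from Subtype.ext (hsq a a.2), map_one])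
    (by rw [← Nat.card_congr (MonoidHom.ofInjective hj).toEquiv]; exact IsKleinFour.card_four)
  have hcU : c ∈ (U : Subgroup X) := hU ⟨1, V.one_mem, Or.inr (mul_one c).symm⟩
  have hmem : eU ⟨c, hcU⟩ ∈ j.range := by
    rw [← hself]
    refine Subgroup.mem_centralizer_iff.2 ?_
    rintro _ ⟨a, rfl⟩
    show eU _ * eU _ = eU _ * eU _
    rw [← map_mul, ← map_mul]
    exact congrArg eU (Subtype.ext (hcV a a.2))
  obtain ⟨a, ha⟩ := hmem
  have hca : (a : X) = c := congrArg Subtype.val (eU.injective ha)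
  exact hn (hca ▸ a.2)

/-- A perfect group with dihedral Sylow two-subgroup has no normal two-subgroup. -/
theorem normal_two_eq_bot [Group.IsPerfect X] (S : Sylow 2 X) {n : ℕ} (hn : 2 ≤ n)
    (e : (S : Subgroup X) ≃* DihedralGroup n) (Q : Subgroup X) [hQn : Q.Normal] (hQ : IsPGroup 2 Q) : Q = ⊥ := by
  haveI : Fact (Nat.Prime 2) := ⟨Nat.prime_two⟩
  by_contra hne
  have hN : ∀ x : X, x ∈ Subgroup.normalizer (Q : Set X) := fun x => by
    rw [Subgroup.normalizer_eq_top_iff.2 hQn]; trivial
  have hQS : Q ≤ (S : Subgroup X) := by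
    obtain ⟨T, hT⟩ := hQ.exists_le_sylow
    obtain ⟨g, hg⟩ := MulAction.exists_smul_eq X T S
    intro q hq
    rw [← hg, Sylow.coe_subgroup_smul]
    refine ⟨g⁻¹ * q * g, hT (by simpa using hQn.conj_mem q hq g⁻¹), ?_⟩
    show g * (g⁻¹ * q * g) * g⁻¹ = q
    group
  have hcen : Q ≤ Subgroup.center X := by
    suffices h : Subgroup.centralizer (Q : Set X) = ⊤ from fun q hq => Subgroup.mem_center_iff.2 fun x =>
      (Subgroup.mem_centralizer_iff.1 (h ▸ Subgroup.mem_top x) q hq).symm
    have hodd : (∀ x : X, Odd (orderOf x) → x ∈ Subgroup.centralizer (Q : Set X)) →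
        Subgroup.centralizer (Q : Set X) = ⊤ := fun h => by
      rw [eq_top_iff, ← pResidual_perfect, Cfsg.pResidual, Subgroup.closure_le]
      exact fun x hx => h x (Nat.coprime_two_right.1 hx)
    rcases two_subgroup_cases e Q hQS with h | ⟨h1, h4⟩ | ⟨k, hk, ⟨f⟩⟩
    · exact hodd fun x hx => cyclic_centralized hQ h (hN x) hx
    · let P := {q : Q // q ≠ 1}
      let act : X →* Equiv.Perm P :=
        { toFun := fun x => Equiv.Perm.subtypePerm (MulAut.conjNormal x : MulAut Q).toEquiv
            (fun q => by simp)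
          map_one' := by ext q; simp
          map_mul' := fun x y => by ext q; simp }
      haveI : Fintype P := Fintype.ofFinite P
      have hP : Nat.card P = 3 := by
        have : Nat.card P = Nat.card Q - 1 := by
          haveI : Fintype Q := Fintype.ofFinite Q
          rw [Nat.card_eq_fintype_card, Nat.card_eq_fintype_card, Fintype.card_subtype_compl,
            Fintype.card_subtype_eq]
        omega
      haveI : Group.IsSolvable (Equiv.Perm P) := by
        let ε : P ≃ Fin 3 := (Finite.equivFinOfCardEq hP)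
        haveI : IsCyclic (alternatingGroup (Fin 3)) :=
          isCyclic_of_prime_card (p := 3) (by rw [nat_card_alternatingGroup, Nat.card_fin]; decide)
        letI : CommGroup (alternatingGroup (Fin 3)) := IsCyclic.commGroup
        haveI : Group.IsSolvable (Equiv.Perm (Fin 3)) := Group.isSolvable_of_ker_le_range
          (alternatingGroup (Fin 3)).subtype Equiv.Perm.sign (fun x hx => ⟨⟨x, hx⟩, rfl⟩)
        exact Group.isSolvable_of_isSolvable_injective (f := (Equiv.permCongrHom ε).toMonoidHom)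
          (Equiv.permCongrHom ε).injective
      rw [eq_top_iff]
      intro x _
      refine Subgroup.mem_centralizer_iff.2 fun q hq => ?_
      by_cases hq1 : (⟨q, hq⟩ : Q) = 1
      · rw [show q = 1 from congrArg Subtype.val hq1, one_mul, mul_one]
      · have := Equiv.Perm.congr_fun (eq_one_of_solvable_target act x) ⟨⟨q, hq⟩, hq1⟩
        have h2 : x * q * x⁻¹ = q := congrArg (fun p : P => ((p.1 : Q) : X)) this
        exact (mul_inv_eq_iff_eq_mul.1 h2).symm
    · exact hodd fun x hx => ((Char.longCyclic_dihedral hk).of_equiv f.symm).centralizes hQ (hN x) hx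
  obtain ⟨k, hk, hcard⟩ := hQ.nontrivial_iff_card.1 ((Subgroup.nontrivial_iff_ne_bot Q).2 hne)
  obtain ⟨z, hz⟩ := exists_prime_orderOf_dvd_card' (G := Q) 2 (hcard ▸ dvd_pow_self 2 hk.ne')
  exact no_central S hn e (by rw [Subgroup.orderOf_coe]; exact hz) (hcen z.2)

/-- A perfect group with trivial core is a model or a nonabelian simple group. -/
theorem model_or_simple [Group.IsPerfect X] (hO : Cfsg.oddCore X = ⊥) (S : Sylow 2 X) {n : ℕ} (hn : 2 ≤ n)
    (e : (S : Subgroup X) ≃* DihedralGroup n) (hb : ClassBelow.{u} (Nat.card X)) :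
    IsModel X ∨ (IsSimpleGroup X ∧ ¬ IsMulCommutative X) := by
  classical
  haveI : Fact (Nat.Prime 2) := ⟨Nat.prime_two⟩
  haveI := dihedral_neZero e
  have h2 : 2 ∣ Nat.card X := two_dvd_card S e (by omega)
  haveI : Nontrivial X := by
    rw [← Finite.one_lt_card_iff_nontrivial]
    exact lt_of_lt_of_le one_lt_two (Nat.le_of_dvd Nat.card_pos h2)
  by_cases hs : IsSimpleGroup X
  · refine Or.inr ⟨hs, fun hc => ?_⟩
    haveI := hc
    exact (Group.IsSolvable.commutator_lt_top_of_nontrivial X).ne Group.IsPerfect.commutator_eq_top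
  left
  obtain ⟨N, hNn, hNb, hNt⟩ : ∃ N : Subgroup X, N.Normal ∧ N ≠ ⊥ ∧ N ≠ ⊤ := by
    by_contra hno
    push Not at hno
    exact hs ⟨fun H hH => (eq_or_ne H ⊥).imp id (hno H hH)⟩
  haveI := hNn
  have hNO : Cfsg.oddCore N = ⊥ := by
    haveI : (Cfsg.oddCore N).Characteristic := Fusion.pPrimeCore_characteristic
    have h1 := eq_bot_of_odd hO ((Cfsg.oddCore N).map N.subtype) (by
      rw [Subgroup.card_map_of_injective N.subtype_injective]
      exact Nat.coprime_two_right.1 (Fusion.card_pPrimeCore_coprime 2 N))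
    exact (Subgroup.map_eq_bot_iff_of_injective _ N.subtype_injective).1 h1
  have hns : ¬ Group.IsSolvable N := by
    intro hsol
    have hQ : (Cfsg.pCore 2 N).map N.subtype = ⊥ := by
      haveI : (Cfsg.pCore 2 N).Characteristic := Fusion.pCore_characteristic
      exact normal_two_eq_bot S hn e _ ((Fusion.isPGroup_pCore 2 N).map _)
    rw [Subgroup.map_eq_bot_iff_of_injective _ N.subtype_injective] at hQ
    have hC := Fusion.centralizer_pCore_le_of_solvable hsol hNO
    rw [hQ, le_bot_iff, Subgroup.eq_bot_iff_forall] at hC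
    refine hNb ((Subgroup.eq_bot_iff_forall N).2 fun x hx => congrArg Subtype.val (hC ⟨x, hx⟩ ?_))
    refine Subgroup.mem_centralizer_iff.2 fun y hy => ?_
    rw [show y = 1 from hy, one_mul, mul_one]
  -- the Sylow subgroup of `N`
  obtain ⟨T⟩ := (inferInstance : Nonempty (Sylow 2 N))
  obtain ⟨U, hU⟩ := (T.isPGroup'.map N.subtype).exists_le_sylow
  let g : (T : Subgroup N) ≃* (T : Subgroup N).map N.subtype := (T : Subgroup N).equivMapOfInjective _ N.subtype_injective
  obtain ⟨k, hk, ⟨f⟩⟩ : ∃ k, 2 ≤ k ∧ Nonempty ((T : Subgroup N) ≃* DihedralGroup k) := by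
    rcases two_subgroup_cases ((U.equiv S).trans e) _ hU with h | ⟨h1, h4⟩ | ⟨k, hk, ⟨f⟩⟩
    · exfalso
      have hh := Fusion.DihedralFours.hnpc_two_cyclic T (g.isCyclic.2 h)
      have hR : Cfsg.pResidual 2 N = ⊥ := by
        haveI : (Cfsg.pResidual 2 N).Normal := inferInstance
        exact eq_bot_of_odd hNO _ (Nat.coprime_two_right.1 (Fusion.hnpc_iff.1 hh))
      refine hns ?_
      have h2' : IsPGroup 2 (N ⧸ Cfsg.pResidual 2 N) := Fusion.isPGroup_quotient_pResidual
      haveI : Group.IsNilpotent N := (h2'.of_equiv ((QuotientGroup.quotientMulEquivOfEq hR).trans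
        QuotientGroup.quotientBot)).isNilpotent
      infer_instance
    · refine ⟨2, le_rfl, ?_⟩
      haveI : IsKleinFour (T : Subgroup N) := ⟨by rw [Nat.card_congr g.toEquiv, h4],
        Nat.dvd_antisymm (Monoid.exponent_dvd_of_forall_pow_eq_one fun x => g.injective (by
          rw [map_pow, map_one, pow_two]; exact Subtype.ext (h1 _ (g x).2))) (by
          obtain ⟨x, hx⟩ := exists_prime_orderOf_dvd_card' (G := (T : Subgroup N)) 2
            (by rw [Nat.card_congr g.toEquiv, h4]; norm_num)
          simpa only [hx] using Monoid.order_dvd_exponent x)⟩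
      exact IsKleinFour.nonempty_mulEquiv
    · exact ⟨k, by omega, ⟨g.trans f⟩⟩
  have hlt : Nat.card N < Nat.card X :=
    lt_of_le_of_ne N.card_le_card_group fun h => hNt (Subgroup.card_eq_iff_eq_top N |>.1 h)
  obtain ⟨L, hLn, hmod, hC⟩ := nonsolvable_model_of (fun L _ SL j hj hd =>
    hb L SL j (lt_of_le_of_lt L.card_le_card_group hlt) hj hd) hNO T hk f hns
  obtain ⟨hsimp, hnab⟩ := hmod.simple
  haveI := hsimp
  haveI := hLn
  -- `L` is characteristic in `N`
  haveI : L.Characteristic := by
    refine Subgroup.characteristic_iff_map_le.2 fun φ => ?_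
    haveI hM : (L.map φ.toMonoidHom).Normal := hLn.map _ φ.surjective
    rcases (inferInstance : ((L.map φ.toMonoidHom).subgroupOf L).Normal).eq_bot_or_eq_top with h | h
    · exfalso
      rw [Subgroup.subgroupOf_eq_bot, disjoint_iff] at h
      have hle : L.map φ.toMonoidHom ≤ Subgroup.centralizer (L : Set N) :=
        (Subgroup.commutator_eq_bot_iff_le_centralizer).1 (le_bot_iff.1
          (h ▸ Subgroup.commutator_le_inf (L.map φ.toMonoidHom) L))
      rw [hC, le_bot_iff, Subgroup.map_eq_bot_iff_of_injective _ φ.injective] at hle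
      exact (Subgroup.nontrivial_iff_ne_bot L).1 inferInstance hle
    · rw [Subgroup.subgroupOf_eq_top] at h
      exact (Subgroup.eq_of_le_of_card_ge h (by rw [Subgroup.card_map_of_injective φ.injective])).ge
  set L' := L.map N.subtype
  haveI : L'.Normal := ConjAct.normal_of_characteristic_of_normal
  let j : L ≃* L' := L.equivMapOfInjective _ N.subtype_injective
  have hmod' : IsModel L' := by
    rcases hmod with ⟨F, hF, hFt, ho, h3, ⟨i⟩⟩ | hi
    · exact Or.inl ⟨F, hF, hFt, ho, h3, ⟨j.symm.trans i⟩⟩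
    · exact Or.inr (hi.map fun i => j.symm.trans i)
  obtain ⟨hsimp', hnab'⟩ := hmod'.simple
  haveI := hsimp'
  -- the centralizer in `X`
  have hCX : Subgroup.centralizer (L' : Set X) = ⊥ := by
    haveI : (Subgroup.centralizer (L' : Set X)).Normal := inferInstance
    refine eq_bot_of_odd hO _ (Nat.not_even_iff_odd.1 fun hev => ?_)
    obtain ⟨c, hc⟩ := exists_prime_orderOf_dvd_card' (G := Subgroup.centralizer (L' : Set X)) 2 hev.two_dvd
    haveI : Group.IsPerfect L' := ⟨((inferInstance : (commutator L').Normal).eq_bot_or_eq_top).resolve_left fun h => hnab'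
      ⟨⟨fun a b => commutatorElement_eq_one_iff_mul_comm.1 (Subgroup.mem_bot.1 (h ▸
        Subgroup.commutator_mem_commutator (Subgroup.mem_top a) (Subgroup.mem_top b)))⟩⟩⟩
    obtain ⟨T'⟩ := (inferInstance : Nonempty (Sylow 2 L'))
    obtain ⟨U', hU'⟩ := (T'.isPGroup'.map L'.subtype).exists_le_sylow
    let g' : (T' : Subgroup L') ≃* (T' : Subgroup L').map L'.subtype :=
      (T' : Subgroup L').equivMapOfInjective _ L'.subtype_injective
    have he : 2 ∣ Nat.card L' := by
      by_contra h
      exact (Subgroup.nontrivial_iff_ne_bot L').1 inferInstance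
        (eq_bot_of_odd hO L' (Nat.odd_iff.2 (Nat.two_dvd_ne_zero.1 h)))
    obtain ⟨V, hVle, hV⟩ : ∃ V : Subgroup X, V ≤ L' ∧ IsKleinFour V := by
      have hle : (T' : Subgroup L').map L'.subtype ≤ L' := Subgroup.map_subtype_le _
      rcases two_subgroup_cases ((U'.equiv S).trans e) _ hU' with h | ⟨h1, h4⟩ | ⟨m, hm, ⟨f'⟩⟩
      · exact absurd (g'.isCyclic.2 h) (not_cyclic_of_perfect T' he)
      · exact ⟨_, hle, ⟨h4, Nat.dvd_antisymm (Monoid.exponent_dvd_of_forall_pow_eq_one fun x =>
          Subtype.ext (by rw [Subgroup.coe_pow, pow_two]; exact h1 x x.2)) (by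
            obtain ⟨x, hx⟩ := exists_prime_orderOf_dvd_card' (G := ((T' : Subgroup L').map L'.subtype : Subgroup X)) 2
              (by rw [h4]; norm_num)
            simpa only [hx] using Monoid.order_dvd_exponent x)⟩⟩
      · haveI : NeZero m := ⟨by omega⟩
        obtain ⟨i, hi1, hi⟩ := dihedral_pow (X := L') T' (by omega) (g'.trans f')
        have hm2 : 2 ∣ m := by rw [hi]; exact dvd_pow_self 2 (by omega)
        let ι : DihedralGroup m →* X := ((T' : Subgroup L').map L'.subtype).subtype.comp f'.symm.toMonoidHom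
        exact ⟨(Fusion.DihedralFours.four m 0).map ι, fun x ⟨d, _, hd⟩ => hle (hd ▸ (f'.symm d).2),
          Fusion.DihedralFours.four_map_klein hm2 ι (Subtype.val_injective.comp f'.symm.injective) 0⟩
    have hcV := four_self S e V hV (c := (c : X))
      (by rw [← pow_two, show (c : X) ^ 2 = 1 from congrArg Subtype.val (hc ▸ pow_orderOf_eq_one c)])
      (fun v hv => Subgroup.mem_centralizer_iff.1 c.2 v (hVle hv))
    have hcz : (⟨c, hVle hcV⟩ : L') ∈ Subgroup.center L' :=
      Subgroup.mem_center_iff.2 fun a => Subtype.ext (Subgroup.mem_centralizer_iff.1 c.2 a a.2)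
    rcases (inferInstance : (Subgroup.center L').Normal).eq_bot_or_eq_top with h | h
    · rw [h, Subgroup.mem_bot] at hcz
      have : c = 1 := Subtype.ext (congrArg (fun l : L' => (l : X)) hcz)
      rw [this, orderOf_one] at hc
      omega
    · exact hnab' ⟨⟨fun a b => (Subgroup.mem_center_iff.1 (h ▸ Subgroup.mem_top b) a)⟩⟩
  -- `X` consists of inner automorphisms of `L'`
  have hinner : ∀ x : X, ∃ l : L', (MulAut.conjNormal x : MulAut L') = MulAut.conj l := by
    rcases hmod' with ⟨F, hF, hFt, ho, h3, ⟨i⟩⟩ | ⟨⟨i⟩⟩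
    · intro x
      obtain ⟨p, hp⟩ := CharP.exists F
      obtain ⟨f, hpp, hf⟩ := FiniteField.card F p
      haveI : Fact p.Prime := ⟨hpp⟩
      obtain ⟨φ, -, hcyc, -⟩ := S2602.result (F := F) f.pos hf (by rw [← hf]; omega)
      haveI := hcyc
      haveI : Group.IsSolvable (Cfsg.Out (Matrix.ProjectiveSpecialLinearGroup (Fin 2) F)) :=
        Group.isSolvable_of_ker_le_range φ.ker.subtype φ (fun y hy => ⟨⟨y, hy⟩, rfl⟩)
      let ψ : X →* Cfsg.Out (Matrix.ProjectiveSpecialLinearGroup (Fin 2) F) :=
        (QuotientGroup.mk' _).comp ((MulAut.congr i).toMonoidHom.comp MulAut.conjNormal)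
      obtain ⟨y, hy⟩ := (QuotientGroup.eq_one_iff _).1 (eq_one_of_solvable_target ψ x)
      refine ⟨i.symm y, MulEquiv.ext fun l => i.injective ?_⟩
      have := DFunLike.congr_fun hy (i l)
      simp [MulAut.congr] at this ⊢
      exact this.symm
    · intro x
      let aut : Equiv.Perm (Fin 7) ≃* MulAut (alternatingGroup (Fin 7)) :=
        MulEquiv.ofBijective _ (S2119.result 7 (by norm_num) (by norm_num))
      let τ : X →* Equiv.Perm (Fin 7) :=
        aut.symm.toMonoidHom.comp ((MulAut.congr i).toMonoidHom.comp MulAut.conjNormal)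
      have hs : τ x ∈ alternatingGroup (Fin 7) :=
        Equiv.Perm.mem_alternatingGroup.2 (eq_one_of_solvable_target (Equiv.Perm.sign.comp τ) x)
      refine ⟨i.symm ⟨τ x, hs⟩, MulEquiv.ext fun l => i.injective ?_⟩
      have hh : aut (τ x) = MulAut.congr i (MulAut.conjNormal x) := aut.apply_symm_apply _
      have := DFunLike.congr_fun hh (i l)
      simp [aut, MulAut.congr] at this ⊢
      rw [← this]
      ext; simp [MulAut.conjNormal_apply]
  have htop : L' = ⊤ := by
    rw [eq_top_iff]
    intro x _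
    obtain ⟨l, hl⟩ := hinner x
    have h1 : (l : X)⁻¹ * x ∈ Subgroup.centralizer (L' : Set X) := Subgroup.mem_centralizer_iff.2 fun a ha => by
      have := congrArg (fun y : L' => (y : X)) (DFunLike.congr_fun hl ⟨a, ha⟩)
      simp at this
      calc a * ((l : X)⁻¹ * x) = (l : X)⁻¹ * ((l : X) * a * (l : X)⁻¹) * x := by group
        _ = (l : X)⁻¹ * (x * a * x⁻¹) * x := by rw [this]
        _ = (l : X)⁻¹ * x * a := by group
    rw [hCX, Subgroup.mem_bot] at h1
    rw [← inv_mul_eq_one.1 h1]
    exact l.2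
  exact absurd (eq_top_iff.2 (htop ▸ Subgroup.map_subtype_le L)) hNt

/-- The theorem follows once no minimal counterexample exists. -/
theorem perfectClass_of_no_minimal
    (h : ∀ (G : Type u) [Group G] [Finite G], Minimal G → False) : PerfectClass.{u} := by
  haveI : Fact (Nat.Prime 2) := ⟨Nat.prime_two⟩
  suffices key : ∀ N : ℕ, ClassBelow.{u} N from
    fun X _ _ _ S n hn he => key (Nat.card X + 1) X S n (Nat.lt_succ_self _) hn he
  intro N
  induction N using Nat.strong_induction_on with
  | _ N ih =>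
    intro X _ _ _ S n hlt hn he
    obtain ⟨e⟩ := he
    have hb : ClassBelow.{u} (Nat.card X) := ih _ hlt
    by_cases hO : Cfsg.oddCore X = ⊥
    · rcases model_or_simple hO S hn e hb with hm | ⟨hs, hna⟩
      · exact concl_of_model hO hm
      · by_contra hc
        exact h X ⟨hs, hna, ⟨S, n, hn, ⟨e⟩⟩, hb, fun hm => hc (concl_of_model hO hm)⟩
    · refine concl_of_quotient ?_
      have hodd : Odd (Nat.card (Cfsg.oddCore X)) := Nat.coprime_two_right.1 (Fusion.card_pPrimeCore_coprime 2 X)
      obtain ⟨s⟩ := sylow_quotient (Cfsg.oddCore X) hodd S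
      refine hb _ (S.mapSurjective (QuotientGroup.mk'_surjective _)) n ?_ hn ⟨s.symm.trans e⟩
      have h1 : 1 < Nat.card (Cfsg.oddCore X) :=
        Finite.one_lt_card_iff_nontrivial.2 ((Subgroup.nontrivial_iff_ne_bot _).2 hO)
      have h2 := Subgroup.card_eq_card_quotient_mul_card_subgroup (Cfsg.oddCore X)
      have h3 : 0 < Nat.card (X ⧸ Cfsg.oddCore X) := Nat.card_pos
      nlinarith

end Cfsg.Agent.GW
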