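import Cfsg.Agent.Lib.GW.MaxShape
import Cfsg.Agent.Lib.GW.Reduce

/-!
# The symmetric group of degree seven has no dihedral Sylow two-subgroup
-/

set_option autoImplicit false
set_option linter.style.haveILetI false
set_option linter.unusedSectionVars false

namespace Cfsg.Agent.GW

open Cfsg Cfsg.Agent Cfsg.Agent.GW.Reduced

/-- `S₇` has no dihedral Sylow two-subgroup. -/
theorem not_dihedral_perm_seven (S : Sylow 2 (Equiv.Perm (Fin 7))) {n : ℕ}
    (e : (S : Subgroup (Equiv.Perm (Fin 7))) ≃* DihedralGroup n) : False := by
  have hV : IsKleinFour ↥(Subgroup.closure ({Equiv.swap 0 1, Equiv.swap 2 3} : Set (Equiv.Perm (Fin 7)))) :=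
    klein_pair (by decide +kernel) (by decide +kernel) (show _ * _ = _ * _ by decide +kernel) (by decide +kernel)
      (by decide +kernel) (by decide +kernel)
  haveI := hV
  have hc := four_self S e _ hV (c := Equiv.swap 4 5) (by decide +kernel) fun v hv => by
    rcases four_closure (a := (Equiv.swap 0 1 : Equiv.Perm (Fin 7))) (b := Equiv.swap 2 3) (Subgroup.subset_closure (Or.inl rfl))
      (Subgroup.subset_closure (Or.inr rfl))
      (by decide +kernel) (by decide +kernel) (by decide +kernel) hv with rfl | rfl | rfl | rfl
    all_goals decide +kernel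
  rcases four_closure (a := (Equiv.swap 0 1 : Equiv.Perm (Fin 7))) (b := Equiv.swap 2 3) (Subgroup.subset_closure (Or.inl rfl))
      (Subgroup.subset_closure (Or.inr rfl))
      (by decide +kernel) (by decide +kernel) (by decide +kernel) hc with h | h | h | h
  all_goals exact absurd h (by decide +kernel)

end Cfsg.Agent.GW
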