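import Cfsg.Agent.Lib.GW.AltSevenOuter

/-!
# An almost simple group over `A₇` with dihedral Sylow two-subgroup is `A₇`
-/

set_option autoImplicit false
set_option linter.style.haveILetI false
set_option linter.unusedSectionVars false

namespace Cfsg.Agent.GW

open Cfsg Cfsg.Agent Cfsg.Agent.GW.Reduced

/-- The almost simple group is `A₇`. -/
theorem eq_top_of_alt {X : Type*} [Group X] [Finite X] {L : Subgroup X} [L.Normal]
    (hC : Subgroup.centralizer (L : Set X) = ⊥) (i : L ≃* alternatingGroup (Fin 7)) (S : Sylow 2 X) {n : ℕ}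
    (e : (S : Subgroup X) ≃* DihedralGroup n) : L = ⊤ := by
  classical
  haveI : Fact (Nat.Prime 2) := ⟨Nat.prime_two⟩
  let aut : Equiv.Perm (Fin 7) ≃* MulAut (alternatingGroup (Fin 7)) :=
    MulEquiv.ofBijective _ (S2119.result 7 (by norm_num) (by norm_num))
  let τ : X →* Equiv.Perm (Fin 7) :=
    aut.symm.toMonoidHom.comp ((MulAut.congr i).toMonoidHom.comp MulAut.conjNormal)
  have hinj : Function.Injective τ := by
    rw [injective_iff_map_eq_one]
    intro x hx
    have h : MulAut.congr i (MulAut.conjNormal x) = 1 := aut.symm.injective (hx.trans (map_one aut.symm).symm)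
    have h' : x ∈ Subgroup.centralizer (L : Set X) := Subgroup.mem_centralizer_iff.2 fun b hb => by
      have h2 := DFunLike.congr_fun h (i ⟨b, hb⟩)
      simp [MulAut.congr] at h2
      have h3 := congrArg Subtype.val h2
      simp at h3
      exact (mul_inv_eq_iff_eq_mul.1 h3).symm
    rwa [hC, Subgroup.mem_bot] at h'
  have hdvd : Nat.card X ∣ 5040 := by
    have h := Subgroup.card_dvd_of_injective τ hinj
    rwa [Nat.card_eq_fintype_card (α := Equiv.Perm (Fin 7)), Fintype.card_perm, Fintype.card_fin] at h
  have hA : Nat.card L = 2520 := by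
    rw [Nat.card_congr i.toEquiv, nat_card_alternatingGroup, Nat.card_fin]; decide
  have hLX : Nat.card L ∣ Nat.card X := L.card_subgroup_dvd_card
  obtain ⟨c, hc⟩ := hLX
  rw [hA] at hc
  have hc2 : c ∣ 2 := Nat.dvd_of_mul_dvd_mul_left (by norm_num : 0 < 2520) (hc ▸ hdvd)
  rcases (Nat.dvd_prime Nat.prime_two).1 hc2 with rfl | rfl
  · exact Subgroup.eq_top_of_card_eq L (by rw [hA, hc])
  · exfalso
    have hb : Function.Bijective τ := (Nat.bijective_iff_injective_and_card τ).2 ⟨hinj, by
      rw [hc, Nat.card_eq_fintype_card (α := Equiv.Perm (Fin 7)), Fintype.card_perm, Fintype.card_fin]; decide⟩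
    let E := MulEquiv.ofBijective τ hb
    let T := S.mapSurjective (f := E.toMonoidHom) E.surjective
    exact not_dihedral_perm_seven T ((((S : Subgroup X).equivMapOfInjective _ E.injective).symm).trans e)

end Cfsg.Agent.GW
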