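import Cfsg.Agent.S2508
import Cfsg.Agent.Lib.Classical.Dickson.Tools

/-!
# The centraliser of an involution of `L₂(q)`, `q` odd
-/

set_option autoImplicit false

namespace Cfsg.Agent.GW

open Cfsg Cfsg.Agent

/-- Its order divides `q - 1` or `q + 1`, according to `q` modulo four. -/
theorem card_centralizer_dvd {F : Type*} [Field F] [Fintype F] (hodd : ¬ 2 ∣ Fintype.card F) (h7 : 7 ≤ Fintype.card F)
    {g : Matrix.ProjectiveSpecialLinearGroup (Fin 2) F} (hg : orderOf g = 2)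
    (hne : Subgroup.centralizer ({g} : Set (Matrix.ProjectiveSpecialLinearGroup (Fin 2) F)) ≠ ⊤) :
    (Fintype.card F % 4 = 1 → Nat.card (Subgroup.centralizer ({g} : Set (Matrix.ProjectiveSpecialLinearGroup (Fin 2) F))) ∣
        Fintype.card F - 1) ∧
      (Fintype.card F % 4 = 3 → Nat.card (Subgroup.centralizer ({g} : Set (Matrix.ProjectiveSpecialLinearGroup (Fin 2) F))) ∣
        Fintype.card F + 1) := by
  classical
  obtain ⟨C, hC⟩ : ∃ C, C = Subgroup.centralizer ({g} : Set (Matrix.ProjectiveSpecialLinearGroup (Fin 2) F)) := ⟨_, rfl⟩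
  rw [← hC] at hne ⊢
  have hev : 2 ∣ Nat.card C := by
    have h := Subgroup.orderOf_dvd_natCard C (x := g) (hC ▸ Subgroup.mem_centralizer_singleton_iff.2 rfl)
    rwa [hg] at h
  have hi1 : C.index ≠ 1 := fun h => hne (Subgroup.index_eq_one.1 h)
  have hcard := Classical.Dickson.card_psl F
  have hmul := C.card_mul_index
  obtain ⟨q, hq⟩ : ∃ q, q = Fintype.card F := ⟨_, rfl⟩
  rw [← hq] at hodd h7 hcard ⊢
  have hgcd : Nat.gcd 2 (q - 1) = 2 := Nat.gcd_eq_left (by omega)
  rw [hgcd] at hcard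
  obtain ⟨j, hj⟩ : ∃ j, q = 2 * j + 1 := ⟨q / 2, by omega⟩
  constructor <;> intro hmod
  · have h := (S2508.result (F := F) (hq ▸ hodd) (hq ▸ h7)).1 (hq ▸ hmod)
    have hm : C.index ∈ ({1, (q ^ 2 - 1) / 2, q * (q + 1) / 2, q * (q - 1), q * (q + 1)} : Set ℕ) := by
      rw [hq, ← h]; exact ⟨g, by rw [hC]⟩
    obtain ⟨l, rfl⟩ : ∃ l, j = 2 * l := ⟨j / 2, by omega⟩
    subst hj
    rw [show (2 * (2 * l) + 1) ^ 2 - 1 = 8 * l * (2 * l + 1) by ring_nf; omega] at hm hcard
    rw [← hmul] at hcard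
    rw [show 2 * (2 * l) + 1 - 1 = 4 * l by omega] at hm ⊢
    rw [show (2 * (2 * l) + 1) + 1 = 2 * (2 * l + 1) by ring] at hm
    simp only [Set.mem_insert_iff, Set.mem_singleton_iff] at hm
    rcases hm with h | h | h | h | h
    · exact absurd h hi1
    · exfalso
      rw [h, show 8 * l * (2 * l + 1) / 2 = 4 * l * (2 * l + 1) from
        Nat.div_eq_of_eq_mul_left two_pos (by ring)] at hcard
      have : Nat.card C = 2 * (2 * l) + 1 :=
        Nat.eq_of_mul_eq_mul_right (Nat.mul_pos (Nat.mul_pos (by norm_num : 0 < 8) (by omega : 0 < l)) (by omega : 0 < 2 * l + 1)) (by linarith)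
      omega
    · rw [h, show (2 * (2 * l) + 1) * (2 * (2 * l + 1)) / 2 = (2 * (2 * l) + 1) * (2 * l + 1) from
        Nat.div_eq_of_eq_mul_left two_pos (by ring)] at hcard
      exact dvd_of_eq (Nat.eq_of_mul_eq_mul_right (Nat.mul_pos (Nat.mul_pos (by norm_num : 0 < 2) (by omega : 0 < 2 * (2 * l) + 1)) (by omega : 0 < 2 * l + 1)) (by linarith))
    · exfalso
      rw [h] at hcard
      have : Nat.card C = 2 * l + 1 := by nlinarith
      omega
    · rw [h] at hcard
      exact ⟨2, by nlinarith⟩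
  · have h := (S2508.result (F := F) (hq ▸ hodd) (hq ▸ h7)).2 (hq ▸ hmod)
    have hm : C.index ∈ ({1, (q ^ 2 - 1) / 2, q * (q - 1) / 2, q * (q + 1), q * (q - 1)} : Set ℕ) := by
      rw [hq, ← h]; exact ⟨g, by rw [hC]⟩
    obtain ⟨l, rfl⟩ : ∃ l, j = 2 * l + 1 := ⟨j / 2, by omega⟩
    subst hj
    rw [show (2 * (2 * l + 1) + 1) ^ 2 - 1 = 8 * (2 * l + 1) * (l + 1) by ring_nf; omega] at hm hcard
    rw [← hmul] at hcard
    rw [show 2 * (2 * l + 1) + 1 - 1 = 2 * (2 * l + 1) by omega,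
      show 2 * (2 * l + 1) + 1 + 1 = 4 * (l + 1) by ring] at hm
    rw [show 2 * (2 * l + 1) + 1 + 1 = 4 * (l + 1) by ring]
    simp only [Set.mem_insert_iff, Set.mem_singleton_iff] at hm
    rcases hm with h | h | h | h | h
    · exact absurd h hi1
    · exfalso
      rw [h, show 8 * (2 * l + 1) * (l + 1) / 2 = 4 * (2 * l + 1) * (l + 1) from
        Nat.div_eq_of_eq_mul_left two_pos (by ring)] at hcard
      have : Nat.card C = 2 * (2 * l + 1) + 1 :=
        Nat.eq_of_mul_eq_mul_right (Nat.mul_pos (Nat.mul_pos (by norm_num : 0 < 8) (by omega : 0 < 2 * l + 1)) (by omega : 0 < l + 1)) (by linarith)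
      omega
    · rw [h, show (2 * (2 * l + 1) + 1) * (2 * (2 * l + 1)) / 2 = (2 * (2 * l + 1) + 1) * (2 * l + 1) from
        Nat.div_eq_of_eq_mul_left two_pos (by ring)] at hcard
      exact dvd_of_eq (Nat.eq_of_mul_eq_mul_right (Nat.mul_pos (Nat.mul_pos (by norm_num : 0 < 2) (by omega : 0 < 2 * (2 * l + 1) + 1)) (by omega : 0 < 2 * l + 1)) (by linarith))
    · exfalso
      rw [h] at hcard
      have : Nat.card C = 2 * l + 1 := by nlinarith
      omega
    · rw [h] at hcard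
      exact ⟨2, by nlinarith⟩

end Cfsg.Agent.GW
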