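import Cfsg.Agent.Lib.GW.Setup
import Cfsg.Agent.Lib.GW.PslCentralizer
import Cfsg.Agent.S0946
import Cfsg.Agent.S0811
import Cfsg.Agent.S0812
import Cfsg.Agent.S0253
import Cfsg.Agent.S0255
import Cfsg.Prelude.Def_Local
import Cfsg.Prelude.Def_Solvable

/-!
# Consequence of the perfect dihedral case: overgroups of an involution centraliser without components
-/

set_option autoImplicit false
set_option linter.style.haveILetI false

namespace Cfsg.Agent.GW.Dep

universe u

open Cfsg Cfsg.Agent Cfsg.Agent.GW Cfsg.Agent.GW.Reduced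

variable {X : Type u} [Group X] [Finite X]

/-- One class of involutions in a perfect group with dihedral Sylow 2-subgroup. -/
theorem one_class [Group.IsPerfect X] (S : Sylow 2 X) {n : ℕ} (hn : 2 ≤ n)
    (e : (S : Subgroup X) ≃* DihedralGroup n) {a b : X} (ha : orderOf a = 2) (hb : orderOf b = 2) : IsConj a b := by
  obtain ⟨k, hk1, rfl⟩ := dihedral_pow S hn e
  rcases (show k = 1 ∨ 2 ≤ k by omega) with rfl | hk
  · haveI : IsKleinFour (Multiplicative (ZMod 2 × ZMod 2)) :=
      ⟨by rw [Nat.card_eq_fintype_card]; decide, by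
        refine Nat.dvd_antisymm (Monoid.exponent_dvd_of_forall_pow_eq_one (by decide)) ?_
        have h := Monoid.order_dvd_exponent (Multiplicative.ofAdd ((1, 0) : ZMod 2 × ZMod 2))
        rwa [orderOf_eq_prime (p := 2) (x := Multiplicative.ofAdd ((1, 0) : ZMod 2 × ZMod 2)) rfl
          (fun h1 => by simpa using congrArg (fun y => (Multiplicative.toAdd y).1) h1)] at h⟩
    obtain ⟨f⟩ : Nonempty (DihedralGroup 2 ≃* Multiplicative (ZMod 2 × ZMod 2)) := IsKleinFour.nonempty_mulEquiv
    rcases S0946.result S 1 le_rfl (e.trans f) with ⟨N, hN, hc⟩ | h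
    · exfalso
      haveI := hN
      have hq : Nat.card (X ⧸ N) = 4 := by
        have h1 := hc.card_mul
        rw [← N.card_mul_index] at h1
        rw [show Nat.card (X ⧸ N) = N.index from rfl, ← Nat.eq_of_mul_eq_mul_left Nat.card_pos h1]
        exact (Nat.card_congr e.toEquiv).trans DihedralGroup.nat_card
      haveI : IsMulCommutative (X ⧸ N) := by
        haveI := Fact.mk Nat.prime_two
        exact IsPGroup.isMulCommutative_of_card_eq_prime_sq (show Nat.card (X ⧸ N) = 2 ^ 2 from hq)
      have hle : commutator X ≤ N := (Subgroup.Normal.quotient_commutative_iff_commutator_le).1 inferInstance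
      rw [Group.IsPerfect.commutator_eq_top, top_le_iff] at hle
      rw [← Subgroup.index, hle, Subgroup.index_top] at hq
      exact absurd hq (by norm_num)
    · exact h a b ha hb
  · obtain ⟨g, hg⟩ := S0107.result S k hk ⟨e⟩ pResidual_perfect a b ha hb
    exact isConj_iff.2 ⟨g, hg⟩

/-- In `L₂(q)`, `q ≥ 11` odd, the centraliser of an involution is maximal. -/
theorem centralizer_isCoatom {F : Type} [Field F] [Fintype F] (ho : Odd (Fintype.card F)) (h11 : 11 ≤ Fintype.card F)
    [IsSimpleGroup (Matrix.ProjectiveSpecialLinearGroup (Fin 2) F)]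
    (hnc : ¬ IsMulCommutative (Matrix.ProjectiveSpecialLinearGroup (Fin 2) F))
    (hcl : ∀ a b : Matrix.ProjectiveSpecialLinearGroup (Fin 2) F, orderOf a = 2 → orderOf b = 2 → IsConj a b)
    {t : Matrix.ProjectiveSpecialLinearGroup (Fin 2) F} (ht : orderOf t = 2) :
    IsCoatom (Subgroup.centralizer ({t} : Set (Matrix.ProjectiveSpecialLinearGroup (Fin 2) F))) := by
  classical
  obtain ⟨q, hq⟩ : ∃ q, q = Fintype.card F := ⟨_, rfl⟩
  rw [← hq] at ho h11
  have hg : Nat.gcd 2 (q - 1) = 2 := by
    obtain ⟨j, hj⟩ := ho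
    exact Nat.gcd_eq_left ⟨j, by omega⟩
  obtain ⟨H, k, hH, ⟨f⟩⟩ : ∃ (H : Subgroup (Matrix.ProjectiveSpecialLinearGroup (Fin 2) F)) (k : ℕ),
      IsCoatom H ∧ Nonempty (H ≃* DihedralGroup (2 * k)) := by
    rcases (show q % 4 = 1 ∨ q % 4 = 3 by obtain ⟨j, hj⟩ := ho; omega) with h | h
    · obtain ⟨H, hH, hf⟩ := S0812.result (F := F) hq.symm (by simp; omega)
      refine ⟨H, (q - 1) / 4, hH, ?_⟩
      rwa [show 2 * ((q - 1) / 4) = (q - 1) / Nat.gcd 2 (q - 1) by rw [hg]; omega]
    · obtain ⟨H, hH, hf⟩ := S0811.result (F := F) hq.symm (by simp; omega)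
      refine ⟨H, (q + 1) / 4, hH, ?_⟩
      rwa [show 2 * ((q + 1) / 4) = (q + 1) / Nat.gcd 2 (q - 1) by rw [hg]; omega]
  have hk : k ≠ 0 := by
    rintro rfl
    haveI : Finite (DihedralGroup (2 * 0)) := Finite.of_equiv H f.toEquiv
    exact not_finite (DihedralGroup 0)
  haveI : NeZero (2 * k) := ⟨by omega⟩
  obtain ⟨z, hz⟩ : ∃ z : H, z = f.symm (DihedralGroup.r (k : ZMod (2 * k))) := ⟨_, rfl⟩
  have hzc : ∀ x : H, x * z = z * x := fun x => by
    apply f.injective
    rw [hz, map_mul, map_mul, MulEquiv.apply_symm_apply]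
    have hneg : -(k : ZMod (2 * k)) = k := by
      rw [neg_eq_iff_add_eq_zero, ← Nat.cast_add, ← two_mul, ZMod.natCast_self]
    rcases f x with i | i
    · rw [DihedralGroup.r_mul_r, DihedralGroup.r_mul_r, add_comm]
    · rw [DihedralGroup.sr_mul_r, DihedralGroup.r_mul_sr, sub_eq_add_neg, hneg]
  have hz2 : orderOf (z : Matrix.ProjectiveSpecialLinearGroup (Fin 2) F) = 2 := by
    rw [Subgroup.orderOf_coe, hz, MulEquiv.orderOf_eq, DihedralGroup.orderOf_r, ZMod.val_natCast_of_lt (by omega),
      Nat.gcd_mul_left_left, Nat.mul_div_left _ (by omega : 0 < k)]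
  have hle : H ≤ Subgroup.centralizer ({(z : Matrix.ProjectiveSpecialLinearGroup (Fin 2) F)} : Set _) := fun x hx =>
    Subgroup.mem_centralizer_singleton_iff.2 (congrArg Subtype.val (hzc ⟨x, hx⟩))
  have hne : Subgroup.centralizer ({(z : Matrix.ProjectiveSpecialLinearGroup (Fin 2) F)} : Set _) ≠ ⊤ := fun h => by
    have hc : (z : Matrix.ProjectiveSpecialLinearGroup (Fin 2) F) ∈ Subgroup.center _ :=
      Subgroup.mem_center_iff.2 fun g =>
        Subgroup.mem_centralizer_singleton_iff.1 (h ▸ Subgroup.mem_top g)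
    rcases (inferInstance : (Subgroup.center (Matrix.ProjectiveSpecialLinearGroup (Fin 2) F)).Normal).eq_bot_or_eq_top
      with hb | hb
    · rw [hb, Subgroup.mem_bot] at hc
      rw [hc, orderOf_one] at hz2
      exact absurd hz2 (by norm_num)
    · exact hnc ⟨⟨fun a b => (Subgroup.mem_center_iff.1 (hb ▸ Subgroup.mem_top b) a)⟩⟩
  have heq : Subgroup.centralizer ({(z : Matrix.ProjectiveSpecialLinearGroup (Fin 2) F)} : Set _) = H := by
    rcases eq_or_lt_of_le hle with h | h
    · exact h.symm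
    · exact absurd (hH.2 _ h) hne
  obtain ⟨g, rfl⟩ := isConj_iff.1 (hcl _ _ hz2 ht)
  have hmap : Subgroup.centralizer ({g * (z : Matrix.ProjectiveSpecialLinearGroup (Fin 2) F) * g⁻¹} : Set _)
      = (Subgroup.centralizer ({(z : Matrix.ProjectiveSpecialLinearGroup (Fin 2) F)} : Set _)).map
          (MulAut.conj g).toMonoidHom := by
    ext x
    rw [Subgroup.mem_map_equiv, Subgroup.mem_centralizer_singleton_iff, Subgroup.mem_centralizer_singleton_iff,
      MulAut.conj_symm_apply]
    constructor <;> intro h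
    · apply mul_left_cancel (a := g)
      apply mul_right_cancel (b := g⁻¹)
      simpa [mul_assoc] using h
    · have h' := congrArg (fun y => g * y * g⁻¹) h
      simpa [mul_assoc] using h'
  rw [hmap, heq]
  exact (OrderIso.isCoatom_iff (MulEquiv.mapSubgroup (MulAut.conj g)) H).2 hH

/-- A simple non-abelian group has a component. -/
theorem fitting_ne_of_simple {K : Type u} [Group K] [Finite K] [IsSimpleGroup K] (hnc : ¬ IsMulCommutative K) :
    Cfsg.generalizedFittingSubgroup K ≠ Cfsg.fittingSubgroup K := by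
  have hcen : Subgroup.center K = ⊥ :=
    (inferInstance : (Subgroup.center K).Normal).eq_bot_or_eq_top.resolve_right fun h =>
      hnc ⟨⟨fun a b => (Subgroup.mem_center_iff.1 (h ▸ Subgroup.mem_top b) a)⟩⟩
  have hperf : Group.IsPerfect K := ⟨(inferInstance : (commutator K).Normal).eq_bot_or_eq_top.resolve_left fun h =>
      hnc ⟨⟨fun a b => commutatorElement_eq_one_iff_mul_comm.1 (Subgroup.mem_bot.1 (h ▸
        Subgroup.commutator_mem_commutator (Subgroup.mem_top a) (Subgroup.mem_top b)))⟩⟩⟩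
  have hfit : Cfsg.fittingSubgroup K = ⊥ := by
    refine sSup_eq_bot.2 fun N hN => hN.1.eq_bot_or_eq_top.resolve_right fun h => ?_
    haveI : Group.IsNilpotent N := hN.2
    haveI : Group.IsNilpotent K := (Group.isNilpotent_congr
      ((MulEquiv.subgroupCongr h).trans Subgroup.topEquiv)).1 hN.2
    exact (Group.IsSolvable.commutator_lt_top_of_nontrivial K).ne hperf.commutator_eq_top
  have hlay : Cfsg.layer K = ⊤ := top_le_iff.1 (le_sSup ⟨Subgroup.IsSubnormal.top, by
    haveI : Group.IsPerfect (⊤ : Subgroup K) := by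
      haveI := hperf
      infer_instance
    refine ⟨inferInstance, ?_⟩
    let j : (⊤ : Subgroup K) ≃* K := Subgroup.topEquiv
    have hc' : Subgroup.center (⊤ : Subgroup K) = ⊥ := eq_bot_iff.2 fun x hx => by
      have : j x ∈ Subgroup.center K := Subgroup.mem_center_iff.2 fun g => by
        obtain ⟨y, rfl⟩ := j.surjective g
        rw [← map_mul, ← map_mul, Subgroup.mem_center_iff.1 hx y]
      rw [hcen, Subgroup.mem_bot] at this
      exact Subgroup.mem_bot.2 (j.injective (this.trans (map_one j).symm))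
    haveI := (((QuotientGroup.quotientMulEquivOfEq hc').trans QuotientGroup.quotientBot).trans j).toEquiv.nontrivial
    exact IsSimpleGroup.isSimpleGroup_of_surjective
      ((QuotientGroup.mk' (Subgroup.center (⊤ : Subgroup K))).comp j.symm.toMonoidHom)
      ((QuotientGroup.mk'_surjective _).comp j.symm.surjective)⟩)
  rw [Cfsg.generalizedFittingSubgroup, hfit, hlay]
  simp

/-- Simple groups with dihedral Sylow 2-subgroup and a component-free overgroup of an involution centraliser. -/
theorem component_free_overgroup (gw : PerfectClass.{u}) {G : Type u} [Group G] [Finite G] [IsSimpleGroup G]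
    (S : Sylow 2 G) (m : ℕ) (eS : ↥(S : Subgroup G) ≃* DihedralGroup m)
    (t : G) (ht : orderOf t = 2) (K : Subgroup G) (hlt : Subgroup.centralizer ({t} : Set G) < K)
    (hK : Cfsg.generalizedFittingSubgroup ↥K = Cfsg.fittingSubgroup ↥K) :
    Nonempty (G ≃* ↥(alternatingGroup (Fin 5))) ∨ Nonempty (G ≃* ↥(alternatingGroup (Fin 7))) ∨
      (∃ (F : Type) (_ : Field F) (_ : Fintype F), Fintype.card F = 2 ∧
        Nonempty (G ≃* Matrix.ProjectiveSpecialLinearGroup (Fin 3) F)) ∨
      (∃ (F : Type) (_ : Field F) (_ : Fintype F), Fintype.card F = 9 ∧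
        Nonempty (G ≃* Matrix.ProjectiveSpecialLinearGroup (Fin 2) F)) := by
  haveI : Fact (Nat.Prime 2) := ⟨Nat.prime_two⟩
  have hnc : ¬ IsMulCommutative G := fun h => by
    refine absurd hlt (not_lt_of_ge ?_)
    rw [show Subgroup.centralizer ({t} : Set G) = ⊤ from eq_top_iff.2 fun g _ =>
      Subgroup.mem_centralizer_singleton_iff.2 (h.is_comm.comm g t)]
    exact le_top
  haveI hperf : Group.IsPerfect G := ⟨(inferInstance : (commutator G).Normal).eq_bot_or_eq_top.resolve_left fun h =>
      hnc ⟨⟨fun a b => commutatorElement_eq_one_iff_mul_comm.1 (Subgroup.mem_bot.1 (h ▸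
        Subgroup.commutator_mem_commutator (Subgroup.mem_top a) (Subgroup.mem_top b)))⟩⟩⟩
  have h2 : 2 ∣ Nat.card G := ht ▸ orderOf_dvd_natCard t
  have hm : 2 ≤ m := by
    by_contra hm
    rcases (show m = 0 ∨ m = 1 by omega) with rfl | rfl
    · haveI : Finite (DihedralGroup 0) := Finite.of_equiv (S : Subgroup G) eS.toEquiv
      exact not_finite (DihedralGroup 0)
    · refine not_cyclic_of_perfect S h2 (isCyclic_of_prime_card (p := 2) ?_)
      rw [Nat.card_congr eS.toEquiv, DihedralGroup.nat_card]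
  have hO : Cfsg.oddCore G = ⊥ := by
    refine (inferInstance : (Cfsg.oddCore G).Normal).eq_bot_or_eq_top.resolve_right fun h => ?_
    have ho := Nat.coprime_two_right.1 (Fusion.card_pPrimeCore_coprime 2 G)
    rw [show Cfsg.pPrimeCore 2 G = ⊤ from h, Subgroup.card_top] at ho
    exact Nat.not_odd_iff_even.2 (even_iff_two_dvd.2 h2) ho
  let q : G ⧸ Cfsg.oddCore G ≃* G := (QuotientGroup.quotientMulEquivOfEq hO).trans QuotientGroup.quotientBot
  rcases gw G S m hm ⟨eS⟩ with ⟨F, iF, iFt, ho, h3, ⟨j⟩⟩ | ⟨⟨j⟩⟩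
  swap
  · exact Or.inr (Or.inl ⟨q.symm.trans j⟩)
  let e : G ≃* Matrix.ProjectiveSpecialLinearGroup (Fin 2) F := q.symm.trans j
  rcases (show Fintype.card F = 5 ∨ Fintype.card F = 7 ∨ Fintype.card F = 9 ∨ 11 ≤ Fintype.card F by
    obtain ⟨i, hi⟩ := ho; omega) with h | h | h | h
  · exact Or.inl ((S0253.result h).map e.trans)
  · exact Or.inr (Or.inr (Or.inl ⟨ZMod 2, inferInstance, inferInstance, ZMod.card 2,
      (S0255.result h (ZMod.card 2)).map e.trans⟩))
  · exact Or.inr (Or.inr (Or.inr ⟨F, iF, iFt, h, ⟨e⟩⟩))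
  exfalso
  haveI : IsSimpleGroup (Matrix.ProjectiveSpecialLinearGroup (Fin 2) F) :=
    Lead.JankoRee.psl_simple_of_odd h3
  have hncP : ¬ IsMulCommutative (Matrix.ProjectiveSpecialLinearGroup (Fin 2) F) := fun hc =>
    hnc ⟨⟨fun a b => e.injective (by rw [map_mul, map_mul, hc.is_comm.comm (e a) (e b)])⟩⟩
  have hC : Subgroup.centralizer ({e t} : Set (Matrix.ProjectiveSpecialLinearGroup (Fin 2) F))
      = (Subgroup.centralizer ({t} : Set G)).map e.toMonoidHom := by
    ext x
    obtain ⟨y, rfl⟩ := e.surjective x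
    rw [Subgroup.mem_map_equiv, MulEquiv.symm_apply_apply, Subgroup.mem_centralizer_singleton_iff,
      Subgroup.mem_centralizer_singleton_iff, ← map_mul, ← map_mul, e.injective.eq_iff]
  have hco : IsCoatom (Subgroup.centralizer ({t} : Set G)) := by
    refine (OrderIso.isCoatom_iff (MulEquiv.mapSubgroup e) _).1 ?_
    show IsCoatom ((Subgroup.centralizer ({t} : Set G)).map e.toMonoidHom)
    rw [← hC]
    refine centralizer_isCoatom ho h hncP (fun a b ha hb => ?_) (by rw [MulEquiv.orderOf_eq, ht])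
    have := MonoidHom.map_isConj e.toMonoidHom (one_class S hm eS (a := e.symm a) (b := e.symm b)
      (by rw [MulEquiv.orderOf_eq, ha]) (by rw [MulEquiv.orderOf_eq, hb]))
    simpa using this
  obtain rfl : K = ⊤ := hco.2 K hlt
  haveI : Nontrivial (⊤ : Subgroup G) := (Subgroup.topEquiv (G := G)).toEquiv.nontrivial
  haveI : IsSimpleGroup (⊤ : Subgroup G) :=
    IsSimpleGroup.isSimpleGroup_of_surjective (Subgroup.topEquiv (G := G)).symm.toMonoidHom
      (Subgroup.topEquiv (G := G)).symm.surjective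
  exact fitting_ne_of_simple (fun hc => hnc ⟨⟨fun a b =>
    congrArg Subtype.val (hc.is_comm.comm (⟨a, trivial⟩ : (⊤ : Subgroup G)) ⟨b, trivial⟩)⟩⟩) hK

end Cfsg.Agent.GW.Dep
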