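import Cfsg.Agent.Lib.GW.DepFieldInvolution
import Cfsg.Agent.Lib.GW.DepComponentFree
import Cfsg.Agent.Lib.GW.QuaternionSylow
import Cfsg.Agent.S0205
import Cfsg.Agent.Lib.Fusion.DihedralFour

/-!
# Reduced groups with dihedral Sylow 2-subgroup and a small involution centraliser
-/

set_option autoImplicit false
set_option linter.style.haveILetI false
set_option linter.unusedSectionVars false

namespace Cfsg.Agent.GW.Dep

universe u

open Cfsg Cfsg.Agent Cfsg.Agent.GW Cfsg.Agent.GW.Reduced Cfsg.Agent.GW.RankOne Small.PSL2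
open scoped commutatorElement

/-- The involutions outside a noncyclic subgroup of index two of a dihedral group are conjugate. -/
theorem dihedral_outside {n : ℕ} (h4 : 4 ∣ n) [NeZero n] (D : Subgroup (DihedralGroup n)) (hidx : D.index = 2)
    (hnc : ¬ IsCyclic D) {a b : DihedralGroup n} (ha : a ∉ D) (ha2 : a * a = 1) (hb : b ∉ D) (hb2 : b * b = 1) :
    IsConj a b := by
  have hr1 : DihedralGroup.r (1 : ZMod n) ∉ D := fun h => by
    refine hnc ?_
    have hle : Subgroup.zpowers (DihedralGroup.r (1 : ZMod n)) ≤ D := Subgroup.zpowers_le.2 h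
    have heq : Subgroup.zpowers (DihedralGroup.r (1 : ZMod n)) = D := by
      refine Subgroup.eq_of_le_of_card_ge hle (le_of_eq ?_)
      have h1 := D.card_mul_index
      rw [hidx, DihedralGroup.nat_card] at h1
      rw [Nat.card_zpowers, DihedralGroup.orderOf_r_one]
      omega
    rw [← heq]
    infer_instance
  have hiff : ∀ k : ℕ, DihedralGroup.r (k : ZMod n) ∈ D ↔ Even k := by
    intro k
    induction k with
    | zero => simp only [Nat.cast_zero]; rw [← DihedralGroup.one_def]; simp [D.one_mem]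
    | succ k ih =>
      rw [Nat.cast_succ, ← DihedralGroup.r_mul_r, Subgroup.mul_mem_iff_of_index_two hidx, ih, Nat.even_add_one]
      simp [hr1]
  have hrot : ∀ i : ZMod n, DihedralGroup.r i * DihedralGroup.r i = 1 → DihedralGroup.r i ∈ D := fun i hi => by
    rw [DihedralGroup.r_mul_r, DihedralGroup.one_def] at hi
    rcases Fusion.zmod_double_eq_zero (DihedralGroup.r.inj hi) with h | h
    · rw [h, ← DihedralGroup.one_def]
      exact D.one_mem
    · rw [h, hiff]
      obtain ⟨c, rfl⟩ := h4
      exact ⟨c, by omega⟩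
  rcases a with i | i
  · exact absurd (hrot i ha2) ha
  rcases b with j | j
  · exact absurd (hrot j hb2) hb
  have hd : DihedralGroup.r (j - i) ∈ D := by
    rw [← DihedralGroup.sr_mul_sr, Subgroup.mul_mem_iff_of_index_two hidx]
    simp [ha, hb]
  rw [show j - i = (((j - i).val : ℕ) : ZMod n) from (ZMod.natCast_zmod_val _).symm, hiff] at hd
  obtain ⟨m, hm⟩ := hd
  refine isConj_iff.2 ⟨DihedralGroup.r (-(m : ZMod n)), ?_⟩
  rw [DihedralGroup.inv_r, neg_neg, DihedralGroup.r_mul_sr, DihedralGroup.sr_mul_r]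
  congr 1
  have : j - i = (m : ZMod n) + m := by rw [← Nat.cast_add, ← hm, ZMod.natCast_zmod_val]
  rw [sub_eq_iff_eq_add] at this
  rw [this]; ring

variable {X : Type u} [Group X] [Finite X]

/-- No elementary abelian subgroup of order eight. -/
theorem no_eight (S : Sylow 2 X) {n : ℕ} (hn : 2 ≤ n) (e : (S : Subgroup X) ≃* DihedralGroup n) {u v w : X}
    (hu : u * u = 1) (hv : v * v = 1) (hw : w * w = 1) (huv : u * v = v * u) (huw : u * w = w * u)
    (hvw : v * w = w * v) (hv1 : v ≠ 1) (hw1 : w ≠ 1) (hne : v ≠ w) :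
    u = 1 ∨ u = v ∨ u = w ∨ u = v * w := by
  classical
  haveI : Fact (Nat.Prime 2) := ⟨Nat.prime_two⟩
  set E : Subgroup X := Subgroup.closure {u, v, w} with hE
  have hcomm : ∀ a ∈ ({u, v, w} : Set X), ∀ b ∈ ({u, v, w} : Set X), a * b = b * a := by
    intro a ha b hb
    simp only [Set.mem_insert_iff, Set.mem_singleton_iff] at ha hb
    rcases ha with rfl | rfl | rfl <;> rcases hb with rfl | rfl | rfl <;>
      first | rfl | assumption | exact (huv).symm | exact (huw).symm | exact (hvw).symm
  have hEc := Subgroup.isMulCommutative_closure hcomm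
  have hsq : ∀ a ∈ E, a * a = 1 := fun a ha => by
    induction ha using Subgroup.closure_induction with
    | mem a ha =>
      simp only [Set.mem_insert_iff, Set.mem_singleton_iff] at ha
      rcases ha with rfl | rfl | rfl <;> assumption
    | one => exact one_mul 1
    | mul a b ha hb iha ihb =>
      have hab : a * b = b * a := congrArg Subtype.val (hEc.is_comm.comm (⟨a, ha⟩ : E) ⟨b, hb⟩)
      rw [mul_assoc, ← mul_assoc b, ← hab, mul_assoc, ihb, mul_one, iha]
    | inv a _ ih => rw [← mul_inv_rev, ih, inv_one]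
  obtain ⟨Q, hQ⟩ := (show IsPGroup 2 E from fun a => ⟨1, Subtype.ext (by
    show (a : X) ^ (2 ^ 1) = 1
    rw [pow_one, pow_two]; exact hsq a a.2)⟩).exists_le_sylow
  let eQ : (Q : Subgroup X) ≃* DihedralGroup n := (Q.equiv S).trans e
  haveI := dihedral_neZero eQ
  let j : E →* DihedralGroup n := eQ.toMonoidHom.comp (Subgroup.inclusion hQ)
  have hj : Function.Injective j := eQ.injective.comp (Subgroup.inclusion_injective hQ)
  have hmv : v ∈ E := Subgroup.subset_closure (by simp)
  have hmw : w ∈ E := Subgroup.subset_closure (by simp)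
  have hmu : u ∈ E := Subgroup.subset_closure (by simp)
  let V : Subgroup E :=
    { carrier := {a | (a : X) = 1 ∨ (a : X) = v ∨ (a : X) = w ∨ (a : X) = v * w}
      one_mem' := Or.inl rfl
      mul_mem' := fun {a b} ha hb => by
        simp only [Set.mem_setOf_eq, Subgroup.coe_mul] at ha hb ⊢
        rcases ha with h | h | h | h <;> rcases hb with h' | h' | h' | h' <;> rw [h, h']
        all_goals first
          | (left; simp [hv, hw]; done)
          | (right; left; simp [mul_assoc, hv, hw]; done)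
          | (right; right; left; simp [← mul_assoc, hv, hw]; done)
          | (right; right; right; simp; done)
          | (right; right; right; exact hvw.symm)
          | (left; rw [mul_assoc, ← mul_assoc w v w, ← hvw, mul_assoc, hw, mul_one, hv])
          | (right; right; left; rw [mul_assoc, ← hvw, ← mul_assoc, hv, one_mul])
          | (right; left; rw [mul_assoc, hw, mul_one])
          | (right; right; left; rw [← mul_assoc, hv, one_mul])
          | (right; left; rw [hvw, ← mul_assoc, hw, one_mul])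
      inv_mem' := fun {a} ha => by
        have : a⁻¹ = a := inv_eq_of_mul_eq_one_left (Subtype.ext (hsq a a.2))
        rwa [this] }
  have hV4 : Nat.card V = 4 := by
    have h1 : Nat.card V ≤ 4 := by
      have hi : Function.Injective (fun a : V => (⟨((a : E) : X), by
          have := a.2
          simp only [Finset.mem_insert, Finset.mem_singleton]
          exact this⟩ : ({1, v, w, v * w} : Finset X))) := fun a b h =>
        Subtype.ext (Subtype.ext (congrArg Subtype.val h :))
      refine (Nat.card_le_card_of_injective _ hi).trans ?_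
      rw [Nat.card_eq_fintype_card, Fintype.card_coe]
      exact Finset.card_le_four
    let f : Fin 4 → V := ![⟨1, Or.inl rfl⟩, ⟨⟨v, hmv⟩, Or.inr (Or.inl rfl)⟩, ⟨⟨w, hmw⟩, Or.inr (Or.inr (Or.inl rfl))⟩,
      ⟨⟨v * w, mul_mem hmv hmw⟩, Or.inr (Or.inr (Or.inr rfl))⟩]
    have hvw1 : v * w ≠ 1 := fun h => hne (by rw [mul_eq_one_iff_eq_inv.1 h, inv_eq_of_mul_eq_one_left hw])
    have hf : Function.Injective f := fun a b h => by
      have h' := congrArg (fun y : V => ((y : E) : X)) h
      fin_cases a <;> fin_cases b <;>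
        simp [f, hv1, hw1, hne, hne.symm, hvw1, hv1.symm, hw1.symm, hvw1.symm] at h' ⊢
    have h2 := Nat.card_le_card_of_injective f hf
    rw [Nat.card_fin] at h2
    omega
  have hself := Fusion.dihedral_four_self_centralizing (T := V.map j)
    (by rintro _ ⟨a, _, rfl⟩ _ ⟨b, _, rfl⟩; rw [← map_mul, ← map_mul, hEc.is_comm.comm])
    (by rintro _ ⟨a, _, rfl⟩; rw [← map_mul, show a * a = 1 from Subtype.ext (hsq a a.2), map_one])
    (by rw [Subgroup.card_map_of_injective hj, hV4])
  have hu' : j ⟨u, hmu⟩ ∈ V.map j := by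
    rw [← hself]
    refine Subgroup.mem_centralizer_iff.2 ?_
    rintro _ ⟨a, _, rfl⟩
    rw [← map_mul, ← map_mul, hEc.is_comm.comm]
  obtain ⟨a, ha, hau⟩ := hu'
  have := hj hau
  rw [this] at ha
  exact ha

/-- The identification. -/
theorem almost_dihedral (gw : PerfectClass.{u}) (hO : Cfsg.oddCore X = ⊥) (S : Sylow 2 X) {n : ℕ} (hn : 2 ≤ n)
    (e : (S : Subgroup X) ≃* DihedralGroup n) (hns : ¬ Group.IsSolvable X) (t : X) (ht : orderOf t = 2)
    (hgen : Subgroup.centralizer ({t} : Set X) ≤
      Subgroup.closure {u | u * u = 1 ∧ u ∈ Subgroup.centralizer ({t} : Set X)})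
    (hcomm : ∀ a ∈ Subgroup.centralizer ({t} : Set X), ∀ b ∈ Subgroup.centralizer ({t} : Set X),
      a * a ≠ 1 → b * b ≠ 1 → a * b = b * a) :
    ∃ (F : Type) (_ : Field F) (_ : Fintype F), Odd (Fintype.card F) ∧ 3 < Fintype.card F ∧
      ∃ L : Subgroup X, L.Normal ∧ Group.IsPerfect L ∧
        ((L = ⊤ ∧ Nonempty (X ≃* Matrix.ProjectiveSpecialLinearGroup (Fin 2) F)) ∨
          ∃ ι : X ≃* (conjP (F := F)).range, ∀ x : X, (∃ z, (ι x).1 = MulAut.conj z) → x ∈ L) := by
  classical
  haveI : Fact (Nat.Prime 2) := ⟨Nat.prime_two⟩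
  obtain ⟨L, hLn, hmod, hC⟩ := nonsolvable_model gw hO S hn e hns
  haveI := hLn
  obtain ⟨hsimp, hnab⟩ := hmod.simple
  haveI := hsimp
  haveI hLp : Group.IsPerfect L := ⟨(inferInstance : (commutator L).Normal).eq_bot_or_eq_top.resolve_left fun h =>
      hnab ⟨⟨fun a b => commutatorElement_eq_one_iff_mul_comm.1 (Subgroup.mem_bot.1 (h ▸
        Subgroup.commutator_mem_commutator (Subgroup.mem_top a) (Subgroup.mem_top b)))⟩⟩⟩
  let ψ : X →* MulAut L := MulAut.conjNormal
  have hψ : Function.Injective ψ := by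
    rw [injective_iff_map_eq_one]
    intro x hx
    rw [← Subgroup.mem_bot, ← hC, Subgroup.mem_centralizer_iff]
    intro l hl
    have : ((ψ x ⟨l, hl⟩ : L) : X) = l := by rw [hx]; rfl
    rw [MulAut.conjNormal_apply] at this
    exact (mul_inv_eq_iff_eq_mul.1 this).symm
  have hinner : ∀ l : L, ψ (l : X) = MulAut.conj l := fun l =>
    MulEquiv.ext fun y => Subtype.ext (by simp [ψ])
  have htt : t * t = 1 := by rw [← pow_two, ← ht, pow_orderOf_eq_one]
  rcases hmod with ⟨F, iF, iFt, ho, h3, ⟨j⟩⟩ | ⟨⟨j⟩⟩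
  swap
  · -- the alternating group
    exfalso
    let aut : Equiv.Perm (Fin 7) ≃* MulAut (alternatingGroup (Fin 7)) :=
      MulEquiv.ofBijective _ (S2119.result 7 (by norm_num) (by norm_num))
    let τ : X →* Equiv.Perm (Fin 7) := aut.symm.toMonoidHom.comp ((MulAut.congr j).toMonoidHom.comp ψ)
    have hτ : Function.Injective τ := aut.symm.injective.comp ((MulAut.congr j).injective.comp hψ)
    have hle : alternatingGroup (Fin 7) ≤ τ.range := fun a ha => by
      refine ⟨(j.symm ⟨a, ha⟩ : L), aut.injective ?_⟩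
      show aut (aut.symm _) = aut a
      rw [MulEquiv.apply_symm_apply]
      refine MulEquiv.ext fun y => ?_
      show j ((ψ (j.symm ⟨a, ha⟩ : X)) (j.symm y)) = MulAut.conjNormal a y
      rw [hinner]
      refine Subtype.ext ?_
      simp
    rcases range_cases τ.range hle with h | h
    swap
    · exact not_perm_seven S e (MulEquiv.ofBijective τ ⟨hτ, MonoidHom.range_eq_top.1 h⟩)
    let f : X ≃* alternatingGroup (Fin 7) := (MonoidHom.ofInjective hτ).trans (MulEquiv.subgroupCongr h)
    haveI : Group.IsPerfect X := ⟨by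
      have hL : L = ⊤ := by
        refine Subgroup.eq_top_of_card_eq L ?_
        rw [Nat.card_congr f.toEquiv, Nat.card_congr j.toEquiv]
      apply eq_top_iff.2
      have h1 := congrArg (Subgroup.map L.subtype) hLp.commutator_eq_top
      rw [commutator_def, Subgroup.map_commutator, ← MonoidHom.range_eq_map, Subgroup.range_subtype, hL,
        ← commutator_def] at h1
      exact h1.ge⟩
    let p0 : alternatingGroup (Fin 7) := ⟨Equiv.swap 0 1 * Equiv.swap 2 3, by rw [Equiv.Perm.mem_alternatingGroup]; decide⟩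
    let x0 : alternatingGroup (Fin 7) := ⟨Equiv.swap 0 2 * Equiv.swap 2 1 * Equiv.swap 1 3 * Equiv.swap 4 5, by rw [Equiv.Perm.mem_alternatingGroup]; decide⟩
    let y0 : alternatingGroup (Fin 7) := ⟨Equiv.swap 4 5 * Equiv.swap 5 6, by rw [Equiv.Perm.mem_alternatingGroup]; decide⟩
    have hp0 : p0 * p0 = 1 ∧ p0 ≠ 1 := by decide
    obtain ⟨g, hg⟩ := isConj_iff.1 (one_class S hn e (a := t) (b := f.symm p0) ht
      (by rw [MulEquiv.orderOf_eq]; exact orderOf_eq_prime (by rw [pow_two]; exact hp0.1) hp0.2))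
    have hmem : ∀ a : alternatingGroup (Fin 7), a * p0 = p0 * a →
        g⁻¹ * f.symm a * g ∈ Subgroup.centralizer ({t} : Set X) := fun a ha => by
      rw [Subgroup.mem_centralizer_singleton_iff]
      have h1 : f.symm a * (g * t * g⁻¹) = g * t * g⁻¹ * f.symm a := by rw [hg, ← map_mul, ← map_mul, ha]
      calc g⁻¹ * f.symm a * g * t = g⁻¹ * (f.symm a * (g * t * g⁻¹)) * g := by group
        _ = g⁻¹ * (g * t * g⁻¹ * f.symm a) * g := by rw [h1]
        _ = t * (g⁻¹ * f.symm a * g) := by group
    have hsq : ∀ a : alternatingGroup (Fin 7), a * a ≠ 1 → g⁻¹ * f.symm a * g * (g⁻¹ * f.symm a * g) ≠ 1 :=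
      fun a ha h1 => ha (f.symm.injective (by
        rw [map_mul, map_one]
        have h2 := congrArg (fun y => g * y * g⁻¹) h1
        simpa [mul_assoc] using h2))
    have h1 := hcomm _ (hmem x0 (by decide)) _ (hmem y0 (by decide)) (hsq x0 (by decide)) (hsq y0 (by decide))
    have h2 : x0 * y0 = y0 * x0 := f.symm.injective (by
      have h3 := congrArg (fun y => g * y * g⁻¹) h1
      simpa [mul_assoc] using h3)
    revert h2
    decide
  -- the linear groups
  refine ⟨F, iF, iFt, ho, h3, L, hLn, hLp, ?_⟩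
  have h20 : (2 : F) ≠ 0 := Small.SL2C.not_two_dvd_iff.1 fun h => by
    obtain ⟨i, hi⟩ := ho
    omega
  let τ : X →* MulAut (Matrix.ProjectiveSpecialLinearGroup (Fin 2) F) := (MulAut.congr j).toMonoidHom.comp ψ
  have hτ : Function.Injective τ := (MulAut.congr j).injective.comp hψ
  have hτL : ∀ l : L, τ (l : X) = MulAut.conj (j l) := fun l => MulEquiv.ext fun y => by
    show j ((ψ (l : X)) (j.symm y)) = _
    rw [hinner]
    simp
  have hconj : ∀ z, MulAut.conj z ∈ (conjP (F := F)).range := fun z => by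
    obtain ⟨A, rfl⟩ := pr_surjective z
    exact ⟨_, conjP_toGL A⟩
  set P := (conjP (F := F)).range.comap τ with hP
  have hLP : L ≤ P := fun l hl => by
    rw [hP, Subgroup.mem_comap, hτL ⟨l, hl⟩]
    exact hconj _
  have hLin : ∀ x : X, (∃ z, τ x = MulAut.conj z) → x ∈ L := fun x ⟨z, hz⟩ => by
    have : x = ((j.symm z : L) : X) := hτ (by rw [hz, hτL, MulEquiv.apply_symm_apply])
    rw [this]
    exact (j.symm z).2
  -- involutions are conjugations
  obtain ⟨p, f, hp, hF⟩ : ∃ p f : ℕ, p.Prime ∧ Fintype.card F = p ^ f := by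
    obtain ⟨p, hcp⟩ := CharP.exists F
    haveI := hcp
    obtain ⟨m, hpp, hm⟩ := FiniteField.card F p
    exact ⟨p, m, hpp, hm⟩
  haveI : Fact p.Prime := ⟨hp⟩
  have hinv : ∀ u : X, u * u = 1 → u ∈ P := by
    intro u hu
    obtain ⟨g, σ, hgσ⟩ := aut_eq hF (τ u)
    by_cases hσ : σ = 1
    · exact ⟨g, by rw [hgσ, hσ, map_one, mul_one]⟩
    exfalso
    obtain ⟨v, w, hv, hw, hvw, hv1, hw1, hne, hfv, hfw⟩ :=
      field_involution_four h20 g σ (by rw [← hgσ, ← map_mul, hu, map_one]) hσ
    rw [← hgσ] at hfv hfw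
    have hfix : ∀ z, τ u z = z → u * (j.symm z : X) = (j.symm z : X) * u := fun z hz => by
      apply hτ
      rw [map_mul, map_mul, hτL, MulEquiv.apply_symm_apply]
      ext y
      show τ u (z * y * z⁻¹) = z * τ u y * z⁻¹
      rw [map_mul, map_mul, map_inv, hz]
    have hcast : ∀ a b, ((j.symm (a * b) : L) : X) = (j.symm a : X) * (j.symm b : X) := fun a b => by
      rw [map_mul]; rfl
    have hone : ((j.symm 1 : L) : X) = 1 := by rw [map_one]; rfl
    have hinj : ∀ a b, ((j.symm a : L) : X) = (j.symm b : X) → a = b := fun a b h => j.symm.injective (Subtype.ext h)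
    have huL : u ∉ L := fun h => hσ (by
      obtain ⟨A, hA⟩ := pr_surjective (j ⟨u, h⟩)
      have h1 : conjP (Matrix.SpecialLinearGroup.toGL A) * fieldP 1 = conjP g * fieldP σ := by
        rw [map_one, mul_one, conjP_toGL, hA, ← hτL, ← hgσ]
      exact (field_unique h1).symm)
    rcases no_eight S hn e (u := u) (v := (j.symm v : X)) (w := (j.symm w : X)) hu
      (by rw [← hcast, hv, hone]) (by rw [← hcast, hw, hone]) (hfix v hfv) (hfix w hfw)
      (by rw [← hcast, ← hcast, hvw]) (fun h => hv1 (hinj _ _ (h.trans hone.symm)))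
      (fun h => hw1 (hinj _ _ (h.trans hone.symm))) (fun h => hne (hinj _ _ h)) with h | h | h | h
    · exact huL (h ▸ L.one_mem)
    · exact huL (h ▸ (j.symm v).2)
    · exact huL (h ▸ (j.symm w).2)
    · exact huL (h ▸ L.mul_mem (j.symm v).2 (j.symm w).2)
  have hCP : Subgroup.centralizer ({t} : Set X) ≤ P :=
    hgen.trans ((Subgroup.closure_le _).2 fun u hu => hinv u hu.1)
  -- the Sylow subgroup of `L`
  let SL : Sylow 2 L := Classical.choice inferInstance
  obtain ⟨S', hS'⟩ : ∃ S' : Sylow 2 X, ((SL : Subgroup L).map L.subtype) ≤ (S' : Subgroup X) :=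
    (SL.isPGroup'.map L.subtype).exists_le_sylow
  let e' : (S' : Subgroup X) ≃* DihedralGroup n := (S'.equiv S).trans e
  let gT : (SL : Subgroup L) ≃* (SL : Subgroup L).map L.subtype :=
    (SL : Subgroup L).equivMapOfInjective _ L.subtype_injective
  have hLev : 2 ∣ Nat.card L := by
    by_contra h
    exact hnab (by
      haveI : Group.IsSolvable L := S0205.result (Nat.odd_iff.2 (Nat.two_dvd_ne_zero.1 h))
      haveI : Nontrivial L := inferInstance
      exact ((Group.IsSolvable.commutator_lt_top_of_nontrivial L).ne hLp.commutator_eq_top).elim)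
  have hSLnc : ¬ IsCyclic (SL : Subgroup L) := not_cyclic_of_perfect SL hLev
  obtain ⟨k, hk, ⟨eL⟩⟩ : ∃ k, 2 ≤ k ∧ Nonempty ((SL : Subgroup L) ≃* DihedralGroup k) := by
    rcases two_subgroup_cases e' _ hS' with h | ⟨h1, h2⟩ | ⟨k, hk, ⟨hf⟩⟩
    · exact absurd (isCyclic_of_surjective gT.symm.toMonoidHom gT.symm.surjective) hSLnc
    · haveI : IsKleinFour ((SL : Subgroup L).map L.subtype) :=
        ⟨h2, Nat.dvd_antisymm (Monoid.exponent_dvd_of_forall_pow_eq_one fun g =>
          Subtype.ext (by rw [Subgroup.coe_pow, pow_two]; exact h1 g g.2)) (by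
            obtain ⟨g, hg⟩ := exists_prime_orderOf_dvd_card' (G := (SL : Subgroup L).map L.subtype) 2
              (by rw [h2]; norm_num)
            exact hg.symm.dvd.trans (Monoid.order_dvd_exponent g))⟩
      exact ⟨2, le_rfl, IsKleinFour.nonempty_mulEquiv.map gT.trans⟩
    · exact ⟨k, by omega, ⟨gT.trans hf⟩⟩
  -- everything is a conjugation
  have hPtop : P = ⊤ := by
    refine eq_top_iff.2 fun g _ => ?_
    obtain ⟨l, hl, hlt⟩ : ∃ l ∈ P, l * t * l⁻¹ = g * t * g⁻¹ := by
      by_cases htL : t ∈ L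
      · have hgtL : g * t * g⁻¹ ∈ L := hLn.conj_mem t htL g
        obtain ⟨l, hl⟩ := isConj_iff.1 (one_class (X := L) SL hk eL (a := ⟨t, htL⟩) (b := ⟨_, hgtL⟩)
          (by rw [← Subgroup.orderOf_coe]; exact ht)
          (by rw [← Subgroup.orderOf_coe]; exact (MulEquiv.orderOf_eq (MulAut.conj g) t).trans ht))
        exact ⟨l, hLP l.2, congrArg Subtype.val hl⟩
      have hgtL : g * t * g⁻¹ ∉ L := fun h => htL (by
        have := hLn.conj_mem _ h g⁻¹
        simpa [mul_assoc] using this)
      have hgt2 : g * t * g⁻¹ * (g * t * g⁻¹) = 1 := by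
        rw [show g * t * g⁻¹ * (g * t * g⁻¹) = g * (t * t) * g⁻¹ by group, htt, mul_one, mul_inv_cancel]
      have htP := hinv t htt
      have hgtP := hinv _ hgt2
      -- `L` has index two in `P`
      have hidx : (L.subgroupOf P).index = 2 := by
        let i : P →* (conjP (F := F)).range := (τ.comp P.subtype).codRestrict _ fun x => x.2
        have hi : Function.Injective i := fun a b h => Subtype.ext (hτ (congrArg Subtype.val h :))
        obtain ⟨q⟩ := conjP_range (F := F)
        have h1 := Subgroup.card_dvd_of_injective i hi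
        rw [Nat.card_congr q.toEquiv, Classical.Dickson.card_pgl] at h1
        have h2 := Classical.Dickson.card_psl F
        rw [Nat.gcd_eq_left (show 2 ∣ Fintype.card F - 1 by obtain ⟨i, hi⟩ := ho; exact ⟨i, by omega⟩)] at h2
        rw [← h2, ← Nat.card_congr j.toEquiv, ← (L.subgroupOf P).card_mul_index,
          Nat.card_congr (Subgroup.subgroupOfEquivOfLe hLP).toEquiv] at h1
        rcases (Nat.dvd_prime Nat.prime_two).1 (Nat.dvd_of_mul_dvd_mul_left Nat.card_pos h1) with h | h
        · exact absurd (Subgroup.subgroupOf_eq_top.1 (Subgroup.index_eq_one.1 h) htP) htL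
        · exact h
      haveI : (L.subgroupOf P).Normal := Subgroup.normal_of_index_eq_two hidx
      -- both involutions into one Sylow subgroup of `P`
      obtain ⟨Q, hQ⟩ := (IsPGroup.of_card (p := 2) (n := 1) (G := Subgroup.zpowers (⟨t, htP⟩ : P))
        (by rw [Nat.card_zpowers, pow_one, ← Subgroup.orderOf_coe]; exact ht)).exists_le_sylow
      obtain ⟨Q₂, hQ₂⟩ := (IsPGroup.of_card (p := 2) (n := 1) (G := Subgroup.zpowers (⟨_, hgtP⟩ : P))
        (by rw [Nat.card_zpowers, pow_one, ← Subgroup.orderOf_coe]; exact (MulEquiv.orderOf_eq (MulAut.conj g) t).trans ht)).exists_le_sylow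
      obtain ⟨c, hc⟩ := MulAction.exists_smul_eq P Q₂ Q
      obtain ⟨s, hs⟩ : ∃ s : P, s = c * ⟨_, hgtP⟩ * c⁻¹ := ⟨_, rfl⟩
      have hsQ : s ∈ (Q : Subgroup P) := by
        rw [← hc, Sylow.coe_subgroup_smul, hs]
        exact ⟨_, hQ₂ (Subgroup.mem_zpowers _), rfl⟩
      obtain ⟨S₁, hS₁⟩ := (Q.isPGroup'.map P.subtype).exists_le_sylow
      let e₁ : (S₁ : Subgroup X) ≃* DihedralGroup n := (S₁.equiv S).trans e
      haveI := dihedral_neZero e₁
      let gQ : (Q : Subgroup P) ≃* (Q : Subgroup P).map P.subtype :=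
        (Q : Subgroup P).equivMapOfInjective _ P.subtype_injective
      -- the part in `L` is not cyclic
      have hsX : (s : X) = c * (g * t * g⁻¹) * (c : X)⁻¹ := by rw [hs]; rfl
      let D : Subgroup (Q : Subgroup P) := (L.subgroupOf P).subgroupOf (Q : Subgroup P)
      have hDidx : D.index = 2 := by
        have h1 : D.index ∣ 2 :=
          (Subgroup.relIndex_dvd_index_of_normal (L.subgroupOf P) (Q : Subgroup P)).trans hidx.dvd
        rcases (Nat.dvd_prime Nat.prime_two).1 h1 with h | h
        · exact absurd (show (⟨⟨t, htP⟩, hQ (Subgroup.mem_zpowers _)⟩ : (Q : Subgroup P)) ∈ D by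
            rw [Subgroup.index_eq_one.1 h]; trivial) htL
        · exact h
      have hDnc : ¬ IsCyclic D := fun hcyc => hSLnc (by
        -- a Sylow subgroup of `L` inside `Q`
        obtain ⟨R, hR⟩ := (SL.isPGroup'.map (Subgroup.inclusion hLP)).exists_le_sylow
        obtain ⟨d, hd⟩ := MulAction.exists_smul_eq P R Q
        have hmap : ∀ x : (SL : Subgroup L), d * Subgroup.inclusion hLP (x : L) * d⁻¹ ∈ (Q : Subgroup P) := fun x => by
          rw [← hd, Sylow.coe_subgroup_smul]
          exact ⟨_, hR ⟨x, x.2, rfl⟩, rfl⟩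
        let i : (SL : Subgroup L) →* D :=
          { toFun := fun x => ⟨⟨_, hmap x⟩, Subgroup.Normal.conj_mem inferInstance _ (x : L).2 d⟩
            map_one' := Subtype.ext (Subtype.ext (by simp))
            map_mul' := fun a b => Subtype.ext (Subtype.ext (by
              show d * Subgroup.inclusion hLP ((a * b : (SL : Subgroup L)) : L) * d⁻¹ = _
              rw [Subgroup.coe_mul, map_mul]
              simp [mul_assoc])) }
        refine isCyclic_of_injective i fun a b h => Subtype.ext (Subgroup.inclusion_injective hLP ?_)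
        exact mul_left_cancel (mul_right_cancel (congrArg (fun y : D => ((y : (Q : Subgroup P)) : P)) h)))
      obtain ⟨nQ, hnQ, ⟨eQ⟩⟩ : ∃ k, 4 ∣ k ∧ Nonempty ((Q : Subgroup P) ≃* DihedralGroup k) := by
        rcases two_subgroup_cases e₁ _ hS₁ with h | ⟨h1, h2⟩ | ⟨k, hk, ⟨hf⟩⟩
        · exact absurd (by
            haveI : IsCyclic (Q : Subgroup P) := isCyclic_of_surjective gQ.symm.toMonoidHom gQ.symm.surjective
            infer_instance) hDnc
        · refine absurd ?_ hDnc
          have h2' : Nat.card D = 2 := by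
            have := D.card_mul_index
            rw [hDidx, Nat.card_congr gQ.toEquiv, h2] at this
            omega
          exact isCyclic_of_prime_card h2'
        · refine ⟨k, ?_, ⟨gQ.trans hf⟩⟩
          obtain ⟨i, hi⟩ := Q.isPGroup'.exists_card_eq
          rw [Nat.card_congr (gQ.trans hf).toEquiv, DihedralGroup.nat_card] at hi
          obtain ⟨i, rfl⟩ : ∃ i', i = i' + 1 := ⟨i - 1, by rcases i with _ | i <;> simp at hi ⊢ <;> omega⟩
          obtain ⟨i, rfl⟩ : ∃ i', i = i' + 2 := by
            refine ⟨i - 2, ?_⟩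
            by_contra hne
            have : i ≤ 1 := by omega
            interval_cases i <;> omega
          exact ⟨2 ^ i, by rw [pow_succ, pow_succ, pow_succ] at hi; omega⟩
      haveI : NeZero nQ := ⟨by
        rintro rfl
        haveI : Finite (DihedralGroup 0) := Finite.of_equiv (Q : Subgroup P) eQ.toEquiv
        exact not_finite (DihedralGroup 0)⟩
      obtain ⟨d, hd⟩ := isConj_iff.1 (dihedral_outside hnQ (D.map eQ.toMonoidHom)
        (by rw [Subgroup.index_map_of_bijective (f := eQ.toMonoidHom) eQ.bijective]; exact hDidx)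
        (fun hc' => hDnc (by
          haveI := hc'
          exact isCyclic_of_injective (D.equivMapOfInjective eQ.toMonoidHom eQ.injective).toMonoidHom
            (MulEquiv.injective _)))
        (a := eQ ⟨⟨t, htP⟩, hQ (Subgroup.mem_zpowers _)⟩) (b := eQ ⟨s, hsQ⟩)
        (fun h => htL (by
          obtain ⟨y, hy, hye⟩ := h
          rw [eQ.injective hye] at hy
          exact hy))
        (by rw [← map_mul, ← map_one eQ]; exact congrArg eQ (Subtype.ext (Subtype.ext htt)))
        (fun h => hgtL (by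
          obtain ⟨y, hy, hye⟩ := h
          rw [eQ.injective hye] at hy
          have h2 : (c : X) * (g * t * g⁻¹) * (c : X)⁻¹ ∈ L := by
            rw [← hsX]
            exact hy
          have := hLn.conj_mem _ h2 (c : X)⁻¹
          simpa [mul_assoc] using this))
        (by
          rw [← map_mul, ← map_one eQ]
          refine congrArg eQ (Subtype.ext ?_)
          refine Subtype.ext ?_
          show (s : X) * (s : X) = 1
          rw [hsX, show (c : X) * (g * t * g⁻¹) * (c : X)⁻¹ * ((c : X) * (g * t * g⁻¹) * (c : X)⁻¹) =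
            (c : X) * (g * t * g⁻¹ * (g * t * g⁻¹)) * (c : X)⁻¹ by group, hgt2, mul_one, mul_inv_cancel]))
      obtain ⟨d, rfl⟩ := eQ.surjective d
      rw [← map_inv, ← map_mul, ← map_mul] at hd
      have hd' : ((d : P) : X) * t * ((d : P) : X)⁻¹ = (c : X) * (g * t * g⁻¹) * (c : X)⁻¹ := by
        have := congrArg (fun y : (Q : Subgroup P) => ((y : P) : X)) (eQ.injective hd)
        rw [← hsX]
        simpa using this
      refine ⟨(c : X)⁻¹ * ((d : P) : X), P.mul_mem (P.inv_mem c.2) (d : P).2, ?_⟩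
      calc (c : X)⁻¹ * ((d : P) : X) * t * ((c : X)⁻¹ * ((d : P) : X))⁻¹
          = (c : X)⁻¹ * (((d : P) : X) * t * ((d : P) : X)⁻¹) * c := by group
        _ = g * t * g⁻¹ := by rw [hd']; group
    rw [show g = l * (l⁻¹ * g) by group]
    refine P.mul_mem hl (hCP (Subgroup.mem_centralizer_singleton_iff.2 ?_))
    calc l⁻¹ * g * t = l⁻¹ * (g * t * g⁻¹) * g := by group
      _ = l⁻¹ * (l * t * l⁻¹) * g := by rw [hlt]
      _ = t * (l⁻¹ * g) := by group
  obtain ⟨q⟩ := conjP_range (F := F)
  let i : X →* (conjP (F := F)).range := τ.codRestrict _ fun x => (hPtop ▸ Subgroup.mem_top x : x ∈ P)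
  have hi : Function.Injective i := fun a b h => hτ (congrArg Subtype.val h :)
  by_cases hLtop : L = ⊤
  · exact Or.inl ⟨hLtop, ⟨((MulEquiv.subgroupCongr hLtop).trans Subgroup.topEquiv).symm.trans j⟩⟩
  · refine Or.inr ⟨MulEquiv.ofBijective i ((Nat.bijective_iff_injective_and_card i).2 ⟨hi, ?_⟩), fun x hx => hLin x hx⟩
    have h1 := Subgroup.card_dvd_of_injective i hi
    rw [Nat.card_congr q.toEquiv, Classical.Dickson.card_pgl] at h1 ⊢
    have h2 := Classical.Dickson.card_psl F
    rw [Nat.gcd_eq_left (show 2 ∣ Fintype.card F - 1 by obtain ⟨i, hi⟩ := ho; exact ⟨i, by omega⟩)] at h2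
    rw [← h2, ← Nat.card_congr j.toEquiv, ← L.card_mul_index] at h1 ⊢
    rcases (Nat.dvd_prime Nat.prime_two).1 (Nat.dvd_of_mul_dvd_mul_left Nat.card_pos h1) with h | h
    · exact absurd (Subgroup.index_eq_one.1 h) hLtop
    · rw [h]

end Cfsg.Agent.GW.Dep
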