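import Cfsg.Agent.Lib.GW.DihedralReduced
import Cfsg.Agent.S0107
import Cfsg.Agent.S1255

/-!
# The minimal counterexample to the theorem of Gorenstein and Walter

Reduction of the perfect case to a simple group all of whose smaller companions satisfy the theorem.
-/

set_option autoImplicit false
set_option linter.style.haveILetI false
set_option linter.unusedSectionVars false

namespace Cfsg.Agent.GW

open Cfsg Cfsg.Agent Cfsg.Agent.GW.Reduced

universe u

variable {X : Type u} [Group X] [Finite X]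

/-- The conclusion of the theorem. -/
def Concl (X : Type u) [Group X] [Finite X] : Prop :=
  (∃ (F : Type) (_ : Field F) (_ : Fintype F), Odd (Fintype.card F) ∧ 3 < Fintype.card F ∧
      Nonempty (X ⧸ Cfsg.oddCore X ≃* Matrix.ProjectiveSpecialLinearGroup (Fin 2) F)) ∨
    Nonempty (X ⧸ Cfsg.oddCore X ≃* alternatingGroup (Fin 7))

/-- The theorem below order `N`. -/
def ClassBelow (N : ℕ) : Prop :=
  ∀ (L : Type u) [Group L] [Finite L] [Group.IsPerfect L] (S : Sylow 2 L) (k : ℕ), Nat.card L < N → 2 ≤ k →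
    Nonempty ((S : Subgroup L) ≃* DihedralGroup k) → Concl L

/-- A minimal counterexample: a simple group with dihedral Sylow two-subgroups, neither `L₂(q)` nor `A₇`, the
theorem holding below its order. -/
structure Minimal (G : Type u) [Group G] [Finite G] : Prop where
  simple : IsSimpleGroup G
  nonab : ¬ IsMulCommutative G
  sylow : ∃ (S : Sylow 2 G) (n : ℕ), 2 ≤ n ∧ Nonempty ((S : Subgroup G) ≃* DihedralGroup n)
  below : ClassBelow.{u} (Nat.card G)
  notModel : ¬ IsModel G

theorem eq_one_of_pgroup_perfect [Group.IsPerfect X] (h : IsPGroup 2 X) (x : X) : x = 1 := by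
  haveI : Fact (Nat.Prime 2) := ⟨Nat.prime_two⟩
  by_contra hx
  haveI : Nontrivial X := ⟨x, 1, hx⟩
  haveI : Group.IsNilpotent X := h.isNilpotent
  exact (Group.IsSolvable.commutator_lt_top_of_nontrivial X).ne Group.IsPerfect.commutator_eq_top

theorem pResidual_perfect [Group.IsPerfect X] : Cfsg.pResidual 2 X = ⊤ := by
  haveI : Fact (Nat.Prime 2) := ⟨Nat.prime_two⟩
  haveI : (Cfsg.pResidual 2 X).Normal := by infer_instance
  have h2 : IsPGroup 2 (X ⧸ Cfsg.pResidual 2 X) := Fusion.isPGroup_quotient_pResidual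
  refine eq_top_iff.2 fun g _ => (QuotientGroup.eq_one_iff g).1 ?_
  exact eq_one_of_pgroup_perfect h2 _

/-- Perfect groups of even order have no cyclic Sylow two-subgroup. -/
theorem not_cyclic_of_perfect [Group.IsPerfect X] (S : Sylow 2 X) (h2 : 2 ∣ Nat.card X) :
    ¬ IsCyclic (S : Subgroup X) := by
  intro hc
  have h := Fusion.hnpc_iff.1 (Fusion.DihedralFours.hnpc_two_cyclic S hc)
  rw [pResidual_perfect, Subgroup.card_top] at h
  exact absurd h2 ((Nat.prime_two.coprime_iff_not_dvd).1 h.symm)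

/-- The Sylow subgroup of a quotient by a subgroup of odd order. -/
theorem sylow_quotient (N : Subgroup X) [N.Normal] (hN : Odd (Nat.card N)) (S : Sylow 2 X) :
    Nonempty ((S : Subgroup X) ≃* (S.mapSurjective (QuotientGroup.mk'_surjective N) : Subgroup (X ⧸ N))) := by
  haveI : Fact (Nat.Prime 2) := ⟨Nat.prime_two⟩
  let f : (S : Subgroup X) →* (S : Subgroup X).map (QuotientGroup.mk' N) := (QuotientGroup.mk' N).subgroupMap _
  suffices hf : Function.Injective f from
    ⟨MulEquiv.ofBijective f ⟨hf, (QuotientGroup.mk' N).subgroupMap_surjective _⟩⟩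
  rw [injective_iff_map_eq_one]
  rintro ⟨x, hx⟩ h1
  have h2 : x ∈ N := (QuotientGroup.eq_one_iff x).1 (congrArg Subtype.val h1)
  obtain ⟨k, hk⟩ := IsPGroup.iff_orderOf.1 S.isPGroup' ⟨x, hx⟩
  rw [Subgroup.orderOf_mk] at hk
  refine Subtype.ext (orderOf_eq_one_iff.1 (Nat.eq_one_of_dvd_coprimes
    (show Nat.Coprime (2 ^ k) (Nat.card N) from ((Nat.coprime_two_left).2 hN).pow_left k) (hk ▸ dvd_rfl) ?_))
  exact Subgroup.orderOf_dvd_natCard _ h2

theorem dihedral_pow (S : Sylow 2 X) {n : ℕ} (hn : 2 ≤ n) (e : (S : Subgroup X) ≃* DihedralGroup n) :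
    ∃ k : ℕ, 1 ≤ k ∧ n = 2 ^ k := by
  haveI : Fact (Nat.Prime 2) := ⟨Nat.prime_two⟩
  haveI := dihedral_neZero e
  obtain ⟨j, hj⟩ := IsPGroup.iff_card.1 S.isPGroup'
  rw [Nat.card_congr e.toEquiv, DihedralGroup.nat_card] at hj
  obtain ⟨k, -, hk⟩ := (Nat.dvd_prime_pow Nat.prime_two).1 (Dvd.intro_left 2 hj)
  refine ⟨k, Nat.pos_of_ne_zero fun h0 => ?_, hk⟩
  rw [hk, h0] at hn
  omega

theorem two_dvd_card (S : Sylow 2 X) {n : ℕ} (e : (S : Subgroup X) ≃* DihedralGroup n) : 4 ≤ 2 * n → 2 ∣ Nat.card X :=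
  fun _ => (Dvd.intro n (by rw [Nat.card_congr e.toEquiv, DihedralGroup.nat_card])).trans
    (S : Subgroup X).card_subgroup_dvd_card

/-- A perfect group with dihedral Sylow two-subgroup has no central involution. -/
theorem no_central [Group.IsPerfect X] (S : Sylow 2 X) {n : ℕ} (hn : 2 ≤ n) (e : (S : Subgroup X) ≃* DihedralGroup n)
    {z : X} (hz : orderOf z = 2) : z ∉ Subgroup.center X := by
  classical
  haveI : Fact (Nat.Prime 2) := ⟨Nat.prime_two⟩
  intro hzc
  obtain ⟨k, hk1, rfl⟩ := dihedral_pow S hn e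
  by_cases h4 : k = 1
  · subst h4
    haveI : (Subgroup.zpowers z).Normal := ⟨fun a ha g => by
      obtain ⟨i, rfl⟩ := ha
      rw [Subgroup.mem_center_iff.1 (Subgroup.zpow_mem _ hzc i) g, mul_inv_cancel_right]
      exact Subgroup.zpow_mem_zpowers _ _⟩
    have hS4 : Nat.card (S : Subgroup X) = 4 := by rw [Nat.card_congr e.toEquiv, DihedralGroup.nat_card]; norm_num
    set T := S.mapSurjective (QuotientGroup.mk'_surjective (Subgroup.zpowers z))
    have hzS : z ∈ (S : Subgroup X) := by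
      obtain ⟨Q, hQ⟩ := (IsPGroup.of_card (p := 2) (n := 1) (G := Subgroup.zpowers z)
        (by rw [Nat.card_zpowers, hz, pow_one])).exists_le_sylow
      obtain ⟨g, hg⟩ := MulAction.exists_smul_eq X Q S
      rw [← hg, Sylow.coe_subgroup_smul]
      exact ⟨z, hQ (Subgroup.mem_zpowers z), show g * z * g⁻¹ = z by
        rw [Subgroup.mem_center_iff.1 hzc g, mul_inv_cancel_right]⟩
    have hXq : Nat.card (X ⧸ Subgroup.zpowers z) * 2 = Nat.card X := by
      rw [← hz, ← Nat.card_zpowers, ← Subgroup.card_eq_card_quotient_mul_card_subgroup]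
    have hT : Nat.card (T : Subgroup (X ⧸ Subgroup.zpowers z)) = 2 := by
      rw [Sylow.card_eq_multiplicity]
      have hS := S.card_eq_multiplicity
      rw [hS4, ← hXq, Nat.factorization_mul Nat.card_pos.ne' two_ne_zero, Finsupp.add_apply,
        Nat.Prime.factorization_self Nat.prime_two, show (4 : ℕ) = 2 ^ 2 by norm_num] at hS
      rw [show (Nat.card (X ⧸ Subgroup.zpowers z)).factorization 2 = 1 by
        have := Nat.pow_right_injective (le_refl 2) hS; omega, pow_one]
    refine not_cyclic_of_perfect T (hT ▸ (T : Subgroup (X ⧸ Subgroup.zpowers z)).card_subgroup_dvd_card) (isCyclic_of_prime_card hT)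
  · let φ : DihedralGroup (2 ^ k) →* X := (S : Subgroup X).subtype.comp e.symm.toMonoidHom
    have ha : orderOf (φ (DihedralGroup.sr 0)) = 2 := by
      rw [orderOf_injective φ ((S : Subgroup X).subtype_injective.comp e.symm.injective), DihedralGroup.orderOf_sr]
    obtain ⟨g, hg⟩ := S0107.result S k (by omega) ⟨e⟩ pResidual_perfect z _ hz ha
    rw [Subgroup.mem_center_iff.1 hzc g, mul_inv_cancel_right] at hg
    have hb : orderOf (φ (DihedralGroup.sr 1)) = 2 := by
      rw [orderOf_injective φ ((S : Subgroup X).subtype_injective.comp e.symm.injective), DihedralGroup.orderOf_sr]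
    obtain ⟨g', hg'⟩ := S0107.result S k (by omega) ⟨e⟩ pResidual_perfect z _ hz hb
    rw [Subgroup.mem_center_iff.1 hzc g', mul_inv_cancel_right] at hg'
    have := ((S : Subgroup X).subtype_injective.comp e.symm.injective) (hg.symm.trans hg')
    have h01 : (0 : ZMod (2 ^ k)) = 1 := DihedralGroup.sr.inj this
    haveI : Fact (1 < 2 ^ k) := ⟨Nat.one_lt_two_pow (by omega)⟩
    exact zero_ne_one h01

/-- Reduction to trivial core. -/
theorem concl_of_quotient (h : Concl (X ⧸ Cfsg.oddCore X)) : Concl X := by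
  let q : (X ⧸ Cfsg.oddCore X) ⧸ Cfsg.oddCore (X ⧸ Cfsg.oddCore X) ≃* X ⧸ Cfsg.oddCore X :=
    (QuotientGroup.quotientMulEquivOfEq Fusion.pPrimeCore_quotient_eq_bot).trans QuotientGroup.quotientBot
  rcases h with ⟨F, hF, hFt, ho, h3, ⟨j⟩⟩ | hj
  · exact Or.inl ⟨F, hF, hFt, ho, h3, ⟨q.symm.trans j⟩⟩
  · exact Or.inr (hj.map fun j => q.symm.trans j)

theorem concl_of_model (hO : Cfsg.oddCore X = ⊥) (h : IsModel X) : Concl X := by
  let q : X ⧸ Cfsg.oddCore X ≃* X := (QuotientGroup.quotientMulEquivOfEq hO).trans QuotientGroup.quotientBot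
  rcases h with ⟨F, hF, hFt, ho, h3, ⟨j⟩⟩ | hj
  · exact Or.inl ⟨F, hF, hFt, ho, h3, ⟨q.trans j⟩⟩
  · exact Or.inr (hj.map fun j => q.trans j)

end Cfsg.Agent.GW
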