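import Cfsg.Agent.Lib.GW.PslTorus
import Cfsg.Agent.Lib.GW.Setup
import Cfsg.Agent.Lib.GW.AltSevenOuter
import Cfsg.Agent.Lib.Small.SimpleOrderTools
import Cfsg.Agent.S0806
import Cfsg.Agent.S2119

/-!
# Commuting outer involutions with cyclic two-centralisers

`commuting_outer`: two such involutions on a simple group with dihedral Sylow two-subgroups, whose
centralisers do not generate it, induce the same automorphism.
-/

set_option autoImplicit false
set_option linter.style.haveILetI false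
set_option linter.unusedSectionVars false

namespace Cfsg.Agent.GW.Dep

open Cfsg Cfsg.Agent Cfsg.Agent.GW.Reduced

universe u

/-- `g` fixes no two distinct commuting involutions. -/
def NoFour {M : Type*} [Group M] (g : MulAut M) : Prop :=
  ∀ m₁ m₂ : M, m₁ * m₁ = 1 → m₂ * m₂ = 1 → m₁ ≠ 1 → m₂ ≠ 1 → m₁ ≠ m₂ → Commute m₁ m₂ →
    g m₁ = m₁ → g m₂ = m₂ → False

theorem NoFour.of_congr {M N : Type*} [Group M] [Group N] (j : M ≃* N) {g : MulAut M} (h : NoFour g) :
    NoFour (MulAut.congr j g) := by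
  intro m₁ m₂ h1 h2 n1 n2 hne hc f1 f2
  refine h (j.symm m₁) (j.symm m₂) (by rw [← map_mul, h1, map_one]) (by rw [← map_mul, h2, map_one])
    (fun e => n1 (j.symm.injective (e.trans (map_one _).symm)))
    (fun e => n2 (j.symm.injective (e.trans (map_one _).symm))) (fun e => hne (j.symm.injective e))
    (hc.map j.symm.toMonoidHom) ?_ ?_
  · exact j.injective (by rw [j.apply_symm_apply]; exact f1)
  · exact j.injective (by rw [j.apply_symm_apply]; exact f2)

theorem dihedral_half {k : ℕ} [NeZero k] (hk : 3 ≤ k) (ho : Odd k) (d : DihedralGroup k) (hd : d * d = 1)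
    (hc : (d * DihedralGroup.r 1 * d⁻¹ * (DihedralGroup.r 1)⁻¹) * (d * DihedralGroup.r 1 * d⁻¹ * (DihedralGroup.r 1)⁻¹) = 1) :
    d = 1 := by
  rcases d with i | i
  · rw [DihedralGroup.r_mul_r, DihedralGroup.one_def, DihedralGroup.r.injEq] at hd
    rcases Fusion.zmod_double_eq_zero hd with h | h
    · rw [h, DihedralGroup.one_def]
    · exfalso
      rw [h] at hd
      have h2 : ((k / 2 + k / 2 : ℕ) : ZMod k) = 0 := by push_cast; exact hd
      rw [ZMod.natCast_eq_zero_iff] at h2
      obtain ⟨t, ht⟩ := ho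
      have := Nat.le_of_dvd (by omega) h2
      omega
  · exfalso
    simp only [DihedralGroup.sr_mul_r, DihedralGroup.inv_sr, DihedralGroup.inv_r, DihedralGroup.sr_mul_sr,
      DihedralGroup.r_mul_r, DihedralGroup.one_def, DihedralGroup.r.injEq] at hc
    have h4 : ((4 : ℕ) : ZMod k) = 0 := by push_cast; linear_combination -hc
    rw [ZMod.natCast_eq_zero_iff] at h4
    have := Nat.le_of_dvd (by norm_num) h4
    interval_cases k
    · omega
    · exact absurd ho (by decide)

section Psl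

open Cfsg.Agent.Small

variable {F : Type} [Field F] [Fintype F]

local notation "P2" => Matrix.ProjectiveSpecialLinearGroup (Fin 2) F

/-- The data of an inner-diagonal involution with cyclic two-centraliser. -/
theorem fix_odd (h2 : (2 : F) ≠ 0) (h5 : 5 ≤ Fintype.card F) {α : MulAut P2} (hα : α * α = 1) (hα1 : α ≠ 1)
    (hC : NoFour α) :
    ∃ (h : GL (Fin 2) F) (D : Subgroup P2) (k : ℕ), α = PSL2.conjP h ∧ 3 ≤ k ∧ Odd k ∧
      (2 * k = Fintype.card F - 1 ∨ 2 * k = Fintype.card F + 1) ∧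
      Nonempty (D ≃* DihedralGroup k) ∧ ∀ d : P2, α d = d ↔ d ∈ D := by
  rcases Psl.inndiag_or_four h2 hα with ⟨h, rfl⟩ | ⟨m₁, m₂, a, b, c, d, e, f, g, i⟩
  swap
  · exact (hC m₁ m₂ a b c d e f g i).elim
  obtain ⟨D, k, hk, hkq, ⟨e⟩, hD⟩ := Psl.fix_group h2 h5 hα1 hα
  have ho : Odd k := by
    by_contra hev
    obtain ⟨j, hj⟩ := Nat.not_odd_iff_even.1 hev
    haveI : NeZero k := ⟨by omega⟩
    have hjj : (j : ZMod k) + j = 0 := by rw [← Nat.cast_add, ← hj, ZMod.natCast_self]
    have hj0 : (j : ZMod k) ≠ 0 := by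
      rw [ne_eq, ZMod.natCast_eq_zero_iff]
      intro hd
      have := Nat.le_of_dvd (by omega) hd
      omega
    have hinj : Function.Injective fun x : DihedralGroup k => ((e.symm x : D) : P2) :=
      Subtype.val_injective.comp e.symm.injective
    have hm : ∀ x y : DihedralGroup k, ((e.symm x : D) : P2) * e.symm y = e.symm (x * y) := fun x y => by
      rw [map_mul]; rfl
    have h1 : ((e.symm 1 : D) : P2) = 1 := by rw [map_one]; rfl
    refine hC (e.symm (DihedralGroup.r (j : ZMod k))) (e.symm (DihedralGroup.sr 0)) ?_ ?_ ?_ ?_ ?_ ?_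
      ((hD _).2 (e.symm _).2) ((hD _).2 (e.symm _).2)
    · rw [hm, DihedralGroup.r_mul_r, hjj, ← DihedralGroup.one_def, h1]
    · rw [hm, DihedralGroup.sr_mul_sr, sub_zero, ← DihedralGroup.one_def, h1]
    · intro h'
      exact hj0 (DihedralGroup.r.inj ((hinj (h'.trans h1.symm)).trans DihedralGroup.one_def))
    · intro h'
      cases (hinj (h'.trans h1.symm)).trans DihedralGroup.one_def
    · intro h'
      cases hinj h' 
    · show _ * _ = _ * _
      rw [hm, hm, DihedralGroup.r_mul_sr, DihedralGroup.sr_mul_r, zero_add, zero_sub,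
        neg_eq_of_add_eq_zero_left hjj]
  refine ⟨h, D, k, rfl, ?_, ho, hkq, ⟨e⟩, hD⟩
  obtain ⟨t, ht⟩ := ho
  omega

/-- If a conjugate of a fixed element which is no involution is fixed, so is the conjugating element. -/
theorem fixed_of_conj_fixed (h2 : (2 : F) ≠ 0) (h5 : 5 ≤ Fintype.card F) {h : GL (Fin 2) F}
    (hh : PSL2.conjP h ≠ 1) (hhh : PSL2.conjP h * PSL2.conjP h = 1) {r g : P2} (hr : r * r ≠ 1)
    (hf : PSL2.conjP h r = r) (hg : PSL2.conjP h (g * r * g⁻¹) = g * r * g⁻¹) :
    PSL2.conjP h g = g := by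
  obtain ⟨A, hA⟩ := PSL2.pr_surjective g
  obtain ⟨G, hG⟩ : ∃ G : GL (Fin 2) F, PSL2.conjP G = MulAut.conj g := ⟨_, by rw [← hA]; exact PSL2.conjP_toGL A⟩
  have e : PSL2.conjP (G⁻¹ * h * G) = (MulAut.conj g)⁻¹ * PSL2.conjP h * MulAut.conj g := by
    rw [map_mul, map_mul, map_inv, hG]
  have hne : PSL2.conjP (G⁻¹ * h * G) ≠ 1 := fun h1 => hh (by
    rw [e] at h1
    calc PSL2.conjP h = MulAut.conj g * ((MulAut.conj g)⁻¹ * PSL2.conjP h * MulAut.conj g) * (MulAut.conj g)⁻¹ := by
          group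
      _ = 1 := by rw [h1]; group)
  have hsq : PSL2.conjP (G⁻¹ * h * G) * PSL2.conjP (G⁻¹ * h * G) = 1 := by
    rw [e]
    calc _ = (MulAut.conj g)⁻¹ * (PSL2.conjP h * PSL2.conjP h) * MulAut.conj g := by group
      _ = 1 := by rw [hhh]; group
  have hfr : PSL2.conjP (G⁻¹ * h * G) r = r := by
    rw [e, MulAut.mul_apply, MulAut.mul_apply, MulAut.conj_apply, hg, MulAut.conj_inv_apply]
    group
  have hu := Psl.inndiag_unique h2 hh hhh hne hsq hr hf hfr
  rw [e] at hu
  refine Psl.fixed_of_commute h5 ?_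
  show _ * _ = _ * _
  conv_rhs => rw [hu]
  group

/-- **The linear case.** -/
theorem psl_equal (h2 : (2 : F) ≠ 0) (h5 : 5 ≤ Fintype.card F) {α β : MulAut P2} (hα : α * α = 1)
    (hβ : β * β = 1) (hα1 : α ≠ 1) (hβ1 : β ≠ 1) (hc : Commute α β) (hCα : NoFour α) (hCβ : NoFour β)
    (hgen : Subgroup.closure {x : P2 | α x = x ∨ β x = x} ≠ ⊤) : α = β := by
  classical
  haveI : Finite P2 := Finite.of_surjective _ PSL2.pr_surjective
  haveI : IsSimpleGroup P2 := Matrix.ProjectiveSpecialLinearGroup.rank_two_simple (by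
    rw [Nat.card_eq_fintype_card]; omega)
  obtain ⟨h, D, k, rfl, hk, hko, hkq, ⟨e⟩, hD⟩ := fix_odd h2 h5 hα hα1 hCα
  obtain ⟨h', D', k', rfl, hk', hko', hkq', ⟨e'⟩, hD'⟩ := fix_odd h2 h5 hβ hβ1 hCβ
  have hodd := Psl.card_odd h2
  obtain rfl : k = k' := by
    obtain ⟨s, hs⟩ := hko
    obtain ⟨t, ht⟩ := hko'
    obtain ⟨v, hv⟩ := hodd
    omega
  by_contra hne
  haveI : NeZero k := ⟨by omega⟩
  have hcm : ∀ x y : P2, x ∈ D → y ∈ D → PSL2.conjP h (x * y) = x * y := fun x y hx hy =>
    (hD _).2 (mul_mem hx hy)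
  -- generators of the rotations
  set r : P2 := ((e.symm (DihedralGroup.r 1) : D) : P2) with hr
  set r' : P2 := ((e'.symm (DihedralGroup.r 1) : D') : P2) with hr'
  have hrk : orderOf r = k := by
    rw [hr, Subgroup.orderOf_coe, MulEquiv.orderOf_eq, DihedralGroup.orderOf_r_one]
  have hrk' : orderOf r' = k := by
    rw [hr', Subgroup.orderOf_coe, MulEquiv.orderOf_eq, DihedralGroup.orderOf_r_one]
  have hsq : ∀ x : P2, orderOf x ∣ k → x ≠ 1 → x * x ≠ 1 := fun x hx h1 h' => by
    have h2' : orderOf x ∣ 2 := orderOf_dvd_of_pow_eq_one (by rw [pow_two, h'])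
    exact h1 (orderOf_eq_one_iff.1 (Nat.eq_one_of_dvd_coprimes (Nat.coprime_two_left.2 hko) h2' hx))
  have hrD : r ∈ D := (e.symm _).2
  have hrD' : r' ∈ D' := (e'.symm _).2
  -- no common fixed rotation
  have hboth : ∀ x : P2, orderOf x ∣ k → x ∈ D → x ∈ D' → x = 1 := fun x hx hxD hxD' => by
    by_contra h1
    exact hne (Psl.inndiag_unique h2 hα1 hα hβ1 hβ (hsq x hx h1) ((hD x).2 hxD) ((hD' x).2 hxD'))
  have hr'1 : r' ≠ 1 := fun h1 => by rw [h1, orderOf_one] at hrk'; omega
  have hr1 : r ≠ 1 := fun h1 => by rw [h1, orderOf_one] at hrk; omega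
  have hr'nD : r' ∉ D := fun hm => hr'1 (hboth r' hrk'.dvd hm hrD')
  -- the generated subgroup
  set X : Subgroup P2 := D ⊔ D' with hX
  have hDX : D ≤ X := le_sup_left
  have hD'X : D' ≤ X := le_sup_right
  have hXt : X ≠ ⊤ := fun ht => hgen (eq_top_iff.2 (ht ▸ sup_le
    (fun x hx => Subgroup.subset_closure (Or.inl ((hD x).2 hx)))
    (fun x hx => Subgroup.subset_closure (Or.inr ((hD' x).2 hx)))))
  have hαX : ∀ x ∈ X, PSL2.conjP h x ∈ X := by
    have : X ≤ X.comap (PSL2.conjP h).toMonoidHom := by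
      refine sup_le (fun x hx => ?_) (fun x hx => ?_)
      · rw [Subgroup.mem_comap]
        show PSL2.conjP h x ∈ X
        rw [(hD x).2 hx]
        exact hDX hx
      · rw [Subgroup.mem_comap]
        refine hD'X ((hD' _).1 ?_)
        show PSL2.conjP h' (PSL2.conjP h x) = PSL2.conjP h x
        rw [← MulAut.mul_apply, ← hc.eq, MulAut.mul_apply, (hD' x).2 hx]
    exact fun x hx => this hx
  have hD2 : Nat.card D = 2 * k := by rw [Nat.card_congr e.toEquiv, DihedralGroup.nat_card]
  have hD2' : Nat.card D' = 2 * k := by rw [Nat.card_congr e'.toEquiv, DihedralGroup.nat_card]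
  have hX2 : 2 * k ∣ Nat.card X := hD2 ▸ Subgroup.card_dvd_of_le hDX
  have hXlow : k * (2 * k) ≤ Nat.card X := by
    have hzr : Subgroup.zpowers r ≤ D := Subgroup.zpowers_le.2 hrD
    let f : Subgroup.zpowers r × D' → X := fun p => ⟨p.1.1 * p.2.1, mul_mem (hDX (hzr p.1.2)) (hD'X p.2.2)⟩
    have hf : Function.Injective f := by
      rintro ⟨a, b⟩ ⟨c, d⟩ hpq
      have heq : (a : P2) * b = c * d := congrArg Subtype.val hpq
      have hm : (c : P2)⁻¹ * a = d * (b : P2)⁻¹ := by
        calc (c : P2)⁻¹ * a = (c : P2)⁻¹ * (a * b) * (b : P2)⁻¹ := by group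
          _ = _ := by rw [heq]; group
      have hord : orderOf ((c : P2)⁻¹ * a) ∣ k :=
        (Subgroup.orderOf_dvd_natCard _ (mul_mem (inv_mem c.2) a.2)).trans (by rw [Nat.card_zpowers, hrk])
      have h1 := hboth _ hord (mul_mem (inv_mem (hzr c.2)) (hzr a.2)) (hm ▸ mul_mem d.2 (inv_mem b.2))
      have hac : (a : P2) = c := (inv_mul_eq_one.1 h1).symm
      rw [hac] at heq
      exact Prod.ext (Subtype.ext hac) (Subtype.ext (mul_left_cancel heq))
    have := Nat.card_le_card_of_injective f hf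
    rwa [Nat.card_prod, Nat.card_zpowers, hrk, hD2'] at this
  have hP : 2 * Nat.card P2 = Fintype.card F * (Fintype.card F ^ 2 - 1) := by
    have := Classical.Dickson.card_P2 (F := F)
    rw [Classical.Dickson.two_dvd_pred h2] at this
    omega
  have hi := X.card_mul_index
  obtain ⟨q, hq⟩ : ∃ q, q = Fintype.card F := ⟨_, rfl⟩
  have h5q : 5 ≤ q := hq.symm ▸ h5
  rw [← hq] at hP hkq hodd
  -- the small cases: `k` is prime and `D` has `k + 1` cosets
  have hsmall : k.Prime ∧ Nat.card X = 2 * k * (k + 1) := by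
    by_cases hgal : q ∈ ({2, 3, 5, 7, 9, 11} : Finset ℕ)
    · have hfac := Small.SmallOrders.card_dvd_index_factorial X hXt
      obtain ⟨i, hi'⟩ : ∃ i, i = X.index := ⟨_, rfl⟩
      obtain ⟨c, hc'⟩ : ∃ c, c = Nat.card X := ⟨_, rfl⟩
      rw [← hi', ← hc'] at hi
      rw [← hi'] at hfac
      rw [← hc'] at hXlow hX2 ⊢
      obtain ⟨P, hP'⟩ : ∃ P, P = Nat.card P2 := ⟨_, rfl⟩
      rw [← hP'] at hP hi hfac
      simp only [Finset.mem_insert, Finset.mem_singleton] at hgal
      obtain ⟨t, ht⟩ := hko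
      have hiP : 0 < i := by
        rw [hi']; exact Nat.pos_of_ne_zero Subgroup.index_ne_zero_of_finite
      rcases hgal with rfl | rfl | rfl | rfl | rfl | rfl
      · omega
      · omega
      · obtain rfl : k = 3 := by omega
        obtain rfl : P = 60 := by omega
        exfalso
        have hle : i ≤ 3 := by
          by_contra hh4
          nlinarith
        interval_cases i <;> revert hfac <;> decide
      · obtain rfl : k = 3 := by omega
        obtain rfl : P = 168 := by omega
        refine ⟨Nat.prime_three, ?_⟩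
        have hle : i ≤ 9 := by
          by_contra hh4
          nlinarith
        interval_cases i <;> first | omega | exact absurd hfac (by decide)
      · obtain rfl : k = 5 := by omega
        obtain rfl : P = 360 := by omega
        refine ⟨Nat.prime_five, ?_⟩
        have hle : i ≤ 7 := by
          by_contra hh4
          nlinarith
        interval_cases i <;> first | omega | exact absurd hfac (by decide)
      · obtain rfl : k = 5 := by omega
        obtain rfl : P = 660 := by omega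
        refine ⟨Nat.prime_five, ?_⟩
        have hle : i ≤ 13 := by
          by_contra hh4
          nlinarith
        interval_cases i <;> first | omega | exact absurd hfac (by decide)
    · exfalso
      have hidx := (S0806.result (F := F) hq.symm hgal).1 X hXt
      obtain ⟨m, hm⟩ := hX2
      have hmk : k ≤ m := by
        rw [hm] at hXlow
        exact Nat.le_of_mul_le_mul_left (by linarith) (by omega : 0 < 2 * k)
      rw [hm] at hi
      have hle : 2 * (2 * k * m) * (q + 1) ≤ q * (q ^ 2 - 1) := by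
        rw [← hP, ← hi, mul_assoc 2 (2 * k * m)]
        exact Nat.mul_le_mul_left 2 (Nat.mul_le_mul_left _ hidx)
      have hsq' : q ^ 2 - 1 = (q - 1) * (q + 1) := by
        rw [mul_comm, ← Nat.sq_sub_sq, one_pow]
      rw [hsq'] at hle
      have hle' : 4 * (k * m) ≤ q * (q - 1) := by
        have := Nat.le_of_mul_le_mul_right (show 4 * (k * m) * (q + 1) ≤ q * (q - 1) * (q + 1) by linarith)
          (Nat.succ_pos q)
        exact this
      rcases hkq with hkq | hkq
      · obtain rfl : q = 2 * k + 1 := by omega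
        rw [show 2 * k + 1 - 1 = 2 * k by omega] at hle'
        obtain rfl : m = k := by nlinarith
        have hdvd : m ∣ (2 * m + 1) * (m + 1) := by
          refine ⟨X.index, ?_⟩
          refine Nat.eq_of_mul_eq_mul_left (show 0 < 4 * m by omega) ?_
          rw [hsq', show 2 * m + 1 - 1 = 2 * m by omega] at hP
          rw [← hi] at hP
          linarith
        have h1 : m ∣ 1 := by
          have := Nat.dvd_sub hdvd (Dvd.intro (2 * m + 3) rfl : m ∣ m * (2 * m + 3))
          rwa [show (2 * m + 1) * (m + 1) - m * (2 * m + 3) = 1 by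
            rw [show (2 * m + 1) * (m + 1) = m * (2 * m + 3) + 1 by ring, Nat.add_sub_cancel_left]] at this
        have := Nat.le_of_dvd one_pos h1
        omega
      · obtain ⟨u, rfl⟩ : ∃ u, q = u + 1 := ⟨q - 1, by omega⟩
        rw [Nat.add_sub_cancel] at hle'
        nlinarith
  obtain ⟨hkp, hXcard⟩ := hsmall
  haveI := Fact.mk hkp
  -- the action on the cosets of `D` in `X`
  let D₀ : Subgroup X := D.subgroupOf X
  have hQ : Nat.card (X ⧸ D₀) = k + 1 := by
    have h1 := D₀.card_eq_card_quotient_mul_card_subgroup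
    rw [Nat.card_congr (Subgroup.subgroupOfEquivOfLe hDX).toEquiv, hD2, hXcard] at h1
    exact Nat.eq_of_mul_eq_mul_right (show 0 < 2 * k by omega) (h1.symm.trans (mul_comm _ _))
  have hz : ∀ t ∈ Subgroup.zpowers r, t ≠ 1 → t * t ≠ 1 := fun t ht => hsq t
    ((Subgroup.orderOf_dvd_natCard _ ht).trans (by rw [Nat.card_zpowers, hrk]))
  have hzD : Subgroup.zpowers r ≤ D := Subgroup.zpowers_le.2 hrD
  -- conjugates of rotations in `D`
  have hback : ∀ x : P2, x ∉ D → ∀ t ∈ D, t * t ≠ 1 → x⁻¹ * t * x ∉ D := by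
    intro x hx t ht ht2 hm
    refine hx ?_
    have := fixed_of_conj_fixed h2 h5 hα1 hα (g := x⁻¹) ht2 ((hD t).2 ht) (by rw [inv_inv]; exact (hD _).2 hm)
    rw [← inv_mem_iff]
    exact (hD _).1 this
  have hshift : ∀ x ∈ X, x⁻¹ * PSL2.conjP h x ∈ D := by
    intro x hx
    by_cases hxD : x ∈ D
    · rw [(hD x).2 hxD, inv_mul_cancel]; exact one_mem _
    let φ : Option (Subgroup.zpowers r) → X ⧸ D₀ := fun o =>
      o.elim ((1 : X) : X ⧸ D₀) fun t => ((⟨t.1 * x, mul_mem (hDX (hzD t.2)) hx⟩ : X) : X ⧸ D₀)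
    have hφ : Function.Injective φ := by
      rintro (_ | a) (_ | b) heq
      · rfl
      · exfalso
        have := (QuotientGroup.eq.1 heq : _)
        rw [Subgroup.mem_subgroupOf] at this
        simp only [inv_one, one_mul] at this
        exact hxD ((Subgroup.mul_mem_cancel_left D (hzD b.2)).1 this)
      · exfalso
        have := (QuotientGroup.eq.1 heq : _)
        rw [Subgroup.mem_subgroupOf] at this
        simp only [mul_one, Subgroup.coe_inv, inv_mem_iff] at this
        exact hxD ((Subgroup.mul_mem_cancel_left D (hzD a.2)).1 this)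
      · have := (QuotientGroup.eq.1 heq : _)
        rw [Subgroup.mem_subgroupOf] at this
        have hm : x⁻¹ * ((a : P2)⁻¹ * b) * x ∈ D := by
          simpa [mul_assoc] using this
        by_contra hab
        refine hback x hxD _ (mul_mem (inv_mem (hzD a.2)) (hzD b.2)) (hz _ (mul_mem (inv_mem a.2) b.2) ?_) hm
        intro h1
        exact hab (congrArg some (Subtype.ext (inv_mul_eq_one.1 h1)))
    have hbij : Function.Bijective φ := by
      refine (Nat.bijective_iff_injective_and_card φ).2 ⟨hφ, ?_⟩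
      rw [Finite.card_option, Nat.card_zpowers, hrk, hQ]
    obtain ⟨o, ho⟩ := hbij.2 ((⟨PSL2.conjP h x, hαX x hx⟩ : X) : X ⧸ D₀)
    rcases o with _ | t
    · exfalso
      have := (QuotientGroup.eq.1 ho : _)
      rw [Subgroup.mem_subgroupOf] at this
      simp only [inv_one, one_mul] at this
      have h1 := (hD _).2 this
      rw [← MulAut.mul_apply, hα, MulAut.one_apply] at h1
      exact hxD (h1 ▸ this)
    have hm := (QuotientGroup.eq.1 ho : _)
    rw [Subgroup.mem_subgroupOf] at hm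
    have hm' : x⁻¹ * (t : P2)⁻¹ * PSL2.conjP h x ∈ D := by simpa [mul_assoc] using hm
    obtain ⟨d, hd, hdx⟩ : ∃ d ∈ D, PSL2.conjP h x = t * x * d :=
      ⟨_, hm', by group⟩
    have happ : x = (t : P2) * (t * x * d) * d := by
      have := congrArg (PSL2.conjP h) hdx
      rw [← MulAut.mul_apply, hα, MulAut.one_apply, map_mul, map_mul, (hD _).2 (hzD t.2), (hD _).2 hd, hdx] at this
      exact this
    have htt : x⁻¹ * ((t : P2) * t) * x = d⁻¹ * d⁻¹ := by
      calc x⁻¹ * ((t : P2) * t) * x = x⁻¹ * ((t : P2) * (t * x * d) * d) * (d⁻¹ * d⁻¹) := by group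
        _ = _ := by rw [← happ]; group
    have ht1 : (t : P2) = 1 := by
      by_contra ht1
      have htz : (t : P2) * t ≠ 1 := hz _ t.2 ht1
      exact hback x hxD _ (mul_mem (hzD t.2) (hzD t.2)) (hz _ (mul_mem t.2 t.2) htz)
        (htt ▸ mul_mem (inv_mem hd) (inv_mem hd))
    rw [hdx, ht1, one_mul, inv_mul_cancel_left]
    exact hd
  -- the deviation at `r'`
  obtain ⟨d, hd⟩ : ∃ d, d = r'⁻¹ * PSL2.conjP h r' := ⟨_, rfl⟩
  have hdD : d ∈ D := hd ▸ hshift r' (hD'X hrD')
  have hd2 : d * d = 1 := by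
    have h1 := (hD d).2 hdD
    rw [hd, map_mul, map_inv, ← MulAut.mul_apply, hα, MulAut.one_apply] at h1
    rw [hd]
    nth_rewrite 2 [← h1]
    group
  have hcore : ∀ y ∈ X, y⁻¹ * d * y ∈ D := by
    intro y hy
    have h1 := hshift (r' * y) (mul_mem (hD'X hrD') hy)
    have h2 := hshift y hy
    rw [map_mul] at h1
    have e1 : y⁻¹ * d * y = ((r' * y)⁻¹ * (PSL2.conjP h r' * PSL2.conjP h y)) * (y⁻¹ * PSL2.conjP h y)⁻¹ := by
      rw [hd]; group
    rw [e1]
    exact mul_mem h1 (inv_mem h2)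
  have hcc : (d * r * d⁻¹ * r⁻¹) * (d * r * d⁻¹ * r⁻¹) = 1 := by
    by_contra hc2
    refine hback r' hr'nD _ (mul_mem (mul_mem (mul_mem hdD hrD) (inv_mem hdD)) (inv_mem hrD)) hc2 ?_
    have e1 : r'⁻¹ * (d * r * d⁻¹ * r⁻¹) * r' =
        (r'⁻¹ * d * r') * ((r⁻¹ * r')⁻¹ * d * (r⁻¹ * r'))⁻¹ := by group
    rw [e1]
    exact mul_mem (hcore r' (hD'X hrD')) (inv_mem (hcore _ (mul_mem (inv_mem (hDX hrD)) (hD'X hrD'))))
  have hd1 : e ⟨d, hdD⟩ = 1 := by
    refine dihedral_half hk hko _ ?_ ?_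
    · rw [← map_mul, ← map_one e]; exact congrArg e (Subtype.ext hd2)
    · rw [show DihedralGroup.r (1 : ZMod k) = e ⟨r, hrD⟩ from (e.apply_symm_apply _).symm,
        ← map_mul, ← map_inv, ← map_mul, ← map_inv, ← map_mul, ← map_mul, ← map_one e]
      exact congrArg e (Subtype.ext hcc)
  have hd1' : d = 1 := congrArg Subtype.val ((MulEquiv.map_eq_one_iff e).1 hd1)
  rw [hd1', eq_comm, inv_mul_eq_one] at hd
  exact hr'nD ((hD r').1 hd.symm)

end Psl

/-- An involution of `S₇` centralises a four group of `A₇`. -/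
theorem seven_four {π : Equiv.Perm (Fin 7)} (h2 : π * π = 1) (h1 : π ≠ 1) :
    ¬ NoFour (MulAut.conjNormal π : MulAut (alternatingGroup (Fin 7))) := by
  intro hC
  have ho : orderOf π = 2 := orderOf_eq_prime (by rw [pow_two, h2]) h1
  obtain ⟨n, hn⟩ := Equiv.Perm.cycleType_prime_order (ho.symm ▸ Nat.prime_two)
  rw [ho] at hn
  have hsum : π.cycleType.sum ≤ 7 := by
    rw [Equiv.Perm.sum_cycleType]; exact (Finset.card_le_univ _).trans_eq (Fintype.card_fin 7)
  rw [hn, Multiset.sum_replicate] at hsum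
  have key : ∀ ρ u v : Equiv.Perm (Fin 7), ρ.cycleType = π.cycleType → u ∈ alternatingGroup (Fin 7) →
      v ∈ alternatingGroup (Fin 7) → u * u = 1 → v * v = 1 → u ≠ 1 → v ≠ 1 → u ≠ v → u * v = v * u →
      ρ * u = u * ρ → ρ * v = v * ρ → False := by
    intro ρ u v hρ hu hv uu vv u1 v1 huv hcomm hρu hρv
    obtain ⟨g, hg⟩ := isConj_iff.1 (Equiv.Perm.isConj_iff_cycleType_eq.2 hρ)
    let c : MulAut (alternatingGroup (Fin 7)) := MulAut.conjNormal g
    have hfix : ∀ w : alternatingGroup (Fin 7), ρ * w = w * ρ → MulAut.conjNormal π (c w) = c w := fun w hw => by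
      refine Subtype.ext ?_
      rw [MulAut.conjNormal_apply, MulAut.conjNormal_apply, ← hg]
      calc g * ρ * g⁻¹ * (g * w * g⁻¹) * (g * ρ * g⁻¹)⁻¹ = g * (ρ * w) * ρ⁻¹ * g⁻¹ := by group
        _ = _ := by rw [hw]; group
    refine hC (c ⟨u, hu⟩) (c ⟨v, hv⟩) (by rw [← map_mul, ← map_one c]; exact congrArg c (Subtype.ext uu))
      (by rw [← map_mul, ← map_one c]; exact congrArg c (Subtype.ext vv))
      (fun e => u1 (congrArg Subtype.val ((MulEquiv.map_eq_one_iff c).1 e)))
      (fun e => v1 (congrArg Subtype.val ((MulEquiv.map_eq_one_iff c).1 e)))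
      (fun e => huv (congrArg Subtype.val (c.injective e)))
      ((show Commute (⟨u, hu⟩ : alternatingGroup (Fin 7)) ⟨v, hv⟩ from Subtype.ext hcomm).map c.toMonoidHom)
      (hfix _ hρu) (hfix _ hρv)
  have hn3 : n ≤ 2 := by simp at hsum; omega
  interval_cases n
  · exact key (Equiv.swap 0 1) (Equiv.swap 2 3 * Equiv.swap 4 5) (Equiv.swap 2 4 * Equiv.swap 3 5)
      (by rw [hn]; decide +kernel) (Equiv.Perm.mem_alternatingGroup.2 (by decide +kernel))
      (Equiv.Perm.mem_alternatingGroup.2 (by decide +kernel)) (by decide +kernel) (by decide +kernel)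
      (by decide +kernel) (by decide +kernel) (by decide +kernel) (by decide +kernel) (by decide +kernel)
      (by decide +kernel)
  · exact key (Equiv.swap 0 1 * Equiv.swap 2 3) (Equiv.swap 0 1 * Equiv.swap 2 3)
      (Equiv.swap 0 2 * Equiv.swap 1 3)
      (by rw [hn]; decide +kernel) (Equiv.Perm.mem_alternatingGroup.2 (by decide +kernel))
      (Equiv.Perm.mem_alternatingGroup.2 (by decide +kernel)) (by decide +kernel) (by decide +kernel)
      (by decide +kernel) (by decide +kernel) (by decide +kernel) (by decide +kernel) (by decide +kernel)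
      (by decide +kernel)
  · exact key (Equiv.swap 0 1 * Equiv.swap 2 3 * Equiv.swap 4 5) (Equiv.swap 0 1 * Equiv.swap 2 3)
      (Equiv.swap 0 1 * Equiv.swap 4 5)
      (by rw [hn]; decide +kernel) (Equiv.Perm.mem_alternatingGroup.2 (by decide +kernel))
      (Equiv.Perm.mem_alternatingGroup.2 (by decide +kernel)) (by decide +kernel) (by decide +kernel)
      (by decide +kernel) (by decide +kernel) (by decide +kernel) (by decide +kernel) (by decide +kernel)
      (by decide +kernel)

/-- **Commuting outer involutions with cyclic two-centralisers** (the statement `S1916`). -/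
theorem commuting_outer (gw : PerfectClass.{u}) {G : Type u} [Group G] [Finite G] (L : Subgroup G)
    (hL : IsSimpleGroup L) (hLn : ¬ IsMulCommutative L)
    (hD : ∀ P : Sylow 2 L, ∃ n : ℕ, Nonempty (↥(P : Subgroup L) ≃* DihedralGroup n))
    (a b : G) (ha : orderOf a = 2) (hb : orderOf b = 2) (hc : a * b = b * a)
    (haL : a ∈ Subgroup.normalizer (L : Set G)) (hbL : b ∈ Subgroup.normalizer (L : Set G))
    (hCa : ∀ R : Sylow 2 ↥(L ⊓ Subgroup.centralizer ({a} : Set G)), IsCyclic R)
    (hCb : ∀ R : Sylow 2 ↥(L ⊓ Subgroup.centralizer ({b} : Set G)), IsCyclic R)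
    (hgen : ¬ L ≤ Subgroup.closure ({a, b} : Set G) ⊔ (L ⊓ Subgroup.centralizer ({a} : Set G)) ⊔
      (L ⊓ Subgroup.centralizer ({b} : Set G))) :
    a * b ∈ Subgroup.centralizer (L : Set G) := by
  classical
  haveI : Fact (Nat.Prime 2) := ⟨Nat.prime_two⟩
  haveI := hL
  haveI : Group.IsPerfect L := ⟨by
    rcases (inferInstance : (commutator L).Normal).eq_bot_or_eq_top with h | h
    · exact absurd (⟨⟨fun x y => commutatorElement_eq_one_iff_mul_comm.1
        (Subgroup.mem_bot.1 (h ▸ Subgroup.commutator_mem_commutator (Subgroup.mem_top x) (Subgroup.mem_top y)))⟩⟩) hLn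
    · exact h⟩
  obtain ⟨S⟩ := (inferInstance : Nonempty (Sylow 2 L))
  obtain ⟨n, ⟨e⟩⟩ := hD S
  haveI := dihedral_neZero e
  have h2L : 2 ∣ Nat.card L := (Dvd.intro n (by rw [Nat.card_congr e.toEquiv, DihedralGroup.nat_card])).trans
    (S : Subgroup L).card_subgroup_dvd_card
  have hncyc := not_cyclic_of_perfect S h2L
  have hn : 2 ≤ n := by
    by_contra hn
    obtain rfl : n = 1 := by have := NeZero.ne n; omega
    exact hncyc (isCyclic_of_prime_card (p := 2) (by rw [Nat.card_congr e.toEquiv, DihedralGroup.nat_card]))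
  have hO : Cfsg.oddCore L = ⊥ := by
    haveI : (Cfsg.oddCore L).Normal := (inferInstance : (Cfsg.pPrimeCore 2 L).Normal)
    rcases (inferInstance : (Cfsg.oddCore L).Normal).eq_bot_or_eq_top with h | h
    · exact h
    · exfalso
      have hco := Fusion.card_pPrimeCore_coprime 2 L
      rw [show Cfsg.pPrimeCore 2 L = ⊤ from h, Subgroup.card_top] at hco
      first
        | exact Nat.prime_two.not_dvd_one (Nat.dvd_one.2 (Nat.eq_one_of_dvd_coprimes hco dvd_rfl h2L) ▸ dvd_rfl)
        | exact absurd h2L (Nat.prime_two.coprime_iff_not_dvd.1 hco.symm)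
  let θ : Subgroup.normalizer (L : Set G) →* MulAut L := L.normalizerMonoidHom
  have hθ : ∀ (g : Subgroup.normalizer (L : Set G)) (l : L), ((θ g l : L) : G) = g * l * (g : G)⁻¹ := fun g l => rfl
  -- fixed points are centralisers
  have hfix : ∀ (x : G) (hx : x ∈ Subgroup.normalizer (L : Set G)) (l : L),
      θ ⟨x, hx⟩ l = l → (l : G) ∈ L ⊓ Subgroup.centralizer ({x} : Set G) := fun x hx l h => by
    refine ⟨l.2, Subgroup.mem_centralizer_singleton_iff.2 ?_⟩
    have h' : x * (l : G) * x⁻¹ = l := congrArg Subtype.val h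
    calc (l : G) * x = x * l * x⁻¹ * x := by rw [h']
      _ = x * l := by group
  have hno : ∀ (x : G) (hx : x ∈ Subgroup.normalizer (L : Set G)),
      (∀ R : Sylow 2 ↥(L ⊓ Subgroup.centralizer ({x} : Set G)), IsCyclic R) → NoFour (θ ⟨x, hx⟩) := by
    intro x hx hC m₁ m₂ h1 h2 n1 n2 hne hcm f1 f2
    let C := L ⊓ Subgroup.centralizer ({x} : Set G)
    let u : C := ⟨m₁, hfix x hx _ f1⟩
    let v : C := ⟨m₂, hfix x hx _ f2⟩
    have inj : ∀ {p q : L} (hp : (p : G) ∈ C) (hq : (q : G) ∈ C), (⟨p, hp⟩ : C) = ⟨q, hq⟩ → p = q :=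
      fun hp hq h => Subtype.ext (congrArg Subtype.val h :)
    have hV : IsKleinFour ↥(Subgroup.closure ({u, v} : Set C)) :=
      klein_pair (Subtype.ext (congrArg Subtype.val h1 :)) (Subtype.ext (congrArg Subtype.val h2 :))
        (Subtype.ext (congrArg Subtype.val hcm.eq :))
        (fun h => n1 (Subtype.ext (congrArg Subtype.val h :))) (fun h => n2 (Subtype.ext (congrArg Subtype.val h :)))
        (fun h => hne (Subtype.ext (congrArg Subtype.val h.symm :)))
    obtain ⟨R, hR⟩ := (IsPGroup.of_card (p := 2) (n := 2)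
      (G := ↥(Subgroup.closure ({u, v} : Set C))) (by rw [hV.card_four]; norm_num)).exists_le_sylow
    haveI := hC R
    exact hV.not_isCyclic (isCyclic_of_injective (Subgroup.inclusion hR) (Subgroup.inclusion_injective hR))
  have hsq : ∀ (x : G) (hx : x ∈ Subgroup.normalizer (L : Set G)), orderOf x = 2 → θ ⟨x, hx⟩ * θ ⟨x, hx⟩ = 1 := by
    intro x hx ho
    rw [← map_mul, show (⟨x, hx⟩ : Subgroup.normalizer (L : Set G)) * ⟨x, hx⟩ = 1 from Subtype.ext (by
      show x * x = 1
      rw [← pow_two, ← ho, pow_orderOf_eq_one]), map_one]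
  have hne1 : ∀ (x : G) (hx : x ∈ Subgroup.normalizer (L : Set G)),
      (∀ R : Sylow 2 ↥(L ⊓ Subgroup.centralizer ({x} : Set G)), IsCyclic R) → θ ⟨x, hx⟩ ≠ 1 := by
    intro x hx hC h1
    have hall : ∀ l : L, (l : G) ∈ L ⊓ Subgroup.centralizer ({x} : Set G) := fun l =>
      hfix x hx l (by rw [h1]; rfl)
    let f : L →* ↥(L ⊓ Subgroup.centralizer ({x} : Set G)) :=
      MonoidHom.codRestrict L.subtype _ hall
    have hf : Function.Injective f := fun p q h => Subtype.ext (congrArg Subtype.val h :)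
    obtain ⟨R, hR⟩ := ((S.isPGroup').map f).exists_le_sylow
    haveI := hC R
    refine hncyc (isCyclic_of_injective ((Subgroup.inclusion hR).comp (f.subgroupMap (S : Subgroup L))) ?_)
    exact (Subgroup.inclusion_injective hR).comp fun p q h => Subtype.ext (hf (congrArg Subtype.val h))
  obtain ⟨α, hαdef⟩ : ∃ α, α = θ ⟨a, haL⟩ := ⟨_, rfl⟩
  obtain ⟨β, hβdef⟩ : ∃ β, β = θ ⟨b, hbL⟩ := ⟨_, rfl⟩
  suffices hkey : α = β by
    refine Subgroup.mem_centralizer_iff.2 fun l hl => ?_
    have h1 : (α * β) ⟨l, hl⟩ = (⟨l, hl⟩ : L) := by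
      rw [hkey, hβdef, hsq b hbL hb]; rfl
    rw [hαdef, hβdef, ← map_mul] at h1
    have h' : a * b * l * (a * b)⁻¹ = l := congrArg Subtype.val h1
    calc l * (a * b) = a * b * l * (a * b)⁻¹ * (a * b) := by rw [h']
      _ = a * b * l := by group
  have hcm : Commute α β := by
    rw [hαdef, hβdef]
    exact (show Commute (⟨a, haL⟩ : Subgroup.normalizer (L : Set G)) ⟨b, hbL⟩ from Subtype.ext hc).map θ
  have hα := hαdef ▸ hsq a haL ha
  have hβ := hβdef ▸ hsq b hbL hb
  have hα1 := hαdef ▸ hne1 a haL hCa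
  have hβ1 := hβdef ▸ hne1 b hbL hCb
  have hCα := hαdef ▸ hno a haL hCa
  have hCβ := hβdef ▸ hno b hbL hCb
  let E : L ⧸ Cfsg.oddCore L ≃* L := (QuotientGroup.quotientMulEquivOfEq hO).trans QuotientGroup.quotientBot
  rcases gw L S n hn ⟨e⟩ with ⟨F, iF, iFt, hFo, hF3, ⟨j⟩⟩ | ⟨⟨j⟩⟩
  · let J : L ≃* Matrix.ProjectiveSpecialLinearGroup (Fin 2) F := E.symm.trans j
    have h2 : (2 : F) ≠ 0 := Small.SL2C.not_two_dvd_iff.1 (by
      obtain ⟨t, ht⟩ := hFo; omega)
    have h5 : 5 ≤ Fintype.card F := by obtain ⟨t, ht⟩ := hFo; omega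
    refine (MulAut.congr J).injective (psl_equal h2 h5 ?_ ?_ ?_ ?_ (hcm.map (MulAut.congr J).toMonoidHom)
      (hCα.of_congr J) (hCβ.of_congr J) ?_)
    · rw [← map_mul, hα, map_one]
    · rw [← map_mul, hβ, map_one]
    · exact fun h => hα1 ((MulEquiv.map_eq_one_iff _).1 h)
    · exact fun h => hβ1 ((MulEquiv.map_eq_one_iff _).1 h)
    · intro htop
      refine hgen fun l hl => ?_
      set K := Subgroup.closure ({a, b} : Set G) ⊔ (L ⊓ Subgroup.centralizer ({a} : Set G)) ⊔
        (L ⊓ Subgroup.centralizer ({b} : Set G)) with hK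
      have hle : Subgroup.closure {y | MulAut.congr J α y = y ∨ MulAut.congr J β y = y} ≤
          (K.subgroupOf L).map J.toMonoidHom := by
        rw [Subgroup.closure_le]
        intro y hy
        refine ⟨J.symm y, ?_, J.apply_symm_apply y⟩
        rw [SetLike.mem_coe, Subgroup.mem_subgroupOf]
        rcases hy with h | h
        · refine Subgroup.mem_sup_left (Subgroup.mem_sup_right (hfix a haL _ ?_))
          exact J.injective (by rw [J.apply_symm_apply, ← hαdef]; exact h)
        · refine Subgroup.mem_sup_right (hfix b hbL _ ?_)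
          exact J.injective (by rw [J.apply_symm_apply, ← hβdef]; exact h)
      obtain ⟨l', hl', hll⟩ := hle (htop ▸ Subgroup.mem_top (J ⟨l, hl⟩))
      rw [show l' = ⟨l, hl⟩ from J.injective hll, SetLike.mem_coe, Subgroup.mem_subgroupOf] at hl'
      exact hl'
  · exfalso
    let J : L ≃* alternatingGroup (Fin 7) := E.symm.trans j
    obtain ⟨π, hπ⟩ := (S2119.result 7 (by norm_num) (by norm_num)).2 (MulAut.congr J α)
    refine seven_four (π := π) ?_ ?_ (hπ ▸ hCα.of_congr J)
    · refine (S2119.result 7 (by norm_num) (by norm_num)).1 ?_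
      rw [map_mul, hπ, map_one, ← map_mul, hα, map_one]
    · intro h1
      rw [h1, map_one, eq_comm] at hπ
      exact hα1 ((MulEquiv.map_eq_one_iff _).1 hπ)

end Cfsg.Agent.GW.Dep
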