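import Cfsg.Agent.S1230
import Cfsg.Agent.S1229
import Cfsg.Agent.S2202
import Cfsg.Agent.S0111
import Cfsg.Agent.S0205
import Cfsg.Agent.Lib.Small.PSL2
import Cfsg.Agent.Lib.Small.SL2.Orders
import Cfsg.Agent.Lib.LocalEven.Subnormal.Models
import Cfsg.Agent.Lib.Classical.Dickson.Tools
import Cfsg.Agent.Lib.Fusion.FusionIndex

/-!
# Self-centralising D-groups: the structure, and the cases without a single central involution
-/

set_option autoImplicit false
set_option linter.style.haveILetI false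
set_option linter.unusedSectionVars false

namespace Cfsg.Agent.GW.Dep

universe u

open Cfsg Cfsg.Agent
open scoped commutatorElement

variable {G : Type u} [Group G] [Finite G]

/-- The conclusion. -/
def ProjTwoQuotient (G : Type u) [Group G] : Prop :=
  ∃ (N : Subgroup G) (_ : N.Normal), (Odd (Nat.card ↥N) ∨ ∃ m : ℕ, Odd m ∧ Nat.card ↥N = 2 * m) ∧
    ∃ (F : Type) (_ : Field F) (_ : Fintype F), 3 < Fintype.card F ∧
      (Nonempty (G ⧸ N ≃* Matrix.ProjectiveSpecialLinearGroup (Fin 2) F) ∨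
        Nonempty (G ⧸ N ≃* Matrix.ProjGenLinGroup (Fin 2) F))

/-- `H` is elementary or a generalised dihedral group on a non-elementary `A`. -/
theorem dgroup_cases (H A : Subgroup G) (hAH : A < H) (hD : ∀ x ∈ H, x ∉ A → x ^ 2 = 1) :
    (∀ x ∈ H, x * x = 1) ∨ ((∃ x ∈ H, x ∉ A) ∧ (∃ a ∈ A, a * a ≠ 1) ∧ (∀ a ∈ A, ∀ b ∈ A, a * b = b * a) ∧
      (∀ x ∈ H, x ∉ A → ∀ a ∈ A, x * a * x⁻¹ = a⁻¹) ∧ ∀ x ∈ H, x ∉ A → ∀ y ∈ H, y ∉ A → x * y ∈ A) := by
  obtain ⟨x₀, hx₀H, hx₀⟩ := SetLike.exists_of_lt hAH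
  have hsq : ∀ x ∈ H, x ∉ A → x * x = 1 := fun x hx hxA => by rw [← pow_two]; exact hD x hx hxA
  have hinv : ∀ x ∈ H, x ∉ A → ∀ a ∈ A, x * a * x⁻¹ = a⁻¹ := by
    intro x hx hxA a ha
    have h1 : x * a ∉ A := fun h => hxA (by
      have := A.mul_mem h (A.inv_mem ha)
      rwa [mul_inv_cancel_right] at this)
    have h2 := hsq _ (H.mul_mem hx (hAH.le ha)) h1
    rw [show x⁻¹ = x from inv_eq_of_mul_eq_one_left (hsq x hx hxA)]
    exact eq_inv_of_mul_eq_one_left (by rw [mul_assoc (x * a) x a]; exact h2)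
  have hab : ∀ a ∈ A, ∀ b ∈ A, a * b = b * a := fun a ha b hb => by
    have h := hinv x₀ hx₀H hx₀ (a * b) (A.mul_mem ha hb)
    rw [show x₀ * (a * b) * x₀⁻¹ = x₀ * a * x₀⁻¹ * (x₀ * b * x₀⁻¹) by group, hinv _ hx₀H hx₀ a ha,
      hinv _ hx₀H hx₀ b hb, mul_inv_rev] at h
    have h' := congrArg (·⁻¹) h
    simpa [mul_inv_rev] using h'.symm
  by_cases hex : ∃ a ∈ A, a * a ≠ 1
  · obtain ⟨a, ha, ha2⟩ := hex
    refine Or.inr ⟨⟨x₀, hx₀H, hx₀⟩, ⟨a, ha, ha2⟩, hab, hinv, fun x hx hxA y hy hyA => ?_⟩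
    by_contra h
    have h1 := hinv _ (H.mul_mem hx hy) h a ha
    have h2 : x * y * a * (x * y)⁻¹ = x * (y * a * y⁻¹) * x⁻¹ := by group
    rw [h2, hinv y hy hyA a ha, hinv x hx hxA a⁻¹ (A.inv_mem ha), inv_inv] at h1
    exact ha2 (mul_eq_one_iff_eq_inv.2 h1)
  · push Not at hex
    refine Or.inl fun x hx => ?_
    by_cases hxA : x ∈ A
    · exact hex x hxA
    · exact hsq x hx hxA

/-- A normal subgroup with a centraliser controlling a Sylow subgroup has solvable quotient. -/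
theorem solvable_of_normal_sylow (S : Sylow 2 G) (H : Subgroup G) [H.Normal] (hS : (S : Subgroup G) ≤ H)
    (hsol : Group.IsSolvable H) : Group.IsSolvable G := by
  haveI : Fact (Nat.Prime 2) := ⟨Nat.prime_two⟩
  haveI := hsol
  haveI : Group.IsSolvable (G ⧸ H) := S0205.result (Nat.odd_iff.2 (Nat.two_dvd_ne_zero.1 fun h => by
    exact S.not_dvd_index (h.trans (Subgroup.index_dvd_of_le hS))))
  exact Group.isSolvable_of_ker_le_range H.subtype (QuotientGroup.mk' H) (by
    rw [QuotientGroup.ker_mk', Subgroup.range_subtype])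

/-- The elementary case. -/
theorem elementary_case (H : Subgroup G) (h4 : 4 ∣ Nat.card ↥H) (hel : ∀ x ∈ H, x * x = 1)
    (hC : ∀ j ∈ H, orderOf j = 2 → (∀ h ∈ H, h * j = j * h) → Subgroup.centralizer ({j} : Set G) = H)
    (hns : ¬ Group.IsSolvable G) : ProjTwoQuotient G := by
  haveI : Fact (Nat.Prime 2) := ⟨Nat.prime_two⟩
  have hcomm : ∀ a ∈ H, ∀ b ∈ H, a * b = b * a := fun a ha b hb => by
    rw [← inv_eq_of_mul_eq_one_left (hel _ (H.mul_mem ha hb)), mul_inv_rev,
      inv_eq_of_mul_eq_one_left (hel a ha), inv_eq_of_mul_eq_one_left (hel b hb)]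
  have hH2 : IsPGroup 2 H := fun a => ⟨1, Subtype.ext (by rw [pow_one, pow_two]; exact hel a a.2)⟩
  obtain ⟨T, hHT⟩ := hH2.exists_le_sylow
  have hC' : ∀ j ∈ H, orderOf j = 2 → Subgroup.centralizer ({j} : Set G) = H :=
    fun j hj hj2 => hC j hj hj2 fun h hh => hcomm h hh j hj
  obtain ⟨j, hj⟩ := exists_prime_orderOf_dvd_card' (G := H) 2 ((show 2 ∣ 4 from ⟨2, rfl⟩).trans h4)
  have hjo : orderOf (j : G) = 2 := by rw [Subgroup.orderOf_coe, hj]
  have hTH : (T : Subgroup G) = H := by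
    refine le_antisymm ?_ hHT
    haveI : Nontrivial (T : Subgroup G) := ⟨⟨⟨j, hHT j.2⟩, 1, fun h => by
      rw [show (j : G) = 1 from congrArg Subtype.val h, orderOf_one] at hjo
      exact absurd hjo (by norm_num)⟩⟩
    haveI := T.isPGroup'.center_nontrivial
    obtain ⟨k, hk⟩ := IsPGroup.iff_card.1 (T.isPGroup'.to_subgroup (Subgroup.center (T : Subgroup G)))
    obtain ⟨z, hz⟩ := exists_prime_orderOf_dvd_card' (G := Subgroup.center (T : Subgroup G)) 2 (by
      rcases k with _ | k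
      · exact absurd hk (Finite.one_lt_card (α := Subgroup.center (T : Subgroup G))).ne'
      · rw [hk]; exact dvd_pow_self 2 k.succ_ne_zero)
    have hzo : orderOf ((z : (T : Subgroup G)) : G) = 2 := by rw [Subgroup.orderOf_coe, Subgroup.orderOf_coe, hz]
    have hzH : ((z : (T : Subgroup G)) : G) ∈ H := by
      rw [← hC' j j.2 hjo, Subgroup.mem_centralizer_singleton_iff]
      exact (congrArg Subtype.val (Subgroup.mem_center_iff.1 z.2 ⟨j, hHT j.2⟩)).symm
    intro x hx
    rw [← hC' _ hzH hzo, Subgroup.mem_centralizer_singleton_iff]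
    exact congrArg Subtype.val (Subgroup.mem_center_iff.1 z.2 ⟨x, hx⟩)
  have hnc : ¬ IsCyclic (T : Subgroup G) := fun h => by
    obtain ⟨g, hg⟩ := h.exists_generator
    have h2 : g * g = 1 := Subtype.ext (hel _ (hTH ▸ g.2))
    have hc : Nat.card (T : Subgroup G) ≤ 2 := by
      rw [← orderOf_eq_card_of_forall_mem_zpowers hg]
      exact Nat.le_of_dvd two_pos (orderOf_dvd_of_pow_eq_one (by rw [pow_two, h2]))
    rw [hTH] at hc
    have := Nat.le_of_dvd Nat.card_pos h4
    omega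
  have hnn : ¬ (T : Subgroup G).Normal := fun h => by
    haveI := h
    refine hns (solvable_of_normal_sylow T (T : Subgroup G) le_rfl ?_)
    haveI : Group.IsNilpotent (T : Subgroup G) := T.isPGroup'.isNilpotent
    infer_instance
  have hall : ∀ t : G, orderOf t = 2 → IsMulCommutative (Subgroup.centralizer ({t} : Set G)) ∧
      ∀ c ∈ Subgroup.centralizer ({t} : Set G), c ^ 2 = 1 := by
    intro t ht
    obtain ⟨Q, hQ⟩ := (IsPGroup.of_card (p := 2) (n := 1) (G := Subgroup.zpowers t)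
      (by rw [Nat.card_zpowers, ht, pow_one])).exists_le_sylow
    obtain ⟨g, hg⟩ := MulAction.exists_smul_eq G Q T
    have hgt : g * t * g⁻¹ ∈ H := by
      rw [← hTH, ← hg, Sylow.coe_subgroup_smul]
      exact ⟨t, hQ (Subgroup.mem_zpowers t), rfl⟩
    have hcg : ∀ c ∈ Subgroup.centralizer ({t} : Set G), g * c * g⁻¹ ∈ H := fun c hc => by
      rw [← hC' _ hgt (by rw [show g * t * g⁻¹ = MulAut.conj g t from rfl, MulEquiv.orderOf_eq, ht]),
        Subgroup.mem_centralizer_singleton_iff]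
      have := Subgroup.mem_centralizer_singleton_iff.1 hc
      calc g * c * g⁻¹ * (g * t * g⁻¹) = g * (c * t) * g⁻¹ := by group
        _ = g * (t * c) * g⁻¹ := by rw [this]
        _ = g * t * g⁻¹ * (g * c * g⁻¹) := by group
    refine ⟨⟨⟨fun a b => Subtype.ext ((MulAut.conj g).injective ?_)⟩⟩, fun c hc => (MulAut.conj g).injective ?_⟩
    · simp only [Subgroup.coe_mul, map_mul]
      exact hcomm _ (hcg a a.2) _ (hcg b b.2)
    · rw [map_pow, map_one, pow_two]
      exact hel _ (hcg c hc)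
  obtain ⟨F, iF, iFt, hcard, ⟨e⟩⟩ := S1230.result T hnc hnn hall
  have h4F : 4 ≤ Fintype.card F := by rw [hcard, hTH]; exact Nat.le_of_dvd Nat.card_pos h4
  exact ⟨⊥, inferInstance, Or.inl (by simp), F, iF, iFt, by omega, Or.inl ⟨QuotientGroup.quotientBot.trans e⟩⟩

/-- Two or more central involutions. -/
theorem rank_case (H A : Subgroup G) (hle : A ≤ H) (x : G) (hxH : x ∈ H) (hxA : x ∉ A)
    (hab : ∀ a ∈ A, ∀ b ∈ A, a * b = b * a) (hinv : ∀ y ∈ H, y ∉ A → ∀ a ∈ A, y * a * y⁻¹ = a⁻¹)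
    (hidx : ∀ y ∈ H, y ∉ A → ∀ z ∈ H, z ∉ A → y * z ∈ A) (hne : ∃ a ∈ A, a * a ≠ 1)
    (hC : ∀ j ∈ H, orderOf j = 2 → (∀ h ∈ H, h * j = j * h) → Subgroup.centralizer ({j} : Set G) = H)
    (hD : ∀ y ∈ H, y ∉ A → y * y = 1)
    {j₁ j₂ : G} (hj₁ : j₁ ∈ A) (hj₁o : orderOf j₁ = 2) (hj₂ : j₂ ∈ A) (hj₂o : orderOf j₂ = 2) (hj : j₁ ≠ j₂)
    (hns : ¬ Group.IsSolvable G) : ProjTwoQuotient G := by
  classical
  haveI : Fact (Nat.Prime 2) := ⟨Nat.prime_two⟩
  let Ω : Subgroup G :=
    { carrier := {a | a ∈ A ∧ a * a = 1}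
      one_mem' := ⟨A.one_mem, one_mul 1⟩
      mul_mem' := fun {a b} ha hb => ⟨A.mul_mem ha.1 hb.1, by
        rw [mul_assoc, ← mul_assoc b, hab b hb.1 a ha.1, mul_assoc, hb.2, mul_one, ha.2]⟩
      inv_mem' := fun {a} ha => ⟨A.inv_mem ha.1, by rw [← mul_inv_rev, ha.2, inv_one]⟩ }
  have hord : ∀ a : G, orderOf a = 2 → a * a = 1 := fun a ha => by rw [← pow_two, ← ha, pow_orderOf_eq_one]
  have hord' : ∀ a : G, a * a = 1 → a ≠ 1 → orderOf a = 2 := fun a h h1 =>
    orderOf_eq_prime (by rw [pow_two, h]) h1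
  -- the centralisers
  have hcen : ∀ a : G, a ∈ A → a * a = 1 → ∀ h ∈ H, h * a = a * h := fun a ha ha2 h hh => by
    by_cases hA' : h ∈ A
    · exact hab h hA' a ha
    · have := hinv h hh hA' a ha
      rw [inv_eq_of_mul_eq_one_left ha2] at this
      exact mul_inv_eq_iff_eq_mul.1 this
  have hCΩ : ∀ a : G, a ∈ A → a * a = 1 → a ≠ 1 → Subgroup.centralizer ({a} : Set G) = H := fun a ha ha2 ha1 =>
    hC a (hle ha) (hord' a ha2 ha1) (hcen a ha ha2)
  have hmemA : ∀ y ∈ H, (∀ a ∈ A, y * a = a * y) → y ∈ A := fun y hy hya => by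
    by_contra h
    obtain ⟨a, ha, ha2⟩ := hne
    have := hinv y hy h a ha
    rw [hya a ha, mul_inv_cancel_right] at this
    exact ha2 (mul_eq_one_iff_eq_inv.2 this)
  -- involutions of `H` conjugate into `Ω` lie in `A`
  have hstr : ∀ g ω : G, ω ∈ A → ω * ω = 1 → ω ≠ 1 → g * ω * g⁻¹ ∈ H → g * ω * g⁻¹ ∈ A := by
    intro g ω hω hω2 hω1 hgH
    by_contra hout
    have hmem : ∀ a ∈ Ω, g⁻¹ * a * g ∈ H := fun a ha => by
      rw [← hCΩ ω hω hω2 hω1, Subgroup.mem_centralizer_singleton_iff]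
      have h := hcen a ha.1 ha.2 _ hgH
      calc g⁻¹ * a * g * ω = g⁻¹ * (a * (g * ω * g⁻¹)) * g := by group
        _ = g⁻¹ * (g * ω * g⁻¹ * a) * g := by rw [h]
        _ = ω * (g⁻¹ * a * g) := by group
    have hnot : ∀ a ∈ Ω, a ≠ 1 → g⁻¹ * a * g ∉ A := fun a ha ha1 hA' => by
      have hc : Subgroup.centralizer ({g⁻¹ * a * g} : Set G) = H := hCΩ _ hA'
        (by rw [show g⁻¹ * a * g * (g⁻¹ * a * g) = g⁻¹ * (a * a) * g by group, ha.2, mul_one, inv_mul_cancel])
        (fun h => ha1 (by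
          have := congrArg (fun y => g * y * g⁻¹) h
          simpa [mul_assoc] using this))
      have hfix : ∀ y ∈ H, y * (g * ω * g⁻¹) = g * ω * g⁻¹ * y := fun y hy => by
        have h1 : g⁻¹ * y * g ∈ H := by
          rw [← hc, Subgroup.mem_centralizer_singleton_iff]
          calc g⁻¹ * y * g * (g⁻¹ * a * g) = g⁻¹ * (y * a) * g := by group
            _ = g⁻¹ * (a * y) * g := by rw [hcen a ha.1 ha.2 y hy]
            _ = g⁻¹ * a * g * (g⁻¹ * y * g) := by group
        have h2 := hcen ω hω hω2 _ h1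
        calc y * (g * ω * g⁻¹) = g * (g⁻¹ * y * g * ω) * g⁻¹ := by group
          _ = g * (ω * (g⁻¹ * y * g)) * g⁻¹ := by rw [h2]
          _ = g * ω * g⁻¹ * y := by group
      exact hout (hmemA _ hgH fun b hb => (hfix b (hle hb)).symm)
    have hne1 : ∀ a : G, orderOf a = 2 → a ≠ 1 := fun a ha h => by
      rw [h, orderOf_one] at ha; exact absurd ha (by norm_num)
    have hΩ₁ : j₁ ∈ Ω := ⟨hj₁, hord _ hj₁o⟩
    have hΩ₂ : j₂ ∈ Ω := ⟨hj₂, hord _ hj₂o⟩
    have h12 := hidx _ (hmem _ hΩ₁) (hnot _ hΩ₁ (hne1 _ hj₁o)) _ (hmem _ hΩ₂) (hnot _ hΩ₂ (hne1 _ hj₂o))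
    rw [show g⁻¹ * j₁ * g * (g⁻¹ * j₂ * g) = g⁻¹ * (j₁ * j₂) * g by group] at h12
    refine hnot _ (Ω.mul_mem hΩ₁ hΩ₂) (fun h => hj ?_) h12
    rw [mul_eq_one_iff_eq_inv.1 h, inv_eq_of_mul_eq_one_left hΩ₂.2]
  -- a Sylow subgroup of `H` is one of `G`
  obtain ⟨PH⟩ : Nonempty (Sylow 2 H) := inferInstance
  obtain ⟨S, hS⟩ := (PH.isPGroup'.map H.subtype).exists_le_sylow
  have hPeq : (PH : Subgroup H) = (S : Subgroup G).subgroupOf H :=
    (PH.3 (S.isPGroup'.comap_of_injective H.subtype H.subtype_injective) fun p hp => hS ⟨p, hp, rfl⟩).symm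
  have hΩH : Ω ≤ H := fun a ha => hle ha.1
  haveI hΩn : (Ω.subgroupOf H).Normal := ⟨fun a ha h => by
    have : h * a * h⁻¹ = a := Subtype.ext (by
      show (h : G) * a * (h : G)⁻¹ = a
      rw [show (h : G) * (a : G) = (a : G) * (h : G) from hcen _ ha.1 ha.2 h h.2, mul_inv_cancel_right])
    rw [this]
    exact ha⟩
  have hΩS : Ω ≤ (S : Subgroup G) := fun a ha => by
    have h1 : (⟨a, hΩH ha⟩ : H) ∈ (PH : Subgroup H) :=
      (IsPGroup.le_sylow_of_normal (fun b => ⟨1, Subtype.ext (Subtype.ext (by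
        show ((b : H) : G) ^ (2 ^ 1) = 1
        rw [pow_one, pow_two]; exact b.2.2))⟩ : IsPGroup 2 (Ω.subgroupOf H)) PH) (show (⟨a, hΩH ha⟩ : H) ∈ Ω.subgroupOf H from ha)
    rw [hPeq] at h1
    exact h1
  have hSH : (S : Subgroup G) ≤ H := by
    haveI := S.isPGroup'.isNilpotent
    suffices h : H.subgroupOf (S : Subgroup G) = ⊤ from Subgroup.subgroupOf_eq_top.1 h
    by_contra htop
    have hlt := Group.normalizerCondition_of_isNilpotent (G := (S : Subgroup G))
      (H.subgroupOf (S : Subgroup G)) (lt_top_iff_ne_top.2 htop)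
    obtain ⟨⟨g, hgS⟩, hgn, hgH⟩ := SetLike.exists_of_lt hlt
    have hgΩ : ∀ a ∈ Ω, g * a * g⁻¹ ∈ Ω := fun a ha => by
      have haS := hΩS ha
      have h1 : g * a * g⁻¹ ∈ H :=
        (Subgroup.mem_normalizer_iff.1 hgn ⟨a, haS⟩).1 (Subgroup.mem_subgroupOf.2 (hle ha.1))
      refine ⟨?_, by rw [show g * a * g⁻¹ * (g * a * g⁻¹) = g * (a * a) * g⁻¹ by group, ha.2, mul_one, mul_inv_cancel]⟩
      by_cases ha1 : a = 1
      · rw [ha1, mul_one, mul_inv_cancel]; exact A.one_mem
      · exact hstr g a ha.1 ha.2 ha1 h1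
    -- a two-group on the nontrivial part of `Ω` fixes a point
    letI : MulAction (Subgroup.zpowers g) {a : G // a ∈ Ω ∧ a ≠ 1} :=
      { smul := fun k a => ⟨(k : G) * a * (k : G)⁻¹, by
          refine ⟨?_, fun h => a.2.2 ?_⟩
          · obtain ⟨i, hi⟩ := Subgroup.mem_zpowers_iff.1 k.2
            have hN : g ∈ Subgroup.normalizer (Ω : Set G) := by
              refine Subgroup.mem_normalizer_fintype fun b hb => hgΩ b hb
            rw [← hi]
            exact (Subgroup.mem_normalizer_iff.1 (Subgroup.zpow_mem _ hN i) _).1 a.2.1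
          · have := congrArg (fun y => (k : G)⁻¹ * y * k) h
            simpa [mul_assoc] using this⟩
        one_smul := fun a => Subtype.ext (show (1 : G) * a * (1 : G)⁻¹ = a by simp)
        mul_smul := fun k l a => Subtype.ext (show ((k : G) * l) * a * ((k : G) * l)⁻¹ = k * (l * a * (l : G)⁻¹) * (k : G)⁻¹ by group) }
    have hp : IsPGroup 2 (Subgroup.zpowers g) := S.isPGroup'.to_le (Subgroup.zpowers_le.2 hgS)
    obtain ⟨k, hk⟩ := IsPGroup.iff_card.1 (show IsPGroup 2 Ω from fun b => ⟨1, Subtype.ext (by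
      show (b : G) ^ (2 ^ 1) = 1
      rw [pow_one, pow_two]; exact b.2.2)⟩)
    have hk1 : k ≠ 0 := fun h0 => by
      rw [h0, pow_zero, Subgroup.card_eq_one] at hk
      have : j₁ ∈ Ω := ⟨hj₁, hord _ hj₁o⟩
      rw [hk, Subgroup.mem_bot] at this
      rw [this, orderOf_one] at hj₁o
      exact absurd hj₁o (by norm_num)
    have hodd : ¬ 2 ∣ Nat.card {a : G // a ∈ Ω ∧ a ≠ 1} := by
      have h1 : Nat.card {a : G // a ∈ Ω ∧ a ≠ 1} + 1 = 2 ^ k := by
        rw [← hk]
        have e : Option {a : G // a ∈ Ω ∧ a ≠ 1} ≃ Ω :=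
          { toFun := fun o => o.elim 1 fun a => ⟨a, a.2.1⟩
            invFun := fun a => if h : (a : G) = 1 then none else some ⟨a, a.2, h⟩
            left_inv := fun o => by
              rcases o with _ | a
              · simp
              · simp [a.2.2]
            right_inv := fun a => by
              by_cases h : (a : G) = 1
              · simp [h]; exact Subtype.ext h.symm
              · simp [h] }
        rw [← Nat.card_congr e, Finite.card_option]
      obtain ⟨i, rfl⟩ : ∃ i, k = i + 1 := ⟨k - 1, by omega⟩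
      rw [pow_succ] at h1
      omega
    obtain ⟨⟨a, haΩ, ha1⟩, hfix⟩ := hp.nonempty_fixed_point_of_prime_not_dvd_card _ hodd
    refine hgH (Subgroup.mem_subgroupOf.2 ?_)
    show g ∈ H
    rw [← hCΩ a haΩ.1 haΩ.2 ha1, Subgroup.mem_centralizer_singleton_iff]
    have := congrArg Subtype.val (hfix ⟨g, Subgroup.mem_zpowers g⟩)
    exact mul_inv_eq_iff_eq_mul.1 (this : g * a * g⁻¹ = a)
  -- elements of `H ∖ A` are conjugate into the Sylow subgroup
  have hout : ∀ y ∈ H, y ∉ A → ∃ h : G, h * y * h⁻¹ ∈ (S : Subgroup G) ∧ h * y * h⁻¹ ∉ A := by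
    intro y hyH hyA
    obtain ⟨Q, hQ⟩ := (IsPGroup.of_card (p := 2) (n := 1) (G := Subgroup.zpowers (⟨y, hyH⟩ : H))
      (by
        rw [Nat.card_zpowers, pow_one, ← Subgroup.orderOf_coe]
        exact hord' y (hD y hyH hyA) fun h => hyA (h ▸ A.one_mem))).exists_le_sylow
    obtain ⟨h, hh⟩ := MulAction.exists_smul_eq H Q PH
    refine ⟨h, ?_, fun hA' => hyA ?_⟩
    · have h1 : h * ⟨y, hyH⟩ * h⁻¹ ∈ (PH : Subgroup H) := by
        rw [← hh, Sylow.coe_subgroup_smul]
        exact ⟨_, hQ (Subgroup.mem_zpowers _), rfl⟩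
      rw [hPeq] at h1
      exact h1
    · by_cases hhA : (h : G) ∈ A
      · have := A.mul_mem (A.mul_mem (A.inv_mem hhA) hA') hhA
        simpa [mul_assoc] using this
      · have h2 := hinv h h.2 hhA _ hA'
        have h3 : (h : G) * ((h : G) * y * (h : G)⁻¹) * (h : G)⁻¹ = y := by
          have hh2 := hD h h.2 hhA
          have hh3 : (h : G)⁻¹ = h := inv_eq_of_mul_eq_one_left hh2
          rw [hh3]
          calc (h : G) * (h * y * h) * h = (h * h) * y * (h * h) := by group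
            _ = y := by rw [hh2, one_mul, mul_one]
        rw [h3] at h2
        exact h2 ▸ A.inv_mem hA'
  obtain ⟨h₀, hxS, hxA'⟩ := hout x hxH hxA
  obtain ⟨x, hxS, hxA⟩ : ∃ x, x ∈ (S : Subgroup G) ∧ x ∉ A := ⟨_, hxS, hxA'⟩
  have hxH : x ∈ H := hSH hxS
  have hx2 : x * x = 1 := hD x hxH hxA
  -- transfer
  let χ : (S : Subgroup G) →* Multiplicative (ZMod 2) :=
    { toFun := fun b => if (b : G) ∈ A then 1 else Multiplicative.ofAdd 1
      map_one' := if_pos A.one_mem
      map_mul' := fun a b => by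
        by_cases ha : (a : G) ∈ A <;> by_cases hb : (b : G) ∈ A
        · rw [if_pos ha, if_pos hb, if_pos (show ((a * b : (S : Subgroup G)) : G) ∈ A from A.mul_mem ha hb), one_mul]
        · rw [if_pos ha, if_neg hb, if_neg, one_mul]
          exact fun h => hb ((A.mul_mem_cancel_left ha).1 h)
        · rw [if_neg ha, if_pos hb, if_neg, mul_one]
          exact fun h => ha ((A.mul_mem_cancel_right hb).1 h)
        · rw [if_neg ha, if_neg hb, if_pos]
          · exact Fusion.mul_zmod_two_facts.1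
          · exact hidx _ (hSH a.2) ha _ (hSH b.2) hb }
  let f : G →* Multiplicative (ZMod 2) := MonoidHom.transfer χ
  have hf : ∀ a : G, a ∈ (S : Subgroup G) → a ∉ A → f a = Multiplicative.ofAdd 1 := by
    intro a haS haA
    have hao : a * a = 1 := hD a (hSH haS) haA
    have hχ : χ ⟨a, haS⟩ = Multiplicative.ofAdd 1 := if_neg haA
    show MonoidHom.transfer χ a = _
    rw [Fusion.transfer_eq_map_pow χ a haS fun m b h => ?_, hχ]
    · obtain ⟨c, hc⟩ : Odd (S : Subgroup G).index := Nat.odd_iff.2 (Nat.two_dvd_ne_zero.1 S.not_dvd_index)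
      rw [hc, pow_succ, pow_mul, Fusion.mul_zmod_two_facts.2.1, one_pow, one_mul]
    · obtain ⟨c, rfl⟩ | ⟨c, rfl⟩ := Nat.even_or_odd m
      · have h1 : b⁻¹ * a ^ (c + c) * b = 1 := by
          rw [← two_mul, pow_mul, pow_two, hao, one_pow, mul_one, inv_mul_cancel]
        have hr : Multiplicative.ofAdd (1 : ZMod 2) ^ (c + c) = 1 := by
          rw [← two_mul, pow_mul, Fusion.mul_zmod_two_facts.2.1, one_pow]
        rw [hχ, hr]
        exact if_pos (show b⁻¹ * a ^ (c + c) * b ∈ A from h1.symm ▸ A.one_mem)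
      · have h1 : b⁻¹ * a ^ (2 * c + 1) * b = b⁻¹ * a * b := by
          rw [pow_succ, pow_mul, pow_two, hao, one_pow, one_mul]
        have hr : Multiplicative.ofAdd (1 : ZMod 2) ^ (2 * c + 1) = Multiplicative.ofAdd 1 := by
          rw [pow_succ, pow_mul, Fusion.mul_zmod_two_facts.2.1, one_pow, one_mul]
        rw [hχ, hr]
        refine if_neg fun hA' => haA ?_
        rw [show ((⟨_, h⟩ : (S : Subgroup G)) : G) = b⁻¹ * a * b from h1] at hA'
        have h2 : b⁻¹ * a * b * (b⁻¹ * a * b) = 1 := by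
          rw [show b⁻¹ * a * b * (b⁻¹ * a * b) = b⁻¹ * (a * a) * b by group, hao, mul_one, inv_mul_cancel]
        have h3 : b⁻¹ * a * b ≠ 1 := fun e => haA (by
          have e' := congrArg (fun y => b * y * b⁻¹) e
          simp [mul_assoc] at e'
          exact e' ▸ A.one_mem)
        have h4 := hstr b _ hA' h2 h3 (by simpa [mul_assoc] using hSH haS)
        simpa [mul_assoc] using h4
  have hfH : ∀ a ∈ H, a ∉ A → f a = Multiplicative.ofAdd 1 := fun a haH haA => by
    obtain ⟨h, h1, h2⟩ := hout a haH haA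
    have := hf _ h1 h2
    rw [map_mul, map_mul, map_inv, mul_comm (f h) (f a), mul_inv_cancel_right] at this
    exact this
  set K := f.ker with hK
  have hxK : x ∉ K := fun h => by
    rw [hK, MonoidHom.mem_ker, hf x hxS hxA] at h
    exact Fusion.mul_zmod_two_facts.2.2 h
  have hK2 : K.index = 2 := by
    rw [hK, Subgroup.index_ker]
    have hd := f.range.card_subgroup_dvd_card
    rw [Nat.card_eq_fintype_card (α := Multiplicative (ZMod 2)), Fintype.card_multiplicative, ZMod.card] at hd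
    refine ((Nat.dvd_prime Nat.prime_two).1 hd).resolve_left fun h1 => ?_
    have h2 : Multiplicative.ofAdd (1 : ZMod 2) ∈ f.range := ⟨x, hf x hxS hxA⟩
    rw [Subgroup.card_eq_one.1 h1, Subgroup.mem_bot] at h2
    exact Fusion.mul_zmod_two_facts.2.2 h2
  have hHK : ∀ a ∈ H, (a ∈ K ↔ a ∈ A) := fun a haH => by
    refine ⟨fun h => by_contra fun hA' => ?_, fun hA' => ?_⟩
    · rw [hK, MonoidHom.mem_ker, hfH a haH hA'] at h
      exact Fusion.mul_zmod_two_facts.2.2 h
    · have hax : a * x ∉ A := fun h => hxA ((A.mul_mem_cancel_left hA').1 h)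
      have h1 := hfH _ (H.mul_mem haH hxH) hax
      rw [map_mul, hf x hxS hxA] at h1
      rw [hK, MonoidHom.mem_ker]
      exact mul_eq_right.1 h1
  have hΩK : Ω ≤ K := fun a ha => (hHK a (hle ha.1)).2 ha.1
  have hsub : ∀ a : G, a ∈ (S : Subgroup G) → a ∈ K → a ∈ A := fun a h1 h2 => (hHK a (hSH h1)).1 h2
  -- centralisers of involutions of `K` are abelian
  have hiac : ∀ t : K, orderOf t = 2 → IsMulCommutative (Subgroup.centralizer ({t} : Set K)) := by
    intro t ht
    have hto : orderOf (t : G) = 2 := by rw [Subgroup.orderOf_coe, ht]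
    obtain ⟨Q, hQ⟩ := (IsPGroup.of_card (p := 2) (n := 1) (G := Subgroup.zpowers (t : G))
      (by rw [Nat.card_zpowers, hto, pow_one])).exists_le_sylow
    obtain ⟨g, hg⟩ := MulAction.exists_smul_eq G Q S
    have hgt : g * (t : G) * g⁻¹ ∈ (S : Subgroup G) := by
      rw [← hg, Sylow.coe_subgroup_smul]
      exact ⟨t, hQ (Subgroup.mem_zpowers _), rfl⟩
    haveI : K.Normal := f.normal_ker
    have hgA := hsub _ hgt (Subgroup.Normal.conj_mem inferInstance _ t.2 g)
    have hgo : orderOf (g * (t : G) * g⁻¹) = 2 := by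
      rw [show g * (t : G) * g⁻¹ = MulAut.conj g (t : G) from rfl, MulEquiv.orderOf_eq, hto]
    have hc : ∀ c : K, c ∈ Subgroup.centralizer ({t} : Set K) → g * (c : G) * g⁻¹ ∈ A := fun c hc => by
      have hH : g * (c : G) * g⁻¹ ∈ H := by
        rw [← hCΩ _ hgA (hord _ hgo) (fun e => by rw [e, orderOf_one] at hgo; exact absurd hgo (by norm_num)),
          Subgroup.mem_centralizer_singleton_iff]
        have h1 : (c : G) * t = t * c := congrArg Subtype.val (Subgroup.mem_centralizer_singleton_iff.1 hc)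
        calc g * (c : G) * g⁻¹ * (g * t * g⁻¹) = g * (c * t) * g⁻¹ := by group
          _ = g * (t * c) * g⁻¹ := by rw [h1]
          _ = g * t * g⁻¹ * (g * c * g⁻¹) := by group
      exact (hHK _ hH).1 (Subgroup.Normal.conj_mem inferInstance _ c.2 g)
    refine ⟨⟨fun a b => Subtype.ext (Subtype.ext ((MulAut.conj g).injective ?_))⟩⟩
    simp only [Subgroup.coe_mul, map_mul]
    exact hab _ (hc a a.2) _ (hc b b.2)
  haveI hKn : K.Normal := f.normal_ker
  have hKe : Even (Nat.card K) := by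
    rw [even_iff_two_dvd]
    exact hj₁o ▸ Subgroup.orderOf_dvd_natCard K (hΩK ⟨hj₁, hord _ hj₁o⟩)
  have hne1 : ∀ a : G, orderOf a = 2 → a ≠ 1 := fun a ha h => by
    rw [h, orderOf_one] at ha; exact absurd ha (by norm_num)
  rcases S2202.result hKe hiac with hcyc | hnor | ⟨F, iF, iFt, B, iB, iBf, hchar, hBo, ⟨e⟩⟩
  · exfalso
    have hp : IsPGroup 2 (Ω.subgroupOf K) := fun b => ⟨1, Subtype.ext (Subtype.ext (by
      show ((b : K) : G) ^ (2 ^ 1) = 1
      rw [pow_one, pow_two]; exact b.2.2))⟩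
    obtain ⟨P, hP⟩ := hp.exists_le_sylow
    haveI := hcyc P
    haveI : IsCyclic (Ω.subgroupOf K) :=
      isCyclic_of_injective (Subgroup.inclusion hP) (Subgroup.inclusion_injective hP)
    obtain ⟨w, hw⟩ := IsCyclic.exists_generator (α := Ω.subgroupOf K)
    have hwc : Nat.card (Ω.subgroupOf K) ≤ 2 := by
      rw [← orderOf_eq_card_of_forall_mem_zpowers hw]
      refine Nat.le_of_dvd two_pos (orderOf_dvd_of_pow_eq_one (Subtype.ext (Subtype.ext ?_)))
      show ((w : K) : G) ^ 2 = 1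
      rw [pow_two]; exact w.2.2
    rw [Nat.card_congr (Subgroup.subgroupOfEquivOfLe hΩK).toEquiv] at hwc
    have h3 : ({1, j₁, j₂} : Finset G).card = 3 := by
      rw [Finset.card_insert_of_notMem (by simp [(hne1 _ hj₁o).symm, (hne1 _ hj₂o).symm]),
        Finset.card_pair hj]
    have := Nat.card_le_card_of_injective (fun a : ({1, j₁, j₂} : Finset G) => (⟨a.1, by
      rcases Finset.mem_insert.1 a.2 with h | h
      · rw [h]; exact Ω.one_mem
      rcases Finset.mem_insert.1 h with h | h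
      · rw [h]; exact ⟨hj₁, hord _ hj₁o⟩
      · rw [Finset.mem_singleton.1 h]; exact ⟨hj₂, hord _ hj₂o⟩⟩ : Ω))
      fun a b h => Subtype.ext (congrArg Subtype.val h :)
    rw [Nat.card_eq_fintype_card, Fintype.card_coe, h3] at this
    omega
  · exfalso
    obtain ⟨P⟩ : Nonempty (Sylow 2 K) := inferInstance
    haveI := hnor P
    haveI : (P : Subgroup K).Characteristic := Sylow.characteristic_of_normal P inferInstance
    set PG := (P : Subgroup K).map K.subtype with hPG
    haveI : PG.Normal := by rw [hPG]; infer_instance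
    have hPS : PG ≤ (S : Subgroup G) := (P.isPGroup'.map K.subtype).le_sylow_of_normal S
    have hΩP : Ω ≤ PG := fun a ha => by
      have hp : IsPGroup 2 (Subgroup.zpowers (⟨a, hΩK ha⟩ : K)) := by
        by_cases h1 : a = 1
        · subst h1
          exact IsPGroup.of_card (n := 0) (by rw [Nat.card_zpowers, pow_zero]; exact orderOf_eq_one_iff.2 rfl)
        · exact IsPGroup.of_card (n := 1) (by rw [Nat.card_zpowers, pow_one, ← Subgroup.orderOf_coe]; exact hord' a ha.2 h1)
      obtain ⟨Q, hQ⟩ := hp.exists_le_sylow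
      haveI := hnor Q
      haveI := Sylow.unique_of_normal P inferInstance
      exact ⟨⟨a, hΩK ha⟩, (Subsingleton.elim Q P) ▸ hQ (Subgroup.mem_zpowers _), rfl⟩
    haveI : H.Normal := ⟨fun h hh g => by
      have hΩg : g⁻¹ * j₁ * g ∈ Ω := by
        have hmem : g⁻¹ * j₁ * g ∈ PG := by
          have h0 := (inferInstance : PG.Normal).conj_mem _ (hΩP ⟨hj₁, hord _ hj₁o⟩) g⁻¹
          rwa [inv_inv] at h0
        refine ⟨hsub _ (hPS hmem) ((Subgroup.map_subtype_le (P : Subgroup K)) hmem), ?_⟩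
        · rw [show g⁻¹ * j₁ * g * (g⁻¹ * j₁ * g) = g⁻¹ * (j₁ * j₁) * g by group, hord _ hj₁o, mul_one, inv_mul_cancel]
      have h2 := hcen _ hΩg.1 hΩg.2 h hh
      rw [← hCΩ _ hj₁ (hord _ hj₁o) (hne1 _ hj₁o), Subgroup.mem_centralizer_singleton_iff]
      calc g * h * g⁻¹ * j₁ = g * (h * (g⁻¹ * j₁ * g)) * g⁻¹ := by group
        _ = g * (g⁻¹ * j₁ * g * h) * g⁻¹ := by rw [h2]
        _ = j₁ * (g * h * g⁻¹) := by group⟩
    refine hns (solvable_of_normal_sylow S H hSH ?_)
    have hi : (A.subgroupOf H).index = 2 := by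
      rw [Subgroup.index_eq_two_iff]
      refine ⟨⟨x, hxH⟩, fun b => ?_⟩
      by_cases hb : (b : G) ∈ A
      · exact Or.inr ⟨hb, fun h => hxA ((A.mul_mem_cancel_left hb).1 h)⟩
      · exact Or.inl ⟨hidx _ b.2 hb _ hxH hxA, fun h => hb h⟩
    haveI := Subgroup.normal_of_index_eq_two hi
    haveI : Group.IsSolvable (A.subgroupOf H) :=
      Group.isSolvable_of_comm fun a b => Subtype.ext (Subtype.ext (hab _ a.2 _ b.2))
    haveI : Group.IsSolvable (H ⧸ A.subgroupOf H) := by
      haveI : IsCyclic (H ⧸ A.subgroupOf H) := isCyclic_of_prime_card (p := 2) hi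
      exact Group.isSolvable_of_comm fun a b => IsCyclic.commGroup.mul_comm a b
    exact Group.isSolvable_of_ker_le_range (A.subgroupOf H).subtype (QuotientGroup.mk' (A.subgroupOf H)) (by
      rw [QuotientGroup.ker_mk', Subgroup.range_subtype])
  -- `K = SL₂(2^r) × B`
  haveI : Fact (Nat.Prime 2) := ⟨Nat.prime_two⟩
  have h20 : (2 : F) = 0 := CharP.cast_eq_zero F 2
  let p : K →* Matrix.SpecialLinearGroup (Fin 2) F := (MonoidHom.fst _ _).comp e.toMonoidHom
  have hBone : ∀ b : B, b * b = 1 → b = 1 := fun b hb => by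
    have h1 : orderOf b ∣ Nat.gcd 2 (Nat.card B) :=
      Nat.dvd_gcd (orderOf_dvd_of_pow_eq_one (by rw [pow_two, hb])) (orderOf_dvd_natCard b)
    rw [(Nat.coprime_two_left.2 hBo : Nat.gcd 2 (Nat.card B) = 1)] at h1
    exact orderOf_eq_one_iff.1 (Nat.dvd_one.1 h1)
  have hpinv : ∀ a : K, (a : G) * a = 1 → (e a).2 = 1 := fun a ha => hBone _ (by
    have := congrArg Prod.snd (congrArg e (Subtype.ext ha : a * a = 1))
    simpa using this)
  have h4F : 4 ≤ Fintype.card F := by
    by_contra hlt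
    have h2 : Fintype.card F = 2 := by
      have h1 := Fintype.one_lt_card (α := F)
      have h2 := Small.SL2C.two_dvd_iff.2 h20
      omega
    -- three commuting involutions in a group of order six
    let i : Ω →* Matrix.SpecialLinearGroup (Fin 2) F := p.comp (Subgroup.inclusion hΩK)
    have hi : Function.Injective i := fun a b h => by
      have ha := hpinv (Subgroup.inclusion hΩK a) a.2.2
      have hb := hpinv (Subgroup.inclusion hΩK b) b.2.2
      exact Subgroup.inclusion_injective hΩK (e.injective (Prod.ext h (ha.trans hb.symm)))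
    have h6 : Nat.card (Matrix.SpecialLinearGroup (Fin 2) F) = 6 := by
      have := Classical.Dickson.card_P2 (F := F)
      rw [Subgroup.card_eq_card_quotient_mul_card_subgroup (Subgroup.center (Matrix.SpecialLinearGroup (Fin 2) F)),
        Small.SL2C.center_card_even h20, mul_one]
      rw [h2] at this
      norm_num at this
      simpa using this
    have hd := Subgroup.card_dvd_of_injective i hi
    rw [h6] at hd
    obtain ⟨k, hk⟩ := IsPGroup.iff_card.1 (show IsPGroup 2 Ω from fun b => ⟨1, Subtype.ext (by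
      show (b : G) ^ (2 ^ 1) = 1
      rw [pow_one, pow_two]; exact b.2.2)⟩)
    rw [hk] at hd
    have hk2 : 2 ≤ k := by
      by_contra hk2
      have h1 : Nat.card Ω ≤ 2 := by
        rw [hk]
        exact (Nat.pow_le_pow_right two_pos (show k ≤ 1 by omega))
      have h3 := Nat.card_le_card_of_injective (fun a : Fin 3 => (![⟨1, Ω.one_mem⟩, ⟨j₁, hj₁, hord _ hj₁o⟩,
        ⟨j₂, hj₂, hord _ hj₂o⟩] a : Ω)) (by
          intro a b hab'
          have := congrArg Subtype.val hab'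
          fin_cases a <;> fin_cases b <;>
            simp [(hne1 _ hj₁o), (hne1 _ hj₂o), (hne1 _ hj₁o).symm, (hne1 _ hj₂o).symm, hj, hj.symm] at this ⊢)
      rw [Nat.card_fin] at h3
      omega
    have := (pow_dvd_pow 2 hk2).trans hd
    norm_num at this
  obtain ⟨htop, -⟩ := LocalEven.SubnBlock.sl2_quasisimple (F := F) h4F
  set L : Subgroup G := (commutator K).map K.subtype with hL
  haveI hLn : L.Normal := by rw [hL]; infer_instance
  have hLmem : ∀ a : K, a ∈ commutator K ↔ (e a).2 = 1 := by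
    intro a
    refine ⟨fun ha => ?_, fun ha => ?_⟩
    · have h1 : commutator K ≤ ((MonoidHom.snd _ _).comp e.toMonoidHom).ker := by
        rw [commutator_def, Subgroup.commutator_le]
        intro a _ b _
        rw [MonoidHom.mem_ker, map_commutatorElement]
        exact commutatorElement_eq_one_iff_mul_comm.2 (mul_comm _ _)
      exact h1 ha
    · have h1 : (commutator K).map e.toMonoidHom = commutator (Matrix.SpecialLinearGroup (Fin 2) F × B) := by
        rw [commutator_def, Subgroup.map_commutator, Subgroup.map_top_of_surjective e.toMonoidHom e.surjective,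
          ← commutator_def]
      have h2 : e a ∈ (⊤ : Subgroup (Matrix.SpecialLinearGroup (Fin 2) F)).map (MonoidHom.inl _ B) :=
        ⟨(e a).1, Subgroup.mem_top _, Prod.ext rfl ha.symm⟩
      rw [← htop, commutator_def, Subgroup.map_commutator] at h2
      have h3 : e a ∈ commutator (Matrix.SpecialLinearGroup (Fin 2) F × B) :=
        (commutator_def (Matrix.SpecialLinearGroup (Fin 2) F × B)) ▸ Subgroup.commutator_mono le_top le_top h2
      rw [← h1] at h3
      obtain ⟨a', ha', he⟩ := h3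
      exact e.injective he ▸ ha'
  let eL : L ≃* Matrix.SpecialLinearGroup (Fin 2) F :=
    ((commutator K).equivMapOfInjective K.subtype K.subtype_injective).symm.trans
      (MulEquiv.ofBijective (p.comp (commutator K).subtype)
        ⟨fun a b h => Subtype.ext (e.injective (Prod.ext h (((hLmem _).1 a.2).trans ((hLmem _).1 b.2).symm))),
          fun w => ⟨⟨e.symm (w, 1), (hLmem _).2 (by simp)⟩, by
            show (e (e.symm (w, 1))).1 = w
            simp⟩⟩)
  have hLK : L ≤ K := Subgroup.map_subtype_le _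
  have hΩL : Ω ≤ L := fun a ha => ⟨⟨a, hΩK ha⟩, (hLmem _).2 (hpinv ⟨a, hΩK ha⟩ ha.2), rfl⟩
  have hall : ∀ t : L, orderOf t = 2 → IsMulCommutative (Subgroup.centralizer ({t} : Set L)) ∧
      ∀ c ∈ Subgroup.centralizer ({t} : Set L), c ^ 2 = 1 := by
    intro t ht
    let pr := Small.PSL2.pr (F := F)
    have hcz : Nat.card (Subgroup.center (Matrix.SpecialLinearGroup (Fin 2) F)) = 1 := Small.SL2C.center_card_even h20
    let ep : L ≃* Matrix.ProjectiveSpecialLinearGroup (Fin 2) F := eL.trans (MulEquiv.ofBijective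
      (QuotientGroup.mk' (Subgroup.center (Matrix.SpecialLinearGroup (Fin 2) F)))
      ⟨(MonoidHom.ker_eq_bot_iff _).1 (by rw [QuotientGroup.ker_mk']; exact Subgroup.card_eq_one.1 hcz),
        QuotientGroup.mk'_surjective _⟩)
    obtain ⟨p₂, f₂, hp₂, hF₂⟩ : ∃ (p₂ f₂ : ℕ), p₂ = 2 ∧ Fintype.card F = p₂ ^ f₂ := by
      obtain ⟨n, -, hn⟩ := FiniteField.card F 2
      exact ⟨2, n, rfl, hn⟩
    subst hp₂
    let S₀ : Sylow 2 (Matrix.ProjectiveSpecialLinearGroup (Fin 2) F) :=
      { toSubgroup := Small.PSL2.U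
        isPGroup' := Small.PSL2.isPGroup_U hF₂
        is_maximal' := fun hQ hle => Small.PSL2.U_maximal hQ hle }
    obtain ⟨Q, hQ⟩ := (IsPGroup.of_card (p := 2) (n := 1) (G := Subgroup.zpowers (ep t))
      (by rw [Nat.card_zpowers, MulEquiv.orderOf_eq, ht, pow_one])).exists_le_sylow
    obtain ⟨g, hg⟩ := MulAction.exists_smul_eq (Matrix.ProjectiveSpecialLinearGroup (Fin 2) F) Q S₀
    have hgt : g * ep t * g⁻¹ ∈ (Small.PSL2.U : Subgroup (Matrix.ProjectiveSpecialLinearGroup (Fin 2) F)) := by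
      show g * ep t * g⁻¹ ∈ (S₀ : Subgroup _)
      rw [← hg, Sylow.coe_subgroup_smul]
      exact ⟨ep t, hQ (Subgroup.mem_zpowers _), rfl⟩
    obtain ⟨u, hu⟩ := (Small.PSL2.mem_U _).1 hgt
    have hu0 : u ≠ 0 := fun h0 => by
      have h1 : Small.PSL2.pr (Small.PSL2.uS (0 : F)) = 1 := by
        have h2 := congrArg Small.PSL2.pr (Small.PSL2.uS_add (0 : F) 0)
        rw [add_zero, map_mul] at h2
        exact mul_eq_left.1 h2.symm
      rw [h0, h1] at hu
      have h2 : ep t = 1 := by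
        have := congrArg (fun y => g⁻¹ * y * g) hu.symm
        simpa [mul_assoc] using this
      rw [ep.map_eq_one_iff] at h2
      rw [h2, orderOf_one] at ht
      exact absurd ht (by norm_num)
    have hmem : ∀ c ∈ Subgroup.centralizer ({t} : Set L), ∃ v, Small.PSL2.pr (Small.PSL2.uS v) = g * ep c * g⁻¹ :=
      fun c hc => (Small.PSL2.mem_U _).1 (Small.PSL2.mem_U_of_commute hu0 (by
        show _ * _ = _ * _
        rw [hu]
        have h1 := congrArg ep (Subgroup.mem_centralizer_singleton_iff.1 hc)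
        rw [map_mul, map_mul] at h1
        calc g * ep c * g⁻¹ * (g * ep t * g⁻¹) = g * (ep c * ep t) * g⁻¹ := by group
          _ = g * (ep t * ep c) * g⁻¹ := by rw [h1]
          _ = g * ep t * g⁻¹ * (g * ep c * g⁻¹) := by group))
    refine ⟨⟨⟨fun a b => Subtype.ext (ep.injective ((MulAut.conj g).injective ?_))⟩⟩,
      fun c hc => ep.injective ((MulAut.conj g).injective ?_)⟩
    · obtain ⟨v, hv⟩ := hmem a a.2
      obtain ⟨w, hw⟩ := hmem b b.2
      simp only [Subgroup.coe_mul, map_mul]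
      show g * ep a * g⁻¹ * (g * ep b * g⁻¹) = g * ep b * g⁻¹ * (g * ep a * g⁻¹)
      rw [← hv, ← hw, ← map_mul, ← map_mul, ← Small.PSL2.uS_add, ← Small.PSL2.uS_add, add_comm]
    · obtain ⟨v, hv⟩ := hmem c hc
      rw [pow_two, map_mul, map_mul, map_one, map_one]
      show g * ep c * g⁻¹ * (g * ep c * g⁻¹) = 1
      rw [← hv, ← map_mul, ← Small.PSL2.uS_add]
      have hvv : v + v = 0 := by rw [← two_mul, h20, zero_mul]
      rw [hvv]
      have h2 := congrArg Small.PSL2.pr (Small.PSL2.uS_add (0 : F) 0)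
      rw [add_zero, map_mul] at h2
      exact mul_eq_left.1 h2.symm
  -- the Sylow subgroup `Ω` of `L`
  have hΩp : IsPGroup 2 (Ω.subgroupOf L) := fun b => ⟨1, Subtype.ext (Subtype.ext (by
    show ((b : L) : G) ^ (2 ^ 1) = 1
    rw [pow_one, pow_two]; exact b.2.2))⟩
  obtain ⟨T, hT⟩ := hΩp.exists_le_sylow
  have hjT : (⟨j₁, hΩL ⟨hj₁, hord _ hj₁o⟩⟩ : L) ∈ (T : Subgroup L) := hT (show j₁ ∈ Ω from ⟨hj₁, hord _ hj₁o⟩)
  haveI : Nontrivial (T : Subgroup L) := ⟨⟨⟨_, hjT⟩, 1, fun h =>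
    hne1 _ hj₁o (congrArg Subtype.val (congrArg Subtype.val h :))⟩⟩
  haveI := T.isPGroup'.center_nontrivial
  obtain ⟨k, hk⟩ := IsPGroup.iff_card.1 (T.isPGroup'.to_subgroup (Subgroup.center (T : Subgroup L)))
  obtain ⟨z, hz⟩ := exists_prime_orderOf_dvd_card' (G := Subgroup.center (T : Subgroup L)) 2 (by
    rcases k with _ | k
    · exact absurd hk (Finite.one_lt_card (α := Subgroup.center (T : Subgroup L))).ne'
    · rw [hk]; exact dvd_pow_self 2 k.succ_ne_zero)
  have hzo : orderOf ((z : (T : Subgroup L)) : L) = 2 := by rw [Subgroup.orderOf_coe, Subgroup.orderOf_coe, hz]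
  have hTz : ∀ c ∈ (T : Subgroup L), c ∈ Subgroup.centralizer ({((z : (T : Subgroup L)) : L)} : Set L) := fun c hc =>
    Subgroup.mem_centralizer_singleton_iff.2 (congrArg Subtype.val (Subgroup.mem_center_iff.1 z.2 ⟨c, hc⟩))
  have hTΩ : ∀ c : L, c ∈ (T : Subgroup L) ↔ (c : G) ∈ Ω := by
    refine fun c => ⟨fun hc => ?_, fun hc => hT hc⟩
    have hcj : (c : G) * j₁ = j₁ * c :=
      congrArg (fun y : Subgroup.centralizer ({((z : (T : Subgroup L)) : L)} : Set L) => ((y : L) : G))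
        ((hall _ hzo).1.is_comm.comm ⟨c, hTz c hc⟩ ⟨_, hTz _ hjT⟩)
    have hcH : (c : G) ∈ H := by
      rw [← hCΩ _ hj₁ (hord _ hj₁o) (hne1 _ hj₁o)]
      exact Subgroup.mem_centralizer_singleton_iff.2 hcj
    refine ⟨(hHK _ hcH).1 (hLK c.2), ?_⟩
    have h1 := congrArg Subtype.val ((hall _ hzo).2 c (hTz c hc))
    rw [Subgroup.coe_pow, pow_two] at h1
    exact h1
  have hTnc : ¬ IsCyclic (T : Subgroup L) := fun h => by
    haveI := h
    obtain ⟨w, hw⟩ := IsCyclic.exists_generator (α := (T : Subgroup L))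
    have hwc : Nat.card (T : Subgroup L) ≤ 2 := by
      rw [← orderOf_eq_card_of_forall_mem_zpowers hw]
      refine Nat.le_of_dvd two_pos (orderOf_dvd_of_pow_eq_one (Subtype.ext ?_))
      show ((w : L)) ^ 2 = 1
      exact (hall _ hzo).2 _ (hTz _ w.2)
    have h3 := Nat.card_le_card_of_injective (fun a : Fin 3 => (![1, ⟨_, hjT⟩,
      ⟨⟨j₂, hΩL ⟨hj₂, hord _ hj₂o⟩⟩, hT (show j₂ ∈ Ω from ⟨hj₂, hord _ hj₂o⟩)⟩] a : (T : Subgroup L))) (by
        intro a b hab'
        have := congrArg (fun y : (T : Subgroup L) => ((y : L) : G)) hab'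
        fin_cases a <;> fin_cases b <;>
          simp [(hne1 _ hj₁o), (hne1 _ hj₂o), (hne1 _ hj₁o).symm, (hne1 _ hj₂o).symm, hj, hj.symm] at this ⊢)
    rw [Nat.card_fin] at h3
    omega
  have hLperf : commutator L = ⊤ := by
    apply Subgroup.map_injective (f := eL.toMonoidHom) eL.injective
    rw [commutator_def, Subgroup.map_commutator, Subgroup.map_top_of_surjective eL.toMonoidHom eL.surjective,
      ← commutator_def, htop]
  have hTnn : ¬ (T : Subgroup L).Normal := fun h => by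
    haveI := h
    haveI : Group.IsSolvable L := solvable_of_normal_sylow T (T : Subgroup L) le_rfl (by
      haveI : Group.IsNilpotent (T : Subgroup L) := T.isPGroup'.isNilpotent
      infer_instance)
    haveI : Nontrivial L := ⟨⟨⟨_, hΩL ⟨hj₁, hord _ hj₁o⟩⟩, 1, fun h => hne1 _ hj₁o (congrArg Subtype.val h)⟩⟩
    exact (Group.IsSolvable.commutator_lt_top_of_nontrivial L).ne hLperf
  obtain ⟨-, h3pt, hreg⟩ := S1229.result T hTnc hTnn hall
  set NT := Subgroup.normalizer ((T : Subgroup L) : Set L) with hNT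
  obtain ⟨u, hu⟩ : ∃ u : L, u ∉ NT := by
    by_contra hc
    push Not at hc
    exact hTnn (Subgroup.normalizer_eq_top_iff.1 (eq_top_iff.2 fun a _ => hc a))
  have hou : (QuotientGroup.mk u : L ⧸ NT) ≠ QuotientGroup.mk 1 := fun h => hu (by
    have := QuotientGroup.eq.1 h
    simpa using this)
  -- the twist of `x`
  have hxT : ∀ c : L, c ∈ (T : Subgroup L) → x * (c : G) * x⁻¹ = c := fun c hc => by
    rw [hcen _ ((hTΩ c).1 hc).1 ((hTΩ c).1 hc).2 x hxH, mul_inv_cancel_right]
  let φ : L →* L := (MulAut.conjNormal x : MulAut L).toMonoidHom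
  have hφT : ∀ c : L, c ∈ (T : Subgroup L) → φ c = c := fun c hc => Subtype.ext (by
    show ((MulAut.conjNormal x c : L) : G) = c
    rw [MulAut.conjNormal_apply]; exact hxT c hc)
  have hφN : ∀ c : L, c ∉ NT → φ c ∉ NT := fun c hc h => hc (by
    refine Subgroup.mem_normalizer_fintype fun b hb => ?_
    have h1 := (Subgroup.mem_normalizer_iff.1 h b).1 hb
    rw [← hφT b hb, ← map_inv, ← map_mul, ← map_mul] at h1
    have hinjφ : Function.Injective φ := (MulAut.conjNormal x : MulAut L).injective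
    rwa [hinjφ ((hφT _ h1))] at h1)
  have hφu : (QuotientGroup.mk (φ u) : L ⧸ NT) ≠ QuotientGroup.mk 1 := fun h => hφN u hu (by
    have := QuotientGroup.eq.1 h
    simpa using this)
  obtain ⟨t, ⟨htT, htu⟩, -⟩ := hreg _ _ hou hφu
  set y : G := (t : G)⁻¹ * x with hy
  let ψ : L →* L := (MulAut.conjNormal y : MulAut L).toMonoidHom
  have hψ : ∀ c : L, ψ c = t⁻¹ * φ c * t := fun c => Subtype.ext (by
    show ((MulAut.conjNormal y c : L) : G) = (t : G)⁻¹ * ((MulAut.conjNormal x c : L) : G) * t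
    rw [MulAut.conjNormal_apply, MulAut.conjNormal_apply, hy]
    group)
  have hψT : ∀ c : L, c ∈ (T : Subgroup L) → ψ c = c := fun c hc => by
    rw [hψ, hφT c hc]
    have h1 : t * c = c * t := congrArg Subtype.val ((hall _ hzo).1.is_comm.comm ⟨t, hTz t htT⟩ ⟨c, hTz c hc⟩)
    rw [mul_assoc, ← h1, inv_mul_cancel_left]
  have hTN : (T : Subgroup L) ≤ NT := Subgroup.le_normalizer
  have hψu : (QuotientGroup.mk (ψ u) : L ⧸ NT) = QuotientGroup.mk u := by
    rw [hψ, QuotientGroup.mk_mul_of_mem _ (hTN htT)]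
    show t⁻¹ • (QuotientGroup.mk (φ u) : L ⧸ NT) = _
    rw [← htu, inv_smul_smul]
  have hψfix : ∀ c : L, (QuotientGroup.mk (ψ c) : L ⧸ NT) = QuotientGroup.mk c := by
    intro c
    have hψN : ∀ b : L, b ∈ NT → ψ b ∈ NT := fun b hb => by
      refine Subgroup.mem_normalizer_fintype fun a ha => ?_
      have h1 := (Subgroup.mem_normalizer_iff.1 hb a).1 ha
      rw [← hψT a ha, ← map_inv, ← map_mul, ← map_mul, hψT _ h1]
      exact h1
    have hcong : ∀ a b : L, (QuotientGroup.mk a : L ⧸ NT) = QuotientGroup.mk b →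
        (QuotientGroup.mk (ψ a) : L ⧸ NT) = QuotientGroup.mk (ψ b) := fun a b hab' => by
      rw [QuotientGroup.eq] at hab' ⊢
      rw [← map_inv, ← map_mul]
      exact hψN _ hab'
    by_cases hc : (QuotientGroup.mk c : L ⧸ NT) = QuotientGroup.mk 1
    · rw [hcong c 1 hc, map_one, hc]
    · obtain ⟨s, ⟨hsT, hsu⟩, -⟩ := hreg _ _ hou hc
      have h1 : (QuotientGroup.mk (s * u) : L ⧸ NT) = QuotientGroup.mk c := hsu
      rw [← hcong _ _ h1, map_mul, hψT s hsT, ← h1]
      show s • (QuotientGroup.mk (ψ u) : L ⧸ NT) = s • QuotientGroup.mk u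
      rw [hψu]
  have hψid : ∀ c : L, ψ c = c := by
    intro c
    have hkill : ∀ a : L, (c⁻¹ * ψ c) • (QuotientGroup.mk a : L ⧸ NT) = QuotientGroup.mk a := fun a => by
      have h1 : ψ c • (QuotientGroup.mk (ψ a) : L ⧸ NT) = QuotientGroup.mk (c * a) := by
        show (QuotientGroup.mk (ψ c * ψ a) : L ⧸ NT) = _
        rw [← map_mul, hψfix]
      rw [hψfix a] at h1
      rw [mul_smul, h1]
      show (QuotientGroup.mk (c⁻¹ * (c * a)) : L ⧸ NT) = _
      rw [inv_mul_cancel_left]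
    -- three distinct points
    have hjne : (⟨_, hΩL ⟨hj₁, hord _ hj₁o⟩⟩ : L) ≠ 1 := fun h => hne1 _ hj₁o (congrArg Subtype.val h)
    obtain ⟨s, hs⟩ : ∃ s : L, s = ⟨_, hΩL ⟨hj₁, hord _ hj₁o⟩⟩ := ⟨_, rfl⟩
    rw [← hs] at hjne hjT
    have hsu : (QuotientGroup.mk (s * u) : L ⧸ NT) ≠ QuotientGroup.mk 1 := fun h => hu (by
      have := QuotientGroup.eq.1 h
      rw [mul_one, mul_inv_rev] at this
      have h2 := NT.mul_mem this (hTN hjT)
      rw [inv_mul_cancel_right] at h2
      exact NT.inv_mem_iff.1 h2)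
    have hne' : (QuotientGroup.mk u : L ⧸ NT) ≠ QuotientGroup.mk (s * u) := fun h => by
      obtain ⟨w, -, huniq⟩ := hreg _ _ hou hsu
      have e1 := huniq 1 ⟨one_mem _, by rw [one_smul]; exact h⟩
      have e2 := huniq s ⟨hjT, rfl⟩
      exact hjne (e2.trans e1.symm)
    have := h3pt (c⁻¹ * ψ c) _ _ _ hou.symm hsu.symm hne' (hkill 1) (hkill u) (hkill (s * u))
    exact (inv_mul_eq_one.1 this).symm
  -- the quotient
  set N : Subgroup G := Subgroup.centralizer (L : Set G) with hN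
  haveI hNn : N.Normal := by rw [hN]; infer_instance
  have hyN : y ∈ N := Subgroup.mem_centralizer_iff.2 fun c hc => by
    have h1 := congrArg Subtype.val (hψid ⟨c, hc⟩)
    rw [show ((ψ ⟨c, hc⟩ : L) : G) = y * c * y⁻¹ from MulAut.conjNormal_apply _ _] at h1
    exact (mul_inv_eq_iff_eq_mul.1 h1).symm
  have hyK : y ∉ K := fun h => hxK (by
    have := K.mul_mem (hLK t.2) h
    rwa [hy, mul_inv_cancel_left] at this)
  have hBN : ∀ a : K, (e a).1 = 1 → (a : G) ∈ N := fun a ha => Subgroup.mem_centralizer_iff.2 fun c hc => by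
    obtain ⟨c', hc', rfl⟩ := hc
    refine congrArg Subtype.val (e.injective ?_ : c' * a = a * c')
    rw [map_mul, map_mul]
    exact Prod.ext (by simp [ha]) (by simp [(hLmem c').1 hc'])
  have hNK : ∀ a : K, (a : G) ∈ N → (e a).1 = 1 := fun a ha => by
    have hcz : Subgroup.center (Matrix.SpecialLinearGroup (Fin 2) F) = ⊥ :=
      Subgroup.card_eq_one.1 (Small.SL2C.center_card_even h20)
    rw [← Subgroup.mem_bot, ← hcz, Subgroup.mem_center_iff]
    intro w
    have hw : ((e.symm (w, 1) : K) : G) ∈ L := ⟨_, (hLmem _).2 (by simp), rfl⟩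
    have h1 : e.symm (w, 1) * a = a * e.symm (w, 1) :=
      Subtype.ext (Subgroup.mem_centralizer_iff.1 ha _ hw)
    have h2 := congrArg (fun k : K => (e k).1) h1
    simpa using h2
  have hcard : Nat.card N = 2 * Nat.card (N.subgroupOf K) := by
    have h1 : (N ⊓ K).relIndex N = 2 := by
      rw [Subgroup.relIndex, Subgroup.index_eq_two_iff]
      refine ⟨⟨y, hyN⟩, fun b => ?_⟩
      by_cases hb : (b : G) ∈ K
      · refine Or.inr ⟨⟨b.2, hb⟩, fun h => hyK ((K.mul_mem_cancel_left hb).1 h.2)⟩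
      · refine Or.inl ⟨⟨N.mul_mem b.2 hyN, (Subgroup.mul_mem_iff_of_index_two hK2).2 ?_⟩, fun h => hb h.2⟩
        simp [hb, hyK]
    have h2 := ((N ⊓ K).subgroupOf N).card_mul_index
    rw [show ((N ⊓ K).subgroupOf N).index = 2 from h1] at h2
    rw [← h2, mul_comm]
    congr 1
    rw [Nat.card_congr (Subgroup.subgroupOfEquivOfLe (inf_le_left : N ⊓ K ≤ N)).toEquiv,
      ← Subgroup.inf_subgroupOf_right, Nat.card_congr (Subgroup.subgroupOfEquivOfLe (inf_le_right : N ⊓ K ≤ K)).toEquiv]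
  have hNodd : Odd (Nat.card (N.subgroupOf K)) := by
    let i : N.subgroupOf K →* B := ((MonoidHom.snd _ _).comp e.toMonoidHom).comp (N.subgroupOf K).subtype
    have hi : Function.Injective i := fun a b h =>
      Subtype.ext (e.injective (Prod.ext ((hNK a a.2).trans (hNK b b.2).symm) h))
    exact hBo.of_dvd_nat (Subgroup.card_dvd_of_injective i hi)
  refine ⟨N, hNn, Or.inr ⟨_, hNodd, hcard⟩, F, iF, iFt, by omega, Or.inl ?_⟩
  let q : L →* G ⧸ N := (QuotientGroup.mk' N).comp L.subtype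
  have hq : Function.Bijective q := by
    refine ⟨(injective_iff_map_eq_one q).2 fun a ha => ?_, fun w => ?_⟩
    · have h1 : (a : G) ∈ N := (QuotientGroup.eq_one_iff _).1 ha
      have h2 := hNK ⟨a, hLK a.2⟩ h1
      obtain ⟨a', ha', hae⟩ := a.2
      have h3 : a' = 1 := by
        apply e.injective
        rw [map_one]
        refine Prod.ext ?_ ((hLmem a').1 ha')
        rw [show a' = ⟨a, hLK a.2⟩ from Subtype.ext hae]
        exact h2
      exact Subtype.ext (by rw [← hae, h3]; rfl)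
    · obtain ⟨g, rfl⟩ := QuotientGroup.mk_surjective w
      -- every coset meets `L`
      have hcover : ∀ k : K, ∃ a : L, (a : G)⁻¹ * k ∈ N := fun k => by
        refine ⟨⟨_, ⟨e.symm ((e k).1, 1), (hLmem _).2 (by simp), rfl⟩⟩, ?_⟩
        show ((e.symm ((e k).1, 1))⁻¹ * k : K).1 ∈ N
        exact hBN _ (by simp)
      by_cases hg : g ∈ K
      · obtain ⟨a, ha⟩ := hcover ⟨g, hg⟩
        exact ⟨a, QuotientGroup.eq.2 ha⟩
      · obtain ⟨a, ha⟩ := hcover ⟨g * y⁻¹, (Subgroup.mul_mem_iff_of_index_two hK2).2 (by simp [hg, hyK])⟩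
        refine ⟨a, QuotientGroup.eq.2 ?_⟩
        show (a : G)⁻¹ * g ∈ N
        rw [show (a : G)⁻¹ * g = (a : G)⁻¹ * (g * y⁻¹) * y by group]
        exact N.mul_mem ha hyN
  exact ⟨(MulEquiv.ofBijective q hq).symm.trans (eL.trans (MulEquiv.ofBijective
      (QuotientGroup.mk' (Subgroup.center (Matrix.SpecialLinearGroup (Fin 2) F)))
      ⟨(MonoidHom.ker_eq_bot_iff _).1 (by
        rw [QuotientGroup.ker_mk']; exact Subgroup.card_eq_one.1 (Small.SL2C.center_card_even h20)),
        QuotientGroup.mk'_surjective _⟩))⟩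

end Cfsg.Agent.GW.Dep
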