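import Cfsg.Agent.Lib.GW.DepAlmostDihedral
import Cfsg.Agent.Lib.GW.DepDGroup
import Cfsg.Agent.Lib.GW.DepQuaternion
import Cfsg.Agent.S0016
import Cfsg.Agent.S0112
import Cfsg.Agent.S0113
import Cfsg.Agent.S0111
import Cfsg.Agent.Lib.Fusion.Product.Local

/-!
# Self-centralising D-groups: a single central involution, and the main theorem
-/

set_option autoImplicit false
set_option linter.style.haveILetI false
set_option linter.unusedSectionVars false

namespace Cfsg.Agent.GW.Dep

universe u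

open Cfsg Cfsg.Agent Cfsg.Agent.GW Cfsg.Agent.GW.Reduced Cfsg.Agent.GW.RankOne

variable {X : Type u} [Group X] [Finite X]

/-- A cyclic group has at most one involution. -/
theorem cyclic_invol {C : Subgroup X} (hC : IsCyclic C) {a b : X} (ha : a ∈ C) (hb : b ∈ C)
    (ha2 : a * a = 1) (hb2 : b * b = 1) (ha1 : a ≠ 1) (hb1 : b ≠ 1) : a = b := by
  classical
  haveI := Fintype.ofFinite C
  by_contra hne
  have h := IsCyclic.card_pow_eq_one_le (α := C) (n := 2) two_pos
  have h3 : ({1, ⟨a, ha⟩, ⟨b, hb⟩} : Finset C) ⊆ (Finset.univ.filter fun c : C => c ^ 2 = 1) := by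
    intro c hc
    simp only [Finset.mem_insert, Finset.mem_singleton] at hc
    simp only [Finset.mem_filter, Finset.mem_univ, true_and, pow_two]
    rcases hc with rfl | rfl | rfl
    · exact one_mul 1
    · exact Subtype.ext ha2
    · exact Subtype.ext hb2
  have h4 := (Finset.card_le_card h3).trans h
  rw [Finset.card_insert_of_notMem, Finset.card_pair] at h4
  · omega
  · simp [hne]
  · simp only [Finset.mem_insert, Finset.mem_singleton, not_or]
    exact ⟨fun h => ha1 (congrArg Subtype.val h).symm, fun h => hb1 (congrArg Subtype.val h).symm⟩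

theorem no_normal_complement (hO : Cfsg.oddCore X = ⊥) (hns : ¬ Group.IsSolvable X) :
    ¬ Cfsg.HasNormalPComplement 2 X := by
  rintro ⟨P, N, hN, hc⟩
  haveI := hN
  have hodd : Odd (Nat.card N) := by
    have h1 := Subgroup.IsComplement'.card_mul_card hc
    rw [← (P : Subgroup X).card_mul_index, mul_comm] at h1
    rw [Nat.eq_of_mul_eq_mul_left Nat.card_pos h1]
    exact Nat.odd_iff.2 (Nat.two_dvd_ne_zero.1 P.not_dvd_index)
  have h1 := Subgroup.IsComplement'.card_mul_card hc
  rw [eq_bot_of_odd hO N hodd, Subgroup.card_bot] at h1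
  refine hns ?_
  haveI : Fact (Nat.Prime 2) := ⟨Nat.prime_two⟩
  obtain ⟨k, hk⟩ := IsPGroup.iff_card.1 P.isPGroup'
  haveI : Group.IsNilpotent X := (IsPGroup.of_card (p := 2) (n := k) (by rw [← h1, hk]; simp)).isNilpotent
  infer_instance

/-- The reduced group with a single central involution in its D-group. -/
theorem reduced_single (gw : PerfectClass.{u}) (hO : Cfsg.oddCore X = ⊥) (hns : ¬ Group.IsSolvable X)
    (t : X) (ht : orderOf t = 2) (H A : Subgroup X) (hH : Subgroup.centralizer ({t} : Set X) = H)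
    (hle : A ≤ H) (htA : t ∈ A) (hab : ∀ a ∈ A, ∀ b ∈ A, a * b = b * a)
    (hinv : ∀ x ∈ H, x ∉ A → ∀ a ∈ A, x * a * x⁻¹ = a⁻¹) (hD : ∀ x ∈ H, x ∉ A → x * x = 1)
    (hidx : ∀ x ∈ H, x ∉ A → ∀ y ∈ H, y ∉ A → x * y ∈ A) (x : X) (hxH : x ∈ H) (hxA : x ∉ A)
    (huniq : ∀ a ∈ A, a * a = 1 → a = 1 ∨ a = t) :
    ∃ (F : Type) (_ : Field F) (_ : Fintype F), 3 < Fintype.card F ∧
      (Nonempty (X ≃* Matrix.ProjectiveSpecialLinearGroup (Fin 2) F) ∨
        Nonempty (X ≃* Matrix.ProjGenLinGroup (Fin 2) F)) := by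
  classical
  haveI : Fact (Nat.Prime 2) := ⟨Nat.prime_two⟩
  haveI := Fintype.ofFinite X
  have htt : t * t = 1 := by rw [← pow_two, ← ht, pow_orderOf_eq_one]
  have ht1 : t ≠ 1 := fun h => by rw [h, orderOf_one] at ht; exact absurd ht (by norm_num)
  have htH : t ∈ H := hle htA
  have hcomH : ∀ h ∈ H, h * t = t * h := fun h hh => Subgroup.mem_centralizer_singleton_iff.1 (hH ▸ hh)
  have hx2 := hD x hxH hxA
  -- the generation and commutation conditions
  have hfinish : ∀ (S : Sylow 2 X) (n : ℕ), 2 ≤ n → Nonempty ((S : Subgroup X) ≃* DihedralGroup n) →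
      ∃ (F : Type) (_ : Field F) (_ : Fintype F), 3 < Fintype.card F ∧
        (Nonempty (X ≃* Matrix.ProjectiveSpecialLinearGroup (Fin 2) F) ∨
          Nonempty (X ≃* Matrix.ProjGenLinGroup (Fin 2) F)) := by
    rintro S n hn ⟨e⟩
    obtain ⟨F, iF, iFt, -, h3, L, -, -, h⟩ := almost_dihedral gw hO S hn e hns t ht
      (by
        rw [hH]
        intro h hh
        have key : ∀ y ∈ H, y ∉ A → y ∈ Subgroup.closure {u | u * u = 1 ∧ u ∈ H} := fun y hy hyA =>
          Subgroup.subset_closure ⟨hD y hy hyA, hy⟩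
        by_cases hA : h ∈ A
        · rw [show h = x⁻¹ * (x * h) by group]
          refine mul_mem (inv_mem (key x hxH hxA)) (key _ (H.mul_mem hxH hh) fun h1 => hxA ?_)
          have := A.mul_mem h1 (A.inv_mem hA)
          rwa [mul_inv_cancel_right] at this
        · exact key h hh hA)
      (by
        rw [hH]
        intro a ha b hb ha2 hb2
        exact hab a (by_contra fun h => ha2 (hD a ha h)) b (by_contra fun h => hb2 (hD b hb h)))
    refine ⟨F, iF, iFt, h3, ?_⟩
    rcases h with ⟨-, hX⟩ | ⟨ι, -⟩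
    · exact Or.inl hX
    · obtain ⟨q⟩ := conjP_range (F := F)
      exact Or.inr ⟨ι.trans q⟩
  -- a Sylow subgroup of `H` containing `x` and `t`, inside one of `X`
  obtain ⟨PH, hPH⟩ := ((StrongProd.isPGroup_pair htt hx2 (hcomH x hxH).symm).comap_of_injective H.subtype
    H.subtype_injective).exists_le_sylow
  obtain ⟨T, hT⟩ := (PH.isPGroup'.map H.subtype).exists_le_sylow
  have htT : t ∈ (T : Subgroup X) :=
    hT ⟨⟨t, htH⟩, hPH (Subgroup.subset_closure (show t ∈ ({t, x} : Set X) from Or.inl rfl)), rfl⟩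
  have hxT : x ∈ (T : Subgroup X) :=
    hT ⟨⟨x, hxH⟩, hPH (Subgroup.subset_closure (show x ∈ ({t, x} : Set X) from Or.inr rfl)), rfl⟩
  set S : Subgroup X := (T : Subgroup X) ⊓ H with hS
  have hSmax : ∀ Q : Subgroup X, IsPGroup 2 Q → Q ≤ H → Nat.card Q ≤ Nat.card S := by
    intro Q hQ hQH
    obtain ⟨P', hP'⟩ := (hQ.comap_of_injective H.subtype H.subtype_injective).exists_le_sylow
    rw [← Nat.card_congr (Subgroup.subgroupOfEquivOfLe hQH).toEquiv]
    refine (Subgroup.card_le_of_le hP').trans ?_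
    rw [Sylow.card_eq_multiplicity, ← Sylow.card_eq_multiplicity PH,
      ← Subgroup.card_map_of_injective H.subtype_injective]
    exact Subgroup.card_le_of_le (le_inf hT (Subgroup.map_subtype_le _))
  -- the part in `A`
  set C₀ : Subgroup X := (T : Subgroup X) ⊓ A with hC₀
  have hC₀c : IsCyclic C₀ := by
    have hp : IsPGroup 2 C₀ := T.isPGroup'.to_le inf_le_left
    rcases Solv.cyclic_or_quaternion hp (fun a b ha hb hb1 => by
      have h1 : ∀ c : C₀, c ^ 2 = 1 → c = 1 ∨ (c : X) = t := fun c hc => by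
        rcases huniq c c.2.2 (by rw [← pow_two]; exact congrArg Subtype.val hc) with h | h
        · exact Or.inl (Subtype.ext h)
        · exact Or.inr h
      rcases h1 b hb with h | h
      · exact absurd h hb1
      rcases h1 a ha with h' | h'
      · rw [h']; exact one_mem _
      · rw [show a = b from Subtype.ext (h'.trans h.symm)]; exact Subgroup.mem_zpowers b) with h | ⟨-, m, ⟨e⟩⟩
    · exact h
    · by_contra hn
      have hc : ∀ p q : QuaternionGroup (2 ^ m), p * q = q * p := fun p q => by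
        obtain ⟨p, rfl⟩ := e.surjective p
        obtain ⟨q, rfl⟩ := e.surjective q
        rw [← map_mul, ← map_mul]
        exact congrArg e (Subtype.ext (hab _ p.2.2 _ q.2.2))
      have h1 := hc (QuaternionGroup.a 1) (QuaternionGroup.xa 0)
      rw [QuaternionGroup.a_mul_xa, QuaternionGroup.xa_mul_a, zero_sub, zero_add] at h1
      have h2 : ((2 : ℕ) : ZMod (2 * 2 ^ m)) = 0 := by
        have h3 := QuaternionGroup.xa.inj h1
        rw [neg_eq_iff_add_eq_zero] at h3
        simpa [one_add_one_eq_two] using h3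
      rw [ZMod.natCast_eq_zero_iff] at h2
      rcases m with _ | m
      · exact hn (isCyclic_of_orderOf_eq_card (e.symm (QuaternionGroup.xa 0)) (by
          rw [MulEquiv.orderOf_eq, Nat.card_congr e.toEquiv, Nat.card_eq_fintype_card, QuaternionGroup.card]
          exact QuaternionGroup.orderOf_xa (n := 2 ^ 0) 0))
      · have := Nat.le_of_dvd two_pos h2
        have := Nat.two_pow_pos (m + 1)
        have : 2 ≤ 2 ^ (m + 1) := Nat.le_self_pow (by omega) 2
        omega
  by_cases hcent : ∀ s ∈ (T : Subgroup X), s * t = t * s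
  · -- the Sylow subgroup is in `H`
    have hTH : (T : Subgroup X) ≤ H := fun s hs => hH ▸ Subgroup.mem_centralizer_singleton_iff.2 (hcent s hs)
    haveI : IsCyclic (C₀.subgroupOf (T : Subgroup X)) :=
      isCyclic_of_surjective (Subgroup.subgroupOfEquivOfLe (inf_le_left : C₀ ≤ (T : Subgroup X))).symm.toMonoidHom
        (MulEquiv.surjective _)
    have hidx2 : (C₀.subgroupOf (T : Subgroup X)).index = 2 := by
      rw [Subgroup.index_eq_two_iff]
      refine ⟨⟨x, hxT⟩, fun b => ?_⟩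
      by_cases hb : (b : X) ∈ A
      · refine Or.inr ⟨⟨b.2, hb⟩, fun h => hxA ?_⟩
        have := A.mul_mem (A.inv_mem hb) h.2
        simpa using this
      · exact Or.inl ⟨⟨mul_mem b.2 hxT, hidx _ (hTH b.2) hb x hxH hxA⟩, fun h => hb h.2⟩
    obtain ⟨e⟩ := Classical.Dickson.dihedral_of (C := C₀.subgroupOf (T : Subgroup X)) inferInstance
      (t := ⟨x, hxT⟩) (fun h => hxA h.2) (Subtype.ext hx2)
      (fun c hc => Subtype.ext (hinv x hxH hxA _ hc.2))
      (by
        have h1 := (C₀.subgroupOf (T : Subgroup X)).card_mul_index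
        rw [hidx2] at h1
        omega)
    refine hfinish T _ ?_ ⟨e⟩
    haveI : Nontrivial (C₀.subgroupOf (T : Subgroup X)) :=
      ⟨⟨⟨⟨t, htT⟩, htT, htA⟩, 1, fun h => ht1 (congrArg (fun y : C₀.subgroupOf (T : Subgroup X) => ((y : (T : Subgroup X)) : X)) h)⟩⟩
    exact Finite.one_lt_card
  push Not at hcent
  obtain ⟨s₀, hs₀T, hs₀⟩ := hcent
  -- the centraliser in the Sylow subgroup is a four group
  haveI : Nontrivial (T : Subgroup X) :=
    ⟨⟨⟨t, htT⟩, 1, fun h => ht1 (congrArg Subtype.val h)⟩⟩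
  haveI := T.isPGroup'.center_nontrivial
  obtain ⟨k, hk⟩ := IsPGroup.iff_card.1 (T.isPGroup'.to_subgroup (Subgroup.center (T : Subgroup X)))
  obtain ⟨w, hw⟩ := exists_prime_orderOf_dvd_card' (G := Subgroup.center (T : Subgroup X)) 2 (by
    rcases k with _ | k
    · exact absurd hk (Finite.one_lt_card (α := Subgroup.center (T : Subgroup X))).ne'
    · rw [hk]; exact dvd_pow_self 2 k.succ_ne_zero)
  have hwo : orderOf ((w : (T : Subgroup X)) : X) = 2 := by rw [Subgroup.orderOf_coe, Subgroup.orderOf_coe, hw]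
  have hwc : ∀ s ∈ (T : Subgroup X), s * ((w : (T : Subgroup X)) : X) = (w : (T : Subgroup X)) * s := fun s hs =>
    congrArg Subtype.val (Subgroup.mem_center_iff.1 w.2 ⟨s, hs⟩)
  have hwH : ((w : (T : Subgroup X)) : X) ∈ H := hH ▸ Subgroup.mem_centralizer_singleton_iff.2 (hwc t htT).symm
  have hwA : ((w : (T : Subgroup X)) : X) ∉ A := fun h => by
    rcases huniq _ h (by rw [← pow_two]; exact orderOf_dvd_iff_pow_eq_one.1 hwo.dvd) with h' | h'
    · rw [h', orderOf_one] at hwo; exact absurd hwo (by norm_num)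
    · exact hs₀ (h' ▸ hwc s₀ hs₀T)
  have hC₀t : ∀ a ∈ C₀, a = 1 ∨ a = t := fun a ha => huniq a ha.2 (by
    have h := hinv _ hwH hwA a ha.2
    rw [← hwc a ha.1, mul_inv_cancel_right] at h
    exact mul_eq_one_iff_eq_inv.2 h)
  have hSmem : ∀ s ∈ S, s = 1 ∨ s = t ∨ s = x ∨ s = t * x := fun s hs => by
    by_cases hsA : s ∈ A
    · rcases hC₀t s ⟨hs.1, hsA⟩ with h | h
      · exact Or.inl h
      · exact Or.inr (Or.inl h)
    · rcases hC₀t (s * x) ⟨mul_mem hs.1 hxT, hidx s hs.2 hsA x hxH hxA⟩ with h | h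
      · exact Or.inr (Or.inr (Or.inl (by rw [mul_eq_one_iff_eq_inv.1 h, inv_eq_of_mul_eq_one_left hx2])))
      · exact Or.inr (Or.inr (Or.inr (by rw [← h, mul_assoc, hx2, mul_one])))
  have hS2 : ∀ s ∈ S, s * s = 1 := fun s hs => by
    rcases hSmem s hs with rfl | rfl | rfl | rfl
    · exact one_mul 1
    · exact htt
    · exact hx2
    · exact hD _ (H.mul_mem htH hxH) fun h => hxA (by
        have := A.mul_mem htA h
        rwa [← mul_assoc, htt, one_mul] at this)
  have hxt : x ≠ t := fun h => hxA (h ▸ htA)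
  have htx1 : t * x ≠ 1 := fun h => hxt (by rw [← mul_eq_one_iff_inv_eq.1 h, inv_eq_of_mul_eq_one_left htt])
  have hx1 : x ≠ 1 := fun h => hxA (h ▸ A.one_mem)
  have hS4 : Nat.card S = 4 := by
    have h1 : (S : Set X).toFinset = {1, t, x, t * x} := by
      ext s
      simp only [Set.mem_toFinset, Finset.mem_insert, Finset.mem_singleton, SetLike.mem_coe]
      refine ⟨hSmem s, ?_⟩
      rintro (rfl | rfl | rfl | rfl)
      · exact S.one_mem
      · exact ⟨htT, htH⟩
      · exact ⟨hxT, hxH⟩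
      · exact S.mul_mem ⟨htT, htH⟩ ⟨hxT, hxH⟩
    rw [← SetLike.coe_sort_coe, Nat.card_eq_fintype_card, ← Set.toFinset_card, h1]
    rw [Finset.card_insert_of_notMem (by simp [ht1.symm, hx1.symm, htx1.symm]),
      Finset.card_insert_of_notMem (by simp [hxt.symm, hx1]), Finset.card_pair (by simp [ht1])]
  obtain ⟨nT, hnT⟩ := IsPGroup.iff_card.1 T.isPGroup'
  have hlt : S < (T : Subgroup X) := lt_of_le_of_ne inf_le_left fun h => hs₀ (hcomH s₀ (h.symm ▸ hs₀T : s₀ ∈ S).2)
  have hn3 : 3 ≤ nT := by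
    by_contra hcon
    have h1 : Nat.card S < Nat.card (T : Subgroup X) :=
      lt_of_le_of_ne (Subgroup.card_le_of_le hlt.le) fun h => hlt.ne (Subgroup.eq_of_le_of_card_ge hlt.le h.ge)
    rw [hS4, hnT] at h1
    interval_cases nT <;> norm_num at h1
  obtain ⟨C, hCc, hCi⟩ := S0113.result nT hn3 hnT (S0112.result (X := (T : Subgroup X)) nT hnT (S.subgroupOf _)
    (by rw [Nat.card_congr (Subgroup.subgroupOfEquivOfLe inf_le_left).toEquiv, hS4]; norm_num) (by
      refine le_antisymm (fun s hs => ⟨s.2, ?mem⟩) fun s hs => Subgroup.mem_centralizer_iff.2 fun a ha => ?com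
      case mem =>
        show (s : X) ∈ H
        rw [← hH, Subgroup.mem_centralizer_singleton_iff]
        exact (congrArg Subtype.val (Subgroup.mem_centralizer_iff.1 hs ⟨t, htT⟩ ⟨htT, htH⟩)).symm
      case com =>
        refine Subtype.ext ?_
        have h1 : (a : X) * s * (a * s) = 1 := hS2 _ (S.mul_mem ha hs)
        show (a : X) * s = s * a
        rw [← inv_eq_of_mul_eq_one_left h1, mul_inv_rev, inv_eq_of_mul_eq_one_left (show (a : X) * a = 1 from hS2 _ ha),
          inv_eq_of_mul_eq_one_left (show (s : X) * s = 1 from hS2 _ hs)]))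
  haveI := hCc
  haveI : C.Normal := Subgroup.normal_of_index_eq_two hCi
  set t₀ : (T : Subgroup X) := ⟨t, htT⟩ with ht₀
  have ht₀2 : t₀ * t₀ = 1 := Subtype.ext htt
  have hcinvol : ∀ a b : (T : Subgroup X), a ∈ C → b ∈ C → a * a = 1 → b * b = 1 → a ≠ 1 → b ≠ 1 → a = b :=
    fun a b ha hb ha2 hb2 ha1 hb1 => cyclic_invol hCc ha hb ha2 hb2 ha1 hb1
  have htC : t₀ ∉ C := fun h => hs₀ (by
    have h1 := hcinvol (⟨s₀, hs₀T⟩ * t₀ * ⟨s₀, hs₀T⟩⁻¹) t₀ ((inferInstance : C.Normal).conj_mem _ h _) h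
      (by rw [show ∀ a b : (T : Subgroup X), a * b * a⁻¹ * (a * b * a⁻¹) = a * (b * b) * a⁻¹ from fun a b => by group,
        ht₀2, mul_one, mul_inv_cancel])
      ht₀2 (fun h' => ht1 (congrArg Subtype.val (conj_eq_one_iff.1 h' : t₀ = 1)))
      (fun h' => ht1 (congrArg Subtype.val h'))
    exact congrArg Subtype.val (mul_inv_eq_iff_eq_mul.1 h1))
  obtain ⟨c, hc⟩ := IsCyclic.exists_generator (α := C)
  set e : (T : Subgroup X) := t₀ * (c : (T : Subgroup X)) * t₀⁻¹ * c with he
  have heC : e ∈ C := C.mul_mem ((inferInstance : C.Normal).conj_mem _ c.2 _) c.2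
  have hcC : ∀ a b : (T : Subgroup X), a ∈ C → b ∈ C → a * b = b * a := fun a b ha hb => by
    have := (IsCyclic.commGroup (α := C)).mul_comm ⟨a, ha⟩ ⟨b, hb⟩
    exact congrArg Subtype.val this
  have het : t₀ * e * t₀⁻¹ = e := by
    have h1 := hcC _ _ ((inferInstance : C.Normal).conj_mem _ c.2 t₀) c.2
    have h2 : t₀⁻¹ = t₀ := inv_eq_of_mul_eq_one_left ht₀2
    calc t₀ * e * t₀⁻¹ = (t₀ * t₀) * c * (t₀⁻¹ * t₀⁻¹) * (t₀ * c * t₀⁻¹) := by rw [he]; group
      _ = c * (t₀ * c * t₀⁻¹) := by rw [h2, ht₀2, one_mul, mul_one]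
      _ = e := by rw [← h1]
  have heS : (e : X) ∈ S := ⟨e.2, hH ▸ Subgroup.mem_centralizer_singleton_iff.2
    (congrArg Subtype.val (mul_inv_eq_iff_eq_mul.1 het)).symm⟩
  have he2 : e * e = 1 := Subtype.ext (hS2 _ heS)
  have hC2 : 2 * Nat.card C = Nat.card (T : Subgroup X) := by rw [← C.card_mul_index, hCi, mul_comm]
  have hC4 : 4 ≤ Nat.card C := by
    have : 8 ≤ Nat.card (T : Subgroup X) := by
      rw [hnT]; exact (pow_le_pow_right₀ one_le_two hn3 : 2 ^ 3 ≤ _)
    omega
  by_cases he1 : e = 1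
  · obtain ⟨eT⟩ := Classical.Dickson.dihedral_of (C := C) hCc htC ht₀2 (fun a ha => by
      obtain ⟨i, hi⟩ := Subgroup.mem_zpowers_iff.1 (hc ⟨a, ha⟩)
      have h1 : t₀ * (c : (T : Subgroup X)) * t₀⁻¹ = (c : (T : Subgroup X))⁻¹ := eq_inv_of_mul_eq_one_left he1
      have h2 : a = (c : (T : Subgroup X)) ^ i := by rw [← Subgroup.coe_zpow, hi]
      rw [h2, ← conj_zpow, h1, inv_zpow]) hC2.symm
    exact hfinish T _ (by omega) ⟨eT⟩
  -- the semidihedral case
  exfalso
  have hecent : ∀ s ∈ (T : Subgroup X), s * (e : X) = e * s := fun s hs => by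
    have h1 := hcinvol (⟨s, hs⟩ * e * ⟨s, hs⟩⁻¹) e ((inferInstance : C.Normal).conj_mem _ heC _) heC
      (by rw [show ∀ a b : (T : Subgroup X), a * b * a⁻¹ * (a * b * a⁻¹) = a * (b * b) * a⁻¹ from fun a b => by group,
        he2, mul_one, mul_inv_cancel]) he2 (fun h' => he1 (conj_eq_one_iff.1 h')) he1
    exact congrArg Subtype.val (mul_inv_eq_iff_eq_mul.1 h1)
  obtain ⟨K, hKn, hKi, htK⟩ : ∃ K : Subgroup X, K.Normal ∧ K.index = 2 ∧ t ∉ K := by
    rcases S0111.result T (C.map (T : Subgroup X).subtype) (Subgroup.map_subtype_le C)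
      (by rw [Subgroup.relIndex, Subgroup.subgroupOf, Subgroup.comap_map_eq_self_of_injective (Subtype.val_injective), hCi])
      t ht htT (by rintro ⟨a, ha, hat⟩; exact htC (by rwa [show a = t₀ from Subtype.ext hat] at ha)) with h | ⟨g, a, ha, hga⟩
    · exact h
    exfalso
    have ha2 : a * a = 1 := Subtype.ext (by
      show (a : X) * a = 1
      rw [show (a : X) = g * t * g⁻¹ from hga, show g * t * g⁻¹ * (g * t * g⁻¹) = g * (t * t) * g⁻¹ by group, htt,
        mul_one, mul_inv_cancel])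
    have hae := hcinvol a e ha heC ha2 he2 (fun h => ht1 (by
      have h1 : g * t * g⁻¹ = 1 := by rw [← hga, h]; rfl
      exact conj_eq_one_iff.1 h1)) he1
    have hle' : (T : Subgroup X).map (MulAut.conj g⁻¹).toMonoidHom ≤ H := by
      rintro _ ⟨s, hs, rfl⟩
      rw [← hH, Subgroup.mem_centralizer_singleton_iff]
      show g⁻¹ * s * g⁻¹⁻¹ * t = t * (g⁻¹ * s * g⁻¹⁻¹)
      have h1 : s * (g * t * g⁻¹) = g * t * g⁻¹ * s := by
        rw [← hga, hae]; exact hecent s hs
      calc g⁻¹ * s * g⁻¹⁻¹ * t = g⁻¹ * (s * (g * t * g⁻¹)) * g := by group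
        _ = g⁻¹ * (g * t * g⁻¹ * s) * g := by rw [h1]
        _ = t * (g⁻¹ * s * g⁻¹⁻¹) := by group
    have h2 := hSmax _ (T.isPGroup'.map _) hle'
    rw [Subgroup.card_map_of_injective (MulAut.conj g⁻¹).injective, hS4] at h2
    omega
  haveI := hKn
  have hKmul : ∀ {a b : X}, a * b ∈ K ↔ (a ∈ K ↔ b ∈ K) := Subgroup.mul_mem_iff_of_index_two hKi
  have heK : (e : X) ∈ K := by
    show t * (c : (T : Subgroup X)) * t⁻¹ * ((c : (T : Subgroup X)) : X) ∈ K
    rw [hKmul]
    exact ⟨fun h => by simpa [mul_assoc] using hKn.conj_mem _ h t⁻¹, fun h => hKn.conj_mem _ h t⟩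
  have he1' : (e : X) ≠ 1 := fun h => he1 (Subtype.ext h)
  -- one involution in the part of `T` inside `K`
  have hone : ∀ g ∈ (T : Subgroup X), g ∈ K → g * g = 1 → g = 1 ∨ g = e := by
    intro g hg hgK hg2
    by_cases hgC : (⟨g, hg⟩ : (T : Subgroup X)) ∈ C
    · refine or_iff_not_imp_left.2 fun hg1 => ?_
      exact congrArg Subtype.val (hcinvol ⟨g, hg⟩ e hgC heC (Subtype.ext hg2) he2
        (fun h => hg1 (congrArg Subtype.val h)) he1)
    exfalso
    set g₀ : (T : Subgroup X) := ⟨g, hg⟩ with hg₀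
    have hd : g₀ * t₀ ∈ C := (Subgroup.mul_mem_iff_of_index_two hCi).2 (by simp [hgC, htC])
    obtain ⟨i, hi⟩ := Subgroup.mem_zpowers_iff.1 (hc ⟨_, hd⟩)
    have hi' : (c : (T : Subgroup X)) ^ i = g₀ * t₀ := by rw [← Subgroup.coe_zpow, hi]
    have hiodd : Odd i := by
      by_contra hev
      rw [Int.not_odd_iff_even] at hev
      obtain ⟨j, rfl⟩ := hev
      have h1 : g * t ∈ K := by
        have h2 := congrArg Subtype.val hi'
        rw [Subgroup.coe_zpow, zpow_add] at h2
        rw [← show _ = g * t from h2]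
        exact hKmul.2 Iff.rfl
      exact htK ((hKmul.1 h1).1 hgK)
    have ht0i : t₀⁻¹ = t₀ := inv_eq_of_mul_eq_one_left ht₀2
    have hinvd : t₀ * (g₀ * t₀) * t₀⁻¹ = (g₀ * t₀)⁻¹ := by
      have hg0i : g₀⁻¹ = g₀ := inv_eq_of_mul_eq_one_left (Subtype.ext hg2)
      rw [mul_inv_rev, hg0i, ht0i, mul_assoc, mul_assoc, ht₀2, mul_one]
    rw [← hi', ← conj_zpow, ← inv_zpow] at hinvd
    have hei : e ^ i = 1 := by
      rw [he, Commute.mul_zpow (hcC _ _ ((inferInstance : C.Normal).conj_mem _ c.2 _) c.2), hinvd, inv_zpow,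
        inv_mul_cancel]
    obtain ⟨j, rfl⟩ := hiodd
    rw [zpow_add_one, zpow_mul, zpow_two, he2, one_zpow, one_mul] at hei
    exact he1 hei
  -- the normal subgroup has quaternion Sylow subgroups
  have hKO : Cfsg.oddCore K = ⊥ := by
    haveI : (Cfsg.oddCore K).Characteristic := Fusion.pPrimeCore_characteristic
    have := eq_bot_of_odd hO ((Cfsg.oddCore K).map K.subtype)
      (by rw [Subgroup.card_map_of_injective K.subtype_injective]; exact StrongProd.oddCore_odd K)
    exact (Subgroup.map_eq_bot_iff_of_injective _ K.subtype_injective).1 this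
  have hKns : ¬ Group.IsSolvable K := fun h => hns (by
    haveI := h
    haveI : IsCyclic (X ⧸ K) := isCyclic_of_prime_card (p := 2) (hKi ▸ K.index_eq_card.symm)
    letI : CommGroup (X ⧸ K) := IsCyclic.commGroup
    exact Group.isSolvable_of_ker_le_range K.subtype (QuotientGroup.mk' K) (by
      rw [QuotientGroup.ker_mk', Subgroup.range_subtype]))
  obtain ⟨P⟩ : Nonempty (Sylow 2 K) := inferInstance
  obtain ⟨T₁, hT₁⟩ := (P.isPGroup'.map K.subtype).exists_le_sylow
  obtain ⟨g, hg⟩ := MulAction.exists_smul_eq X T₁ T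
  have hPT : ∀ a : (P : Subgroup K), g * ((a : K) : X) * g⁻¹ ∈ (T : Subgroup X) ∧ g * ((a : K) : X) * g⁻¹ ∈ K :=
    fun a => ⟨by
      rw [← hg, Sylow.coe_subgroup_smul]
      exact ⟨_, hT₁ ⟨a, a.2, rfl⟩, rfl⟩, hKn.conj_mem _ (a : K).2 g⟩
  have hPu : Solv.UniqueOrderP 2 (P : Subgroup K) := fun a b ha hb hb1 => by
    have key : ∀ c : (P : Subgroup K), c ^ 2 = 1 → c ≠ 1 → g * ((c : K) : X) * g⁻¹ = e := fun c hc hc1 => by
      refine (hone _ (hPT c).1 (hPT c).2 ?_).resolve_left fun h => hc1 (Subtype.ext (Subtype.ext (conj_eq_one_iff.1 h)))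
      have : ((c : K) : X) * ((c : K) : X) = 1 := by
        rw [← pow_two]; exact congrArg (fun y : (P : Subgroup K) => ((y : K) : X)) hc
      rw [show ∀ a b : X, a * b * a⁻¹ * (a * b * a⁻¹) = a * (b * b) * a⁻¹ from fun a b => by group, this, mul_one,
        mul_inv_cancel]
    by_cases ha1 : a = 1
    · rw [ha1]; exact one_mem _
    · rw [show a = b from Subtype.ext (Subtype.ext (mul_left_cancel (mul_right_cancel
        ((key a ha ha1).trans (key b hb hb1).symm))))]
      exact Subgroup.mem_zpowers b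
  have hPnc : ¬ IsCyclic (P : Subgroup K) := fun h =>
    no_normal_complement hKO hKns (Fusion.DihedralFours.hnpc_two_cyclic P h)
  obtain ⟨-, m, ⟨eP⟩⟩ := (Solv.cyclic_or_quaternion P.isPGroup' hPu).resolve_left hPnc
  obtain ⟨m, rfl⟩ : ∃ m', m = m' + 1 := by
    rcases m with _ | m
    · exfalso
      refine hPnc (isCyclic_of_orderOf_eq_card (eP.symm (QuaternionGroup.xa 0)) ?_)
      rw [MulEquiv.orderOf_eq, Nat.card_congr eP.toEquiv, Nat.card_eq_fintype_card, QuaternionGroup.card]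
      exact QuaternionGroup.orderOf_xa (n := 2 ^ 0) 0
    · exact ⟨m, rfl⟩
  obtain ⟨hZ2, hZinv⟩ := involution_mem_center hKO P m eP
  have hecK : (⟨e, heK⟩ : K) ∈ Subgroup.center K := hZinv _ (orderOf_eq_prime
    (Subtype.ext (by rw [Subgroup.coe_pow, pow_two]; exact hS2 _ heS)) fun h => he1' (congrArg Subtype.val h))
  set Z : Subgroup X := (Subgroup.center K).map K.subtype with hZdef
  have hZmem : ∀ z ∈ Z, z = 1 ∨ z = e := by
    rintro _ ⟨z, hz, rfl⟩
    have hc2 : IsCyclic (Subgroup.center K) := isCyclic_of_prime_card (p := 2) hZ2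
    by_cases hz1 : z = 1
    · left; rw [hz1]; rfl
    right
    have hzz : z * z = 1 := by
      have := pow_card_eq_one' (x := (⟨z, hz⟩ : Subgroup.center K))
      rw [hZ2, pow_two] at this
      exact congrArg Subtype.val this
    exact congrArg Subtype.val (cyclic_invol hc2 hz hecK hzz (Subtype.ext (hS2 _ heS)) hz1
      fun h => he1' (congrArg Subtype.val h))
  have heZ : (e : X) ∈ Z := ⟨_, hecK, rfl⟩
  haveI hZn : Z.Normal := by rw [hZdef]; infer_instance
  have heX : ∀ g : X, g * (e : X) = e * g := fun g => by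
    rcases hZmem _ (hZn.conj_mem _ heZ g) with h | h
    · exact absurd (conj_eq_one_iff.1 h) he1'
    · exact mul_inv_eq_iff_eq_mul.1 h
  have hZc : Z ≤ Subgroup.center X := fun z hz => Subgroup.mem_center_iff.2 fun g => by
    rcases hZmem z hz with rfl | rfl
    · rw [mul_one, one_mul]
    · exact heX g
  have hZp : IsPGroup 2 Z := IsPGroup.of_card (n := 1)
    (by rw [hZdef, Subgroup.card_map_of_injective K.subtype_injective, hZ2, pow_one])
  have hZK : Z ≤ K := Subgroup.map_subtype_le _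
  have heH : (e : X) ∈ H := heS.2
  have heA : (e : X) ∉ A := fun h => by
    rcases huniq _ h (hS2 _ heS) with h' | h'
    · exact he1' h'
    · exact htK (h' ▸ heK)
  have hH4 : ∀ h ∈ H, h = 1 ∨ h = t ∨ h = e ∨ h = t * e := fun h hh => by
    have key : ∀ a ∈ A, a = 1 ∨ a = t := fun a ha => huniq a ha (by
      have h1 := hinv _ heH heA a ha
      rw [← heX a, mul_inv_cancel_right] at h1
      exact mul_eq_one_iff_eq_inv.2 h1)
    by_cases hA : h ∈ A
    · exact (key h hA).imp_right Or.inl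
    · rcases key _ (hidx h hh hA _ heH heA) with h' | h'
      · exact Or.inr (Or.inr (Or.inl (by
          rw [mul_eq_one_iff_eq_inv.1 h', inv_eq_of_mul_eq_one_left (hS2 _ heS)])))
      · exact Or.inr (Or.inr (Or.inr (by rw [← h', mul_assoc, hS2 _ heS, mul_one])))
  -- the quotient
  set π := QuotientGroup.mk' Z with hπ
  have hπs : Function.Surjective π := QuotientGroup.mk'_surjective Z
  have hπe : π e = 1 := (QuotientGroup.eq_one_iff _).2 heZ
  have hO' : Cfsg.oddCore (X ⧸ Z) = ⊥ := Local.SCA.oddCore_quotient_central hO Z hZc hZp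
  have hns' : ¬ Group.IsSolvable (X ⧸ Z) := fun h => hns (by
    haveI := h
    haveI : Group.IsNilpotent Z := hZp.isNilpotent
    exact Group.isSolvable_of_ker_le_range Z.subtype π (by rw [hπ, QuotientGroup.ker_mk', Subgroup.range_subtype]))
  have htZ : π t ≠ 1 := fun h => htK (hZK ((QuotientGroup.eq_one_iff t).1 h))
  have ht' : orderOf (π t) = 2 := orderOf_eq_prime (by rw [pow_two, ← map_mul, htt, map_one]) htZ
  -- the centraliser of the image
  have hgt : ∀ g : X, π g ∈ Subgroup.centralizer ({π t} : Set (X ⧸ Z)) → g * t * g⁻¹ = t ∨ g * t * g⁻¹ = t * e := by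
    intro g hg
    rw [Subgroup.mem_centralizer_singleton_iff] at hg
    have h1 : π (t⁻¹ * (g * t * g⁻¹)) = 1 := by
      rw [map_mul, map_inv, map_mul, map_mul, map_inv, hg, mul_inv_cancel_right, inv_mul_cancel]
    rcases hZmem _ ((QuotientGroup.eq_one_iff _).1 h1) with h | h
    · exact Or.inl (inv_mul_eq_one.1 h).symm
    · exact Or.inr (eq_mul_of_inv_mul_eq h)
  have himH : ∀ h ∈ H, π h = 1 ∨ π h = π t := fun h hh => by
    rcases hH4 h hh with rfl | rfl | rfl | rfl
    · exact Or.inl (map_one π)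
    · exact Or.inr rfl
    · exact Or.inl hπe
    · exact Or.inr (by rw [map_mul, hπe, mul_one])
  have hCsq : ∀ q ∈ Subgroup.centralizer ({π t} : Set (X ⧸ Z)), q * q = 1 := by
    intro q hq
    obtain ⟨g, rfl⟩ := hπs q
    rcases hgt g hq with h | h
    · rcases himH g (hH ▸ Subgroup.mem_centralizer_singleton_iff.2 (mul_inv_eq_iff_eq_mul.1 h)) with h' | h'
      · rw [h', one_mul]
      · rw [h', ← map_mul, htt, map_one]
    · have h2 : g * g * t * (g * g)⁻¹ = t := by
        calc g * g * t * (g * g)⁻¹ = g * (g * t * g⁻¹) * g⁻¹ := by group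
          _ = g * (t * e) * g⁻¹ := by rw [h]
          _ = g * t * g⁻¹ * (g * e * g⁻¹) := by group
          _ = t * e * e := by rw [h, heX g, mul_inv_cancel_right]
          _ = t := by rw [mul_assoc, hS2 _ heS, mul_one]
      have h3 : g * g ∈ K := hKmul.2 Iff.rfl
      rw [← map_mul]
      rcases hH4 _ (hH ▸ Subgroup.mem_centralizer_singleton_iff.2 (mul_inv_eq_iff_eq_mul.1 h2)) with h' | h' | h' | h'
      · rw [h', map_one]
      · exact absurd (h' ▸ h3) htK
      · rw [h', hπe]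
      · exact absurd ((hKmul.1 (h' ▸ h3)).2 heK) htK
  -- its Sylow subgroup
  let f : (T : Subgroup X) →* ((T : Subgroup X).map π) := π.subgroupMap _
  have hfs : Function.Surjective f := π.subgroupMap_surjective _
  have hfk : f.ker ≤ C := fun a ha => by
    rcases hZmem _ ((QuotientGroup.eq_one_iff (a : X)).1 (congrArg Subtype.val ha)) with h | h
    · rw [show a = 1 from Subtype.ext h]; exact C.one_mem
    · rw [show a = e from Subtype.ext h]; exact heC
  set C' := C.map f with hC'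
  haveI : IsCyclic C' := isCyclic_of_surjective (f.subgroupMap C) (f.subgroupMap_surjective C)
  have hC'i : C'.index = 2 := by rw [hC', Subgroup.index_map_eq C hfs hfk, hCi]
  obtain ⟨eY⟩ := Classical.Dickson.dihedral_of (C := C') inferInstance (t := f t₀)
    (fun ⟨a, ha, hat⟩ => htC (by
      have h1 : a⁻¹ * t₀ ∈ C := hfk (by rw [MonoidHom.mem_ker, map_mul, map_inv, hat, inv_mul_cancel])
      have h2 := C.mul_mem ha h1
      rwa [mul_inv_cancel_left] at h2))
    (by rw [← map_mul, ht₀2, map_one])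
    (by
      rintro _ ⟨a, ha, rfl⟩
      obtain ⟨i, hi⟩ := Subgroup.mem_zpowers_iff.1 (hc ⟨a, ha⟩)
      have h2 : a = (c : (T : Subgroup X)) ^ i := by rw [← Subgroup.coe_zpow, hi]
      have hfe : f e = 1 := Subtype.ext hπe
      have h1 : f t₀ * f c * (f t₀)⁻¹ = (f c)⁻¹ := eq_inv_of_mul_eq_one_left (by
        rw [← map_inv, ← map_mul, ← map_mul, ← map_mul]; exact hfe)
      rw [h2, map_zpow, ← conj_zpow, h1, inv_zpow])
    (by rw [← C'.card_mul_index, hC'i, mul_comm])
  have hC'2 : 2 ≤ Nat.card C' := by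
    have h1 : Nat.card C ≤ 2 * Nat.card C' := by
      have h2 := Subgroup.card_mul_index C'
      have h4 : Nat.card (T : Subgroup X) = Nat.card f.ker * Nat.card ((T : Subgroup X).map π) := by
        rw [← f.ker.card_mul_index, Subgroup.index_ker, MonoidHom.range_eq_top.2 hfs, Subgroup.card_top]
      have h5 : Nat.card f.ker ≤ 2 := by
        have hi : Function.Injective (fun a : f.ker => decide (((a : (T : Subgroup X)) : X) = 1)) := fun a b h => by
          have key : ∀ y : f.ker, ((y : (T : Subgroup X)) : X) = 1 ∨ ((y : (T : Subgroup X)) : X) = e := fun y =>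
            hZmem _ ((QuotientGroup.eq_one_iff _).1 (congrArg Subtype.val y.2))
          refine Subtype.ext (Subtype.ext ?_)
          rcases key a with ha | ha <;> rcases key b with hb | hb <;> first | exact ha.trans hb.symm | (simp [ha, hb, he1'] at h)
        simpa using Nat.card_le_card_of_injective _ hi
      rw [hC'i] at h2
      nlinarith [h2, h4, h5, hC2]
    omega
  let SY : Sylow 2 (X ⧸ Z) := T.mapSurjective hπs
  obtain ⟨F, iF, iFt, ho, h3, L, hLn, hLp, hcases⟩ := almost_dihedral gw hO' SY hC'2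
    ((MulEquiv.subgroupCongr (Sylow.coe_mapSurjective hπs T)).trans eY) hns' (π t) ht'
    (fun q hq => Subgroup.subset_closure ⟨hCsq q hq, hq⟩)
    (fun a ha b _ ha2 _ => absurd (hCsq a ha) ha2)
  -- `L` lies in the image of `K`
  have htL : π t ∉ L := fun h => by
    let θ : L →* (X ⧸ Z) ⧸ K.map π := (QuotientGroup.mk' (K.map π)).comp L.subtype
    have hKi' : (K.map π).index = 2 := by
      rw [Subgroup.index_map_eq K hπs (by rw [hπ, QuotientGroup.ker_mk']; exact hZK), hKi]
    haveI : IsCyclic ((X ⧸ Z) ⧸ K.map π) := isCyclic_of_prime_card (p := 2) (hKi' ▸ (K.map π).index_eq_card.symm)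
    letI : CommGroup ((X ⧸ Z) ⧸ K.map π) := IsCyclic.commGroup
    have hθ : θ ⟨π t, h⟩ = 1 := by
      have h1 := Abelianization.commutator_subset_ker θ
      rw [hLp.commutator_eq_top] at h1
      exact h1 (Subgroup.mem_top _)
    obtain ⟨k, hk, hkt⟩ := (QuotientGroup.eq_one_iff _).1 hθ
    have h2 : k⁻¹ * t ∈ K := hZK ((QuotientGroup.eq_one_iff _).1 (by
      show π (k⁻¹ * t) = 1
      rw [map_mul, map_inv, hkt]; exact inv_mul_cancel _))
    have h3 := K.mul_mem hk h2
    rw [mul_inv_cancel_left] at h3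
    exact htK h3
  rcases hcases with ⟨hL, -⟩ | ⟨ι, hι⟩
  · exact htL (hL ▸ Subgroup.mem_top _)
  obtain ⟨g, hg⟩ := (ι (π t)).2
  have h20 : (2 : F) ≠ 0 := Small.SL2C.not_two_dvd_iff.1 fun h => by
    obtain ⟨i, hi⟩ := ho
    omega
  have h5 := outer_centralizer_five h20 (by obtain ⟨i, hi⟩ := ho; omega) g
    (by rw [hg]; exact congrArg Subtype.val (show ι (π t) * ι (π t) = 1 by rw [← map_mul, ← map_mul, htt, map_one, map_one]))
    (fun z hz => htL (hι _ ⟨z, hg.symm.trans hz⟩))
  have h4 : Nat.card (Subgroup.centralizer ({π t} : Set (X ⧸ Z))) ≤ 4 := by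
    obtain ⟨g₀, hg₀⟩ : ∃ g₀ : X, ∀ g : X, π g ∈ Subgroup.centralizer ({π t} : Set (X ⧸ Z)) →
        π g = 1 ∨ π g = π t ∨ π g = π g₀ ∨ π g = π g₀ * π t := by
      by_cases hex : ∃ g₀ : X, g₀ * t * g₀⁻¹ = t * e
      · obtain ⟨g₀, h0⟩ := hex
        refine ⟨g₀, fun g hg => ?_⟩
        rcases hgt g hg with h | h
        · exact (himH g (hH ▸ Subgroup.mem_centralizer_singleton_iff.2 (mul_inv_eq_iff_eq_mul.1 h))).imp_right Or.inl
        · have h1 : g₀⁻¹ * g ∈ H := by
            rw [← hH, Subgroup.mem_centralizer_singleton_iff]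
            calc g₀⁻¹ * g * t = g₀⁻¹ * (g * t * g⁻¹) * g := by group
              _ = g₀⁻¹ * (g₀ * t * g₀⁻¹) * g := by rw [h, h0]
              _ = t * (g₀⁻¹ * g) := by group
          rcases himH _ h1 with h' | h' <;> rw [map_mul, map_inv, inv_mul_eq_iff_eq_mul] at h'
          · exact Or.inr (Or.inr (Or.inl (by rw [h', mul_one])))
          · exact Or.inr (Or.inr (Or.inr h'))
      · refine ⟨1, fun g hg => ?_⟩
        rcases hgt g hg with h | h
        · exact (himH g (hH ▸ Subgroup.mem_centralizer_singleton_iff.2 (mul_inv_eq_iff_eq_mul.1 h))).imp_right Or.inl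
        · exact absurd ⟨g, h⟩ hex
    have hsub : ∀ q : Subgroup.centralizer ({π t} : Set (X ⧸ Z)),
        (q : X ⧸ Z) ∈ ({1, π t, π g₀, π g₀ * π t} : Finset (X ⧸ Z)) := fun q => by
      obtain ⟨g, hgq⟩ := hπs q
      simp only [Finset.mem_insert, Finset.mem_singleton]
      rw [← hgq]
      exact hg₀ g (hgq.symm ▸ q.2)
    refine (Nat.card_le_card_of_injective (fun q : Subgroup.centralizer ({π t} : Set (X ⧸ Z)) => (⟨q, hsub q⟩ : ({1, π t, π g₀, π g₀ * π t} : Finset (X ⧸ Z))))
      fun a b h => Subtype.ext (congrArg Subtype.val h :)).trans ?_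
    rw [Nat.card_eq_fintype_card, Fintype.card_coe]
    exact Finset.card_le_four
  have h6 : 5 ≤ Nat.card (Subgroup.centralizer ({π t} : Set (X ⧸ Z))) := by
    refine h5.trans (Nat.card_le_card_of_injective (fun w => ⟨ι.symm w.1, ?_⟩) fun a b h => ?_)
    · refine Subgroup.mem_centralizer_singleton_iff.2 (ι.injective ?_)
      rw [map_mul, map_mul, MulEquiv.apply_symm_apply]
      refine Subtype.ext ?_
      rw [Subgroup.coe_mul, Subgroup.coe_mul, ← hg]
      exact w.2
    · exact Subtype.ext (ι.symm.injective (congrArg Subtype.val h :))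
  omega

variable {G : Type u} [Group G] [Finite G]

/-- Two involutions in one coset of an odd subgroup are conjugate by an element of it. -/
theorem conj_in_odd (N : Subgroup G) (hN : Odd (Nat.card N)) {t u : G} (ht : t * t = 1) (hu : u * u = 1)
    (htu : t * u ∈ N) : ∃ n ∈ N, n * t * n⁻¹ = u := by
  have hodd : Odd (orderOf (t * u)) := hN.of_dvd_nat (Subgroup.orderOf_dvd_natCard _ htu)
  obtain ⟨s, hs⟩ := hodd
  refine ⟨(t * u) ^ s, N.pow_mem htu s, ?_⟩
  have hconj : t * (t * u) * t⁻¹ = (t * u)⁻¹ := by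
    rw [mul_inv_rev, inv_eq_of_mul_eq_one_left ht, inv_eq_of_mul_eq_one_left hu, ← mul_assoc, ht, one_mul]
  have hd : t * ((t * u) ^ s)⁻¹ * t⁻¹ = (t * u) ^ s := by
    rw [← inv_pow, ← conj_pow, show t * (t * u)⁻¹ * t⁻¹ = (t * (t * u) * t⁻¹)⁻¹ by group, hconj, inv_inv]
  have hti : t⁻¹ = t := inv_eq_of_mul_eq_one_left ht
  have h1 : (t * u) ^ s * (t * u) ^ s * (t * u) = 1 := by
    rw [← pow_add, ← pow_succ, show s + s + 1 = orderOf (t * u) by omega, pow_orderOf_eq_one]
  calc (t * u) ^ s * t * ((t * u) ^ s)⁻¹ = (t * u) ^ s * (t * ((t * u) ^ s)⁻¹ * t⁻¹) * t := by group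
    _ = (t * u) ^ s * (t * u) ^ s * t := by rw [hd]
    _ = (t * u)⁻¹ * t := by rw [eq_inv_of_mul_eq_one_left h1]
    _ = u := by rw [mul_inv_rev, inv_eq_of_mul_eq_one_left hu, hti, mul_assoc, ht, mul_one]

/-- The main theorem. -/
theorem dgroup_proj_quotient (gw : PerfectClass.{u}) (H A : Subgroup G) (hAH : A < H)
    (hD : ∀ x ∈ H, x ∉ A → x ^ 2 = 1) (h4 : 4 ∣ Nat.card ↥H)
    (hC : ∀ j ∈ H, orderOf j = 2 → (∀ h ∈ H, h * j = j * h) → Subgroup.centralizer ({j} : Set G) = H)
    (hns : ¬ Group.IsSolvable G) : ProjTwoQuotient G := by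
  haveI : Fact (Nat.Prime 2) := ⟨Nat.prime_two⟩
  rcases dgroup_cases H A hAH hD with hel | ⟨⟨x, hxH, hxA⟩, hne, hab, hinv, hidx⟩
  · exact elementary_case H h4 hel hC hns
  have hsq : ∀ y ∈ H, y ∉ A → y * y = 1 := fun y hy hyA => by rw [← pow_two]; exact hD y hy hyA
  have hA2 : (A.subgroupOf H).index = 2 := by
    rw [Subgroup.index_eq_two_iff]
    refine ⟨⟨x, hxH⟩, fun b => ?_⟩
    by_cases hb : (b : G) ∈ A
    · exact Or.inr ⟨hb, fun h => hxA ((A.mul_mem_cancel_left hb).1 h)⟩
    · exact Or.inl ⟨hidx _ b.2 hb x hxH hxA, hb⟩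
  obtain ⟨t, ht⟩ := exists_prime_orderOf_dvd_card' (G := A) 2 (by
    have h1 := (A.subgroupOf H).card_mul_index
    rw [hA2, Nat.card_congr (Subgroup.subgroupOfEquivOfLe hAH.le).toEquiv] at h1
    omega)
  have hto : orderOf (t : G) = 2 := by rw [Subgroup.orderOf_coe, ht]
  by_cases hex : ∃ j ∈ A, orderOf j = 2 ∧ (t : G) ≠ j
  · obtain ⟨j, hj, hjo, hne'⟩ := hex
    exact rank_case H A hAH.le x hxH hxA hab hinv hidx hne hC hsq t.2 hto hj hjo hne' hns
  push Not at hex
  have htt : (t : G) * t = 1 := by rw [← pow_two, ← hto, pow_orderOf_eq_one]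
  have htc : ∀ h ∈ H, h * (t : G) = t * h := fun h hh => by
    by_cases hA : h ∈ A
    · exact hab h hA t t.2
    · have := hinv h hh hA t t.2
      rw [inv_eq_of_mul_eq_one_left htt] at this
      exact mul_inv_eq_iff_eq_mul.1 this
  have hCt := hC t (hAH.le t.2) hto htc
  set N := Cfsg.oddCore G with hN
  haveI : N.Normal := StrongProd.oddCore_normal G
  have hNo : Odd (Nat.card N) := StrongProd.oddCore_odd G
  set π := QuotientGroup.mk' N with hπ
  have hnN : ∀ n ∈ N, ∀ m : ℕ, orderOf n = 2 * m → n = 1 := fun n hn m hm => by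
    obtain ⟨i, hi⟩ := hNo.of_dvd_nat (Subgroup.orderOf_dvd_natCard _ hn)
    omega
  have hns' : ¬ Group.IsSolvable (G ⧸ N) := fun h => hns (by
    haveI := h
    haveI : Group.IsSolvable N := S0205.result hNo
    exact Group.isSolvable_of_ker_le_range N.subtype π (by rw [hπ, QuotientGroup.ker_mk', Subgroup.range_subtype]))
  have htN : (t : G) ∉ N := fun h => by
    have h1 := hnN _ h 1 (by rw [hto])
    rw [h1, orderOf_one] at hto
    exact absurd hto (by norm_num)
  obtain ⟨F, iF, iFt, h3, he⟩ := reduced_single gw Fusion.pPrimeCore_quotient_eq_bot hns' (π t)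
    (orderOf_eq_prime (by rw [pow_two, ← map_mul, htt, map_one]) fun h => htN ((QuotientGroup.eq_one_iff _).1 h))
    (H.map π) (A.map π) (by
      refine le_antisymm (fun q hq => ?_) ?_
      · obtain ⟨g, rfl⟩ := QuotientGroup.mk'_surjective N q
        rw [Subgroup.mem_centralizer_singleton_iff] at hq
        have h1 : (t : G) * (g * t * g⁻¹) ∈ N := by
          rw [← QuotientGroup.eq_one_iff]
          show π ((t : G) * (g * t * g⁻¹)) = 1
          rw [map_mul, map_mul, map_mul, map_inv, hq, mul_inv_cancel_right, ← map_mul, htt, map_one]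
        obtain ⟨n, hn, hnt⟩ := conj_in_odd N hNo htt
          (by rw [show g * (t : G) * g⁻¹ * (g * t * g⁻¹) = g * (t * t) * g⁻¹ by group, htt, mul_one, mul_inv_cancel]) h1
        refine ⟨n⁻¹ * g, ?_, ?_⟩
        · rw [SetLike.mem_coe, ← hCt, Subgroup.mem_centralizer_singleton_iff]
          calc n⁻¹ * g * t = n⁻¹ * (g * t * g⁻¹) * g := by group
            _ = n⁻¹ * (n * t * n⁻¹) * g := by rw [hnt]
            _ = t * (n⁻¹ * g) := by group
        · show π (n⁻¹ * g) = π g
          rw [map_mul, map_inv, show π n = 1 from (QuotientGroup.eq_one_iff n).2 hn, inv_one, one_mul]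
      · rintro _ ⟨h, hh, rfl⟩
        rw [Subgroup.mem_centralizer_singleton_iff, ← map_mul, ← map_mul, htc h hh])
    (Subgroup.map_mono hAH.le) ⟨t, t.2, rfl⟩
    (by rintro _ ⟨a, ha, rfl⟩ _ ⟨b, hb, rfl⟩; rw [← map_mul, ← map_mul, hab a ha b hb])
    (by
      rintro _ ⟨y, hy, rfl⟩ hyA _ ⟨a, ha, rfl⟩
      rw [← map_inv, ← map_mul, ← map_mul, ← map_inv, hinv y hy (fun h => hyA ⟨y, h, rfl⟩) a ha])
    (by
      rintro _ ⟨y, hy, rfl⟩ hyA
      rw [← map_mul, hsq y hy (fun h => hyA ⟨y, h, rfl⟩), map_one])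
    (by
      rintro _ ⟨y, hy, rfl⟩ hyA _ ⟨z, hz, rfl⟩ hzA
      exact ⟨y * z, hidx y hy (fun h => hyA ⟨y, h, rfl⟩) z hz (fun h => hzA ⟨z, h, rfl⟩), map_mul π y z⟩)
    (π x) ⟨x, hxH, rfl⟩
    (by
      rintro ⟨a, ha, hax⟩
      have hn : a⁻¹ * x ∈ N := QuotientGroup.eq.1 hax
      have hnH : a⁻¹ * x ∈ H := H.mul_mem (H.inv_mem (hAH.le ha)) hxH
      refine hxA ?_
      by_cases hnA : a⁻¹ * x ∈ A
      · have := A.mul_mem ha hnA
        rwa [mul_inv_cancel_left] at this
      · have h1 : a⁻¹ * x = 1 := by_contra fun hne1 => hne1 (hnN _ hn 1 (orderOf_eq_prime (by rw [pow_two]; exact hsq _ hnH hnA) hne1))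
        exact (inv_mul_eq_one.1 h1) ▸ ha)
    (by
      rintro _ ⟨a, ha, rfl⟩ ha2
      rw [← map_mul] at ha2
      obtain ⟨s, hs⟩ := hNo.of_dvd_nat (Subgroup.orderOf_dvd_natCard _ ((QuotientGroup.eq_one_iff _).1 ha2))
      have h1 : a ^ orderOf (a * a) * a ^ orderOf (a * a) = 1 := by
        rw [← (Commute.refl a).mul_pow, pow_orderOf_eq_one]
      have h2 : π a = π (a ^ orderOf (a * a)) := by
        rw [hs, pow_succ, pow_mul, map_mul, map_pow π (a ^ 2), pow_two, ha2, one_pow, one_mul]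
      by_cases h0 : a ^ orderOf (a * a) = 1
      · exact Or.inl (by rw [h2, h0, map_one])
      · exact Or.inr (by
          rw [h2, hex _ (A.pow_mem ha _) (orderOf_eq_prime (by rw [pow_two]; exact h1) h0)]))
  exact ⟨N, inferInstance, Or.inl hNo, F, iF, iFt, h3, he⟩

end Cfsg.Agent.GW.Dep
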