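import Cfsg.Agent.Lib.GW.DepQuaternion
import Cfsg.Prelude.Def_SporadicB

/-!
# Perfect groups of 2-rank one
-/

set_option autoImplicit false
set_option linter.style.haveILetI false

namespace Cfsg.Agent.GW.Dep

open Cfsg Cfsg.Agent Cfsg.Agent.GW.Reduced

universe u

/-- A perfect group with trivial core and quaternion Sylow 2-subgroup. -/
theorem perfect_quaternion (gw : PerfectClass.{u}) {K : Type u} [Group K] [Finite K] [Group.IsPerfect K]
    (hO : Cfsg.oddCore K = ⊥) (P : Sylow 2 K) (m : ℕ) (e : (P : Subgroup K) ≃* QuaternionGroup (2 ^ (m + 1))) :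
    (∃ (F : Type) (_ : Field F) (_ : Fintype F), Odd (Fintype.card F) ∧ 3 < Fintype.card F ∧
        Nonempty (K ≃* Matrix.SpecialLinearGroup (Fin 2) F)) ∨
      Cfsg.IsNonsplitDoubleCover K ↥(alternatingGroup (Fin 7)) := by
  haveI : Fact (Nat.Prime 2) := ⟨Nat.prime_two⟩
  obtain ⟨hZ, -⟩ := involution_mem_center hO P m e
  obtain ⟨hO', T, ⟨eT⟩⟩ := quotient_center hO P m e
  set g := QuotientGroup.mk' (Subgroup.center K) with hg
  have hgs : Function.Surjective g := QuotientGroup.mk'_surjective _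
  haveI : Group.IsPerfect (K ⧸ Subgroup.center K) := Group.IsPerfect.ofSurjective hgs
  let E : (K ⧸ Subgroup.center K) ⧸ Cfsg.oddCore (K ⧸ Subgroup.center K) ≃* K ⧸ Subgroup.center K :=
    (QuotientGroup.quotientMulEquivOfEq hO').trans QuotientGroup.quotientBot
  rcases gw (K ⧸ Subgroup.center K) T _ (Nat.le_self_pow (by omega) 2) ⟨eT⟩ with
    ⟨F, iF, iFt, ho, h3, ⟨j⟩⟩ | ⟨⟨j⟩⟩
  · left
    obtain ⟨eK⟩ := sl_of_central (L := K) ho h3 ((E.symm.trans j).toMonoidHom.comp g)
      ((E.symm.trans j).surjective.comp hgs) (fun x hx => by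
        rw [MonoidHom.mem_ker, MonoidHom.comp_apply] at hx
        exact (QuotientGroup.eq_one_iff x).1 ((E.symm.trans j).injective (hx.trans (map_one _).symm)))
      (by
        rw [← MonoidHom.comap_ker, (MonoidHom.ker_eq_bot_iff _).2 (E.symm.trans j).injective, MonoidHom.comap_bot, hg,
          QuotientGroup.ker_mk']
        exact hZ)
    exact ⟨F, iF, iFt, ho, h3, ⟨eK⟩⟩
  · refine Or.inr ⟨hZ, ⟨E.symm.trans j⟩, fun L hL => ?_⟩
    have h1 := hL.card_mul_card
    rw [hZ, ← L.card_mul_index, mul_comm 2] at h1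
    have hidx : L.index = 2 := (Nat.eq_of_mul_eq_mul_left Nat.card_pos h1).symm
    haveI := Subgroup.normal_of_index_eq_two hidx
    haveI : IsCyclic (K ⧸ L) := isCyclic_of_prime_card (p := 2) hidx
    haveI : IsMulCommutative (K ⧸ L) := inferInstance
    have hle : commutator K ≤ L := by
      rw [commutator_def, Subgroup.commutator_le]
      intro a _ b _
      rw [← QuotientGroup.eq_one_iff, ← QuotientGroup.mk'_apply, map_commutatorElement,
        commutatorElement_eq_one_iff_mul_comm]
      exact mul_comm' _ _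
    rw [Group.IsPerfect.commutator_eq_top, top_le_iff] at hle
    rw [hle, Subgroup.index_top] at hidx
    exact absurd hidx (by norm_num)

/-- **Perfect groups of 2-rank one** modulo the core. -/
theorem perfect_rank_one (gw : PerfectClass.{u}) {X : Type u} [Group X] [Finite X] (hP : Group.IsPerfect X)
    (h1 : Cfsg.PRankLE 2 1 X) (h2 : Even (Nat.card X)) :
    (∃ (F : Type) (_ : Field F) (_ : Fintype F), Odd (Fintype.card F) ∧ 3 < Fintype.card F ∧
        Nonempty (X ⧸ Cfsg.oddCore X ≃* Matrix.SpecialLinearGroup (Fin 2) F)) ∨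
      Cfsg.IsNonsplitDoubleCover (X ⧸ Cfsg.oddCore X) ↥(alternatingGroup (Fin 7)) := by
  haveI : Fact (Nat.Prime 2) := ⟨Nat.prime_two⟩
  haveI := hP
  obtain ⟨S⟩ := (inferInstance : Nonempty (Sylow 2 X))
  have hr : Cfsg.PRankLE 2 1 ↥(S : Subgroup X) := fun A hA hA2 => by
    have := h1 (A.map (S : Subgroup X).subtype)
      ⟨⟨fun a b => by
        obtain ⟨a', ha', ea⟩ := a.2
        obtain ⟨b', hb', eb⟩ := b.2
        refine Subtype.ext ?_
        show (a : X) * b = b * a
        rw [← ea, ← eb]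
        exact congrArg Subtype.val (congrArg Subtype.val (hA.is_comm.comm ⟨a', ha'⟩ ⟨b', hb'⟩))⟩⟩
      (by rintro _ ⟨a, ha, rfl⟩; rw [← map_pow, hA2 a ha, map_one])
    rwa [Subgroup.card_map_of_injective (Subgroup.subtype_injective _)] at this
  have hnc : ¬ IsCyclic ↥(S : Subgroup X) := fun hc => by
    obtain ⟨H, hH⟩ := S0219.result h2 S hc
    haveI := Subgroup.normal_of_index_eq_two hH
    haveI : IsCyclic (X ⧸ H) := isCyclic_of_prime_card (p := 2) hH
    have hle : commutator X ≤ H := by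
      rw [commutator_def, Subgroup.commutator_le]
      intro a _ b _
      rw [← QuotientGroup.eq_one_iff, ← QuotientGroup.mk'_apply, map_commutatorElement,
        commutatorElement_eq_one_iff_mul_comm]
      exact mul_comm' _ _
    rw [Group.IsPerfect.commutator_eq_top, top_le_iff] at hle
    rw [hle, Subgroup.index_top] at hH
    exact absurd hH (by norm_num)
  obtain ⟨m, ⟨e⟩⟩ : ∃ m, Nonempty ((S : Subgroup X) ≃* QuaternionGroup (2 ^ (m + 1))) := by
    rcases Solv.cyclic_or_quaternion S.isPGroup' (RankOne.uniqueOrderP_of_rank S.isPGroup' hr) with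
      hc | ⟨-, n, ⟨e⟩⟩
    · exact absurd hc hnc
    rcases n with _ | m
    · refine absurd (isCyclic_of_orderOf_eq_card (e.symm (QuaternionGroup.xa 0)) ?_) hnc
      rw [MulEquiv.orderOf_eq, QuaternionGroup.orderOf_xa, Nat.card_congr e.toEquiv, Nat.card_eq_fintype_card,
        QuaternionGroup.card]
      norm_num
    · exact ⟨m, ⟨e⟩⟩
  set M := Cfsg.oddCore X with hM
  set f := QuotientGroup.mk' M with hf
  have hfs : Function.Surjective f := QuotientGroup.mk'_surjective M
  haveI : Group.IsPerfect (X ⧸ M) := Group.IsPerfect.ofSurjective hfs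
  let P : Sylow 2 (X ⧸ M) := S.mapSurjective hfs
  have hPS : (P : Subgroup (X ⧸ M)) = (S : Subgroup X).map f := Sylow.coe_mapSurjective hfs S
  have hbij : Function.Bijective (f.subgroupMap (S : Subgroup X)) := by
    refine ⟨(injective_iff_map_eq_one _).2 fun x hx => Subtype.ext ?_, f.subgroupMap_surjective _⟩
    have h : (x : X) ∈ M ⊓ (S : Subgroup X) := ⟨(QuotientGroup.eq_one_iff _).1 (congrArg Subtype.val hx), x.2⟩
    rwa [hM, show Cfsg.oddCore X = Cfsg.pPrimeCore 2 X from rfl,
      Fusion.coprime_inf_pGroup (Fusion.card_pPrimeCore_coprime 2 X) S.isPGroup', Subgroup.mem_bot] at h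
  exact perfect_quaternion gw (Fusion.pPrimeCore_quotient_eq_bot (p := 2)) P m
    (((MulEquiv.subgroupCongr hPS).trans (MulEquiv.ofBijective _ hbij).symm).trans e)

end Cfsg.Agent.GW.Dep
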