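import Cfsg.Agent.Lib.GW.DepQuaternion
import Cfsg.Agent.S0205

/-!
# Quaternion Sylow 2-subgroups with cyclic intersections
-/

set_option autoImplicit false
set_option linter.style.haveILetI false

namespace Cfsg.Agent.GW.Dep

open Cfsg Cfsg.Agent Cfsg.Agent.GW.Reduced

universe u

variable {G : Type u} [Group G] [Finite G]

/-- Cyclic intersections pass to the quotient by a normal subgroup of odd order. -/
theorem cyclic_inter_odd_quotient (N : Subgroup G) [N.Normal] (hN : Odd (Nat.card N))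
    (hC : ∀ S T : Sylow 2 G, S ≠ T → IsCyclic ↥((S : Subgroup G) ⊓ (T : Subgroup G)))
    (S' T' : Sylow 2 (G ⧸ N)) (hne : S' ≠ T') : IsCyclic ↥((S' : Subgroup (G ⧸ N)) ⊓ (T' : Subgroup (G ⧸ N))) := by
  haveI : Fact (Nat.Prime 2) := ⟨Nat.prime_two⟩
  set f := QuotientGroup.mk' N with hf
  have hfs : Function.Surjective f := QuotientGroup.mk'_surjective N
  obtain ⟨S, rfl⟩ := Sylow.mapSurjective_surjective hfs 2 S'
  obtain ⟨T, rfl⟩ := Sylow.mapSurjective_surjective hfs 2 T'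
  -- the part of `S` over the intersection
  set U : Subgroup G := (S : Subgroup G) ⊓ ((T.mapSurjective hfs : Sylow 2 (G ⧸ N)) : Subgroup (G ⧸ N)).comap f with hU
  set H : Subgroup G := (T : Subgroup G) ⊔ N with hH
  have hUH : U ≤ H := fun x hx => by
    obtain ⟨y, hy, hyx⟩ : f x ∈ (T : Subgroup G).map f := Sylow.coe_mapSurjective hfs T ▸ hx.2
    rw [show x = y * (y⁻¹ * x) by group]
    refine mul_mem (Subgroup.mem_sup_left hy) (Subgroup.mem_sup_right ?_)
    rw [← QuotientGroup.eq_one_iff]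
    show f (y⁻¹ * x) = 1
    rw [map_mul, map_inv, hyx, inv_mul_cancel]
  let TH : Sylow 2 H := T.subtype le_sup_left
  obtain ⟨P, hP⟩ := ((S.isPGroup'.to_le inf_le_left).of_equiv (Subgroup.subgroupOfEquivOfLe hUH).symm).exists_le_sylow
  obtain ⟨h, hh⟩ := MulAction.exists_smul_eq H TH P
  have hTg : U ≤ ((h : G) • T : Sylow 2 G) := by
    intro x hx
    have hx' : (⟨x, hUH hx⟩ : H) ∈ (P : Subgroup H) := hP hx
    rw [← hh, Sylow.coe_subgroup_smul] at hx'
    obtain ⟨y, hy, e⟩ := hx'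
    rw [Sylow.coe_subgroup_smul]
    exact ⟨(y : G), Subgroup.mem_subgroupOf.1 (Sylow.coe_subtype T le_sup_left ▸ hy), congrArg Subtype.val e⟩
  have hmapg : ((h : G) • T : Sylow 2 G).mapSurjective hfs = T.mapSurjective hfs := by
    refine Sylow.ext ?_
    rw [Sylow.coe_mapSurjective, Sylow.coe_mapSurjective, Sylow.coe_subgroup_smul]
    have hfh : f (h : G) ∈ (T : Subgroup G).map f := by
      have hm : (h : G) ∈ (T : Subgroup G) ⊔ N := h.2
      have := Subgroup.mem_map_of_mem f hm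
      rwa [Subgroup.map_sup, (Subgroup.map_eq_bot_iff _).2 (le_of_eq (QuotientGroup.ker_mk' N).symm), sup_bot_eq]
        at this
    refine Subgroup.eq_of_le_of_card_ge ?_ ?_
    · rintro _ ⟨_, ⟨y, hy, rfl⟩, rfl⟩
      show f ((h : G) * y * (h : G)⁻¹) ∈ _
      rw [map_mul, map_mul, map_inv]
      exact Subgroup.mul_mem _ (Subgroup.mul_mem _ hfh (Subgroup.mem_map_of_mem f hy)) (Subgroup.inv_mem _ hfh)
    · rw [← Sylow.coe_subgroup_smul, ← Sylow.coe_mapSurjective hfs T, ← Sylow.coe_mapSurjective hfs ((h : G) • T)]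
      exact le_of_eq (Nat.card_congr ((T.mapSurjective hfs).equiv (((h : G) • T).mapSurjective hfs)).toEquiv)
  have hne' : S ≠ (h : G) • T := fun e => hne (by rw [e, hmapg])
  haveI := hC S _ hne'
  haveI : IsCyclic U := isCyclic_of_injective (Subgroup.inclusion (le_inf (inf_le_left : U ≤ S) hTg))
    (Subgroup.inclusion_injective _)
  let φ : U →* ↥(((S.mapSurjective hfs : Sylow 2 (G ⧸ N)) : Subgroup (G ⧸ N)) ⊓
      ((T.mapSurjective hfs : Sylow 2 (G ⧸ N)) : Subgroup (G ⧸ N))) :=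
    (f.comp U.subtype).codRestrict _ fun x =>
      Subgroup.mem_inf.2 ⟨Sylow.coe_mapSurjective hfs S ▸ Subgroup.mem_map_of_mem f x.2.1, x.2.2⟩
  refine isCyclic_of_surjective φ fun ⟨y, hyS, hyT⟩ => ?_
  obtain ⟨x, hx, rfl⟩ : y ∈ (S : Subgroup G).map f := Sylow.coe_mapSurjective hfs S ▸ hyS
  exact ⟨⟨x, hx, hyT⟩, rfl⟩

/-- Cyclic intersections pass to the quotient by a normal 2-subgroup. -/
theorem cyclic_inter_two_quotient (Z : Subgroup G) [Z.Normal] (hZ : IsPGroup 2 Z)
    (hC : ∀ S T : Sylow 2 G, S ≠ T → IsCyclic ↥((S : Subgroup G) ⊓ (T : Subgroup G)))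
    (S' T' : Sylow 2 (G ⧸ Z)) (hne : S' ≠ T') : IsCyclic ↥((S' : Subgroup (G ⧸ Z)) ⊓ (T' : Subgroup (G ⧸ Z))) := by
  haveI : Fact (Nat.Prime 2) := ⟨Nat.prime_two⟩
  set g := QuotientGroup.mk' Z with hg
  have hgs : Function.Surjective g := QuotientGroup.mk'_surjective Z
  obtain ⟨S, rfl⟩ := Sylow.mapSurjective_surjective hgs 2 S'
  obtain ⟨T, rfl⟩ := Sylow.mapSurjective_surjective hgs 2 T'
  haveI := hC S T fun e => hne (by rw [e])
  let φ : ↥((S : Subgroup G) ⊓ (T : Subgroup G)) →* ↥(((S.mapSurjective hgs : Sylow 2 (G ⧸ Z)) : Subgroup (G ⧸ Z)) ⊓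
      ((T.mapSurjective hgs : Sylow 2 (G ⧸ Z)) : Subgroup (G ⧸ Z))) :=
    (g.comp ((S : Subgroup G) ⊓ (T : Subgroup G)).subtype).codRestrict _ fun x =>
      Subgroup.mem_inf.2 ⟨Sylow.coe_mapSurjective hgs S ▸ Subgroup.mem_map_of_mem g x.2.1,
        Sylow.coe_mapSurjective hgs T ▸ Subgroup.mem_map_of_mem g x.2.2⟩
  refine isCyclic_of_surjective φ fun ⟨y, hyS, hyT⟩ => ?_
  obtain ⟨a, ha, rfl⟩ : y ∈ (S : Subgroup G).map g := Sylow.coe_mapSurjective hgs S ▸ hyS
  obtain ⟨b, hb, hba⟩ : g a ∈ (T : Subgroup G).map g := Sylow.coe_mapSurjective hgs T ▸ hyT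
  refine ⟨⟨a, ha, ?_⟩, rfl⟩
  have hz : b⁻¹ * a ∈ Z := by
    rw [← QuotientGroup.eq_one_iff]
    show g (b⁻¹ * a) = 1
    rw [map_mul, map_inv, hba, inv_mul_cancel]
  rw [show a = b * (b⁻¹ * a) by group]
  exact mul_mem hb (hZ.le_sylow_of_normal T hz)

/-- A dihedral Sylow subgroup with cyclic intersections in a nonsolvable group without core is a four group. -/
theorem four_of_cyclic_inter {Y : Type u} [Group Y] [Finite Y] (hO : Cfsg.oddCore Y = ⊥) (T : Sylow 2 Y) {n : ℕ}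
    (e : (T : Subgroup Y) ≃* DihedralGroup n) (hns : ¬ Group.IsSolvable Y)
    (hC : ∀ S T : Sylow 2 Y, S ≠ T → IsCyclic ↥((S : Subgroup Y) ⊓ (T : Subgroup Y))) : n = 2 := by
  haveI : Fact (Nat.Prime 2) := ⟨Nat.prime_two⟩
  by_contra hn
  have hnp : ¬ HasNormalPComplement 2 Y := fun h => hns (by
    haveI : IsPGroup 2 Y → Group.IsSolvable Y := fun h2 => by haveI := h2.isNilpotent; infer_instance
    refine this (isPGroup_of_odd_trivial fun x hx => ?_)
    have hbot : Cfsg.pResidual 2 Y = ⊥ :=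
      eq_bot_of_odd hO _ (Nat.coprime_two_right.1 (Fusion.hnpc_iff.1 h))
    refine Subgroup.mem_bot.1 (hbot ▸ ?_)
    exact Subgroup.subset_closure (Nat.coprime_two_right.2 hx))
  refine hnp (Fusion.hnpc_of_centralize (S := (T : Subgroup Y)) (Fusion.sylIn_top T) fun Q hQ x hx hxo => ?_)
  have hodd : Odd (orderOf x) := Nat.coprime_two_right.1 hxo
  have hQ2 : IsPGroup 2 Q := T.isPGroup'.to_le hQ
  rcases two_subgroup_cases e Q hQ with h | ⟨h1, h2⟩ | ⟨k, hk, ⟨f⟩⟩
  · exact cyclic_centralized hQ2 h hx hodd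
  · have hxT : x • T = T := by
      by_contra hne
      haveI := hC T (x • T) (Ne.symm hne)
      have hQx : Q ≤ (x • T : Sylow 2 Y) := fun y hy => by
        rw [Sylow.coe_subgroup_smul]
        refine ⟨x⁻¹ * y * x, hQ ?_, show x * (x⁻¹ * y * x) * x⁻¹ = y by group⟩
        have := (Subgroup.mem_normalizer_iff.1 (inv_mem hx) y).1 hy
        rwa [inv_inv] at this
      haveI : IsCyclic Q := isCyclic_of_injective (Subgroup.inclusion (le_inf hQ hQx))
        (Subgroup.inclusion_injective _)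
      have h4 := IsCyclic.exponent_eq_card (α := Q)
      have h5 : Monoid.exponent Q ∣ 2 := Monoid.exponent_dvd_of_forall_pow_eq_one fun g =>
        Subtype.ext (by rw [Subgroup.coe_pow, pow_two]; exact h1 g g.2)
      rw [h4, h2] at h5
      norm_num at h5
    have hxN : x ∈ Subgroup.normalizer ((T : Subgroup Y) : Set Y) :=
      Sylow.smul_eq_iff_mem_normalizer.1 hxT
    haveI := dihedral_neZero e
    have hn3 : 3 ≤ n := by
      have := (T : Subgroup Y).card_mul_index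
      have hle := Subgroup.card_le_of_le hQ
      rw [h2, Nat.card_congr e.toEquiv, DihedralGroup.nat_card] at hle
      omega
    exact Subgroup.centralizer_le (SetLike.coe_subset_coe.2 hQ)
      (((Char.longCyclic_dihedral hn3).of_equiv e.symm).centralizes T.isPGroup' hxN hodd)
  · exact ((Char.longCyclic_dihedral hk).of_equiv f.symm).centralizes hQ2 hx hodd

/-- **Quaternion Sylow 2-subgroups with cyclic intersections.** -/
theorem quaternion_cyclic_inter (gw : PerfectClass.{u}) (hns : ¬ Group.IsSolvable G)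
    (hQ : ∀ S : Sylow 2 G, ∃ n : ℕ, Nonempty (↥(S : Subgroup G) ≃* QuaternionGroup (2 ^ (n + 1))))
    (hC : ∀ S T : Sylow 2 G, S ≠ T → IsCyclic ↥((S : Subgroup G) ⊓ (T : Subgroup G))) :
    (∀ S : Sylow 2 G, Nonempty (↥(S : Subgroup G) ≃* QuaternionGroup 2)) ∧
    ∃ (G₁ : Subgroup G) (_ : G₁.Normal) (_ : ((Cfsg.oddCore G).subgroupOf G₁).Normal),
      Odd G₁.index ∧ Cfsg.oddCore G ≤ G₁ ∧
      ∃ (F : Type) (_ : Field F) (_ : Fintype F), (Fintype.card F % 8 = 3 ∨ Fintype.card F % 8 = 5) ∧ 3 < Fintype.card F ∧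
        Nonempty (↥G₁ ⧸ (Cfsg.oddCore G).subgroupOf G₁ ≃* Matrix.SpecialLinearGroup (Fin 2) F) := by
  classical
  haveI : Fact (Nat.Prime 2) := ⟨Nat.prime_two⟩
  obtain ⟨S⟩ := (inferInstance : Nonempty (Sylow 2 G))
  obtain ⟨m, ⟨eS⟩⟩ := hQ S
  set M := Cfsg.oddCore G with hM
  have hModd : Odd (Nat.card M) := Nat.coprime_two_right.1 (Fusion.card_pPrimeCore_coprime 2 G)
  set f := QuotientGroup.mk' M with hf
  have hfs : Function.Surjective f := QuotientGroup.mk'_surjective M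
  obtain ⟨jS⟩ := sylow_quotient M hModd S
  let P : Sylow 2 (G ⧸ M) := S.mapSurjective hfs
  let e : (P : Subgroup (G ⧸ M)) ≃* QuaternionGroup (2 ^ (m + 1)) := jS.symm.trans eS
  have hO : Cfsg.oddCore (G ⧸ M) = ⊥ := Fusion.pPrimeCore_quotient_eq_bot
  obtain ⟨hZ, hinv⟩ := involution_mem_center hO P m e
  obtain ⟨hO', T, ⟨eT⟩⟩ := quotient_center hO P m e
  set Z := Subgroup.center (G ⧸ M) with hZdef
  set g := QuotientGroup.mk' Z with hg
  have hgs : Function.Surjective g := QuotientGroup.mk'_surjective Z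
  have hZp : IsPGroup 2 Z := IsPGroup.of_card (n := 1) (by rw [hZ, pow_one])
  have hnsY : ¬ Group.IsSolvable ((G ⧸ M) ⧸ Z) := fun h => hns (by
    haveI := h
    haveI : Group.IsSolvable Z := by haveI := hZp.isNilpotent; infer_instance
    haveI : Group.IsSolvable (G ⧸ M) := Group.isSolvable_of_ker_le_range Z.subtype g
      (by rw [hg, QuotientGroup.ker_mk', Subgroup.range_subtype])
    haveI : Group.IsSolvable M := S0205.result hModd
    exact Group.isSolvable_of_ker_le_range M.subtype f (by rw [hf, QuotientGroup.ker_mk', Subgroup.range_subtype]))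
  have hn := four_of_cyclic_inter hO' T eT hnsY
    (cyclic_inter_two_quotient Z hZp (cyclic_inter_odd_quotient M hModd hC))
  obtain rfl : m = 0 := by
    have := Nat.pow_right_injective (le_refl 2) (show 2 ^ (m + 1) = 2 ^ 1 by rw [hn, pow_one])
    omega
  refine ⟨fun S₁ => ⟨(S₁.equiv S).trans eS⟩, ?_⟩
  obtain ⟨L', hL'n, hmod, -⟩ := nonsolvable_model gw hO' T (le_of_eq hn.symm) eT hnsY
  haveI := hL'n
  obtain ⟨hsimp, hnab⟩ := hmod.simple
  haveI := hsimp
  have hTc : Nat.card (T : Subgroup ((G ⧸ M) ⧸ Z)) = 4 := by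
    rw [Nat.card_congr eT.toEquiv, DihedralGroup.nat_card, hn]
  have h8 : ∀ k : ℕ, k ∣ Nat.card ((G ⧸ M) ⧸ Z) → ¬ 8 ∣ k := fun k hk h8 => by
    have hco : Nat.Coprime 8 (T : Subgroup ((G ⧸ M) ⧸ Z)).index :=
      (show (2 : ℕ) ^ 3 = 8 from rfl) ▸ (Nat.prime_two.coprime_iff_not_dvd.2 T.not_dvd_index).pow_left 3
    have h := h8.trans hk
    rw [← (T : Subgroup ((G ⧸ M) ⧸ Z)).card_mul_index] at h
    have := hTc ▸ hco.dvd_of_dvd_mul_right h
    norm_num at this
  rcases hmod with ⟨F, iF, iFt, ho, h3, ⟨j⟩⟩ | ⟨⟨j⟩⟩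
  swap
  · refine (h8 _ (Subgroup.card_subgroup_dvd_card L') ?_).elim
    rw [Nat.card_congr j.toEquiv, nat_card_alternatingGroup, Nat.card_fin]
    decide
  obtain ⟨a, ha⟩ := ho
  have hc := Classical.Dickson.card_psl F
  have hgcd : Nat.gcd 2 (Fintype.card F - 1) = 2 := Nat.gcd_eq_left ⟨a, by omega⟩
  rw [hgcd, ha, show (2 * a + 1) ^ 2 - 1 = 4 * (a * (a + 1)) by ring_nf; omega, ← Nat.card_congr j.toEquiv] at hc
  obtain ⟨c, hc'⟩ := Nat.even_mul_succ_self a
  have hLcard : Nat.card L' = 4 * (c * (2 * a + 1)) := by nlinarith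
  have hidx : Odd L'.index := by
    rw [← Nat.not_even_iff_odd]
    rintro ⟨r, hr⟩
    refine h8 _ dvd_rfl ⟨c * (2 * a + 1) * r, ?_⟩
    rw [← L'.card_mul_index, hLcard, hr]
    ring
  have hq8 : Fintype.card F % 8 = 3 ∨ Fintype.card F % 8 = 5 := by
    have hcodd : ¬ 2 ∣ c := fun ⟨r, hr⟩ =>
      h8 _ (Subgroup.card_subgroup_dvd_card L') ⟨r * (2 * a + 1), by rw [hLcard, hr]; ring⟩
    have h4 : ∀ x : ℕ, x % 4 = 0 ∨ x % 4 = 3 → (x * (x + 1)) % 4 = 0 := fun x hx => by
      rw [Nat.mul_mod, Nat.add_mod]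
      rcases hx with h | h <;> rw [h]
    rcases (show a % 4 = 1 ∨ a % 4 = 2 ∨ (a % 4 = 0 ∨ a % 4 = 3) by omega) with h | h | h
    · left; omega
    · right; omega
    · exfalso
      have := h4 a h
      omega
  -- the preimage in the quotient by the core is perfect
  set L := L'.comap g with hL
  have hperfL' : Group.IsPerfect L' := ⟨(inferInstance : (commutator L').Normal).eq_bot_or_eq_top.resolve_left fun h =>
      hnab ⟨⟨fun a b => commutatorElement_eq_one_iff_mul_comm.1 (Subgroup.mem_bot.1 (h ▸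
        Subgroup.commutator_mem_commutator (Subgroup.mem_top a) (Subgroup.mem_top b)))⟩⟩⟩
  have hmapL : (⁅L, L⁆).map g = L' := by
    rw [Subgroup.map_commutator, hL, Subgroup.map_comap_eq_self_of_surjective hgs]
    have h := congrArg (Subgroup.map L'.subtype) hperfL'.commutator_eq_top
    rwa [commutator_def, Subgroup.map_commutator, ← MonoidHom.range_eq_map, Subgroup.range_subtype] at h
  have hZL : Z ≤ L := fun z hz => by
    show g z ∈ L'
    rw [show g z = 1 from (QuotientGroup.eq_one_iff z).2 hz]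
    exact one_mem _
  have hZc : Z ≤ ⁅L, L⁆ := by
    have hev : 2 ∣ Nat.card (⁅L, L⁆ : Subgroup (G ⧸ M)) :=
      ((show 2 ∣ 4 from ⟨2, rfl⟩).trans (hLcard ▸ dvd_mul_right 4 _)).trans (hmapL ▸ Subgroup.card_map_dvd _ _)
    obtain ⟨x, hx⟩ := exists_prime_orderOf_dvd_card' (G := (⁅L, L⁆ : Subgroup (G ⧸ M))) 2 hev
    have hxo : orderOf (x : G ⧸ M) = 2 := by rw [Subgroup.orderOf_coe, hx]
    have hxe : Subgroup.zpowers (x : G ⧸ M) = Z :=
      Subgroup.eq_of_le_of_card_ge (Subgroup.zpowers_le.2 (hinv _ hxo)) (by rw [hZ, Nat.card_zpowers, hxo])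
    exact hxe ▸ Subgroup.zpowers_le.2 x.2
  have hLL : ⁅L, L⁆ = L := by
    refine le_antisymm (Subgroup.commutator_le.2 fun a ha b hb =>
      L.mul_mem (L.mul_mem (L.mul_mem ha hb) (L.inv_mem ha)) (L.inv_mem hb)) fun x hx => ?_
    obtain ⟨y, hy, hyx⟩ := (hmapL.symm ▸ hx : g x ∈ (⁅L, L⁆).map g)
    rw [show x = y * (y⁻¹ * x) by group]
    refine mul_mem hy (hZc ?_)
    rw [hZdef, ← QuotientGroup.eq_one_iff]
    show g (y⁻¹ * x) = 1
    rw [map_mul, map_inv, hyx, inv_mul_cancel]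
  haveI hperfL : Group.IsPerfect L := ⟨by
    apply Subgroup.map_injective L.subtype_injective
    rw [commutator_def, Subgroup.map_commutator, ← MonoidHom.range_eq_map, Subgroup.range_subtype, hLL]⟩
  let gL : L →* L' := g.subgroupComap L'
  have hgLs : Function.Surjective gL := MonoidHom.subgroupComap_surjective_of_surjective g L' hgs
  have hker : (j.toMonoidHom.comp gL).ker = Z.subgroupOf L := by
    rw [← MonoidHom.comap_ker, (MonoidHom.ker_eq_bot_iff _).2 j.injective, MonoidHom.comap_bot]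
    ext x
    rw [MonoidHom.mem_ker, Subgroup.mem_subgroupOf, hZdef, ← QuotientGroup.eq_one_iff]
    exact Subtype.ext_iff
  obtain ⟨eL⟩ := sl_of_central (L := L) ⟨a, ha⟩ h3 (j.toMonoidHom.comp gL) (j.surjective.comp hgLs)
    (fun x hx => by
      rw [hker, Subgroup.mem_subgroupOf] at hx
      exact Subgroup.mem_center_iff.2 fun y => Subtype.ext (Subgroup.mem_center_iff.1 hx y))
    (by rw [hker]; exact (Nat.card_congr (Subgroup.subgroupOfEquivOfLe hZL).toEquiv).trans hZ)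
  set G₁ := L.comap f with hG₁
  have hMG : M ≤ G₁ := fun x hx => by
    show f x ∈ L
    rw [show f x = 1 from (QuotientGroup.eq_one_iff x).2 hx]
    exact one_mem _
  haveI : L.Normal := hL'n.comap g
  refine ⟨G₁, Subgroup.Normal.comap inferInstance f, (inferInstance : M.Normal).subgroupOf G₁, ?_, hMG, F, iF, iFt,
    hq8, h3, ⟨?_⟩⟩
  · rw [hG₁, Subgroup.index_comap_of_surjective _ hfs, hL, Subgroup.index_comap_of_surjective _ hgs]
    exact hidx
  · let fL : G₁ →* L := f.subgroupComap L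
    have hfLs : Function.Surjective fL := MonoidHom.subgroupComap_surjective_of_surjective f L hfs
    have hfk : fL.ker = M.subgroupOf G₁ := by
      ext x
      rw [MonoidHom.mem_ker, Subgroup.mem_subgroupOf, ← QuotientGroup.eq_one_iff]
      exact Subtype.ext_iff
    exact ((QuotientGroup.quotientMulEquivOfEq hfk.symm).trans
      (QuotientGroup.quotientKerEquivOfSurjective fL hfLs)).trans eL

end Cfsg.Agent.GW.Dep
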