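import Cfsg.Agent.Lib.GW.Setup
import Cfsg.Agent.Lib.Classical.Dickson.Recognition
import Cfsg.Agent.Lib.Small.SimpleOrderTools
import Cfsg.Agent.S2119

/-!
# A normal subgroup with a four-group as Sylow two-subgroup and a two-group quotient

`core_structure`: then the group modulo its centre is `A₄`, `S₄`, or almost simple over `L₂(q)`,
`q ≡ 3, 5` modulo eight.
-/

set_option autoImplicit false
set_option linter.style.haveILetI false
set_option linter.unusedSectionVars false

namespace Cfsg.Agent.GW.Dep.TwoClasses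

open Cfsg Cfsg.Agent Cfsg.Agent.GW.Reduced

universe u

variable {G : Type u} [Group G] [Finite G]

/-- The image in `G` of a characteristic subgroup of a normal subgroup. -/
theorem map_core_normal (K : Subgroup G) [K.Normal] :
    ((Cfsg.pPrimeCore 2 K).map K.subtype).Normal := by
  haveI : (Cfsg.pPrimeCore 2 K).Characteristic := Fusion.pPrimeCore_characteristic
  infer_instance

/-- A normal subgroup of odd order is trivial. -/
theorem odd_normal_bot (hO : Cfsg.pPrimeCore 2 G = ⊥) (N : Subgroup G) [N.Normal] (h : Odd (Nat.card N)) :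
    N = ⊥ :=
  le_bot_iff.1 (hO ▸ Fusion.le_pPrimeCore (Nat.coprime_two_right.2 h))

/-- A normal subgroup with a normal two-complement is a two-group. -/
theorem pgroup_of_hnpc (hO : Cfsg.pPrimeCore 2 G = ⊥) (K : Subgroup G) [K.Normal]
    (h : Cfsg.HasNormalPComplement 2 K) : IsPGroup 2 K := by
  haveI : Fact (Nat.Prime 2) := ⟨Nat.prime_two⟩
  have hb : Cfsg.pPrimeCore 2 K = ⊥ := by
    haveI := map_core_normal K
    have hb := odd_normal_bot hO ((Cfsg.pPrimeCore 2 K).map K.subtype) (by
      rw [Subgroup.card_map_of_injective K.subtype_injective]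
      exact Nat.coprime_two_right.1 (Fusion.card_pPrimeCore_coprime 2 K))
    exact (Subgroup.map_eq_bot_iff_of_injective _ K.subtype_injective).1 hb
  have hr : Cfsg.pResidual 2 K = ⊥ := le_bot_iff.1 (hb ▸ Fusion.hnpc_pResidual_le_pPrimeCore h)
  obtain ⟨S⟩ := (inferInstance : Nonempty (Sylow 2 K))
  have hc := Fusion.isComplement'_of_coprime_card S (by rw [hr, Subgroup.card_bot]; exact Nat.coprime_one_left 2)
  rw [hr] at hc
  exact IsPGroup.of_equiv S.isPGroup' ((MulEquiv.subgroupCongr (by
    exact Subgroup.isComplement'_bot_left.1 hc)).trans Subgroup.topEquiv)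

/-- An abelian normal subgroup is a two-group. -/
theorem pgroup_of_comm (hO : Cfsg.pPrimeCore 2 G = ⊥) (A : Subgroup G) [A.Normal]
    (hA : ∀ a ∈ A, ∀ b ∈ A, a * b = b * a) : IsPGroup 2 A := by
  haveI : Fact (Nat.Prime 2) := ⟨Nat.prime_two⟩
  obtain ⟨S⟩ := (inferInstance : Nonempty (Sylow 2 A))
  refine pgroup_of_hnpc hO A ⟨S, (MonoidHom.transferSylow S ?_).ker, inferInstance,
    MonoidHom.ker_transferSylow_isComplement' S _⟩
  intro x _
  exact Subgroup.mem_centralizer_iff.2 fun y _ => Subtype.ext (hA y y.2 x x.2)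

/-- A normal two-subgroup lies in every Sylow subgroup. -/
theorem le_sylow_of_normal (P : Sylow 2 G) (N : Subgroup G) [N.Normal] (h : IsPGroup 2 N) :
    N ≤ (P : Subgroup G) := by
  haveI : Fact (Nat.Prime 2) := ⟨Nat.prime_two⟩
  obtain ⟨Q, hQ⟩ := h.exists_le_sylow
  obtain ⟨g, hg⟩ := MulAction.exists_smul_eq G Q P
  intro x hx
  rw [← hg, Sylow.coe_subgroup_smul]
  refine ⟨g⁻¹ * x * g, hQ ?_, ?_⟩
  · have := (inferInstance : N.Normal).conj_mem x hx g⁻¹
    rwa [inv_inv] at this
  · show g * (g⁻¹ * x * g) * g⁻¹ = x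
    group

/-- An odd-order element acting on a four group and fixing one involution fixes all of it. -/
theorem four_fixed_of_odd {X : Type*} [Group X] {V : Subgroup X} (hV : Nat.card V = 4) (hsq : ∀ v ∈ V, v * v = 1)
    {a : X} (hodd : Odd (orderOf a)) (hn : ∀ v ∈ V, a * v * a⁻¹ ∈ V) {i : X} (hi : i ∈ V) (hi1 : i ≠ 1)
    (hfix : a * i * a⁻¹ = i) {v : X} (hv : v ∈ V) : a * v * a⁻¹ = v := by
  classical
  haveI : Finite V := Nat.finite_of_card_ne_zero (by omega)
  -- the conjugate is `v` or `i * v`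
  by_cases hv1 : v = 1
  · rw [hv1]; group
  by_cases hvi : v = i
  · rw [hvi]; exact hfix
  have hfour : ∀ w ∈ V, w = 1 ∨ w = i ∨ w = v ∨ w = i * v := by
    intro w hw
    by_contra hcon
    push Not at hcon
    obtain ⟨h1, h2, h3, h4⟩ := hcon
    have hiv1 : i * v ≠ 1 := fun h => hvi (by
      calc v = i * (i * v) := by rw [← mul_assoc, hsq i hi, one_mul]
        _ = i := by rw [h, mul_one])
    have hivi : i * v ≠ i := fun h => hv1 (mul_left_cancel (h.trans (mul_one i).symm))
    have hivv : i * v ≠ v := fun h => hi1 (mul_right_cancel (h.trans (one_mul v).symm))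
    let f : Fin 5 → V := ![1, ⟨i, hi⟩, ⟨v, hv⟩, ⟨i * v, mul_mem hi hv⟩, ⟨w, hw⟩]
    have hf : Function.Injective f := by
      intro x y hxy
      have := congrArg Subtype.val hxy
      fin_cases x <;> fin_cases y <;> simp [f] at this ⊢ <;>
        first
          | exact hi1 this | exact hi1 this.symm | exact hv1 this | exact hv1 this.symm
          | exact hiv1 this | exact hiv1 this.symm | exact h1 this | exact h1 this.symm
          | exact hvi this | exact hvi this.symm | exact h2 this | exact h2 this.symm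
          | exact h3 this | exact h3 this.symm | exact h4 this | exact h4 this.symm
          | exact hivi (by simpa using this) | exact hivi (by simpa using this.symm)
          | exact hivv (by simpa using this) | exact hivv (by simpa using this.symm)
    have := Nat.card_le_card_of_injective f hf
    rw [Nat.card_fin, hV] at this
    omega
  rcases hfour _ (hn v hv) with h | h | h | h
  · refine absurd ?_ hv1
    calc v = a⁻¹ * (a * v * a⁻¹) * a := by group
      _ = 1 := by rw [h]; group
  · exfalso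
    refine hvi ?_
    calc v = a⁻¹ * (a * v * a⁻¹) * a := by group
      _ = a⁻¹ * (a * i * a⁻¹) * a := by rw [h, hfix]
      _ = i := by group
  · exact h
  · -- `a` squares to the identity on `v`
    have h2 : a * a * v * (a * a)⁻¹ = v := by
      calc a * a * v * (a * a)⁻¹ = a * (a * v * a⁻¹) * a⁻¹ := by group
        _ = a * (i * v) * a⁻¹ := by rw [h]
        _ = (a * i * a⁻¹) * (a * v * a⁻¹) := by group
        _ = v := by rw [hfix, h, ← mul_assoc, hsq i hi, one_mul]
    obtain ⟨m, hm⟩ := hodd
    have hcomm : Commute (a * a) v := by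
      show a * a * v = v * (a * a)
      calc a * a * v = a * a * v * (a * a)⁻¹ * (a * a) := by group
        _ = _ := by rw [h2]
    have ha : a⁻¹ = (a * a) ^ m := by
      rw [inv_eq_iff_mul_eq_one, ← pow_two, ← pow_mul, ← pow_succ', ← hm, pow_orderOf_eq_one]
    have hcv : Commute a v := by
      have h3 := hcomm.pow_left m
      rw [← ha] at h3
      exact Commute.inv_left_iff.1 h3
    rw [hcv.eq]
    group

/-- **The structure.** -/
theorem core_structure (gw : PerfectClass.{u}) (P : Sylow 2 G) (hO : Cfsg.pPrimeCore 2 G = ⊥)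
    (hG : ¬ IsPGroup 2 G) (K : Subgroup G) [K.Normal] (hKP : K ⊔ (P : Subgroup G) = ⊤)
    (h4 : Nat.card ↥((P : Subgroup G) ⊓ K) = 4) (hsq : ∀ x ∈ (P : Subgroup G) ⊓ K, x * x = 1)
    (hcomm : ∀ x ∈ (P : Subgroup G), ∀ y ∈ (P : Subgroup G), x * y * x⁻¹ * y⁻¹ ∈ K) :
    Nonempty (G ⧸ Subgroup.center G ≃* ↥(alternatingGroup (Fin 4))) ∨
      Nonempty (G ⧸ Subgroup.center G ≃* Equiv.Perm (Fin 4)) ∨
      ∃ S : Subgroup (G ⧸ Subgroup.center G), S.Normal ∧ IsSimpleGroup ↥S ∧ ¬ IsMulCommutative ↥S ∧
        Subgroup.centralizer (S : Set (G ⧸ Subgroup.center G)) = ⊥ ∧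
        ∃ (F : Type) (_ : Field F) (_ : Fintype F), 3 < Fintype.card F ∧
          (Fintype.card F % 8 = 3 ∨ Fintype.card F % 8 = 5) ∧
          Nonempty (↥S ≃* Matrix.ProjectiveSpecialLinearGroup (Fin 2) F) := by
  classical
  haveI : Fact (Nat.Prime 2) := ⟨Nat.prime_two⟩
  set Q : Subgroup G := (P : Subgroup G) ⊓ K with hQdef
  have hQK : Q ≤ K := inf_le_right
  have hQP : Q ≤ (P : Subgroup G) := inf_le_left
  have hQcomm : ∀ a ∈ Q, ∀ b ∈ Q, a * b = b * a := fun a ha b hb => by
    calc a * b = a * ((a * b) * (a * b)) * b := by rw [hsq _ (mul_mem ha hb), mul_one]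
      _ = (a * a) * (b * a) * (b * b) := by group
      _ = b * a := by rw [hsq a ha, hsq b hb, one_mul, mul_one]
  have hKnot : ¬ IsPGroup 2 K := fun h => hG (by
    have : (P : Subgroup G) = ⊤ := by rw [← hKP, eq_comm, sup_eq_right]; exact le_sylow_of_normal P K h
    exact IsPGroup.of_equiv P.isPGroup' ((MulEquiv.subgroupCongr this).trans Subgroup.topEquiv))
  have hK2 : ∀ v ∈ K, ∀ T : Subgroup G, v ∈ T → IsPGroup 2 T → ∃ g : G, g * v * g⁻¹ ∈ Q := by
    intro v hv T hvT hT
    obtain ⟨R, hR⟩ := hT.exists_le_sylow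
    obtain ⟨g, hg⟩ := MulAction.exists_smul_eq G R P
    refine ⟨g, Subgroup.mem_inf.2 ⟨?_, (inferInstance : K.Normal).conj_mem v hv g⟩⟩
    rw [← hg, Sylow.coe_subgroup_smul]
    exact ⟨v, hR hvT, rfl⟩
  have hinj : ∀ R : Subgroup G, R ≤ K → IsPGroup 2 R → ∃ g : G, ∀ r ∈ R, g * r * g⁻¹ ∈ Q := by
    intro R hRK hR
    obtain ⟨R', hR'⟩ := hR.exists_le_sylow
    obtain ⟨g, hg⟩ := MulAction.exists_smul_eq G R' P
    refine ⟨g, fun r hr => Subgroup.mem_inf.2 ⟨?_, (inferInstance : K.Normal).conj_mem r (hRK hr) g⟩⟩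
    rw [← hg, Sylow.coe_subgroup_smul]
    exact ⟨r, hR' hr, rfl⟩
  have hbound : ∀ R : Subgroup K, IsPGroup 2 R → Nat.card R ≤ 4 := by
    intro R hR
    obtain ⟨g, hg⟩ := hinj (R.map K.subtype) (Subgroup.map_subtype_le _) (hR.map _)
    rw [← h4]
    exact Nat.card_le_card_of_injective (fun x : R => (⟨g * (x : K) * g⁻¹, hg _ ⟨x, x.2, rfl⟩⟩ : Q))
      fun x y h => Subtype.ext (Subtype.ext (mul_left_cancel (mul_right_cancel (congrArg Subtype.val h))))
  obtain ⟨T, hT⟩ := (IsPGroup.of_equiv (P.isPGroup'.to_le hQP) (Subgroup.subgroupOfEquivOfLe hQK).symm :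
    IsPGroup 2 (Q.subgroupOf K)).exists_le_sylow
  have hTQ : ∀ t : K, t ∈ (T : Subgroup K) ↔ (t : G) ∈ Q := fun t => by
    have heq : Q.subgroupOf K = (T : Subgroup K) := Subgroup.eq_of_le_of_card_ge hT (by
      rw [Nat.card_congr (Subgroup.subgroupOfEquivOfLe hQK).toEquiv, h4]
      exact hbound _ T.isPGroup')
    rw [← heq, Subgroup.mem_subgroupOf]
  have hScard : ∀ S : Sylow 2 K, Nat.card (S : Subgroup K) = 4 := fun S => by
    rw [S.card_eq_multiplicity, ← T.card_eq_multiplicity]
    refine le_antisymm (hbound _ T.isPGroup') ?_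
    rw [← h4, ← Nat.card_congr (Subgroup.subgroupOfEquivOfLe hQK).toEquiv]
    exact Subgroup.card_le_of_le hT
  set C : Subgroup G := Subgroup.centralizer (K : Set G) with hC
  haveI hCn : C.Normal := Subgroup.normal_centralizer
  -- `K` has no centre
  have hCK : C ⊓ K = ⊥ := by
    haveI : (C ⊓ K).Normal := inferInstance
    have h2 := pgroup_of_comm hO (C ⊓ K) fun a ha b hb =>
      (Subgroup.mem_centralizer_iff.1 ha.1 b hb.2).symm
    have hle : C ⊓ K ≤ Q := le_inf (le_sylow_of_normal P _ h2) inf_le_right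
    rw [eq_bot_iff]
    intro i hi
    rw [Subgroup.mem_bot]
    by_contra hi1
    -- a Sylow subgroup of `K` central in its normaliser
    refine hKnot (pgroup_of_hnpc hO K ⟨T, (MonoidHom.transferSylow T ?_).ker, inferInstance,
      MonoidHom.ker_transferSylow_isComplement' T _⟩)
    intro n hn
    refine Subgroup.mem_centralizer_iff.2 fun t ht => Subtype.ext ?_
    have htQ : (t : G) ∈ Q := (hTQ t).1 ht
    let Cn : Subgroup G := Subgroup.centralizer (Q : Set G)
    suffices hnC : (n : G) ∈ Cn from Subgroup.mem_centralizer_iff.1 hnC t htQ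
    have hnQ : ∀ x : K, x ∈ Subgroup.normalizer ((T : Subgroup K) : Set K) → ∀ v ∈ Q, (x : G) * v * (x : G)⁻¹ ∈ Q := by
      intro x hx v hv
      exact (hTQ _).1 ((Subgroup.mem_normalizer_iff.1 hx ⟨v, hQK hv⟩).1 ((hTQ _).2 hv))
    obtain ⟨k, m, hmodd, hkm⟩ := Nat.exists_eq_two_pow_mul_odd (orderOf_pos n).ne'
    have h1 : ((n ^ 2 ^ k : K) : G) ∈ Cn := by
      have ho : Odd (orderOf ((n ^ 2 ^ k : K) : G)) := by
        rw [Subgroup.orderOf_coe, orderOf_pow, hkm, Nat.gcd_eq_right (Dvd.intro m rfl),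
          Nat.mul_div_cancel_left _ (pow_pos two_pos k)]
        exact hmodd
      refine Subgroup.mem_centralizer_iff.2 fun v hv => ?_
      have h := four_fixed_of_odd h4 hsq ho (fun w hw => hnQ _ (pow_mem hn _) w hw) (hle hi) hi1
        (by
          have := Subgroup.mem_centralizer_iff.1 hi.1 _ ((n ^ 2 ^ k : K)).2
          rw [this]; group) hv
      calc v * ((n ^ 2 ^ k : K) : G) = ((n ^ 2 ^ k : K) : G) * v * ((n ^ 2 ^ k : K) : G)⁻¹ * ((n ^ 2 ^ k : K) : G) := by
            rw [h]
        _ = _ := by group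
    have h2' : ((n ^ m : K) : G) ∈ Cn := by
      have hp : IsPGroup 2 (Subgroup.zpowers (n ^ m)) := IsPGroup.of_card (n := k) (by
        rw [Nat.card_zpowers, orderOf_pow, hkm, Nat.gcd_eq_right (Dvd.intro_left (2 ^ k) rfl),
          Nat.mul_div_cancel _ hmodd.pos])
      have hmem : n ^ m ∈ (T : Subgroup K) := by
        have := (hp.inf_normalizer_sylow T).le ⟨Subgroup.mem_zpowers _, pow_mem hn _⟩
        exact this.2
      exact Subgroup.mem_centralizer_iff.2 fun v hv => hQcomm v hv _ ((hTQ _).1 hmem)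
    have hco : Nat.Coprime (2 ^ k) m := (Nat.coprime_two_left.2 hmodd).pow_left k
    have hab := Nat.gcd_eq_gcd_ab (2 ^ k) m
    rw [hco] at hab
    have hn' : (n : G) = ((n ^ 2 ^ k : K) : G) ^ (Nat.gcdA (2 ^ k) m) * ((n ^ m : K) : G) ^ (Nat.gcdB (2 ^ k) m) := by
      rw [SubmonoidClass.coe_pow, SubmonoidClass.coe_pow, ← zpow_natCast (n : G) (2 ^ k), ← zpow_natCast (n : G) m,
        ← zpow_mul, ← zpow_mul, ← zpow_add, ← hab, Nat.cast_one, zpow_one]
    rw [hn']
    exact mul_mem (zpow_mem h1 _) (zpow_mem h2' _)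
  -- the image of `K`
  have hCP : C ≤ (P : Subgroup G) := by
    refine le_sylow_of_normal P C ?_
    intro c
    obtain ⟨x, hx, y, hy, hxy⟩ := Subgroup.mem_sup_of_normal_left.1 (hKP ▸ Subgroup.mem_top (c : G))
    obtain ⟨j, hj⟩ := P.isPGroup' ⟨y, hy⟩
    refine ⟨j, Subtype.ext ?_⟩
    have hy' : y ^ 2 ^ j = 1 := congrArg Subtype.val hj
    have hq : QuotientGroup.mk' K ((c : G) ^ 2 ^ j) = 1 := by
      rw [map_pow, ← hxy, map_mul, show QuotientGroup.mk' K x = 1 from (QuotientGroup.eq_one_iff x).2 hx, one_mul,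
        ← map_pow, hy', map_one]
    have hm : (c : G) ^ 2 ^ j ∈ C ⊓ K := ⟨pow_mem c.2 _, (QuotientGroup.eq_one_iff _).1 hq⟩
    rw [hCK, Subgroup.mem_bot] at hm
    exact hm
  have hcen : Subgroup.center G = C := by
    refine le_antisymm (Subgroup.center_le_centralizer _) fun c hc => Subgroup.mem_center_iff.2 fun g => ?_
    obtain ⟨x, hx, y, hy, rfl⟩ := Subgroup.mem_sup_of_normal_left.1 (hKP ▸ Subgroup.mem_top g)
    have h1 : x * c = c * x := Subgroup.mem_centralizer_iff.1 hc x hx
    have h2 : y * c * y⁻¹ * c⁻¹ ∈ C ⊓ K :=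
      Subgroup.mem_inf.2 ⟨C.mul_mem (hCn.conj_mem c hc y) (C.inv_mem hc), hcomm y hy c (hCP hc)⟩
    rw [hCK, Subgroup.mem_bot, mul_inv_eq_one, mul_inv_eq_iff_eq_mul] at h2
    rw [mul_assoc, h2, ← mul_assoc, h1, mul_assoc]
  -- abelian normal subgroups inside `K`
  by_cases hQn : Q.Normal
  · have hKN : ∀ x ∈ K, ∀ v ∈ Q, x * v * x⁻¹ ∈ Q := fun x _ v hv => hQn.conj_mem v hv x
    -- the centraliser of `Q` in `K`
    haveI := hQn
    haveI : (Subgroup.centralizer (Q : Set G) ⊓ K).Normal := inferInstance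
    set W : Subgroup G := Subgroup.centralizer (Q : Set G) ⊓ K with hW
    have hQW : Q ≤ W := le_inf (fun a ha => Subgroup.mem_centralizer_iff.2 fun b hb => (hQcomm b hb a ha)) hQK
    have hWQ : W = Q := by
      refine le_antisymm ?_ hQW
      have h2 : IsPGroup 2 W := by
        let TW : Sylow 2 W := Classical.choice inferInstance
        refine pgroup_of_hnpc hO W ⟨TW, (MonoidHom.transferSylow TW ?_).ker, inferInstance,
          MonoidHom.ker_transferSylow_isComplement' TW _⟩
        intro n _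
        refine Subgroup.mem_centralizer_iff.2 fun t ht => Subtype.ext ?_
        obtain ⟨g, hg⟩ := hK2 _ t.2.2 ((TW : Subgroup W).map W.subtype) ⟨t, ht, rfl⟩ (TW.isPGroup'.map _)
        have htQ : (t : G) ∈ Q := by
          have := hQn.conj_mem _ hg g⁻¹
          rwa [inv_inv, show g⁻¹ * (g * (t : G) * g⁻¹) * g = t by group] at this
        exact Subgroup.mem_centralizer_iff.1 n.2.1 t htQ
      exact le_inf (le_sylow_of_normal P W h2) inf_le_right
    have hne : ∃ v ∈ Q, v ≠ 1 := by
      by_contra hcon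
      push Not at hcon
      rw [(Subgroup.eq_bot_iff_forall Q).2 hcon, Subgroup.card_bot] at h4
      omega
    have hodd_fix : ∀ a ∈ K, Odd (orderOf a) → ∀ v ∈ Q, v ≠ 1 → a * v * a⁻¹ = v → a = 1 := by
      intro a ha ho v hv hv1 hf
      have haW : a ∈ W := ⟨Subgroup.mem_centralizer_iff.2 fun w hw => by
        have h := four_fixed_of_odd h4 hsq ho (hKN a ha) hv hv1 hf hw
        calc w * a = a * w * a⁻¹ * a := by rw [h]
          _ = _ := by group, ha⟩
      rw [hWQ] at haW
      have h2 : orderOf a ∣ 2 := orderOf_dvd_of_pow_eq_one (by rw [pow_two, hsq a haW])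
      exact orderOf_eq_one_iff.1 (Nat.eq_one_of_dvd_coprimes (Nat.coprime_two_left.2 ho) h2 dvd_rfl)
    -- the conjugation action on the three involutions
    let I := {v : Q // v ≠ 1}
    let act : K →* Equiv.Perm I :=
      { toFun := fun x =>
          { toFun := fun v => ⟨⟨(x : G) * v.1.1 * (x : G)⁻¹, hKN x x.2 _ v.1.2⟩, fun h => v.2 (Subtype.ext (by
              have h' : (x : G) * v.1.1 * (x : G)⁻¹ = 1 := congrArg Subtype.val h
              calc (v.1.1 : G) = (x : G)⁻¹ * ((x : G) * v.1.1 * (x : G)⁻¹) * x := by group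
                _ = 1 := by rw [h']; group))⟩
            invFun := fun v => ⟨⟨(x : G)⁻¹ * v.1.1 * (x : G), by
                have := hKN _ (inv_mem x.2) _ v.1.2
                rwa [inv_inv] at this⟩, fun h => v.2 (Subtype.ext (by
              have h' : (x : G)⁻¹ * v.1.1 * (x : G) = 1 := congrArg Subtype.val h
              calc (v.1.1 : G) = (x : G) * ((x : G)⁻¹ * v.1.1 * (x : G)) * (x : G)⁻¹ := by group
                _ = 1 := by rw [h']; group))⟩
            left_inv := fun v => by
              refine Subtype.ext (Subtype.ext ?_)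
              show (x : G)⁻¹ * ((x : G) * v.1.1 * (x : G)⁻¹) * x = _
              group
            right_inv := fun v => by
              refine Subtype.ext (Subtype.ext ?_)
              show (x : G) * ((x : G)⁻¹ * v.1.1 * x) * (x : G)⁻¹ = _
              group }
        map_one' := Equiv.ext fun v => Subtype.ext (Subtype.ext (by
          show ((1 : K) : G) * v.1.1 * ((1 : K) : G)⁻¹ = v.1.1
          simp))
        map_mul' := fun x y => Equiv.ext fun v => Subtype.ext (Subtype.ext (by
          show ((x * y : K) : G) * v.1.1 * ((x * y : K) : G)⁻¹ = (x : G) * ((y : G) * v.1.1 * (y : G)⁻¹) * (x : G)⁻¹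
          rw [Subgroup.coe_mul]
          group)) }
    have hker : act.ker = Q.subgroupOf K := by
      ext x
      rw [MonoidHom.mem_ker, Subgroup.mem_subgroupOf]
      constructor
      · intro h
        rw [← hWQ]
        refine ⟨Subgroup.mem_centralizer_iff.2 fun v hv => ?_, x.2⟩
        by_cases hv1 : v = 1
        · rw [hv1, one_mul, mul_one]
        have h1 := congrArg (fun σ : Equiv.Perm I => ((σ ⟨⟨v, hv⟩, fun e => hv1 (congrArg Subtype.val e)⟩).1 : G)) h
        change (x : G) * v * (x : G)⁻¹ = v at h1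
        calc v * x = x * v * (x : G)⁻¹ * x := by rw [h1]
          _ = _ := by group
      · intro h
        refine Equiv.ext fun v => Subtype.ext (Subtype.ext ?_)
        show (x : G) * v.1.1 * (x : G)⁻¹ = v.1.1
        rw [hQcomm _ h _ v.1.2]
        group
    have hI : Nat.card I = 3 := by
      have := Finite.card_option (α := I)
      rw [Nat.card_congr (Equiv.optionSubtypeNe (1 : Q)), h4] at this
      omega
    have hr6 : Nat.card act.range ∣ 6 := by
      have := Subgroup.card_subgroup_dvd_card act.range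
      rwa [Nat.card_perm, hI] at this
    have hKc : Nat.card K = Nat.card act.range * 4 := by
      have := act.ker.card_mul_index
      rw [Subgroup.index_ker, hker, Nat.card_congr (Subgroup.subgroupOfEquivOfLe hQK).toEquiv, h4] at this
      omega
    have hodd : ¬ 2 ∣ Nat.card act.range := by
      intro h2
      obtain ⟨S⟩ := (inferInstance : Nonempty (Sylow 2 K))
      have h8 : 2 ^ 3 ∣ Nat.card K := by
        obtain ⟨c, hc⟩ := h2
        exact ⟨c, by rw [hKc, hc]; ring⟩
      have := Nat.le_of_dvd Nat.card_pos (S.pow_dvd_card_of_pow_dvd_card h8)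
      rw [hScard S] at this
      norm_num at this
    have hK12 : Nat.card K = 12 := by
      rw [hKc]
      rcases (Nat.le_of_dvd (by norm_num) hr6 : Nat.card act.range ≤ 6).lt_or_eq with hlt | heq
      · interval_cases h : Nat.card act.range
        · exact absurd hr6 (by norm_num)
        · exfalso
          refine hKnot (IsPGroup.of_card (n := 2) ?_)
          rw [hKc]; norm_num
        · exact absurd dvd_rfl hodd
        · norm_num
        · exact absurd hr6 (by norm_num)
        · exact absurd hr6 (by norm_num)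
      · rw [heq] at hodd
        exact absurd (by norm_num) hodd
    obtain ⟨c, hc⟩ := exists_prime_orderOf_dvd_card' (G := K) 3 (hp := ⟨Nat.prime_three⟩) (by rw [hK12]; norm_num)
    have hA : Nonempty (K ≃* alternatingGroup (Fin 4)) := by
      refine Classical.Dickson.a4_of (C := Subgroup.zpowers c) hK12 (by rw [Nat.card_zpowers, hc]) ?_
      have hd := Subgroup.card_subgroup_dvd_card (Subgroup.normalizer ((Subgroup.zpowers c : Subgroup K) : Set K))
      rw [hK12] at hd
      have h3 : 3 ∣ Nat.card (Subgroup.normalizer ((Subgroup.zpowers c : Subgroup K) : Set K)) := by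
        have := Subgroup.card_dvd_of_le (Subgroup.le_normalizer (H := Subgroup.zpowers c))
        rwa [Nat.card_zpowers, hc] at this
      have hnev : ¬ 2 ∣ Nat.card (Subgroup.normalizer ((Subgroup.zpowers c : Subgroup K) : Set K)) := by
        intro h2
        obtain ⟨⟨w, hw⟩, hwo⟩ := exists_prime_orderOf_dvd_card' 2 h2
        rw [Subgroup.orderOf_mk] at hwo
        -- `w` lies in `Q` and commutes with `c`
        obtain ⟨g, hg⟩ := hK2 w.1 w.2 ((Subgroup.zpowers w).map K.subtype) ⟨w, Subgroup.mem_zpowers w, rfl⟩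
          ((IsPGroup.of_card (n := 1) (by rw [Nat.card_zpowers, hwo, pow_one])).map _)
        have hwQ : (w : G) ∈ Q := by
          have := hQn.conj_mem _ hg g⁻¹
          rwa [inv_inv, show g⁻¹ * (g * (w : G) * g⁻¹) * g = w by group] at this
        have hcc : w * c * w⁻¹ * c⁻¹ ∈ Subgroup.zpowers c :=
          mul_mem ((Subgroup.mem_normalizer_iff.1 hw c).1 (Subgroup.mem_zpowers c))
            (inv_mem (Subgroup.mem_zpowers c))
        have hcQ : ((w * c * w⁻¹ * c⁻¹ : K) : G) ∈ Q := by
          simp only [Subgroup.coe_mul, Subgroup.coe_inv]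
          have : (w : G) * c * (w : G)⁻¹ * (c : G)⁻¹ = w * ((c : G) * (w : G)⁻¹ * (c : G)⁻¹) := by group
          rw [this]
          exact mul_mem hwQ (hKN c c.2 _ (inv_mem hwQ))
        have h1 : w * c * w⁻¹ * c⁻¹ = 1 := by
          refine orderOf_eq_one_iff.1 (Nat.eq_one_of_dvd_coprimes (show Nat.Coprime 3 2 by norm_num) ?_ ?_)
          · exact (Subgroup.orderOf_dvd_natCard _ hcc).trans (by rw [Nat.card_zpowers, hc])
          · rw [← Subgroup.orderOf_coe]
            exact orderOf_dvd_of_pow_eq_one (by rw [pow_two, hsq _ hcQ])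
        have hw1 : (w : G) ≠ 1 := fun h => by rw [OneMemClass.coe_eq_one.1 h, orderOf_one] at hwo; exact absurd hwo (by norm_num)
        have hc1 : (c : G) = 1 := hodd_fix c c.2 (by rw [Subgroup.orderOf_coe, hc]; decide) w hwQ hw1 (by
          rw [mul_inv_eq_one, mul_inv_eq_iff_eq_mul] at h1
          have h1' : (w : G) * c = c * w := congrArg Subtype.val h1
          rw [← h1']; group)
        rw [OneMemClass.coe_eq_one.1 hc1, orderOf_one] at hc
        exact absurd hc (by norm_num)
      have hle := Nat.le_of_dvd (by norm_num) hd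
      obtain ⟨d, hd'⟩ := h3
      rw [hd'] at hd hnev hle ⊢
      have : d ≤ 4 := by omega
      interval_cases d <;> first | omega | exact absurd (by norm_num) hnev | exact absurd hd (by norm_num)
    obtain ⟨e⟩ := hA
    -- the action on `K`
    let θ : G →* MulAut (alternatingGroup (Fin 4)) := (MulAut.congr e).toMonoidHom.comp MulAut.conjNormal
    have hθ : θ.ker = C := by
      ext g
      rw [MonoidHom.mem_ker, MonoidHom.comp_apply, MulEquiv.coe_toMonoidHom, MulEquiv.map_eq_one_iff]
      constructor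
      · intro h
        refine Subgroup.mem_centralizer_iff.2 fun k hk => ?_
        have h1 : g * k * g⁻¹ = k := congrArg Subtype.val (DFunLike.congr_fun h (⟨k, hk⟩ : K))
        calc k * g = g * k * g⁻¹ * g := by rw [h1]
          _ = _ := by group
      · intro h
        refine MulEquiv.ext fun k => Subtype.ext ?_
        show g * (k : G) * g⁻¹ = k
        rw [← Subgroup.mem_centralizer_iff.1 h k k.2]
        group
    let b := MulEquiv.ofBijective _ (S2119.result 4 le_rfl (by norm_num))
    let φ : G →* Equiv.Perm (Fin 4) := b.symm.toMonoidHom.comp θ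
    have hφ : φ.ker = Subgroup.center G := by
      rw [hcen, ← hθ]
      ext g
      rw [MonoidHom.mem_ker, MonoidHom.mem_ker, MonoidHom.comp_apply, MulEquiv.coe_toMonoidHom,
        MulEquiv.map_eq_one_iff]
    have h12 : 12 ∣ Nat.card φ.range := by
      rw [← hK12]
      refine Subgroup.card_dvd_of_injective ((φ.comp K.subtype).codRestrict φ.range fun k => ⟨k, rfl⟩) ?_
      rw [injective_iff_map_eq_one]
      intro k hk
      have h1 : (k : G) ∈ φ.ker := congrArg Subtype.val hk
      rw [hφ, hcen] at h1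
      exact Subtype.ext (Subgroup.mem_bot.1 (hCK ▸ (⟨h1, k.2⟩ : (k : G) ∈ C ⊓ K)))
    have hidx := φ.range.card_mul_index
    rw [Nat.card_perm, Nat.card_fin] at hidx
    obtain ⟨d, hd⟩ := h12
    rw [hd, show Nat.factorial 4 = 24 from rfl] at hidx
    have hd2 : φ.range.index = 1 ∨ φ.range.index = 2 := by
      have hd3 : φ.range.index ∣ 2 := ⟨d, by linarith⟩
      exact (Nat.dvd_prime Nat.prime_two).1 hd3
    let E : G ⧸ Subgroup.center G ≃* φ.range :=
      (QuotientGroup.quotientMulEquivOfEq hφ.symm).trans (QuotientGroup.quotientKerEquivRange φ)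
    rcases hd2 with h | h
    · exact Or.inr (Or.inl ⟨E.trans ((MulEquiv.subgroupCongr (Subgroup.index_eq_one.1 h)).trans Subgroup.topEquiv)⟩)
    · exact Or.inl ⟨E.trans (MulEquiv.subgroupCongr (Equiv.Perm.eq_alternatingGroup_of_index_eq_two h))⟩
  -- the perfect core of `K`
  right; right
  let Dn : ℕ → Subgroup G := fun m => Nat.rec (motive := fun _ => Subgroup G) K (fun _ H => ⁅H, H⁆) m
  have hDn : ∀ m, (Dn m).Normal ∧ Dn m ≤ K := fun m => by
    induction m with
    | zero => exact ⟨inferInstance, le_rfl⟩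
    | succ m ih =>
      haveI := ih.1
      exact ⟨Subgroup.commutator_normal _ _, (Subgroup.commutator_le_left (Dn m) (Dn m)).trans ih.2⟩
  have hbot : ∀ m, Dn m ≠ ⊥ := by
    intro m
    induction m with
    | zero => exact fun h => hKnot (IsPGroup.of_card (n := 0) (by
        rw [show K = ⊥ from h, Subgroup.card_bot, pow_zero]))
    | succ m ih =>
      intro h
      haveI := (hDn m).1
      have hab : ∀ a ∈ Dn m, ∀ b ∈ Dn m, a * b = b * a := fun a ha b hb =>
        commutatorElement_eq_one_iff_mul_comm.1 (Subgroup.mem_bot.1 (h ▸ Subgroup.commutator_mem_commutator ha hb))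
      have h2 := pgroup_of_comm hO (Dn m) hab
      have hle : Dn m ≤ Q := le_inf (le_sylow_of_normal P _ h2) (hDn m).2
      by_cases heq : Dn m = Q
      · exact hQn (by rw [← heq]; exact (hDn m).1)
      -- a normal subgroup of order two
      have hcard : Nat.card (Dn m) = 2 := by
        have hd := Subgroup.card_dvd_of_le hle
        rw [h4] at hd
        have h1 : Nat.card (Dn m) ≠ 1 := fun e => ih (Subgroup.card_eq_one.1 e)
        have h4' : Nat.card (Dn m) ≠ 4 := fun e => heq (Subgroup.eq_of_le_of_card_ge hle (by rw [e, h4]))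
        have := Nat.le_of_dvd (by norm_num) hd
        interval_cases Nat.card (Dn m) <;> omega
      obtain ⟨i, hi, hi1⟩ : ∃ i ∈ Dn m, i ≠ 1 := by
        by_contra hcon
        push Not at hcon
        exact ih ((Subgroup.eq_bot_iff_forall _).2 hcon)
      have hic : i ∈ C := Subgroup.mem_centralizer_iff.2 fun k _ => by
        have hm := (hDn m).1.conj_mem i hi k
        have heq2 : ∀ x ∈ Dn m, x = 1 ∨ x = i := by
          intro x hx
          obtain ⟨a, b, hab', huniv⟩ := (Nat.card_eq_two_iff).1 hcard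
          have hmem : ∀ y : Dn m, y = a ∨ y = b := fun y => by
            have := Set.eq_univ_iff_forall.1 huniv y
            simpa using this
          rcases hmem ⟨x, hx⟩ with e1 | e1 <;> rcases hmem ⟨i, hi⟩ with e2 | e2 <;>
            rcases hmem 1 with e3 | e3 <;>
            first
              | exact Or.inr (congrArg Subtype.val (e1.trans e2.symm))
              | exact Or.inl (congrArg Subtype.val (e1.trans e3.symm))
              | exact absurd (congrArg Subtype.val (e2.trans e3.symm)) hi1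
        rcases heq2 _ hm with e | e
        · exact absurd (by
            calc i = k⁻¹ * (k * i * k⁻¹) * k := by group
              _ = 1 := by rw [e]; group) hi1
        · calc k * i = k * i * k⁻¹ * k := by group
            _ = i * k := by rw [e]
      exact hi1 (Subgroup.mem_bot.1 (hCK ▸ (⟨hic, (hDn m).2 hi⟩ : i ∈ C ⊓ K)))
  obtain ⟨m, hm⟩ : ∃ m, Dn (m + 1) = Dn m := by
    by_contra hcon
    push Not at hcon
    have hlt : ∀ m, Nat.card (Dn m) + m ≤ Nat.card K := fun m => by
      induction m with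
      | zero => exact le_rfl
      | succ m ih =>
        have h1 : Dn (m + 1) < Dn m := lt_of_le_of_ne (by
          haveI := (hDn m).1
          exact Subgroup.commutator_le_left _ _) (hcon m)
        have h2 : Nat.card (Dn (m + 1)) < Nat.card (Dn m) := by
          by_contra hge
          exact h1.ne (Subgroup.eq_of_le_of_card_ge h1.le (not_lt.1 hge))
        omega
    have := hlt (Nat.card K)
    have := Nat.card_pos (α := Dn (Nat.card K))
    omega
  obtain ⟨D, hD⟩ : ∃ D, D = Dn m := ⟨_, rfl⟩
  haveI hDnn : D.Normal := hD ▸ (hDn m).1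
  have hDK : D ≤ K := hD ▸ (hDn m).2
  have hDb : D ≠ ⊥ := hD ▸ hbot m
  haveI : Group.IsPerfect D := ⟨Subgroup.map_injective D.subtype_injective (by
    rw [Subgroup.map_subtype_commutator, ← MonoidHom.range_eq_map, Subgroup.range_subtype, hD]
    exact hm)⟩
  have hOD : Cfsg.oddCore D = ⊥ := by
    haveI := map_core_normal D
    have hb := odd_normal_bot hO ((Cfsg.pPrimeCore 2 D).map D.subtype) (by
      rw [Subgroup.card_map_of_injective D.subtype_injective]
      exact Nat.coprime_two_right.1 (Fusion.card_pPrimeCore_coprime 2 D))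
    exact (Subgroup.map_eq_bot_iff_of_injective _ D.subtype_injective).1 hb
  have h2D : 2 ∣ Nat.card D := by
    by_contra h
    exact hDb (odd_normal_bot hO D (Nat.odd_iff.2 (Nat.two_dvd_ne_zero.1 h)))
  obtain ⟨SD⟩ := (inferInstance : Nonempty (Sylow 2 D))
  have hnc := not_cyclic_of_perfect SD h2D
  obtain ⟨gs, hgs⟩ := hinj ((SD : Subgroup D).map D.subtype) ((Subgroup.map_subtype_le _).trans hDK)
    (SD.isPGroup'.map _)
  have hcardSD : Nat.card (SD : Subgroup D) = 4 := by
    have hd : Nat.card (SD : Subgroup D) ∣ 4 := by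
      rw [← h4]
      refine Subgroup.card_dvd_of_injective
        (((MulAut.conj gs).toMonoidHom.comp (D.subtype.comp (SD : Subgroup D).subtype)).codRestrict Q
          fun x => hgs _ ⟨x, x.2, rfl⟩) ?_
      intro x y h
      exact Subtype.ext (Subtype.ext ((MulAut.conj gs).injective (congrArg Subtype.val h)))
    rcases (Nat.dvd_prime_pow Nat.prime_two (m := 2)).1 hd with ⟨j, hj, hj'⟩
    interval_cases j
    · haveI : Subsingleton (SD : Subgroup D) := Finite.card_le_one_iff_subsingleton.1 (by rw [hj']; norm_num)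
      exact absurd isCyclic_of_subsingleton hnc
    · exact absurd (isCyclic_of_prime_card (p := 2) (by rw [hj', pow_one])) hnc
    · rw [hj']; norm_num
  have hklein : IsKleinFour (SD : Subgroup D) := by
    refine ⟨hcardSD, ?_⟩
    haveI : Nontrivial (SD : Subgroup D) := Finite.one_lt_card_iff_nontrivial.1 (by rw [hcardSD]; norm_num)
    refine (Monoid.exponent_eq_prime_iff Nat.prime_two).2 fun x hx => orderOf_eq_prime ?_ hx
    have h1 := hsq _ (hgs _ ⟨x, x.2, rfl⟩)
    rw [← pow_two, conj_pow, mul_inv_eq_one, mul_eq_left] at h1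
    exact Subtype.ext (Subtype.ext h1)
  haveI := hklein
  obtain ⟨eS⟩ : Nonempty ((SD : Subgroup D) ≃* DihedralGroup 2) := IsKleinFour.nonempty_mulEquiv
  let ED : D ⧸ Cfsg.oddCore D ≃* D := (QuotientGroup.quotientMulEquivOfEq hOD).trans QuotientGroup.quotientBot
  have h8 : ¬ 2 ^ 3 ∣ Nat.card D := fun h => by
    have := Nat.le_of_dvd Nat.card_pos (SD.pow_dvd_card_of_pow_dvd_card h)
    rw [hcardSD] at this
    norm_num at this
  rcases gw D SD 2 le_rfl ⟨eS⟩ with ⟨F, iF, iFt, hFo, hF3, ⟨j⟩⟩ | ⟨⟨j⟩⟩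
  swap
  · exfalso
    refine h8 ?_
    rw [Nat.card_congr (ED.symm.trans j).toEquiv, nat_card_alternatingGroup, Nat.card_fin]
    decide
  let J : D ≃* Matrix.ProjectiveSpecialLinearGroup (Fin 2) F := ED.symm.trans j
  haveI : IsSimpleGroup D := (IsModel.simple (L := D) (Or.inl ⟨F, iF, iFt, hFo, hF3, ⟨J⟩⟩)).1
  have hDnc := (IsModel.simple (L := D) (Or.inl ⟨F, iF, iFt, hFo, hF3, ⟨J⟩⟩)).2
  have hF8 : Fintype.card F % 8 = 3 ∨ Fintype.card F % 8 = 5 := by
    have hc := Classical.Dickson.card_psl F
    rw [Nat.gcd_eq_left (show 2 ∣ Fintype.card F - 1 by obtain ⟨t, ht⟩ := hFo; omega)] at hc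
    rw [Nat.card_congr J.toEquiv] at h8
    by_contra hcon
    push Not at hcon
    refine h8 ?_
    obtain ⟨t, ht⟩ := hFo
    have hsq' : Fintype.card F ^ 2 - 1 = 4 * (t * (t + 1)) := by
      rw [ht]
      have : (2 * t + 1) ^ 2 = 4 * (t * (t + 1)) + 1 := by ring
      omega
    obtain ⟨r, hr⟩ : 4 ∣ t * (t + 1) := by
      have : t % 4 = 0 ∨ t % 4 = 3 := by omega
      rcases this with h | h
      · exact (Nat.dvd_of_mod_eq_zero h).mul_right _
      · exact (Nat.dvd_of_mod_eq_zero (by omega : (t + 1) % 4 = 0)).mul_left _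
    rw [hsq', hr] at hc
    exact ⟨r * Fintype.card F, by linarith⟩
  -- the centraliser of `D`
  have hZD : ∀ x ∈ D, x ∈ Subgroup.centralizer (D : Set G) → x = 1 := by
    intro x hx hxc
    have hxZ : (⟨x, hx⟩ : D) ∈ Subgroup.center D := Subgroup.mem_center_iff.2 fun y =>
      Subtype.ext (Subgroup.mem_centralizer_iff.1 hxc y y.2)
    rcases (inferInstance : (Subgroup.center D).Normal).eq_bot_or_eq_top with h | h
    · rw [h, Subgroup.mem_bot] at hxZ
      exact congrArg Subtype.val hxZ
    · exact absurd (⟨⟨fun a b => (Subgroup.mem_center_iff.1 (h ▸ Subgroup.mem_top b) a)⟩⟩) hDnc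
  have hQD : Q ≤ D := by
    intro v hv
    -- a conjugate of the Sylow subgroup of `D` fills `Q`
    let f : ↥(SD : Subgroup D) → Q := fun x => ⟨gs * (x : D) * gs⁻¹, hgs _ ⟨x, x.2, rfl⟩⟩
    have hf : Function.Bijective f := (Nat.bijective_iff_injective_and_card f).2 ⟨fun x y h =>
      Subtype.ext (Subtype.ext (mul_left_cancel (mul_right_cancel (congrArg Subtype.val h)))), by rw [hcardSD, h4]⟩
    obtain ⟨x, hx⟩ := hf.2 ⟨v, hv⟩
    have := hDnn.conj_mem _ (x : D).2 gs
    rwa [show gs * ((x : D) : G) * gs⁻¹ = v from congrArg Subtype.val hx] at this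
  have hCD : Subgroup.centralizer (D : Set G) = C := by
    refine le_antisymm ?_ (Subgroup.centralizer_le hDK)
    haveI : (Subgroup.centralizer (D : Set G)).Normal := Subgroup.normal_centralizer
    have hbot' : Subgroup.centralizer (D : Set G) ⊓ K = ⊥ := by
      refine odd_normal_bot hO _ (Nat.odd_iff.2 (Nat.two_dvd_ne_zero.1 fun h2 => ?_))
      obtain ⟨⟨v, hv⟩, hvo⟩ := exists_prime_orderOf_dvd_card' 2 h2
      rw [Subgroup.orderOf_mk] at hvo
      obtain ⟨g, hg⟩ := hK2 v hv.2 (Subgroup.zpowers v) (Subgroup.mem_zpowers v)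
        (IsPGroup.of_card (n := 1) (by rw [Nat.card_zpowers, hvo, pow_one]))
      have h1 := hZD _ (hQD hg) ((inferInstance : (Subgroup.centralizer (D : Set G)).Normal).conj_mem v hv.1 g)
      rw [mul_inv_eq_one, mul_eq_left] at h1
      rw [h1, orderOf_one] at hvo
      omega
    intro x hx
    refine Subgroup.mem_centralizer_iff.2 fun k hk => ?_
    have h1 : x * k * x⁻¹ * k⁻¹ ∈ Subgroup.centralizer (D : Set G) ⊓ K := by
      refine Subgroup.mem_inf.2 ⟨?_, K.mul_mem ((inferInstance : K.Normal).conj_mem k hk x) (K.inv_mem hk)⟩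
      rw [show x * k * x⁻¹ * k⁻¹ = x * (k * x⁻¹ * k⁻¹) by group]
      exact mul_mem hx ((inferInstance : (Subgroup.centralizer (D : Set G)).Normal).conj_mem _ (inv_mem hx) k)
    rw [hbot', Subgroup.mem_bot, mul_inv_eq_one, mul_inv_eq_iff_eq_mul] at h1
    exact h1.symm
  set π := QuotientGroup.mk' (Subgroup.center G) with hπ
  have hinjD : Function.Injective (π.comp D.subtype) := by
    rw [injective_iff_map_eq_one]
    intro x hx
    have h1 : (x : G) ∈ Subgroup.center G := (QuotientGroup.eq_one_iff (x : G)).1 hx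
    rw [hcen, ← hCD] at h1
    exact Subtype.ext (hZD _ x.2 h1)
  let eD : D ≃* D.map π := (MonoidHom.ofInjective hinjD).trans (MulEquiv.subgroupCongr (by
    rw [MonoidHom.range_comp, Subgroup.range_subtype]))
  refine ⟨D.map π, hDnn.map π (QuotientGroup.mk'_surjective _), ?_, ?_, ?_,
    F, iF, iFt, hF3, hF8, ⟨eD.symm.trans J⟩⟩
  · haveI : Nontrivial (D.map π) := eD.symm.toEquiv.nontrivial
    exact IsSimpleGroup.isSimpleGroup_of_surjective eD.toMonoidHom eD.surjective
  · intro hc
    exact hDnc ⟨⟨fun a b => eD.injective (by rw [map_mul, map_mul]; exact hc.is_comm.comm _ _)⟩⟩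
  · rw [eq_bot_iff]
    intro x hx
    obtain ⟨g, rfl⟩ := QuotientGroup.mk'_surjective _ x
    rw [Subgroup.mem_bot]
    refine (QuotientGroup.eq_one_iff g).2 ?_
    rw [hcen, ← hCD]
    refine Subgroup.mem_centralizer_iff.2 fun d hd => ?_
    have h1 := Subgroup.mem_centralizer_iff.1 hx (π d) ⟨d, hd, rfl⟩
    rw [← map_mul, ← map_mul] at h1
    have h2 : (d * g)⁻¹ * (g * d) ∈ Subgroup.center G := QuotientGroup.eq.1 h1
    have h3 : (d * g)⁻¹ * (g * d) = 1 := by
      refine hZD _ ?_ (by rw [hCD, ← hcen]; exact h2)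
      rw [show (d * g)⁻¹ * (g * d) = g⁻¹ * d⁻¹ * g * d by group]
      have := hDnn.conj_mem _ (inv_mem hd) g⁻¹
      rw [inv_inv] at this
      exact mul_mem this hd
    exact inv_mul_eq_one.1 h3

end Cfsg.Agent.GW.Dep.TwoClasses
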