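import Cfsg.Agent.Lib.Char.Ortho
import Cfsg.Agent.Lib.Char.Linear
import Cfsg.Agent.Lib.Fusion.Focal
import Cfsg.Agent.Lib.Fusion.BurnsideFusion
import Cfsg.Agent.S0080

/-!
# Counting tools for groups with few classes of two-elements
-/

set_option autoImplicit false
set_option linter.style.haveILetI false
set_option linter.unusedSectionVars false

namespace Cfsg.Agent.GW.Dep.TwoClasses

open Cfsg Cfsg.Agent
open scoped commutatorElement

universe u

/-- The points lying in fibres with at least `r` points, against the loss of a surjection. -/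
theorem merge_bound {A B : Type*} [Finite A] [Finite B] (f : A → B) (hf : Function.Surjective f) {r : ℕ}
    (S : Set A) (hr : ∀ a ∈ S, r ≤ Nat.card {a' : A // f a' = f a}) :
    Nat.card S * (r - 1) + r * Nat.card B ≤ r * Nat.card A := by
  classical
  haveI := Fintype.ofFinite A
  haveI := Fintype.ofFinite B
  have hA : Nat.card A = ∑ b : B, (Finset.univ.filter fun a => f a = b).card := by
    rw [Nat.card_eq_fintype_card, ← Finset.card_univ]
    exact Finset.card_eq_sum_card_fiberwise fun x _ => Finset.mem_univ _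
  have hS : Nat.card S = ∑ b : B, ((Finset.univ.filter fun a => f a = b).filter fun a => a ∈ S).card := by
    rw [Nat.card_eq_fintype_card, ← Set.toFinset_card]
    rw [Finset.card_eq_sum_card_fiberwise (f := f) (t := Finset.univ) fun x _ => Finset.mem_univ _]
    refine Finset.sum_congr rfl fun b _ => congrArg Finset.card ?_
    ext a
    simp [and_comm]
  rw [hA, hS, Finset.sum_mul, Finset.mul_sum, Nat.card_eq_fintype_card (α := B), ← Finset.card_univ,
    mul_comm r, Finset.card_eq_sum_ones, Finset.sum_mul, ← Finset.sum_add_distrib]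
  refine Finset.sum_le_sum fun b _ => ?_
  rw [one_mul]
  obtain ⟨a₀, ha₀⟩ := hf b
  have h1 : 1 ≤ (Finset.univ.filter fun a => f a = b).card :=
    Finset.card_pos.2 ⟨a₀, by simp [ha₀]⟩
  by_cases he : ((Finset.univ.filter fun a => f a = b).filter fun a => a ∈ S) = ∅
  · rw [he, Finset.card_empty, zero_mul, zero_add]
    exact Nat.le_mul_of_pos_right r h1
  · obtain ⟨a, ha⟩ := Finset.nonempty_iff_ne_empty.2 he
    simp only [Finset.mem_filter, Finset.mem_univ, true_and] at ha
    have h2 := hr a ha.2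
    rw [Nat.card_eq_fintype_card, Fintype.card_subtype, ha.1] at h2
    have h3 := Finset.card_filter_le (Finset.univ.filter fun a => f a = b) fun a => a ∈ S
    obtain ⟨c, hc⟩ : ∃ c, c = (Finset.univ.filter fun a => f a = b).card := ⟨_, rfl⟩
    rw [← hc] at h1 h2 h3 ⊢
    rcases r with _ | r
    · simp
    · rw [Nat.succ_sub_one]
      nlinarith

variable {G : Type u} [Group G] [Finite G]

/-- The classes of two-elements. -/
abbrev Cl (G : Type u) [Group G] : Type u :=
  {c : ConjClasses G // ∀ x ∈ c.carrier, ∃ k : ℕ, orderOf x = 2 ^ k}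

/-- The class of a member of a two-subgroup. -/
noncomputable def cls (P : Sylow 2 G) (x : (P : Subgroup G)) : Cl G :=
  ⟨ConjClasses.mk (x : G), fun w hw => by
    obtain ⟨k, hk⟩ := IsPGroup.iff_orderOf.1 P.isPGroup' x
    obtain ⟨c, hc⟩ := isConj_iff.1 (ConjClasses.mk_eq_mk_iff_isConj.1 (ConjClasses.mem_carrier_iff_mk_eq.1 hw))
    refine ⟨k, ?_⟩
    rw [← hk, ← Subgroup.orderOf_coe, ← hc]
    exact (orderOf_injective (MulAut.conj c).toMonoidHom (MulAut.conj c).injective w).symm⟩

theorem cls_eq {P : Sylow 2 G} {x y : (P : Subgroup G)} : cls P x = cls P y ↔ IsConj (x : G) y := by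
  rw [cls, cls, Subtype.mk.injEq, ConjClasses.mk_eq_mk_iff_isConj]

theorem cls_surjective (P : Sylow 2 G) : Function.Surjective (cls P) := by
  haveI : Fact (Nat.Prime 2) := ⟨Nat.prime_two⟩
  rintro ⟨c, hc⟩
  obtain ⟨w, rfl⟩ := ConjClasses.exists_rep c
  obtain ⟨k, hk⟩ := hc w ConjClasses.mem_carrier_mk
  obtain ⟨Q, hQ⟩ := (IsPGroup.of_card (p := 2) (G := Subgroup.zpowers w) (n := k)
    (by rw [Nat.card_zpowers, hk])).exists_le_sylow
  obtain ⟨g, hg⟩ := MulAction.exists_smul_eq G Q P
  have hm : g * w * g⁻¹ ∈ (P : Subgroup G) := by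
    rw [← hg, Sylow.coe_subgroup_smul]
    exact ⟨w, hQ (Subgroup.mem_zpowers w), rfl⟩
  refine ⟨⟨_, hm⟩, Subtype.ext (ConjClasses.mk_eq_mk_iff_isConj.2 (isConj_iff.2 ⟨g⁻¹, ?_⟩))⟩
  show g⁻¹ * (g * w * g⁻¹) * g⁻¹⁻¹ = w
  group

/-- The same, on the classes of the Sylow subgroup. -/
noncomputable def clsQ (P : Sylow 2 G) : ConjClasses (P : Subgroup G) → Cl G :=
  Quotient.lift (cls P) fun _ _ h => cls_eq.2 ((P : Subgroup G).subtype.map_isConj h)

theorem clsQ_mk (P : Sylow 2 G) (x : (P : Subgroup G)) : clsQ P (ConjClasses.mk x) = cls P x := rfl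

theorem clsQ_surjective (P : Sylow 2 G) : Function.Surjective (clsQ P) := fun c => by
  obtain ⟨x, hx⟩ := cls_surjective P c
  exact ⟨ConjClasses.mk x, hx⟩

/-- Few classes force a derived subgroup of order at most two. -/
theorem derived_le_two {T : Type u} [Group T] [Finite T] (hT : IsPGroup 2 T)
    (h : Nat.card T ≤ 2 * Nat.card (ConjClasses T)) : Nat.card (commutator T) ≤ 2 := by
  classical
  haveI : Fact (Nat.Prime 2) := ⟨Nat.prime_two⟩
  haveI := Fintype.ofFinite T
  haveI := Fintype.ofFinite (IrrCharacter T)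
  have hsum : ∑ χ : IrrCharacter T, Char.deg (χ : T → ℂ) ^ 2 = Nat.card T := by
    have hs := Char.sum_sq_deg (G := T)
    have : ∑ χ : IrrCharacter T, ((Char.deg (χ : T → ℂ) : ℂ)) ^ 2 = (Nat.card T : ℂ) := by
      rw [← hs]
      refine Finset.sum_congr (by ext; simp) fun χ _ => ?_
      rw [Char.char_one_eq_deg (Char.irr_isCharacter χ.2)]
    exact_mod_cast this
  have hge : ∀ χ : IrrCharacter T, 4 ≤ Char.deg (χ : T → ℂ) ^ 2 + if (χ : T → ℂ) 1 = 1 then 3 else 0 := fun χ => by
    have hpos := Char.deg_pos χ.2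
    split_ifs with h1
    · have : 1 ≤ Char.deg (χ : T → ℂ) ^ 2 := Nat.one_le_pow _ _ hpos
      omega
    · have h2 : 2 ≤ Char.deg (χ : T → ℂ) := by
        by_contra hlt
        refine h1 ?_
        rw [Char.char_one_eq_deg (Char.irr_isCharacter χ.2), show Char.deg (χ : T → ℂ) = 1 by omega, Nat.cast_one]
      have := Nat.pow_le_pow_left h2 2
      omega
  have hs := Finset.sum_le_sum fun χ (_ : χ ∈ (Finset.univ : Finset (IrrCharacter T))) => hge χ
  rw [Finset.sum_add_distrib, hsum, Finset.sum_const, Finset.card_univ, smul_eq_mul, ← Nat.card_eq_fintype_card,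
    Char.card_irr, Finset.sum_ite, Finset.sum_const_zero, add_zero, Finset.sum_const, smul_eq_mul] at hs
  have hlin : (Finset.univ.filter fun χ : IrrCharacter T => (χ : T → ℂ) 1 = 1).card = (commutator T).index := by
    rw [← Char.card_linear, Nat.card_eq_fintype_card, Fintype.card_subtype]
  rw [hlin] at hs
  have hc := (commutator T).card_mul_index
  have hle : Nat.card (commutator T) ≤ 3 := by
    by_contra hgt
    have hi : 0 < (commutator T).index := Nat.pos_of_ne_zero Subgroup.index_ne_zero_of_finite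
    nlinarith
  obtain ⟨j, hj⟩ := IsPGroup.iff_card.1 (hT.to_subgroup (commutator T))
  rcases j with _ | _ | j
  · rw [hj]; norm_num
  · rw [hj]; norm_num
  · exfalso
    rw [hj, pow_succ, pow_succ] at hle
    have := Nat.one_le_two_pow (n := j)
    omega

/-- The number of classes of a two-group with derived subgroup of order two. -/
theorem two_mul_card_classes {T : Type u} [Group T] [Finite T] {z : T} (hz1 : z ≠ 1)
    (hcomm : ∀ a b : T, a * b * a⁻¹ * b⁻¹ = 1 ∨ a * b * a⁻¹ * b⁻¹ = z) :
    2 * Nat.card (ConjClasses T) = Nat.card T + Nat.card (Subgroup.center T) := by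
  classical
  have hzc : ∀ a : T, a * z = z * a := by
    intro a
    -- `z` is a commutator or all elements commute
    by_cases hab : ∃ b c : T, b * c * b⁻¹ * c⁻¹ = z
    · obtain ⟨b, c, hbc⟩ := hab
      have h := hcomm (a * b * a⁻¹) (a * c * a⁻¹)
      rw [show a * b * a⁻¹ * (a * c * a⁻¹) * (a * b * a⁻¹)⁻¹ * (a * c * a⁻¹)⁻¹ =
        a * (b * c * b⁻¹ * c⁻¹) * a⁻¹ by group, hbc] at h
      rcases h with h | h
      · exact absurd (by
          calc z = a⁻¹ * (a * z * a⁻¹) * a := by group
            _ = 1 := by rw [h]; group) hz1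
      · calc a * z = a * z * a⁻¹ * a := by group
          _ = z * a := by rw [h]
    · push Not at hab
      have := (hcomm a z).resolve_right (hab a z)
      rwa [mul_inv_eq_one, mul_inv_eq_iff_eq_mul] at this
  have hclass : ∀ x y : T, IsConj x y → y = x ∨ (y = x * z ∧ x ∉ Subgroup.center T) := by
    intro x y h
    obtain ⟨a, rfl⟩ := isConj_iff.1 h
    rcases hcomm a x with h1 | h1
    · exact Or.inl (mul_inv_eq_one.1 h1)
    · refine Or.inr ⟨?_, fun hx => hz1 ?_⟩
      · rw [mul_inv_eq_iff_eq_mul] at h1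
        rw [h1, hzc]
      · rw [← h1, Subgroup.mem_center_iff.1 hx a]; group
  have hconj : ∀ x : T, x ∉ Subgroup.center T → IsConj x (x * z) := by
    intro x hx
    rw [Subgroup.mem_center_iff] at hx
    push Not at hx
    obtain ⟨a, ha⟩ := hx
    refine isConj_iff.2 ⟨a, ?_⟩
    rcases hcomm a x with h1 | h1
    · exact absurd (mul_inv_eq_iff_eq_mul.1 (mul_inv_eq_one.1 h1)) ha
    · rw [mul_inv_eq_iff_eq_mul] at h1
      rw [h1, hzc]
  let rep : ConjClasses T → T := fun c => (ConjClasses.exists_rep c).choose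
  have hrep : ∀ c, ConjClasses.mk (rep c) = c := fun c => (ConjClasses.exists_rep c).choose_spec
  let Φ : ConjClasses T ⊕ ConjClasses T → T ⊕ Subgroup.center T := Sum.elim (fun c => Sum.inl (rep c)) fun c =>
    if h : rep c ∈ Subgroup.center T then Sum.inr ⟨rep c, h⟩ else Sum.inl (rep c * z)
  have hbij : Function.Bijective Φ := by
    have hri : Function.Injective rep := fun a b h => by rw [← hrep a, ← hrep b, h]
    have hcase : ∀ a b, rep b ∉ Subgroup.center T → rep a = rep b * z → False := by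
      intro a b hb h
      have : a = b := by
        rw [← hrep a, ← hrep b, h, ConjClasses.mk_eq_mk_iff_isConj]
        exact (hconj _ hb).symm
      subst this
      exact hz1 (mul_left_cancel (h.symm.trans (mul_one _).symm))
    refine ⟨?_, ?_⟩
    · rintro (a | a) (b | b) h
      · exact congrArg Sum.inl (hri (Sum.inl.inj h))
      · exfalso
        simp only [Φ, Sum.elim_inl, Sum.elim_inr] at h
        split_ifs at h with hb
        exact hcase a b hb (Sum.inl.inj h)
      · exfalso
        simp only [Φ, Sum.elim_inl, Sum.elim_inr] at h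
        split_ifs at h with ha
        exact hcase b a ha (Sum.inl.inj h).symm
      · simp only [Φ, Sum.elim_inr] at h
        refine congrArg Sum.inr (hri ?_)
        split_ifs at h with ha hb hb
        · exact congrArg Subtype.val (Sum.inr.inj h)
        · exact mul_right_cancel (Sum.inl.inj h)
    · rintro (x | ⟨x, hx⟩)
      · have hc := ConjClasses.mk_eq_mk_iff_isConj.1 (hrep (ConjClasses.mk x))
        rcases hclass _ _ hc with h | ⟨h, hnc⟩
        · exact ⟨Sum.inl (ConjClasses.mk x), congrArg Sum.inl h.symm⟩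
        · refine ⟨Sum.inr (ConjClasses.mk x), ?_⟩
          simp only [Φ, Sum.elim_inr]
          rw [dif_neg hnc, ← h]
      · refine ⟨Sum.inr (ConjClasses.mk x), ?_⟩
        have hc := ConjClasses.mk_eq_mk_iff_isConj.1 (hrep (ConjClasses.mk x))
        have he : rep (ConjClasses.mk x) = x := by
          rcases hclass _ _ hc.symm with h | ⟨-, h⟩
          · exact h
          · exact absurd hx h
        simp only [Φ, Sum.elim_inr]
        rw [dif_pos (he.symm ▸ hx)]
        exact congrArg Sum.inr (Subtype.ext he)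
  have := Nat.card_congr (Equiv.ofBijective Φ hbij)
  rw [Nat.card_sum, Nat.card_sum] at this
  omega

/-- The focal subgroup lies in `V` when conjugate members differ by an element of `V`. -/
theorem focal_le (P : Sylow 2 G) (V : Subgroup G)
    (h : ∀ a b : (P : Subgroup G), IsConj (a : G) b → (a : G)⁻¹ * b ∈ V) :
    Subgroup.focalSubgroup (P : Subgroup G) ≤ V := by
  rw [Subgroup.focalSubgroup_def, Subgroup.closure_le]
  rintro w ⟨hwP, x, hx, u, rfl⟩
  have hm : u * x⁻¹ * u⁻¹ ∈ (P : Subgroup G) := by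
    have := mul_mem (inv_mem hx) hwP
    rwa [commutatorElement_def, show x⁻¹ * (x * u * x⁻¹ * u⁻¹) = u * x⁻¹ * u⁻¹ by group] at this
  have := h ⟨x⁻¹, inv_mem hx⟩ ⟨_, hm⟩ (isConj_iff.2 ⟨u, rfl⟩)
  simp only [inv_inv] at this
  rw [commutatorElement_def, SetLike.mem_coe]
  rwa [show x * u * x⁻¹ * u⁻¹ = x * (u * x⁻¹ * u⁻¹) by group]

/-- Conjugate members differ by an element of the focal subgroup. -/
theorem mem_focal (P : Sylow 2 G) (a : (P : Subgroup G)) {b : G} (hb : b ∈ (P : Subgroup G))
    (h : IsConj (a : G) b) : (a : G)⁻¹ * b ∈ Subgroup.focalSubgroup (P : Subgroup G) := by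
  obtain ⟨g, rfl⟩ := isConj_iff.1 h
  rw [Subgroup.focalSubgroup_def]
  refine Subgroup.subset_closure ⟨mul_mem (inv_mem a.2) hb, (a : G)⁻¹, inv_mem a.2, g, ?_⟩
  rw [commutatorElement_def]
  group

/-- The normal subgroup meeting the Sylow subgroup in the focal subgroup. -/
theorem exists_focal_kernel (P : Sylow 2 G) :
    ∃ K : Subgroup G, K.Normal ∧ K ⊔ (P : Subgroup G) = ⊤ ∧
      (P : Subgroup G) ⊓ K = Subgroup.focalSubgroup (P : Subgroup G) ∧
      (∀ x ∈ (P : Subgroup G), ∀ y ∈ (P : Subgroup G), x * y * x⁻¹ * y⁻¹ ∈ K) ∧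
      Subgroup.focalSubgroup (P : Subgroup G) ≤ commutator G := by
  haveI : Fact (Nat.Prime 2) := ⟨Nat.prime_two⟩
  have hco : Nat.Coprime (P : Subgroup G).index (⁅(P : Subgroup G), (P : Subgroup G)⁆.relIndex (P : Subgroup G)) := by
    obtain ⟨j, hj⟩ := IsPGroup.iff_card.1 P.isPGroup'
    refine Nat.Coprime.coprime_dvd_right (Subgroup.index_dvd_card _) ?_
    rw [hj]
    exact (Nat.prime_two.coprime_iff_not_dvd.2 P.not_dvd_index).symm.pow_right j
  obtain ⟨hfoc, N, hN, hNP, hsup⟩ := S0080.result (P : Subgroup G) hco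
  refine ⟨N, hN, hsup, ?_, ?_, hfoc.le.trans inf_le_left⟩
  · rw [inf_comm, hNP, hfoc]
  · intro x hx y hy
    have : x * y * x⁻¹ * y⁻¹ ∈ commutator G ⊓ (P : Subgroup G) :=
      Subgroup.mem_inf.2 ⟨Subgroup.commutator_mem_commutator (Subgroup.mem_top x) (Subgroup.mem_top y),
        mul_mem (mul_mem (mul_mem hx hy) (inv_mem hx)) (inv_mem hy)⟩
    rw [← hNP] at this
    exact this.1

end Cfsg.Agent.GW.Dep.TwoClasses
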