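import Cfsg.Agent.Lib.GW.DepTwoClassesCore
import Cfsg.Agent.Lib.GW.DepTwoClassesTools
import Cfsg.Agent.Lib.Char.ZStar
import Cfsg.Agent.Lib.GW.Reduce
import Cfsg.Agent.Lib.GW.MaxShape

/-!
# Half as many classes of two-elements as members of a Sylow subgroup

`two_classes`: the statement `S3896` from the perfect dihedral case.
-/

set_option autoImplicit false
set_option linter.style.haveILetI false
set_option linter.unusedSectionVars false

namespace Cfsg.Agent.GW.Dep.TwoClasses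

open Cfsg Cfsg.Agent Cfsg.Agent.GW.Reduced
open scoped commutatorElement

universe u

variable {G : Type u} [Group G] [Finite G]

/-- What the counting delivers. -/
def HasFour (P : Sylow 2 G) : Prop :=
  ∃ K : Subgroup G, K.Normal ∧ K ⊔ (P : Subgroup G) = ⊤ ∧
    Nat.card ↥((P : Subgroup G) ⊓ K) = 4 ∧ (∀ x ∈ (P : Subgroup G) ⊓ K, x * x = 1) ∧
    ∀ x ∈ (P : Subgroup G), ∀ y ∈ (P : Subgroup G), x * y * x⁻¹ * y⁻¹ ∈ K

/-- A power of two strictly between. -/
theorem pow_two_step {a b : ℕ} {i j : ℕ} (ha : a = 2 ^ i) (hb : b = 2 ^ j) (h : a < b) : 2 * a ≤ b := by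
  subst ha hb
  have : i < j := (Nat.pow_lt_pow_iff_right (by norm_num)).1 h
  calc 2 * 2 ^ i = 2 ^ (i + 1) := by rw [pow_succ]; ring
    _ ≤ 2 ^ j := Nat.pow_le_pow_right two_pos this

/-- The group is not a two-group. -/
theorem not_pgroup (P : Sylow 2 G) (hk : 2 * Nat.card (Cl G) = Nat.card ↥(P : Subgroup G)) : ¬ IsPGroup 2 G := by
  intro hG
  haveI : Fact (Nat.Prime 2) := ⟨Nat.prime_two⟩
  have hP : (P : Subgroup G) = ⊤ :=
    (P.is_maximal' (hG.to_subgroup ⊤) le_top).symm
  have hinj : Function.Injective (clsQ P) := by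
    intro a b h
    obtain ⟨x, rfl⟩ := ConjClasses.exists_rep a
    obtain ⟨y, rfl⟩ := ConjClasses.exists_rep b
    rw [clsQ_mk, clsQ_mk, cls_eq] at h
    obtain ⟨g, hg⟩ := isConj_iff.1 h
    exact ConjClasses.mk_eq_mk_iff_isConj.2 (isConj_iff.2 ⟨⟨g, hP ▸ Subgroup.mem_top g⟩, Subtype.ext hg⟩)
  have hcard := Nat.card_congr (Equiv.ofBijective _ ⟨hinj, clsQ_surjective P⟩)
  rw [← hcard] at hk
  have hder := derived_le_two P.isPGroup' hk.ge
  have h2 : ∀ a b : (P : Subgroup G), a * b * a⁻¹ * b⁻¹ ∈ commutator (P : Subgroup G) := fun a b =>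
    Subgroup.commutator_mem_commutator (Subgroup.mem_top a) (Subgroup.mem_top b)
  by_cases hab : ∀ a b : (P : Subgroup G), a * b = b * a
  · have hb : Function.Bijective (ConjClasses.mk : ↥(P : Subgroup G) → ConjClasses (P : Subgroup G)) := by
      refine ⟨fun x y h => ?_, ConjClasses.mk_surjective⟩
      obtain ⟨g, hg⟩ := isConj_iff.1 (ConjClasses.mk_eq_mk_iff_isConj.1 h)
      rw [← hg, hab g x, mul_inv_cancel_right]
    rw [← Nat.card_congr (Equiv.ofBijective _ hb)] at hk
    have := Nat.card_pos (α := (P : Subgroup G))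
    omega
  · push Not at hab
    obtain ⟨a, b, hne⟩ := hab
    have hz1 : a * b * a⁻¹ * b⁻¹ ≠ 1 := fun h => hne (mul_inv_eq_iff_eq_mul.1 (mul_inv_eq_one.1 h))
    have hc2 : Nat.card (commutator (P : Subgroup G)) = 2 := by
      have h1 : Nat.card (commutator (P : Subgroup G)) ≠ 1 := fun h => hz1 (by
        have := h2 a b
        rwa [Subgroup.card_eq_one.1 h, Subgroup.mem_bot] at this)
      have := Nat.card_pos (α := commutator (P : Subgroup G))
      omega
    have hcomm : ∀ x y : (P : Subgroup G), x * y * x⁻¹ * y⁻¹ = 1 ∨ x * y * x⁻¹ * y⁻¹ = a * b * a⁻¹ * b⁻¹ := by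
      intro x y
      obtain ⟨u, hu, huniv⟩ := (Nat.card_eq_two_iff' (1 : commutator (P : Subgroup G))).1 hc2
      by_cases h : x * y * x⁻¹ * y⁻¹ = 1
      · exact Or.inl h
      · exact Or.inr (congrArg Subtype.val ((huniv ⟨_, h2 x y⟩ fun e => h (congrArg Subtype.val e)).trans
          (huniv ⟨_, h2 a b⟩ fun e => hz1 (congrArg Subtype.val e)).symm))
    have := two_mul_card_classes hz1 hcomm
    have := Nat.card_pos (α := Subgroup.center (P : Subgroup G))
    omega

section Abelian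

variable (P : Sylow 2 G) (hcomm : ∀ a ∈ (P : Subgroup G), ∀ b ∈ (P : Subgroup G), a * b = b * a)
include hcomm

theorem abelian_fusion {x y : G} (hx : x ∈ (P : Subgroup G)) (hy : y ∈ (P : Subgroup G)) (h : IsConj x y) :
    ∃ n ∈ Subgroup.normalizer ((P : Subgroup G) : Set G), n * x * n⁻¹ = y := by
  haveI : Fact (Nat.Prime 2) := ⟨Nat.prime_two⟩
  obtain ⟨g, rfl⟩ := isConj_iff.1 h
  exact Fusion.fusion_of_abelian (Fusion.sylIn_top P)
    (fun a ha => Subgroup.mem_centralizer_iff.2 fun b hb => hcomm b hb a ha) hx hy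

/-- Fixed members of an abelian Sylow subgroup avoid the derived subgroup. -/
theorem abelian_fixed_not_derived {x : G} (hx : x ∈ (P : Subgroup G))
    (hfix : ∀ n ∈ Subgroup.normalizer ((P : Subgroup G) : Set G), n * x * n⁻¹ = x) (hd : x ∈ commutator G) : x = 1 := by
  haveI : Fact (Nat.Prime 2) := ⟨Nat.prime_two⟩
  letI : CommGroup (P : Subgroup G) :=
    { (inferInstance : Group (P : Subgroup G)) with
      mul_comm := fun a b => Subtype.ext (hcomm a a.2 b b.2) }
  have key : ∀ (k : ℕ) (g₀ : G), g₀⁻¹ * x ^ k * g₀ ∈ (P : Subgroup G) → g₀⁻¹ * x ^ k * g₀ = x ^ k := by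
    intro k g₀ hm
    obtain ⟨n, hn, hn'⟩ := abelian_fusion P hcomm (pow_mem hx k) hm (isConj_iff.2 ⟨g₀⁻¹, by rw [inv_inv]⟩)
    rw [← hn', ← conj_pow, hfix n hn]
  have htr := MonoidHom.transfer_eq_pow (MonoidHom.id (P : Subgroup G)) x key
  have hker := Abelianization.commutator_subset_ker (MonoidHom.transfer (MonoidHom.id (P : Subgroup G))) hd
  rw [MonoidHom.mem_ker, htr] at hker
  have h1 : x ^ (P : Subgroup G).index = 1 := congrArg Subtype.val hker
  obtain ⟨j, hj⟩ := IsPGroup.iff_orderOf.1 P.isPGroup' ⟨x, hx⟩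
  rw [Subgroup.orderOf_mk] at hj
  refine orderOf_eq_one_iff.1 (Nat.eq_one_of_dvd_coprimes ?_ dvd_rfl (orderOf_dvd_of_pow_eq_one h1))
  rw [hj]
  exact (Nat.prime_two.coprime_iff_not_dvd.2 P.not_dvd_index).pow_left j

theorem abelian_case (hk : 2 * Nat.card (Cl G) = Nat.card ↥(P : Subgroup G)) : HasFour P := by
  classical
  haveI : Fact (Nat.Prime 2) := ⟨Nat.prime_two⟩
  set N := Subgroup.normalizer ((P : Subgroup G) : Set G) with hN
  set F : Subgroup G := (P : Subgroup G) ⊓ Subgroup.centralizer (N : Set G) with hF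
  have hFfix : ∀ x ∈ F, ∀ n ∈ N, n * x * n⁻¹ = x := fun x hx n hn => by
    rw [Subgroup.mem_centralizer_iff.1 hx.2 n hn]; group
  -- orbits outside `F` have at least three members
  have hfib : ∀ x ∈ {x : (P : Subgroup G) | (x : G) ∉ F},
      3 ≤ Nat.card {y : (P : Subgroup G) // cls P y = cls P x} := by
    intro x hx
    set M : Subgroup N := (Subgroup.centralizer ({(x : G)} : Set G)).subgroupOf N with hM
    have hne : M.index ≠ 1 := fun h => hx ⟨x.2, Subgroup.mem_centralizer_iff.2 fun n hn => by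
      have h1 : (⟨n, hn⟩ : N) ∈ M := by rw [Subgroup.index_eq_one.1 h]; trivial
      rw [hM, Subgroup.mem_subgroupOf, Subgroup.mem_centralizer_singleton_iff] at h1
      exact h1⟩
    have hle : (P : Subgroup G).subgroupOf N ≤ M := fun n hn => by
      rw [hM, Subgroup.mem_subgroupOf, Subgroup.mem_centralizer_singleton_iff]
      exact hcomm _ hn _ x.2
    have hodd : ¬ 2 ∣ M.index := fun h => P.not_dvd_index (by
      have h1 := (h.trans (Subgroup.index_dvd_of_le hle))
      rw [← Subgroup.relIndex_mul_index (show (P : Subgroup G) ≤ N from Subgroup.le_normalizer)]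
      exact h1.mul_right _)
    have hpos : M.index ≠ 0 := Subgroup.index_ne_zero_of_finite
    have h3 : 3 ≤ M.index := by omega
    refine h3.trans ?_
    rw [Subgroup.index_eq_card]
    refine Nat.card_le_card_of_injective (fun q : N ⧸ M => (⟨⟨((Quotient.out q : N) : G) * x * ((Quotient.out q : N) : G)⁻¹,
      ((Subgroup.mem_normalizer_iff.1 (Quotient.out q : N).2 _).1 x.2)⟩,
      cls_eq.2 (isConj_iff.2 ⟨((Quotient.out q : N) : G)⁻¹, by
        show _ * (_ * (x : G) * _) * _ = (x : G)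
        group⟩)⟩ : {y : (P : Subgroup G) // cls P y = cls P x})) ?_
    intro q q' h
    have h' : ((Quotient.out q : N) : G) * x * ((Quotient.out q : N) : G)⁻¹ =
        ((Quotient.out q' : N) : G) * x * ((Quotient.out q' : N) : G)⁻¹ := congrArg (fun y => ((y.1 : _) : G)) h
    rw [← Quotient.out_eq q, ← Quotient.out_eq q']
    refine QuotientGroup.eq.2 ?_
    show _ ∈ (Subgroup.centralizer ({(x : G)} : Set G)).subgroupOf N
    rw [Subgroup.mem_subgroupOf, Subgroup.mem_centralizer_singleton_iff]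
    simp only [Subgroup.coe_mul, Subgroup.coe_inv]
    calc ((Quotient.out q : N) : G)⁻¹ * ((Quotient.out q' : N) : G) * x
        = ((Quotient.out q : N) : G)⁻¹ * (((Quotient.out q' : N) : G) * x * ((Quotient.out q' : N) : G)⁻¹) *
            ((Quotient.out q' : N) : G) := by group
      _ = ((Quotient.out q : N) : G)⁻¹ * (((Quotient.out q : N) : G) * x * ((Quotient.out q : N) : G)⁻¹) *
            ((Quotient.out q' : N) : G) := by rw [h']
      _ = x * (((Quotient.out q : N) : G)⁻¹ * ((Quotient.out q' : N) : G)) := by group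
  have hmb := merge_bound (cls P) (cls_surjective P) _ hfib
  have hFcard : Nat.card ↥{x : (P : Subgroup G) | (x : G) ∉ F} + Nat.card F = Nat.card (P : Subgroup G) := by
    have e : Nat.card F = Nat.card {x : (P : Subgroup G) // (x : G) ∈ F} :=
      Nat.card_congr (Subgroup.subgroupOfEquivOfLe (inf_le_left : F ≤ (P : Subgroup G))).toEquiv.symm
    rw [e, ← Nat.card_sum]
    exact Nat.card_congr ((Equiv.sumComm _ _).trans (Equiv.sumCompl fun x : (P : Subgroup G) => (x : G) ∈ F))
  have hF4 : Nat.card (P : Subgroup G) ≤ 4 * Nat.card F := by omega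
  -- the focal subgroup
  obtain ⟨K, hK, hsup, hPK, hKc, hfd⟩ := exists_focal_kernel P
  refine ⟨K, hK, hsup, ?_⟩
  set Q : Subgroup G := (P : Subgroup G) ⊓ K with hQ
  have hQF : ∀ x ∈ Q, x ∈ F → x = 1 := fun x hxQ hxF =>
    abelian_fixed_not_derived P hcomm hxF.1 (hFfix x hxF) (hfd (hPK ▸ hxQ))
  have hprod : Nat.card Q * Nat.card F ≤ Nat.card (P : Subgroup G) := by
    rw [← Nat.card_prod]
    refine Nat.card_le_card_of_injective (fun p : Q × F =>
      (⟨p.1.1 * p.2.1, mul_mem p.1.2.1 p.2.2.1⟩ : (P : Subgroup G))) ?_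
    rintro ⟨a, b⟩ ⟨c, d⟩ h
    have h' : (a : G) * b = c * d := congrArg Subtype.val h
    have h1 : (c : G)⁻¹ * a = d * (b : G)⁻¹ := by
      calc (c : G)⁻¹ * a = (c : G)⁻¹ * (a * b) * (b : G)⁻¹ := by group
        _ = _ := by rw [h']; group
    have h2 := hQF _ (mul_mem (inv_mem c.2) a.2) (h1 ▸ mul_mem d.2 (inv_mem b.2))
    have hac : (a : G) = c := (inv_mul_eq_one.1 h2).symm
    rw [hac] at h'
    exact Prod.ext (Subtype.ext hac) (Subtype.ext (mul_left_cancel h'))
  have hQle : Nat.card Q ≤ 4 := by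
    have := Nat.card_pos (α := F)
    nlinarith
  have hQn : ∀ n ∈ N, ∀ x ∈ Q, n * x * n⁻¹ ∈ Q := fun n hn x hx =>
    Subgroup.mem_inf.2 ⟨(Subgroup.mem_normalizer_iff.1 hn x).1 hx.1, hK.conj_mem x hx.2 n⟩
  -- a fixed member of `Q` is trivial
  have hQfix : ∀ x ∈ Q, (∀ n ∈ N, n * x * n⁻¹ = x) → x = 1 := fun x hx h => hQF x hx ⟨hx.1,
    Subgroup.mem_centralizer_iff.2 fun n hn => by
      calc n * x = n * x * n⁻¹ * n := by group
        _ = x * n := by rw [h n hn]⟩
  have hQ1 : Nat.card Q ≠ 1 := by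
    intro h1
    have hinj : Function.Injective (cls P) := fun a b hab => by
      have := mem_focal P a b.2 (cls_eq.1 hab)
      rw [← hPK, Subgroup.card_eq_one.1 h1, Subgroup.mem_bot, inv_mul_eq_one] at this
      exact Subtype.ext this
    rw [← Nat.card_congr (Equiv.ofBijective _ ⟨hinj, cls_surjective P⟩)] at hk
    have := Nat.card_pos (α := (P : Subgroup G))
    omega
  have hQ2 : Nat.card Q ≠ 2 := by
    intro h2
    obtain ⟨u, hu, huniv⟩ := (Nat.card_eq_two_iff' (1 : Q)).1 h2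
    refine hu (Subtype.ext (hQfix _ u.2 fun n hn => ?_))
    have := huniv ⟨_, hQn n hn u u.2⟩ fun e => hu (Subtype.ext (by
      have e' : n * (u : G) * n⁻¹ = 1 := congrArg Subtype.val e
      calc (u : G) = n⁻¹ * (n * u * n⁻¹) * n := by group
        _ = 1 := by rw [e']; group))
    exact congrArg Subtype.val this
  obtain ⟨j, hj⟩ := IsPGroup.iff_card.1 (P.isPGroup'.to_le (inf_le_left : Q ≤ (P : Subgroup G)))
  have hQ4 : Nat.card Q = 4 := by
    rcases j with _ | _ | _ | j
    · exact absurd (by rw [hj]; norm_num) hQ1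
    · exact absurd (by rw [hj]; norm_num) hQ2
    · rw [hj]; norm_num
    · exfalso
      rw [hj, pow_succ, pow_succ, pow_succ] at hQle
      have := Nat.one_le_two_pow (n := j)
      omega
  refine ⟨hQ4, fun x hx => ?_, hKc⟩
  by_contra hx2
  have hx0 : x ≠ 1 := fun h => hx2 (by rw [h, one_mul])
  have ho : orderOf x = 4 := by
    have hd : orderOf x ∣ 2 ^ 2 := by
      show _ ∣ 4
      rw [← hQ4]; exact Q.orderOf_dvd_natCard hx
    obtain ⟨i, hi, hi'⟩ := (Nat.dvd_prime_pow Nat.prime_two).1 hd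
    interval_cases i
    · exact absurd (orderOf_eq_one_iff.1 (by rw [hi', pow_zero])) hx0
    · exact absurd (by rw [← pow_two, show (2 : ℕ) = orderOf x by rw [hi', pow_one], pow_orderOf_eq_one]) hx2
    · rw [hi']; norm_num
  have hgen : Subgroup.zpowers x = Q := Subgroup.eq_of_le_of_card_ge (Subgroup.zpowers_le.2 hx)
    (by rw [Nat.card_zpowers, ho, hQ4])
  refine hx2 (hQfix _ (mul_mem hx hx) fun n hn => ?_)
  have hm := hQn n hn x hx
  rw [← hgen] at hm
  obtain ⟨i, hi⟩ := hm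
  have hsq : n * (x * x) * n⁻¹ = x ^ (2 * i) := by
    calc n * (x * x) * n⁻¹ = (n * x * n⁻¹) * (n * x * n⁻¹) := by group
      _ = _ := by rw [← hi]; show x ^ i * x ^ i = _; rw [← zpow_add, two_mul]
  rcases Int.even_or_odd i with ⟨t, ht⟩ | ⟨t, ht⟩
  · exfalso
    refine hx2 ?_
    have h4 : x ^ (2 * i) = 1 := by
      rw [ht, show (2 : ℤ) * (t + t) = ((4 : ℕ) : ℤ) * t by push_cast; ring, zpow_mul, zpow_natCast, ← ho,
        pow_orderOf_eq_one, one_zpow]
    rw [h4] at hsq
    calc x * x = n⁻¹ * (n * (x * x) * n⁻¹) * n := by group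
      _ = 1 := by rw [hsq]; group
  · rw [hsq, ht, show (2 : ℤ) * (2 * t + 1) = ((4 : ℕ) : ℤ) * t + 2 by push_cast; ring, zpow_add, zpow_mul,
      zpow_natCast, ← ho, pow_orderOf_eq_one, one_zpow, one_mul, show (2 : ℤ) = ((2 : ℕ) : ℤ) from rfl,
      zpow_natCast, pow_two]

end Abelian

section Derived

variable (P : Sylow 2 G) {z : G}

/-- The case of a central generator of the derived subgroup cannot occur. -/
theorem no_central_case (hO : Cfsg.pPrimeCore 2 G = ⊥) (hG : ¬ IsPGroup 2 G) (hz1 : z ≠ 1) (hz2 : z * z = 1)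
    (hzP : z ∈ (P : Subgroup G)) (hzc : z ∈ Subgroup.center G)
    (hcomm : ∀ a ∈ (P : Subgroup G), ∀ b ∈ (P : Subgroup G), a * b * a⁻¹ * b⁻¹ = 1 ∨ a * b * a⁻¹ * b⁻¹ = z)
    (hk : 2 * Nat.card (Cl G) = Nat.card ↥(P : Subgroup G))
    (hkP : 2 * Nat.card (ConjClasses (P : Subgroup G)) =
      Nat.card (P : Subgroup G) + Nat.card (Subgroup.center (P : Subgroup G)))
    (h4Z : 4 * Nat.card (Subgroup.center (P : Subgroup G)) ≤ Nat.card (P : Subgroup G)) : False := by
  classical
  haveI : Fact (Nat.Prime 2) := ⟨Nat.prime_two⟩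
  set Z0 : Subgroup G := Subgroup.zpowers z with hZ0
  have hZ0n : Z0.Normal := ⟨fun a ha g => by
    rw [Subgroup.mem_center_iff.1 ((Subgroup.zpowers_le.2 hzc) ha) g, mul_inv_cancel_right]; exact ha⟩
  haveI := hZ0n
  have hZ0P : Z0 ≤ (P : Subgroup G) := Subgroup.zpowers_le.2 hzP
  set π := QuotientGroup.mk' Z0 with hπ
  have hπs : Function.Surjective π := QuotientGroup.mk'_surjective _
  have hπ1 : ∀ x, π x = 1 ↔ x ∈ Z0 := fun x => QuotientGroup.eq_one_iff x
  have hπc : ∀ a ∈ (P : Subgroup G), ∀ b ∈ (P : Subgroup G), π a * π b = π b * π a := fun a ha b hb => by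
    have h1 : π (a * b * a⁻¹ * b⁻¹) = 1 := (hπ1 _).2 (by
      rcases hcomm a ha b hb with h | h <;> rw [h]
      · exact one_mem _
      · exact Subgroup.mem_zpowers z)
    simp only [map_mul, map_inv] at h1
    rwa [mul_inv_eq_one, mul_inv_eq_iff_eq_mul] at h1
  set N := Subgroup.normalizer ((P : Subgroup G) : Set G) with hN
  -- an element of the normaliser moving `P` modulo `z`
  obtain ⟨n, hn, x₀, hx₀, hmove⟩ : ∃ n ∈ N, ∃ x ∈ (P : Subgroup G), π (n * x * n⁻¹) ≠ π x := by
    by_contra hcon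
    push Not at hcon
    let Pb : Sylow 2 (G ⧸ Z0) := P.mapSurjective hπs
    have hPb : (Pb : Subgroup (G ⧸ Z0)) = (P : Subgroup G).map π := Sylow.coe_mapSurjective hπs P
    have hfus : ∀ a b : (P : Subgroup G), IsConj (a : G) b → (a : G)⁻¹ * b ∈ Z0 := by
      intro a b hab
      obtain ⟨g, hg⟩ := isConj_iff.1 hab
      obtain ⟨w, hw, hw'⟩ := Fusion.fusion_of_abelian (Fusion.sylIn_top Pb)
        (fun c hc => Subgroup.mem_centralizer_iff.2 fun d hd => by
          rw [hPb] at hc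
          have hd' : d ∈ (P : Subgroup G).map π := hPb ▸ hd
          obtain ⟨c', hc', rfl⟩ := hc
          obtain ⟨d', hd'', rfl⟩ := hd'
          exact hπc d' hd'' c' hc')
        (show π a ∈ (Pb : Subgroup (G ⧸ Z0)) by rw [hPb]; exact ⟨a, a.2, rfl⟩) (g := π g)
        (by rw [hPb, ← map_inv, ← map_mul, ← map_mul]; exact ⟨_, hg ▸ b.2, rfl⟩)
      obtain ⟨w', rfl⟩ := hπs w
      have hfwd : ∀ p ∈ (P : Subgroup G), ∀ c, π c ∈ Subgroup.normalizer ((Pb : Subgroup (G ⧸ Z0)) : Set (G ⧸ Z0)) →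
          c * p * c⁻¹ ∈ (P : Subgroup G) := by
        intro p hp c hc
        have h1 : π c * π p * (π c)⁻¹ ∈ (Pb : Subgroup (G ⧸ Z0)) :=
          (Subgroup.mem_normalizer_iff.1 hc _).1 (by rw [hPb]; exact ⟨p, hp, rfl⟩)
        rw [hPb, ← map_inv, ← map_mul, ← map_mul] at h1
        obtain ⟨q, hq, hqe⟩ := h1
        have h2 : q⁻¹ * (c * p * c⁻¹) ∈ (P : Subgroup G) :=
          hZ0P ((hπ1 _).1 (by rw [map_mul, map_inv, hqe, inv_mul_cancel]))
        exact (Subgroup.mul_mem_cancel_left _ (inv_mem hq)).1 h2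
      have hwN : w' ∈ N := by
        rw [hN, Subgroup.mem_normalizer_iff]
        intro p
        refine ⟨fun hp => hfwd p hp w' hw, fun hp => ?_⟩
        have h3 := hfwd _ hp w'⁻¹ (by rw [map_inv]; exact inv_mem hw)
        rwa [inv_inv, show w'⁻¹ * (w' * p * w'⁻¹) * w' = p by group] at h3
      rw [← map_inv, ← map_mul, ← map_mul, ← map_inv, ← map_mul, ← map_mul, hg, hcon w' hwN a a.2] at hw'
      refine (hπ1 _).1 ?_
      rw [map_mul, map_inv, hw', inv_mul_cancel]
    obtain ⟨K, hK, hsup, hPK, -, -⟩ := exists_focal_kernel P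
    have hle : (P : Subgroup G) ⊓ K ≤ Z0 := hPK ▸ focal_le P Z0 hfus
    obtain ⟨S⟩ := (inferInstance : Nonempty (Sylow 2 K))
    haveI := hK
    have hKp : IsPGroup 2 K := by
      refine pgroup_of_hnpc hO K ⟨S, (MonoidHom.transferSylow S ?_).ker, inferInstance,
        MonoidHom.ker_transferSylow_isComplement' S _⟩
      intro m _
      refine Subgroup.mem_centralizer_iff.2 fun t ht => Subtype.ext ?_
      obtain ⟨R, hR⟩ := (S.isPGroup'.map K.subtype).exists_le_sylow
      obtain ⟨g, hg⟩ := MulAction.exists_smul_eq G R P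
      have h1 : g * (t : G) * g⁻¹ ∈ (P : Subgroup G) ⊓ K := Subgroup.mem_inf.2 ⟨by
        rw [← hg, Sylow.coe_subgroup_smul]; exact ⟨t, hR ⟨t, ht, rfl⟩, rfl⟩, hK.conj_mem _ t.2 g⟩
      have h2 := Subgroup.mem_center_iff.1 ((Subgroup.zpowers_le.2 hzc) (hle h1))
      have h3 : (t : G) = g * t * g⁻¹ := by
        calc (t : G) = g⁻¹ * (g * t * g⁻¹) * g := by group
          _ = _ := by rw [h2, inv_mul_cancel_right]
      show (t : G) * m = m * t
      rw [h3, h2]
    refine hG ?_
    have hPt : (P : Subgroup G) = ⊤ := by rw [← hsup, eq_comm, sup_eq_right]; exact le_sylow_of_normal P K hKp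
    exact IsPGroup.of_equiv P.isPGroup' ((MulEquiv.subgroupCongr hPt).trans Subgroup.topEquiv)
  -- make it of odd order
  let Tm : Subgroup G :=
    { carrier := {m | m ∈ N ∧ ∀ x ∈ (P : Subgroup G), π (m * x * m⁻¹) = π x}
      one_mem' := ⟨one_mem _, fun x _ => by rw [one_mul, inv_one, mul_one]⟩
      mul_mem' := fun {a b} ha hb => ⟨mul_mem ha.1 hb.1, fun x hx => by
        rw [show a * b * x * (a * b)⁻¹ = a * (b * x * b⁻¹) * a⁻¹ by group,
          ha.2 _ ((Subgroup.mem_normalizer_iff.1 hb.1 x).1 hx), hb.2 x hx]⟩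
      inv_mem' := fun {a} ha => ⟨inv_mem ha.1, fun x hx => by
        have hx' : a⁻¹ * x * a⁻¹⁻¹ ∈ (P : Subgroup G) := (Subgroup.mem_normalizer_iff.1 (inv_mem ha.1) x).1 hx
        have := ha.2 _ hx'
        rwa [show a * (a⁻¹ * x * a⁻¹⁻¹) * a⁻¹ = x by group, eq_comm] at this⟩ }
  have hPT : (P : Subgroup G) ≤ Tm := fun p hp => ⟨Subgroup.le_normalizer hp, fun x hx => by
    simp only [map_mul, map_inv]
    rw [hπc p hp x hx, mul_inv_cancel_right]⟩
  obtain ⟨k, m, hmodd, hkm⟩ := Nat.exists_eq_two_pow_mul_odd (orderOf_pos n).ne'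
  set a := n ^ 2 ^ k with ha
  have hoa : orderOf a = m := by
    rw [ha, orderOf_pow, hkm, Nat.gcd_eq_right (Dvd.intro m rfl), Nat.mul_div_cancel_left _ (pow_pos two_pos k)]
  have hb : n ^ m ∈ (P : Subgroup G) := by
    have hp : IsPGroup 2 (Subgroup.zpowers (n ^ m)) := IsPGroup.of_card (n := k) (by
      rw [Nat.card_zpowers, orderOf_pow, hkm, Nat.gcd_eq_right (Dvd.intro_left (2 ^ k) rfl),
        Nat.mul_div_cancel _ hmodd.pos])
    exact ((hp.inf_normalizer_sylow P).le ⟨Subgroup.mem_zpowers _, pow_mem hn _⟩).2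
  have haN : a ∈ N := pow_mem hn _
  have haT : a ∉ Tm := by
    intro haT
    have hco : Nat.Coprime (2 ^ k) m := (Nat.coprime_two_left.2 hmodd).pow_left k
    have hab := Nat.gcd_eq_gcd_ab (2 ^ k) m
    rw [hco] at hab
    have hn' : n = a ^ (Nat.gcdA (2 ^ k) m) * (n ^ m) ^ (Nat.gcdB (2 ^ k) m) := by
      rw [ha, ← zpow_natCast n (2 ^ k), ← zpow_natCast n m, ← zpow_mul, ← zpow_mul, ← zpow_add, ← hab,
        Nat.cast_one, zpow_one]
    have hnT : n ∈ Tm := hn' ▸ mul_mem (zpow_mem haT _) (zpow_mem (hPT hb) _)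
    exact hmove (hnT.2 x₀ hx₀)
  -- the fixed part
  let Fx : Subgroup G := (P : Subgroup G) ⊓ (Subgroup.centralizer ({π a} : Set (G ⧸ Z0))).comap π
  have hFx : ∀ x ∈ (P : Subgroup G), (x ∈ Fx ↔ π (a * x * a⁻¹) = π x) := fun x hx => by
    simp only [Fx, Subgroup.mem_inf, Subgroup.mem_comap, Subgroup.mem_centralizer_singleton_iff, hx, true_and,
      map_mul, map_inv, mul_inv_eq_iff_eq_mul]
    exact eq_comm
  have hFP : Fx ≤ (P : Subgroup G) := inf_le_left
  obtain ⟨i, hi⟩ := IsPGroup.iff_card.1 (P.isPGroup'.to_le hFP)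
  obtain ⟨j, hj⟩ := IsPGroup.iff_card.1 P.isPGroup'
  have hlt : Nat.card Fx < Nat.card (P : Subgroup G) := by
    by_contra hge
    refine haT ⟨haN, fun x hx => (hFx x hx).1 ?_⟩
    rw [Subgroup.eq_of_le_of_card_ge hFP (not_lt.1 hge)]
    exact hx
  have hFx4 : 4 * Nat.card Fx ≤ Nat.card (P : Subgroup G) := by
    have h2 := pow_two_step hi hj hlt
    rcases h2.lt_or_eq with h | h
    · have := pow_two_step (a := 2 * Nat.card Fx) (i := i + 1) (by rw [hi, pow_succ]; ring) hj h
      omega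
    exfalso
    set F0 := Fx.subgroupOf (P : Subgroup G) with hF0
    have hidx : F0.index = 2 := by
      have := F0.card_mul_index
      rw [Nat.card_congr (Subgroup.subgroupOfEquivOfLe hFP).toEquiv, ← h, mul_comm 2] at this
      exact Nat.eq_of_mul_eq_mul_left Nat.card_pos this
    obtain ⟨x, hx, hxF⟩ : ∃ x ∈ (P : Subgroup G), x ∉ Fx := by
      by_contra hcon
      push Not at hcon
      exact absurd (Subgroup.card_le_of_le hcon) (not_le.2 hlt)
    have hax : a * x * a⁻¹ ∈ (P : Subgroup G) := (Subgroup.mem_normalizer_iff.1 haN x).1 hx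
    have haxF : a * x * a⁻¹ ∉ Fx := fun hm => by
      have h1 := (hFx _ hax).1 hm
      refine hxF ((hFx x hx).2 ?_)
      simp only [map_mul, map_inv] at h1 ⊢
      calc π a * π x * (π a)⁻¹ = (π a)⁻¹ * (π a * (π a * π x * (π a)⁻¹) * (π a)⁻¹) * π a := by group
        _ = (π a)⁻¹ * (π a * π x * (π a)⁻¹) * π a := by rw [h1]
        _ = _ := by group
    have hf : x⁻¹ * (a * x * a⁻¹) ∈ Fx := by
      have := Subgroup.mul_mem_iff_of_index_two hidx (a := (⟨x⁻¹, inv_mem hx⟩ : (P : Subgroup G)))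
        (b := ⟨a * x * a⁻¹, hax⟩)
      rw [hF0, Subgroup.mem_subgroupOf, Subgroup.mem_subgroupOf, Subgroup.mem_subgroupOf] at this
      exact this.2 ⟨fun h' => absurd (inv_mem_iff.1 h') hxF, fun h' => absurd h' haxF⟩
    obtain ⟨f, hfdef⟩ : ∃ f, f = π (x⁻¹ * (a * x * a⁻¹)) := ⟨_, rfl⟩
    have hfa : π a * f = f * π a := by
      have := (hFx _ (mul_mem (inv_mem hx) hax)).1 hf
      rw [map_mul, map_mul, map_inv π a, mul_inv_eq_iff_eq_mul, ← hfdef] at this
      exact this
    have hstep : π a * π x * (π a)⁻¹ = π x * f := by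
      rw [hfdef]
      simp only [map_mul, map_inv]
      group
    have hiter : ∀ t : ℕ, π a ^ t * π x * (π a ^ t)⁻¹ = π x * f ^ t := by
      intro t
      induction t with
      | zero => simp
      | succ t ih =>
        have hct : Commute (π a) (f ^ t) := (show Commute (π a) f from hfa).pow_right t
        calc π a ^ (t + 1) * π x * (π a ^ (t + 1))⁻¹ = π a * (π a ^ t * π x * (π a ^ t)⁻¹) * (π a)⁻¹ := by
              rw [pow_succ']; group
          _ = π a * π x * (π a)⁻¹ * (π a * f ^ t * (π a)⁻¹) := by rw [ih]; group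
          _ = π x * f * f ^ t := by rw [hstep, hct.eq, mul_inv_cancel_right]
          _ = _ := by rw [pow_succ', mul_assoc]
    have hm1 := hiter m
    rw [← map_pow π a, ← hoa, pow_orderOf_eq_one, map_one, one_mul, inv_one, mul_one] at hm1
    have hfm : f ^ orderOf a = 1 := mul_left_cancel (hm1.symm.trans (mul_one _).symm)
    have hf1 : f = 1 := by
      obtain ⟨s, hs⟩ := IsPGroup.iff_orderOf.1 P.isPGroup' ⟨_, mul_mem (inv_mem hx) hax⟩
      rw [Subgroup.orderOf_mk] at hs
      refine orderOf_eq_one_iff.1 (Nat.eq_one_of_dvd_coprimes (show Nat.Coprime (2 ^ s) (orderOf a) from ?_) ?_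
        (orderOf_dvd_of_pow_eq_one hfm))
      · rw [hoa]; exact (Nat.coprime_two_left.2 hmodd).pow_left s
      · rw [← hs, hfdef]; exact orderOf_map_dvd π _
    refine hxF ((hFx x hx).2 ?_)
    simp only [map_mul, map_inv]
    rw [hstep, hf1, mul_one]
  -- the classes which merge
  let S : Set (ConjClasses (P : Subgroup G)) := {c | ∃ x, ConjClasses.mk x = c ∧ (x : G) ∉ Fx}
  have hS : ∀ c ∈ S, 2 ≤ Nat.card {c' // clsQ P c' = clsQ P c} := by
    rintro c ⟨x, rfl, hx⟩
    have hax : a * (x : G) * a⁻¹ ∈ (P : Subgroup G) := (Subgroup.mem_normalizer_iff.1 haN _).1 x.2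
    haveI : Nontrivial {c' // clsQ P c' = clsQ P (ConjClasses.mk x)} := by
      refine ⟨⟨ConjClasses.mk x, rfl⟩, ⟨ConjClasses.mk ⟨_, hax⟩, ?_⟩, fun h => hx ?_⟩
      · rw [clsQ_mk, clsQ_mk, cls_eq]
        exact isConj_iff.2 ⟨a⁻¹, by show a⁻¹ * (a * (x : G) * a⁻¹) * a⁻¹⁻¹ = x; group⟩
      · obtain ⟨p, hp⟩ := isConj_iff.1 (ConjClasses.mk_eq_mk_iff_isConj.1 (congrArg Subtype.val h))
        have hp' : (p : G) * x * (p : G)⁻¹ = a * x * a⁻¹ := congrArg Subtype.val hp
        refine (hFx _ x.2).2 ?_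
        rw [← hp', map_mul, map_mul, map_inv, hπc _ p.2 _ x.2, mul_inv_cancel_right]
    exact Finite.one_lt_card
  have hmb := merge_bound (clsQ P) (clsQ_surjective P) S hS
  have hScount : Nat.card (P : Subgroup G) ≤ Nat.card Fx + 2 * Nat.card S := by
    let rep : ConjClasses (P : Subgroup G) → (P : Subgroup G) := fun c => (ConjClasses.exists_rep c).choose
    have hrep : ∀ c, ConjClasses.mk (rep c) = c := fun c => (ConjClasses.exists_rep c).choose_spec
    have hcl : ∀ x y : (P : Subgroup G), ConjClasses.mk x = ConjClasses.mk y → (y : G) = x ∨ (y : G) = x * z := by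
      intro x y hxy
      obtain ⟨p, rfl⟩ := isConj_iff.1 (ConjClasses.mk_eq_mk_iff_isConj.1 hxy)
      simp only [Subgroup.coe_mul, Subgroup.coe_inv]
      rcases hcomm p p.2 x x.2 with h | h
      · exact Or.inl (mul_inv_eq_one.1 h)
      · rw [mul_inv_eq_iff_eq_mul] at h
        exact Or.inr (h.trans (Subgroup.mem_center_iff.1 hzc _).symm)
    let f : ↥(P : Subgroup G) → Fx ⊕ (S × Bool) := fun x =>
      if h : (x : G) ∈ Fx then Sum.inl ⟨x, h⟩
      else Sum.inr (⟨ConjClasses.mk x, x, rfl, h⟩, decide (x = rep (ConjClasses.mk x)))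
    have hf : Function.Injective f := by
      intro x y h
      simp only [f] at h
      split_ifs at h with hx hy hy
      · exact Subtype.ext (congrArg Subtype.val (Sum.inl.inj h) :)
      · obtain ⟨h1, h2⟩ := Prod.mk.injEq _ _ _ _ ▸ Sum.inr.inj h
        have hc : ConjClasses.mk x = ConjClasses.mk y := congrArg Subtype.val h1
        rw [← hc, decide_eq_decide] at h2
        by_cases hx' : x = rep (ConjClasses.mk x)
        · exact hx'.trans (h2.1 hx').symm
        · have hy' : y ≠ rep (ConjClasses.mk x) := fun e => hx' (h2.2 e)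
          rcases hcl (rep (ConjClasses.mk x)) x (hrep _) with e | e
          · exact absurd (Subtype.ext e) hx'
          rcases hcl (rep (ConjClasses.mk x)) y ((hrep _).trans hc) with e' | e'
          · exact absurd (Subtype.ext e') hy'
          · exact Subtype.ext (e.trans e'.symm)
    have := Nat.card_le_card_of_injective f hf
    rwa [Nat.card_sum, Nat.card_prod, show Nat.card Bool = 2 by simp, mul_comm _ 2] at this
  have := Nat.card_pos (α := Subgroup.center (P : Subgroup G))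
  omega

/-- The case of a non-central generator of the derived subgroup. -/
theorem noncentral_case (hO : Cfsg.pPrimeCore 2 G = ⊥) (hz1 : z ≠ 1) (hz2 : z * z = 1)
    (hzP : z ∈ (P : Subgroup G)) (hznc : z ∉ Subgroup.center G)
    (hcomm : ∀ a ∈ (P : Subgroup G), ∀ b ∈ (P : Subgroup G), a * b * a⁻¹ * b⁻¹ = 1 ∨ a * b * a⁻¹ * b⁻¹ = z)
    (hex : ∃ a ∈ (P : Subgroup G), ∃ b ∈ (P : Subgroup G), a * b * a⁻¹ * b⁻¹ = z)
    (hzZ : ∀ p ∈ (P : Subgroup G), p * z = z * p)
    (hk : 2 * Nat.card (Cl G) = Nat.card ↥(P : Subgroup G))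
    (hkP : 2 * Nat.card (ConjClasses (P : Subgroup G)) =
      Nat.card (P : Subgroup G) + Nat.card (Subgroup.center (P : Subgroup G)))
    (h4Z : 4 * Nat.card (Subgroup.center (P : Subgroup G)) ≤ Nat.card (P : Subgroup G)) : HasFour P := by
  classical
  haveI : Fact (Nat.Prime 2) := ⟨Nat.prime_two⟩
  have hoz : orderOf z = 2 := orderOf_eq_prime (by rw [pow_two, hz2]) hz1
  set Z : Subgroup G := (P : Subgroup G) ⊓ Subgroup.centralizer ((P : Subgroup G) : Set G) with hZ
  have hzmZ : z ∈ Z := ⟨hzP, Subgroup.mem_centralizer_iff.2 fun p hp => hzZ p hp⟩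
  have hZc : ∀ c ∈ Z, ∀ p ∈ (P : Subgroup G), p * c = c * p := fun c hc p hp =>
    Subgroup.mem_centralizer_iff.1 hc.2 p hp
  have hZcen : ∀ x : (P : Subgroup G), x ∈ Subgroup.center (P : Subgroup G) ↔ (x : G) ∈ Z := fun x =>
    ⟨fun h => ⟨x.2, Subgroup.mem_centralizer_iff.2 fun p hp =>
      congrArg Subtype.val (Subgroup.mem_center_iff.1 h ⟨p, hp⟩)⟩,
    fun h => Subgroup.mem_center_iff.2 fun p => Subtype.ext (hZc _ h p p.2)⟩
  have hZcard : Nat.card (Subgroup.center (P : Subgroup G)) = Nat.card Z := by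
    refine Nat.card_congr
      { toFun := fun x => ⟨x.1, (hZcen x.1).1 x.2⟩
        invFun := fun x => ⟨⟨x.1, x.2.1⟩, (hZcen _).2 x.2⟩
        left_inv := fun x => rfl
        right_inv := fun x => rfl }
  rw [hZcard] at h4Z hkP
  -- fusion of central members fixes `z`
  have hcentral : ∀ g : G, g * z * g⁻¹ ∈ Z → g * z * g⁻¹ = z := by
    intro g hg
    obtain ⟨n, hn, hn'⟩ := P.conj_eq_normalizer_conj_of_mem_centralizer z g⁻¹ hzmZ.2 (by rw [inv_inv]; exact hg.2)
    rw [inv_inv] at hn'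
    obtain ⟨a, ha, b, hb, hab⟩ := hex
    have hn2 : n⁻¹ ∈ Subgroup.normalizer ((P : Subgroup G) : Set G) := inv_mem hn
    have ha' := (Subgroup.mem_normalizer_iff.1 hn2 a).1 ha
    have hb' := (Subgroup.mem_normalizer_iff.1 hn2 b).1 hb
    have heq : n⁻¹ * a * n⁻¹⁻¹ * (n⁻¹ * b * n⁻¹⁻¹) * (n⁻¹ * a * n⁻¹⁻¹)⁻¹ * (n⁻¹ * b * n⁻¹⁻¹)⁻¹ = g * z * g⁻¹ := by
      rw [hn', ← hab]; group
    rcases hcomm _ ha' _ hb' with h | h
    · rw [heq] at h
      exact absurd (by
        calc z = g⁻¹ * (g * z * g⁻¹) * g := by group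
          _ = 1 := by rw [h]; group) hz1
    · rwa [heq] at h
  -- a conjugate `y ≠ z`
  obtain ⟨g0, hy0P, hy0z⟩ : ∃ g0, g0 * z * g0⁻¹ ∈ (P : Subgroup G) ∧ g0 * z * g0⁻¹ ≠ z := by
    by_contra hcon
    push Not at hcon
    refine hznc (Subgroup.mem_center_iff.2 fun g => ?_)
    exact (Char.zStar_central (Char.oddInvol_of_isolated_sylow hoz hzP fun g hg => hcon g hg) hO g).symm
  obtain ⟨y, hy⟩ : ∃ y, y = g0 * z * g0⁻¹ := ⟨_, rfl⟩
  rw [← hy] at hy0P hy0z
  have hyZ : y ∉ Z := fun h => hy0z (hy ▸ hcentral g0 (hy ▸ h))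
  have hy2 : y * y = 1 := by
    rw [hy, show g0 * z * g0⁻¹ * (g0 * z * g0⁻¹) = g0 * (z * z) * g0⁻¹ by group, hz2]; group
  set E : Subgroup G := (P : Subgroup G) ⊓ Subgroup.centralizer ({y} : Set G) with hE
  have hyE : y ∈ E := ⟨hy0P, Subgroup.mem_centralizer_singleton_iff.2 rfl⟩
  have hZE : Z ≤ E := fun c hc => ⟨hc.1, Subgroup.mem_centralizer_singleton_iff.2 (hZc c hc y hy0P).symm⟩
  -- the conjugating element
  obtain ⟨g, hgy, hgE⟩ : ∃ g, g * y * g⁻¹ = z ∧ ∀ e ∈ E, g * e * g⁻¹ ∈ (P : Subgroup G) := by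
    have hPC : (P : Subgroup G) ≤ Subgroup.centralizer ({z} : Set G) := fun p hp =>
      Subgroup.mem_centralizer_singleton_iff.2 (hzZ p hp)
    set Cz : Subgroup G := Subgroup.centralizer ({z} : Set G) with hCz
    have hEC : E.map (MulAut.conj g0⁻¹).toMonoidHom ≤ Cz := by
      rintro _ ⟨e, he, rfl⟩
      rw [hCz, Subgroup.mem_centralizer_singleton_iff]
      show g0⁻¹ * e * g0⁻¹⁻¹ * z = z * (g0⁻¹ * e * g0⁻¹⁻¹)
      have h1 : e * y = y * e := Subgroup.mem_centralizer_singleton_iff.1 he.2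
      calc g0⁻¹ * e * g0⁻¹⁻¹ * z = g0⁻¹ * (e * y) * g0 := by rw [hy]; group
        _ = _ := by rw [h1, hy]; group
    have hp : IsPGroup 2 ((E.map (MulAut.conj g0⁻¹).toMonoidHom).subgroupOf Cz) :=
      IsPGroup.of_equiv ((P.isPGroup'.to_le (inf_le_left : E ≤ (P : Subgroup G))).map _)
        (Subgroup.subgroupOfEquivOfLe hEC).symm
    obtain ⟨R, hR⟩ := hp.exists_le_sylow
    obtain ⟨c, hc⟩ := MulAction.exists_smul_eq Cz R (P.subtype hPC)
    refine ⟨(c : G) * g0⁻¹, ?_, fun e he => ?_⟩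
    · have h1 : (c : G) * z = z * c := Subgroup.mem_centralizer_singleton_iff.1 c.2
      calc (c : G) * g0⁻¹ * y * ((c : G) * g0⁻¹)⁻¹ = (c : G) * z * (c : G)⁻¹ := by rw [hy]; group
        _ = z := by rw [h1]; group
    · have hm : (MulAut.conj g0⁻¹) e ∈ E.map (MulAut.conj g0⁻¹).toMonoidHom := ⟨e, he, rfl⟩
      have h1 : c * (⟨(MulAut.conj g0⁻¹) e, hEC hm⟩ : Cz) * c⁻¹ ∈
          ((P.subtype hPC : Sylow 2 Cz) : Subgroup Cz) := by
        rw [← hc, Sylow.coe_subgroup_smul]
        exact ⟨_, hR (Subgroup.mem_subgroupOf.2 hm), rfl⟩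
      rw [Sylow.coe_subtype, Subgroup.mem_subgroupOf] at h1
      simp only [Subgroup.coe_mul, Subgroup.coe_inv, MulAut.conj_apply] at h1
      rwa [show (c : G) * g0⁻¹ * e * ((c : G) * g0⁻¹)⁻¹ = (c : G) * (g0⁻¹ * e * g0⁻¹⁻¹) * (c : G)⁻¹ by group]
  set U : Subgroup G := E ⊓ Z.comap (MulAut.conj g).toMonoidHom with hU
  have hUmem : ∀ e ∈ E, (e ∈ U ↔ g * e * g⁻¹ ∈ Z) := fun e he => by
    simp [hU, he]
  have hyU : y ∈ U := (hUmem y hyE).2 (hgy.symm ▸ hzmZ)
  have hzU : z ∉ U := fun h => by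
    have h1 := hcentral g ((hUmem z (hZE hzmZ)).1 h)
    exact hy0z ((MulAut.conj g).injective (show g * y * g⁻¹ = g * z * g⁻¹ by rw [hgy, h1]))
  have hUle : Nat.card U ≤ Nat.card Z :=
    Nat.card_le_card_of_injective (fun u : U => (⟨g * u * g⁻¹, (hUmem u u.2.1).1 u.2⟩ : Z))
      fun a b h => Subtype.ext (mul_left_cancel (mul_right_cancel (congrArg Subtype.val h)))
  -- classes merged by `y`
  have hpart : ∀ e ∈ E, e ∉ U → IsConj e (e * y) := by
    intro e he heU
    have hw : g * e * g⁻¹ ∈ (P : Subgroup G) := hgE e he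
    have hwZ : g * e * g⁻¹ ∉ Z := fun h => heU ((hUmem e he).2 h)
    obtain ⟨p, hp, hne⟩ : ∃ p ∈ (P : Subgroup G), p * (g * e * g⁻¹) ≠ g * e * g⁻¹ * p := by
      by_contra hcon
      push Not at hcon
      exact hwZ ⟨hw, Subgroup.mem_centralizer_iff.2 hcon⟩
    rcases hcomm p hp _ hw with h | h
    · exact absurd (mul_inv_eq_iff_eq_mul.1 (mul_inv_eq_one.1 h)) hne
    refine isConj_iff.2 ⟨g⁻¹ * p * g, ?_⟩
    have h1 : p * (g * e * g⁻¹) * p⁻¹ = g * e * g⁻¹ * z := by
      rw [mul_inv_eq_iff_eq_mul.1 h, hzZ _ hw]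
    calc g⁻¹ * p * g * e * (g⁻¹ * p * g)⁻¹ = g⁻¹ * (p * (g * e * g⁻¹) * p⁻¹) * g := by group
      _ = g⁻¹ * (g * e * g⁻¹ * (g * y * g⁻¹)) * g := by rw [h1, hgy]
      _ = e * y := by group
  have hPclass : ∀ a b : (P : Subgroup G), IsConj a b → (b : G) = a ∨ (b : G) = a * z := by
    intro a b hab
    obtain ⟨p, rfl⟩ := isConj_iff.1 hab
    simp only [Subgroup.coe_mul, Subgroup.coe_inv]
    rcases hcomm p p.2 a a.2 with h | h
    · exact Or.inl (mul_inv_eq_one.1 h)
    · rw [mul_inv_eq_iff_eq_mul] at h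
      exact Or.inr (h.trans (hzZ _ a.2).symm)
  let rep : ConjClasses (P : Subgroup G) → (P : Subgroup G) := fun c => (ConjClasses.exists_rep c).choose
  have hrep : ∀ c, ConjClasses.mk (rep c) = c := fun c => (ConjClasses.exists_rep c).choose_spec
  -- sizes
  have hyz : y ≠ z := hy0z
  have hy1 : y ≠ 1 := fun h => hyZ (h ▸ one_mem _)
  let S : Set (ConjClasses (P : Subgroup G)) := {c | ∃ x, ConjClasses.mk x = c ∧ (x : G) ∈ E ∧ (x : G) ∉ U}
  have hS : ∀ c ∈ S, 2 ≤ Nat.card {c' // clsQ P c' = clsQ P c} := by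
    rintro c ⟨x, rfl, hxE, hxU⟩
    haveI : Nontrivial {c' // clsQ P c' = clsQ P (ConjClasses.mk x)} := by
      refine ⟨⟨ConjClasses.mk x, rfl⟩, ⟨ConjClasses.mk ⟨(x : G) * y, mul_mem x.2 hy0P⟩, ?_⟩, fun h => ?_⟩
      · rw [clsQ_mk, clsQ_mk, cls_eq]
        exact (hpart _ hxE hxU).symm
      · rcases hPclass _ _ (ConjClasses.mk_eq_mk_iff_isConj.1 (congrArg Subtype.val h)) with e | e
        · exact hy1 (mul_left_cancel ((show (x : G) * y = x from e).trans (mul_one _).symm))
        · exact hyz (mul_left_cancel (show (x : G) * y = x * z from e))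
    exact Finite.one_lt_card
  have hmb := merge_bound (clsQ P) (clsQ_surjective P) S hS
  have hEcount : Nat.card E ≤ Nat.card U + 2 * Nat.card S := by
    let f : E → U ⊕ (S × Bool) := fun x =>
      if h : (x : G) ∈ U then Sum.inl ⟨x, h⟩
      else Sum.inr (⟨ConjClasses.mk ⟨x, x.2.1⟩, ⟨x, x.2.1⟩, rfl, x.2, h⟩,
        decide ((⟨x, x.2.1⟩ : (P : Subgroup G)) = rep (ConjClasses.mk ⟨x, x.2.1⟩)))
    have hf : Function.Injective f := by
      intro x x' h
      simp only [f] at h
      split_ifs at h with hx hy hy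
      · exact Subtype.ext (congrArg Subtype.val (Sum.inl.inj h) :)
      · obtain ⟨h1, h2⟩ := Prod.mk.injEq _ _ _ _ ▸ Sum.inr.inj h
        set a : (P : Subgroup G) := ⟨x, x.2.1⟩ with ha
        set b : (P : Subgroup G) := ⟨x', x'.2.1⟩ with hb
        have hc : ConjClasses.mk a = ConjClasses.mk b := congrArg Subtype.val h1
        rw [← hc, decide_eq_decide] at h2
        refine Subtype.ext (congrArg (fun w : (P : Subgroup G) => (w : G)) (?_ : a = b))
        by_cases hx' : a = rep (ConjClasses.mk a)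
        · exact hx'.trans (h2.1 hx').symm
        · have hy' : b ≠ rep (ConjClasses.mk a) := fun e => hx' (h2.2 e)
          rcases hPclass (rep (ConjClasses.mk a)) a (ConjClasses.mk_eq_mk_iff_isConj.1 (hrep _)) with e | e
          · exact absurd (Subtype.ext e) hx'
          rcases hPclass (rep (ConjClasses.mk a)) b
              (ConjClasses.mk_eq_mk_iff_isConj.1 ((hrep _).trans hc)) with e' | e'
          · exact absurd (Subtype.ext e') hy'
          · exact Subtype.ext (e.trans e'.symm)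
    have := Nat.card_le_card_of_injective f hf
    rwa [Nat.card_sum, Nat.card_prod, show Nat.card Bool = 2 by simp, mul_comm _ 2] at this
  have hE3 : Nat.card E ≤ 3 * Nat.card Z := by omega
  obtain ⟨iz, hiz⟩ : ∃ i, Nat.card Z = 2 ^ i := IsPGroup.iff_card.1 (P.isPGroup'.to_le inf_le_left)
  obtain ⟨ie, hie⟩ : ∃ i, Nat.card E = 2 ^ i := IsPGroup.iff_card.1 (P.isPGroup'.to_le inf_le_left)
  have hZlt : Nat.card Z < Nat.card E := by
    by_contra hge
    exact hyZ ((Subgroup.eq_of_le_of_card_ge hZE (not_lt.1 hge)).symm ▸ hyE)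
  have hE2 : Nat.card E = 2 * Nat.card Z := by
    have h := pow_two_step hiz hie hZlt
    rcases h.lt_or_eq with h' | h'
    · have := Nat.card_pos (α := Z)
      have := pow_two_step (a := 2 * Nat.card Z) (i := iz + 1) (by rw [hiz, pow_succ]; ring) hie h'
      omega
    · exact h'.symm
  obtain ⟨p₀, hp₀, hp₀y⟩ : ∃ p ∈ (P : Subgroup G), p * y ≠ y * p := by
    by_contra hcon
    push Not at hcon
    exact hyZ ⟨hy0P, Subgroup.mem_centralizer_iff.2 hcon⟩
  have hprod : ∀ p ∈ (P : Subgroup G), ∀ q ∈ (P : Subgroup G), p * y ≠ y * p → q * y ≠ y * q → p * q⁻¹ ∈ E := by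
    intro p hp q hq hpy hqy
    have hpz := (hcomm p hp y hy0P).resolve_left fun h => hpy (mul_inv_eq_iff_eq_mul.1 (mul_inv_eq_one.1 h))
    have hqz := (hcomm q hq y hy0P).resolve_left fun h => hqy (mul_inv_eq_iff_eq_mul.1 (mul_inv_eq_one.1 h))
    refine Subgroup.mem_inf.2 ⟨mul_mem hp (inv_mem hq), Subgroup.mem_centralizer_singleton_iff.2 ?_⟩
    rw [mul_inv_eq_iff_eq_mul] at hpz hqz
    have hzp : p * z * p⁻¹ = z := by rw [hzZ p hp, mul_inv_cancel_right]
    have hzq : q⁻¹ * z * q = z := by rw [mul_assoc, ← hzZ q hq, inv_mul_cancel_left]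
    have hqy' : q⁻¹ * y * q = z * y := by
      calc q⁻¹ * y * q = q⁻¹ * (z * (z * y)) * q := by rw [← mul_assoc z, hz2, one_mul]
        _ = q⁻¹ * (z * (q * y * q⁻¹)) * q := by rw [hqz]
        _ = (q⁻¹ * z * q) * y := by group
        _ = z * y := by rw [hzq]
    have hfix : p * q⁻¹ * y * (p * q⁻¹)⁻¹ = y := by
      calc p * q⁻¹ * y * (p * q⁻¹)⁻¹ = p * (q⁻¹ * y * q) * p⁻¹ := by group
        _ = (p * z * p⁻¹) * (p * y * p⁻¹) := by rw [hqy']; group
        _ = y := by rw [hzp, hpz, ← mul_assoc, hz2, one_mul]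
    rwa [mul_inv_eq_iff_eq_mul] at hfix
  have hP2 : Nat.card (P : Subgroup G) ≤ 2 * Nat.card E := by
    let f : ↥(P : Subgroup G) → E × Bool := fun p =>
      if h : (p : G) * y = y * p then (⟨p, p.2, Subgroup.mem_centralizer_singleton_iff.2 h⟩, false)
      else (⟨p * p₀⁻¹, hprod p p.2 p₀ hp₀ h hp₀y⟩, true)
    have hf : Function.Injective f := by
      intro a b h
      simp only [f] at h
      split_ifs at h with ha hb hb
      · exact Subtype.ext (congrArg Subtype.val (congrArg Prod.fst h) :)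
      · exact absurd (congrArg Prod.snd h) (by simp)
      · exact absurd (congrArg Prod.snd h) (by simp)
      · exact Subtype.ext (mul_right_cancel (congrArg Subtype.val (congrArg Prod.fst h) :))
    have := Nat.card_le_card_of_injective f hf
    rwa [Nat.card_prod, show Nat.card Bool = 2 by simp, mul_comm] at this
  have hP4 : Nat.card (P : Subgroup G) = 4 * Nat.card Z := by omega
  have hidxZ : (Z.subgroupOf E).index = 2 := by
    have := (Z.subgroupOf E).card_mul_index
    rw [Nat.card_congr (Subgroup.subgroupOfEquivOfLe hZE).toEquiv, hE2, mul_comm 2] at this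
    exact Nat.eq_of_mul_eq_mul_left Nat.card_pos this
  have hEdec : ∀ e ∈ E, e ∈ Z ∨ y * e ∈ Z := by
    intro e he
    by_cases h : e ∈ Z
    · exact Or.inl h
    · refine Or.inr ?_
      have := Subgroup.mul_mem_iff_of_index_two hidxZ (a := (⟨y, hyE⟩ : E)) (b := ⟨e, he⟩)
      rw [Subgroup.mem_subgroupOf, Subgroup.mem_subgroupOf, Subgroup.mem_subgroupOf] at this
      exact this.2 ⟨fun h' => absurd h' hyZ, fun h' => absurd h' h⟩
  have hEab : ∀ e ∈ E, ∀ f ∈ E, e * f = f * e := by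
    have key : ∀ e ∈ E, ∀ f ∈ Z, e * f = f * e := fun e he f hf => hZc f hf e he.1
    intro e he f hf
    rcases hEdec f hf with h | h
    · exact key e he f h
    · have h1 : e * (y * f) = y * f * e := key e he _ h
      have h2 : e * y = y * e := Subgroup.mem_centralizer_singleton_iff.1 he.2
      calc e * f = y⁻¹ * (y * e) * f := by group
        _ = y⁻¹ * (e * (y * f)) := by rw [← h2]; group
        _ = f * e := by rw [h1]; group
  -- the image of `E` contains `Z`
  set R : Subgroup G := E.map (MulAut.conj g).toMonoidHom with hR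
  have hRmem : ∀ r, r ∈ R → ∃ e ∈ E, g * e * g⁻¹ = r := fun r ⟨e, he, h⟩ => ⟨e, he, h⟩
  have hRP : R ≤ (P : Subgroup G) := fun r hr => by
    obtain ⟨e, he, rfl⟩ := hRmem r hr
    exact hgE e he
  have hRab : ∀ a ∈ R, ∀ b ∈ R, a * b = b * a := fun a ha b hb => by
    obtain ⟨e, he, rfl⟩ := hRmem a ha
    obtain ⟨f, hf, rfl⟩ := hRmem b hb
    calc g * e * g⁻¹ * (g * f * g⁻¹) = g * (e * f) * g⁻¹ := by group
      _ = _ := by rw [hEab e he f hf]; group
  have hidxR : (R.subgroupOf (P : Subgroup G)).index = 2 := by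
    have := (R.subgroupOf (P : Subgroup G)).card_mul_index
    rw [Nat.card_congr (Subgroup.subgroupOfEquivOfLe hRP).toEquiv,
      Subgroup.card_map_of_injective (MulAut.conj g).injective, hE2, hP4,
      show 4 * Nat.card Z = 2 * Nat.card Z * 2 by ring] at this
    exact Nat.eq_of_mul_eq_mul_left (Nat.mul_pos two_pos Nat.card_pos) this
  have hZR : Z ≤ R := by
    intro c hc
    by_contra hcR
    obtain ⟨a, ha, b, hb, hab⟩ := hex
    have hdec : ∀ p ∈ (P : Subgroup G), p ∈ R ∨ c * p ∈ R := by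
      intro p hp
      by_cases h : p ∈ R
      · exact Or.inl h
      · refine Or.inr ?_
        have := Subgroup.mul_mem_iff_of_index_two hidxR (a := (⟨c, hc.1⟩ : (P : Subgroup G))) (b := ⟨p, hp⟩)
        rw [Subgroup.mem_subgroupOf, Subgroup.mem_subgroupOf, Subgroup.mem_subgroupOf] at this
        exact this.2 ⟨fun h' => absurd h' hcR, fun h' => absurd h' h⟩
    have hab' : a * b = b * a := by
      rcases hdec a ha with h | h <;> rcases hdec b hb with h' | h'
      · exact hRab a h b h'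
      · refine mul_left_cancel (a := c) ?_
        calc c * (a * b) = a * (c * b) := by rw [← mul_assoc, ← hZc c hc a ha, mul_assoc]
          _ = c * b * a := hRab a h _ h'
          _ = _ := by group
      · refine mul_left_cancel (a := c) ?_
        calc c * (a * b) = c * a * b := by group
          _ = b * (c * a) := hRab _ h b h'
          _ = _ := by rw [← mul_assoc, hZc c hc b hb, mul_assoc]
      · refine mul_left_cancel (a := c * c) ?_
        calc c * c * (a * b) = (c * a) * (c * b) := by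
              rw [show c * a * (c * b) = c * (a * c) * b by group, hZc c hc a ha]; group
          _ = c * b * (c * a) := hRab _ h _ h'
          _ = c * c * (b * a) := by
              rw [show c * b * (c * a) = c * (b * c) * a by group, hZc c hc b hb]; group
    apply hz1
    rw [← hab, hab']; group
  have hUcard : Nat.card U = Nat.card Z := by
    refine le_antisymm hUle ?_
    have hsurj : ∀ c : Z, ∃ u : U, g * (u : G) * g⁻¹ = c := fun c => by
      obtain ⟨e, he, hec⟩ := hRmem _ (hZR c.2)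
      exact ⟨⟨e, (hUmem e he).2 (hec ▸ c.2)⟩, hec⟩
    choose φ hφ using hsurj
    exact Nat.card_le_card_of_injective φ fun a b h => Subtype.ext (by rw [← hφ a, ← hφ b, h])
  have hidxU : (U.subgroupOf E).index = 2 := by
    have := (U.subgroupOf E).card_mul_index
    rw [Nat.card_congr (Subgroup.subgroupOfEquivOfLe (inf_le_left : U ≤ E)).toEquiv, hUcard, hE2, mul_comm 2] at this
    exact Nat.eq_of_mul_eq_mul_left Nat.card_pos this
  have hzmul : ∀ c ∈ E, (c * z ∈ U ↔ c ∉ U) := by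
    intro c hc
    have := Subgroup.mul_mem_iff_of_index_two hidxU (a := (⟨c, hc⟩ : E)) (b := ⟨z, hZE hzmZ⟩)
    rw [Subgroup.mem_subgroupOf, Subgroup.mem_subgroupOf, Subgroup.mem_subgroupOf] at this
    exact this.trans ⟨fun h hcU => hzU (h.1 hcU), fun h => ⟨fun h' => absurd h' h, fun h' => absurd h' hzU⟩⟩
  -- the exceptional classes
  let W : Set (P : Subgroup G) := {x | (x : G) ∈ Z ∧ (x : G) ∉ U}
  have hWcard : 2 * Nat.card W = Nat.card Z := by
    let e1 : {c : Z // (c : G) ∉ U} ≃ {c : Z // (c : G) ∈ U} :=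
      { toFun := fun c => ⟨⟨c.1 * z, mul_mem c.1.2 hzmZ⟩, (hzmul _ (hZE c.1.2)).2 c.2⟩
        invFun := fun c => ⟨⟨c.1 * z, mul_mem c.1.2 hzmZ⟩, fun h => ((hzmul _ (hZE c.1.2)).1 h) c.2⟩
        left_inv := fun c => by
          refine Subtype.ext (Subtype.ext ?_)
          show (c.1 : G) * z * z = c.1
          rw [mul_assoc, hz2, mul_one]
        right_inv := fun c => by
          refine Subtype.ext (Subtype.ext ?_)
          show (c.1 : G) * z * z = c.1
          rw [mul_assoc, hz2, mul_one] }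
    let e2 : W ≃ {c : Z // (c : G) ∉ U} :=
      { toFun := fun x => ⟨⟨x.1, x.2.1⟩, x.2.2⟩
        invFun := fun c => ⟨⟨c.1, c.1.2.1⟩, c.1.2, c.2⟩
        left_inv := fun x => rfl
        right_inv := fun c => rfl }
    rw [two_mul]
    conv_lhs => arg 1; rw [Nat.card_congr (e2.trans e1)]
    rw [Nat.card_congr e2, ← Nat.card_sum]
    exact Nat.card_congr (Equiv.sumCompl fun c : Z => (c : G) ∈ U)
  let T : Set (ConjClasses (P : Subgroup G)) := {c | ∀ x ∈ W, ConjClasses.mk x ≠ c}
  have hWsingle : ∀ x ∈ W, ∀ x' : (P : Subgroup G), ConjClasses.mk x = ConjClasses.mk x' → x' = x := by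
    intro x hx x' h
    obtain ⟨p, rfl⟩ := isConj_iff.1 (ConjClasses.mk_eq_mk_iff_isConj.1 h)
    refine Subtype.ext ?_
    simp only [Subgroup.coe_mul, Subgroup.coe_inv]
    rw [hZc _ hx.1 p p.2, mul_inv_cancel_right]
  have hTcard : Nat.card T + Nat.card W = Nat.card (ConjClasses (P : Subgroup G)) := by
    let f : W → {c : ConjClasses (P : Subgroup G) // ¬ c ∈ T} := fun x =>
      ⟨ConjClasses.mk x.1, fun h => h x.1 x.2 rfl⟩
    have hf : Function.Bijective f := by
      refine ⟨fun a b h => Subtype.ext ((hWsingle a a.2 b (congrArg Subtype.val h)).symm), fun c => ?_⟩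
      obtain ⟨c, hc⟩ := c
      simp only [T, Set.mem_setOf_eq, not_forall, not_not] at hc
      obtain ⟨x, hx, rfl⟩ := hc
      exact ⟨⟨x, hx⟩, rfl⟩
    rw [Nat.card_congr (Equiv.ofBijective f hf), ← Nat.card_sum]
    exact Nat.card_congr (Equiv.sumCompl fun c => c ∈ T)
  let flat : ↥(P : Subgroup G) → (P : Subgroup G) := fun x => if x ∈ W then ⟨(x : G) * y, mul_mem x.2 hy0P⟩ else x
  have hflatW : ∀ x, flat x ∉ W := by
    intro x
    simp only [flat]
    split_ifs with h
    · intro h'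
      exact hyZ ((Subgroup.mul_mem_cancel_left Z h.1).1 h'.1)
    · exact h
  have hflatT : ∀ x, ConjClasses.mk (flat x) ∈ T := fun x w hw h => hflatW x (by rwa [hWsingle w hw _ h])
  have hflatC : ∀ x : ↥(P : Subgroup G), IsConj (x : G) (flat x) := by
    intro x
    simp only [flat]
    split_ifs with h
    · exact hpart _ (hZE h.1) h.2
    · exact IsConj.refl _
  let fT : T → Cl G := fun c => clsQ P c.1
  have hTs : Function.Surjective fT := fun c => by
    obtain ⟨x, hx⟩ := cls_surjective P c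
    refine ⟨⟨_, hflatT x⟩, ?_⟩
    show clsQ P (ConjClasses.mk (flat x)) = c
    rw [← hx, clsQ_mk, cls_eq]
    exact (hflatC x).symm
  have hTbij : Function.Bijective fT := by
    refine (Nat.bijective_iff_surjective_and_card fT).2 ⟨hTs, ?_⟩
    omega
  -- the four group
  set V : Subgroup G := Subgroup.closure ({z, y} : Set G) with hV
  have hzV : z ∈ V := Subgroup.subset_closure (Or.inl rfl)
  have hyV : y ∈ V := Subgroup.subset_closure (Or.inr rfl)
  have hklein : IsKleinFour ↥V := klein_pair hz2 hy2 ((hzZ y hy0P).symm) hz1 hy1 hy0z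
  have hfocle : Subgroup.focalSubgroup (P : Subgroup G) ≤ V := by
    refine focal_le P V fun a b hab => ?_
    have hstep : ∀ x : (P : Subgroup G), (x : G)⁻¹ * (flat x : G) ∈ V := by
      intro x
      simp only [flat]
      split_ifs with h
      · show (x : G)⁻¹ * ((x : G) * y) ∈ V
        rw [inv_mul_cancel_left]; exact hyV
      · rw [inv_mul_cancel]; exact one_mem _
    have hmid : (flat a : G)⁻¹ * (flat b : G) ∈ V := by
      have h1 : fT ⟨_, hflatT a⟩ = fT ⟨_, hflatT b⟩ := by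
        show clsQ P (ConjClasses.mk (flat a)) = clsQ P (ConjClasses.mk (flat b))
        rw [clsQ_mk, clsQ_mk, cls_eq]
        exact ((hflatC a).symm.trans hab).trans (hflatC b)
      have h2 := congrArg Subtype.val (hTbij.1 h1)
      rcases hPclass _ _ (ConjClasses.mk_eq_mk_iff_isConj.1 h2) with e | e <;> rw [e]
      · rw [inv_mul_cancel]; exact one_mem _
      · rw [inv_mul_cancel_left]; exact hzV
    have := mul_mem (mul_mem (hstep a) hmid) (inv_mem (hstep b))
    rwa [show (a : G)⁻¹ * (flat a : G) * ((flat a : G)⁻¹ * (flat b : G)) * ((b : G)⁻¹ * (flat b : G))⁻¹ =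
      (a : G)⁻¹ * b by group] at this
  have hzfoc : z ∈ Subgroup.focalSubgroup (P : Subgroup G) := by
    obtain ⟨a, ha, b, hb, hab⟩ := hex
    have h1 : IsConj b (a * b * a⁻¹) := isConj_iff.2 ⟨a, rfl⟩
    have h2 := mem_focal P ⟨b, hb⟩ (mul_mem (mul_mem ha hb) (inv_mem ha)) h1
    rw [mul_inv_eq_iff_eq_mul] at hab
    rwa [show ((⟨b, hb⟩ : (P : Subgroup G)) : G) = b from rfl, hab, ← hzZ b hb, inv_mul_cancel_left] at h2
  have hVle : V ≤ Subgroup.focalSubgroup (P : Subgroup G) := by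
    rw [hV, Subgroup.closure_le]
    rintro w (rfl | rfl)
    · exact hzfoc
    · have h2 := mem_focal P ⟨z, hzP⟩ hy0P (isConj_iff.2 ⟨g0, hy.symm⟩)
      have := mul_mem hzfoc h2
      simpa using this
  obtain ⟨K, hK, hsup, hPK, hKc, -⟩ := exists_focal_kernel P
  refine ⟨K, hK, hsup, ?_, ?_, hKc⟩
  · rw [hPK, le_antisymm hfocle hVle]
    exact hklein.card_four
  · intro x hx
    rw [hPK, le_antisymm hfocle hVle] at hx
    haveI := hklein
    exact congrArg Subtype.val (IsKleinFour.mul_self (⟨x, hx⟩ : V))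

end Derived

/-- **Half as many classes of two-elements as members of a Sylow subgroup.** -/
theorem two_classes (gw : PerfectClass.{u}) (P : Sylow 2 G) (hO : Cfsg.pPrimeCore 2 G = ⊥)
    (hk : 2 * Nat.card (Cl G) = Nat.card ↥(P : Subgroup G)) :
    Nonempty (G ⧸ Subgroup.center G ≃* ↥(alternatingGroup (Fin 4))) ∨
      Nonempty (G ⧸ Subgroup.center G ≃* Equiv.Perm (Fin 4)) ∨
      ∃ S : Subgroup (G ⧸ Subgroup.center G), S.Normal ∧ IsSimpleGroup ↥S ∧ ¬ IsMulCommutative ↥S ∧
        Subgroup.centralizer (S : Set (G ⧸ Subgroup.center G)) = ⊥ ∧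
        ∃ (F : Type) (_ : Field F) (_ : Fintype F), 3 < Fintype.card F ∧
          (Fintype.card F % 8 = 3 ∨ Fintype.card F % 8 = 5) ∧
          Nonempty (↥S ≃* Matrix.ProjectiveSpecialLinearGroup (Fin 2) F) := by
  classical
  haveI : Fact (Nat.Prime 2) := ⟨Nat.prime_two⟩
  have hG := not_pgroup P hk
  suffices hfour : HasFour P by
    obtain ⟨K, hK, hsup, h4, hsq, hc⟩ := hfour
    haveI := hK
    exact core_structure gw P hO hG K hsup h4 hsq hc
  by_cases hab : ∀ a ∈ (P : Subgroup G), ∀ b ∈ (P : Subgroup G), a * b = b * a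
  · exact abelian_case P hab hk
  push Not at hab
  obtain ⟨a, ha, b, hb, hne⟩ := hab
  set c : (P : Subgroup G) := ⟨a, ha⟩ * ⟨b, hb⟩ * ⟨a, ha⟩⁻¹ * ⟨b, hb⟩⁻¹ with hc
  have hcval : (c : G) = a * b * a⁻¹ * b⁻¹ := rfl
  have hc1 : c ≠ 1 := fun h => hne (mul_inv_eq_iff_eq_mul.1 (mul_inv_eq_one.1 (hcval.symm.trans (congrArg Subtype.val h))))
  have hmem : ∀ x y : (P : Subgroup G), x * y * x⁻¹ * y⁻¹ ∈ commutator (P : Subgroup G) := fun x y =>
    Subgroup.commutator_mem_commutator (Subgroup.mem_top x) (Subgroup.mem_top y)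
  have hle := Nat.card_le_card_of_surjective (clsQ P) (clsQ_surjective P)
  have hder := derived_le_two P.isPGroup' (by omega)
  have hc2 : Nat.card (commutator (P : Subgroup G)) = 2 := by
    have h1 : Nat.card (commutator (P : Subgroup G)) ≠ 1 := fun h => hc1 (by
      have := hmem ⟨a, ha⟩ ⟨b, hb⟩
      rwa [Subgroup.card_eq_one.1 h, Subgroup.mem_bot] at this)
    have := Nat.card_pos (α := commutator (P : Subgroup G))
    omega
  have hcomm' : ∀ x y : (P : Subgroup G), x * y * x⁻¹ * y⁻¹ = 1 ∨ x * y * x⁻¹ * y⁻¹ = c := by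
    intro x y
    obtain ⟨u, hu, huniv⟩ := (Nat.card_eq_two_iff' (1 : commutator (P : Subgroup G))).1 hc2
    by_cases h : x * y * x⁻¹ * y⁻¹ = 1
    · exact Or.inl h
    · exact Or.inr (congrArg Subtype.val ((huniv ⟨_, hmem x y⟩ fun e => h (congrArg Subtype.val e)).trans
        (huniv ⟨_, hmem ⟨a, ha⟩ ⟨b, hb⟩⟩ fun e => hc1 (congrArg Subtype.val e)).symm))
  have hcc : c * c = 1 := by
    have h := pow_card_eq_one' (x := (⟨c, hmem ⟨a, ha⟩ ⟨b, hb⟩⟩ : commutator (P : Subgroup G)))
    rw [hc2, pow_two] at h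
    exact congrArg Subtype.val h
  have hkP := two_mul_card_classes hc1 hcomm'
  have hz1 : (c : G) ≠ 1 := fun h => hc1 (Subtype.ext h)
  have hz2 : (c : G) * c = 1 := congrArg Subtype.val hcc
  have hcomm : ∀ x ∈ (P : Subgroup G), ∀ y ∈ (P : Subgroup G),
      x * y * x⁻¹ * y⁻¹ = 1 ∨ x * y * x⁻¹ * y⁻¹ = (c : G) := fun x hx y hy =>
    (hcomm' ⟨x, hx⟩ ⟨y, hy⟩).imp (congrArg Subtype.val) (congrArg Subtype.val)
  have hzZ : ∀ p ∈ (P : Subgroup G), p * (c : G) = c * p := by
    intro p hp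
    have h := hcomm (p * a * p⁻¹) (mul_mem (mul_mem hp ha) (inv_mem hp)) (p * b * p⁻¹)
      (mul_mem (mul_mem hp hb) (inv_mem hp))
    rw [show p * a * p⁻¹ * (p * b * p⁻¹) * (p * a * p⁻¹)⁻¹ * (p * b * p⁻¹)⁻¹ = p * (c : G) * p⁻¹ by
      rw [hcval]; group] at h
    rcases h with h | h
    · exact absurd (by
        calc (c : G) = p⁻¹ * (p * c * p⁻¹) * p := by group
          _ = 1 := by rw [h]; group) hz1
    · calc p * (c : G) = p * c * p⁻¹ * p := by group
        _ = c * p := by rw [h]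
  have h4Z : 4 * Nat.card (Subgroup.center (P : Subgroup G)) ≤ Nat.card (P : Subgroup G) := by
    set Zc := Subgroup.center (P : Subgroup G) with hZc
    set A : (P : Subgroup G) := ⟨a, ha⟩
    set B : (P : Subgroup G) := ⟨b, hb⟩
    have hne' : A * B ≠ B * A := fun h => hne (congrArg Subtype.val h)
    have hA : A ∉ Zc := fun h => hne' ((Subgroup.mem_center_iff.1 h B).symm)
    have hB : B ∉ Zc := fun h => hne' (Subgroup.mem_center_iff.1 h A)
    have hAB : A * B ∉ Zc := fun h => hne' (mul_left_cancel (a := A) (by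
      have := Subgroup.mem_center_iff.1 h A
      rw [this]; group))
    have hAiB : A⁻¹ * B ∉ Zc := fun h => hne' (by
      have := Subgroup.mem_center_iff.1 h A
      rw [← mul_assoc, mul_inv_cancel, one_mul] at this
      calc A * B = A * (A⁻¹ * B * A) := by rw [← this]
        _ = B * A := by group)
    let d : Bool × Bool → (P : Subgroup G) := fun i => (if i.1 then A else 1) * (if i.2 then B else 1)
    have hd : ∀ i j, (d i)⁻¹ * d j ∈ Zc → i = j := by
      rintro ⟨i₁, i₂⟩ ⟨j₁, j₂⟩ h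
      have hAinv : A⁻¹ ∉ Zc := fun h => hA (inv_mem_iff.1 h)
      have hBinv : B⁻¹ ∉ Zc := fun h => hB (inv_mem_iff.1 h)
      have hABinv : B⁻¹ * A⁻¹ ∉ Zc := fun h => hAB (by simpa [mul_inv_rev] using inv_mem h)
      have hBiA : B⁻¹ * A ∉ Zc := fun h => hAiB (by simpa [mul_inv_rev] using inv_mem h)
      have hn := (inferInstance : Zc.Normal)
      cases i₁ <;> cases i₂ <;> cases j₁ <;> cases j₂ <;>
        simp only [d, if_true, Bool.false_eq_true, if_false, one_mul, mul_one, inv_one, mul_inv_rev] at h <;>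
        first
          | rfl
          | exact absurd h hA | exact absurd h hB | exact absurd h hAB | exact absurd h hAiB
          | exact absurd h hAinv | exact absurd h hBinv | exact absurd h hABinv | exact absurd h hBiA
          | exact absurd (by simpa [mul_assoc] using h) hA
          | exact absurd (by simpa [mul_assoc] using h) hB
          | exact absurd (by simpa [mul_assoc] using hn.conj_mem _ h B) hA
          | exact absurd (by simpa [mul_assoc] using hn.conj_mem _ h B) hAinv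
          | exact absurd (by simpa [mul_assoc] using h) hAinv
          | exact absurd (by simpa [mul_assoc] using h) hBinv
    let f : (Bool × Bool) × Zc → (P : Subgroup G) := fun p => d p.1 * p.2
    have hf : Function.Injective f := by
      rintro ⟨i, u⟩ ⟨j, v⟩ h
      have h' : d i * (u : (P : Subgroup G)) = d j * v := h
      have hij : i = j := hd i j (by
        rw [show (d i)⁻¹ * d j = (u : (P : Subgroup G)) * (v : (P : Subgroup G))⁻¹ by
          rw [eq_mul_inv_iff_mul_eq, mul_assoc, ← h']; group]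
        exact mul_mem u.2 (inv_mem v.2))
      subst hij
      exact Prod.ext rfl (Subtype.ext (mul_left_cancel h'))
    have := Nat.card_le_card_of_injective f hf
    rwa [Nat.card_prod, Nat.card_prod, show Nat.card Bool = 2 by simp] at this
  by_cases hzc : (c : G) ∈ Subgroup.center G
  · exact (no_central_case P hO hG hz1 hz2 c.2 hzc hcomm hk hkP h4Z).elim
  · exact noncentral_case P hO hz1 hz2 c.2 hzc hcomm ⟨a, ha, b, hb, hcval.symm⟩ hzZ hk hkP h4Z

end Cfsg.Agent.GW.Dep.TwoClasses
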