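import Cfsg.Agent.Lib.GW.EightPairs
import Cfsg.Agent.Lib.Char.SemiBlock.Pairs
import Cfsg.Agent.Lib.Char.DihedralBlock.Theta
import Cfsg.Agent.Lib.Char.SubsectionOrbits

/-!
# The block above a linear character of an involution centralizer with dihedral Sylow 2-subgroups

The linear character gives a block of the centralizer, its induced block has the Sylow subgroup as defect group, and
no other block of the centralizer induces the same block.
-/

set_option autoImplicit false
set_option linter.unusedSectionVars false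
set_option linter.style.haveILetI false

open Cfsg DihedralGroup Relation

namespace Cfsg.Agent.GW.Eight

universe u

variable {G : Type u} [Group G] [Fintype G] {M : Ideal AlgInt}

/-- The hypotheses on the linear character. -/
structure Data (P : Sylow 2 G) {N : ℕ} [NeZero N] (ι : DihedralGroup N ≃* (P : Subgroup G)) (t : G)
    (O : Subgroup G) (L : Subgroup.centralizer ({t} : Set G) →* ℂˣ) : Prop where
  pow : ∃ a : ℕ, N = 2 ^ (a + 2)
  ht : t = ι (r ((N / 2 : ℕ) : ZMod N))
  hOodd : Odd (Nat.card O)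
  hOle : O ≤ Subgroup.centralizer ({t} : Set G)
  hOn : ∀ c ∈ Subgroup.centralizer ({t} : Set G), ∀ y ∈ O, c * y * c⁻¹ ∈ O
  hC : O ⊔ (P : Subgroup G) = Subgroup.centralizer ({t} : Set G)
  hLP : ∀ c : Subgroup.centralizer ({t} : Set G), (c : G) ∈ (P : Subgroup G) → L c = 1
  hfus : ∀ i : ZMod N, ∃ g : G, g * t * g⁻¹ = (ι (sr i) : G) ∧
    g ∈ Subgroup.normalizer ((Subgroup.zpowers t ⊔ Subgroup.zpowers ((ι (sr i) : G)) : Subgroup G) : Set G) ∧
    ∀ k k' : Subgroup.centralizer ({t} : Set G), (k : G) * (ι (sr i) : G) = (ι (sr i) : G) * k →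
      (k' : G) = g * k * g⁻¹ → L k' = L k

/-- The chain of pairs of a linear character. -/
theorem linBlock_chain (hM : IsPModular 2 M) {K : Subgroup G} (L : K →* ℂˣ) {S : Subgroup G}
    (hS : IsPGroup 2 S) (hSK : S ≤ K) {Q : Subgroup G} (hQS : Q ≤ S)
    (hQ : Subgroup.centralizer (Q : Set G) ≤ K) (hS' : Subgroup.centralizer (S : Set G) ≤ K) :
    SubpairLE 2 M Q (linBlock M L Q hQ) S (linBlock M L S hS') := by
  induction hn : Nat.card S - Nat.card Q using Nat.strong_induction_on generalizing Q with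
  | _ n ih =>
    rcases hQS.lt_or_eq with hlt | rfl
    · set R := S ⊓ Subgroup.normalizer (Q : Set G) with hRd
      have hQR : Q < R := Char.lt_inf_normalizer Nat.prime_two hS hlt
      have hRS : R ≤ S := inf_le_left
      have hR : Subgroup.centralizer (R : Set G) ≤ K := (Char.centralizer_antitone hQR.le).trans hQ
      have hcard : Nat.card S - Nat.card R < n := by
        have h1 : Nat.card Q < Nat.card R := by
          refine lt_of_le_of_ne (Subgroup.card_le_of_le hQR.le) fun h => ?_
          exact hQR.ne (Subgroup.eq_of_le_of_card_ge hQR.le h.ge)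
        have h2 := Subgroup.card_le_of_le hRS
        omega
      exact ReflTransGen.head (b := (⟨R, linBlock M L R hR⟩ : BrauerPairIdx G))
        (linBlock_step hM L (hS.to_le hRS) hQR.le (hRS.trans hSK) inf_le_right hQ hR)
        (ih _ hcard hRS hR rfl)
    · exact ReflTransGen.refl

theorem induced_lin_congr {K K' : Subgroup G} (h : K = K') {L : K →* ℂˣ} {L' : K' →* ℂˣ}
    (hL : ∀ (k : K) (k' : K'), (k : G) = k' → L k = L' k') {B : Set (IrrCharacter G)}
    (hi : IsInducedBlock M K (blockOf M (linIrr L : K → ℂ)) B) :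
    IsInducedBlock M K' (blockOf M (linIrr L' : K' → ℂ)) B := by
  subst h
  obtain rfl : L = L' := MonoidHom.ext fun k => hL k k rfl
  exact hi

theorem coeff_lin_congr {K K' : Subgroup G} (h : K = K') {L : K →* ℂˣ} {L' : K' →* ℂˣ}
    (hL : ∀ (k : K) (k' : K'), (k : G) = k' → L k = L' k') :
    subgroupBlockCoeff K (blockOf M (linIrr L : K → ℂ)) = subgroupBlockCoeff K' (blockOf M (linIrr L' : K' → ℂ)) := by
  subst h
  obtain rfl : L = L' := MonoidHom.ext fun k => hL k k rfl
  rfl

/-- At most one pair on each subgroup below a given pair. -/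
theorem idx_unique {p : ℕ} (hM : IsPModular p M) {S : Subgroup G}
    {e : Set (IrrCharacter (Subgroup.centralizer (S : Set G)))} (he : IsBrauerPair p M S e)
    {a a' : BrauerPairIdx G} (hb : IsPBlock M a.2) (hb' : IsPBlock M a'.2)
    (h : ReflTransGen (NormalSubpairRel p M) a ⟨S, e⟩) (h' : ReflTransGen (NormalSubpairRel p M) a' ⟨S, e⟩)
    (heq : a.1 = a'.1) : a = a' := by
  obtain ⟨Q, f⟩ := a
  obtain ⟨Q', f'⟩ := a'
  dsimp only at heq
  subst heq
  obtain rfl : f = f' := (Char.existsUnique_subpair hM he (Char.subpair_rel_le h)).unique ⟨hb, h⟩ ⟨hb', h'⟩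
  rfl

variable {P : Sylow 2 G} {N : ℕ} [NeZero N] {ι : DihedralGroup N ≃* (P : Subgroup G)} {t : G} {O : Subgroup G}
  {L : Subgroup.centralizer ({t} : Set G) →* ℂˣ}

namespace Data

theorem four_dvd (D : Data P ι t O L) : 4 ∣ N := by
  obtain ⟨a, ha⟩ := D.pow
  exact ⟨2 ^ a, by rw [ha, pow_add]; ring⟩

theorem two_dvd (D : Data P ι t O L) : 2 ∣ N := (dvd_mul_right 2 2).trans D.four_dvd

theorem mem_t (D : Data P ι t O L) : t ∈ (P : Subgroup G) := by rw [D.ht]; exact (ι _).2

theorem order_t (D : Data P ι t O L) : orderOf t = 2 := by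
  rw [D.ht, Subgroup.orderOf_coe, MulEquiv.orderOf_eq]
  refine orderOf_eq_prime ?_ ?_
  · rw [r_pow, Nat.cast_two, mul_two, ← Nat.cast_add, ← two_mul, Nat.mul_div_cancel' D.two_dvd, ZMod.natCast_self]
    rfl
  · rw [DihedralGroup.one_def, Ne, r.injEq]
    exact Char.DihBlock.half_ne D.two_dvd

theorem le_cent (D : Data P ι t O L) : (P : Subgroup G) ≤ Subgroup.centralizer ({t} : Set G) := fun d hd => by
  rw [Subgroup.mem_centralizer_singleton_iff]
  obtain ⟨y, hy⟩ := ι.surjective ⟨d, hd⟩
  have h := congrArg (fun y => ((ι y : (P : Subgroup G)) : G)) (Char.DihBlock.r_half_central D.two_dvd y)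
  simp only [map_mul, Subgroup.coe_mul, hy] at h
  rw [D.ht]
  exact h.symm

theorem cent_le (_D : Data P ι t O L) {Q : Subgroup G} (hQ : t ∈ Q) :
    Subgroup.centralizer (Q : Set G) ≤ Subgroup.centralizer ({t} : Set G) :=
  Subgroup.centralizer_le (Set.singleton_subset_iff.mpr hQ)

theorem cent_z (t : G) : Subgroup.centralizer (Subgroup.zpowers t : Set G) = Subgroup.centralizer ({t} : Set G) :=
  Char.centralizer_zpowers_eq

theorem pgroup_z (D : Data P ι t O L) : IsPGroup 2 (Subgroup.zpowers t) :=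
  Char.SemiBlock.isPGroup_inv D.order_t

/-- The pair of the linear character at `t`. -/
noncomputable def pairT (M : Ideal AlgInt) (D : Data P ι t O L) : BrauerPairIdx G :=
  ⟨Subgroup.zpowers t, linBlock M L _ (D.cent_le (Subgroup.mem_zpowers t))⟩

/-- The pair of the linear character on the Sylow subgroup. -/
noncomputable def pairS (M : Ideal AlgInt) (D : Data P ι t O L) : BrauerPairIdx G :=
  ⟨(P : Subgroup G), linBlock M L _ (D.cent_le D.mem_t)⟩

theorem pairT_le (hM : IsPModular 2 M) (D : Data P ι t O L) :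
    ReflTransGen (NormalSubpairRel 2 M) (D.pairT M) (D.pairS M) :=
  linBlock_chain hM L P.isPGroup' D.le_cent (Subgroup.zpowers_le.mpr D.mem_t) _ _

/-- Conjugates of the pair at `t` reach every involution of the Sylow subgroup. -/
theorem exists_move (hM : IsPModular 2 M) (D : Data P ι t O L) {w : G} (hw : w ∈ (P : Subgroup G))
    (hw2 : orderOf w = 2) : ∃ g : G, g * t * g⁻¹ = w ∧
      ReflTransGen (NormalSubpairRel 2 M) (Char.conjIdx g (D.pairT M)) (D.pairS M) := by
  obtain ⟨y, hy⟩ := ι.surjective ⟨w, hw⟩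
  have hyw : ((ι y : (P : Subgroup G)) : G) = w := congrArg Subtype.val hy
  have hy2 : orderOf y = 2 := by rw [← MulEquiv.orderOf_eq ι, ← Subgroup.orderOf_coe, hyw, hw2]
  rcases Solv.DihedralClasses.involution_cases' hy2 with e | ⟨i, e⟩
  · refine ⟨1, by rw [← hyw, e, ← D.ht]; group, ?_⟩
    rw [Char.conjIdx_one (Char.pmod_prime hM) _ (isPBlock_linBlock L _ _)]
    exact D.pairT_le hM
  · rw [e] at hyw
    obtain ⟨g, hg, hgU, hgL⟩ := D.hfus i
    refine ⟨g, by rw [← hyw, hg], ?_⟩
    set v : G := ((ι (sr i) : (P : Subgroup G)) : G) with hv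
    set U := Subgroup.zpowers t ⊔ Subgroup.zpowers v with hU
    have hUP : U ≤ (P : Subgroup G) :=
      sup_le (Subgroup.zpowers_le.mpr D.mem_t) (Subgroup.zpowers_le.mpr (ι _).2)
    have htU : t ∈ U := Subgroup.mem_sup_left (Subgroup.mem_zpowers t)
    have h1 : ReflTransGen (NormalSubpairRel 2 M) (D.pairT M)
        (⟨U, linBlock M L U (D.cent_le htU)⟩ : BrauerPairIdx G) :=
      linBlock_chain hM L (P.isPGroup'.to_le hUP) (hUP.trans D.le_cent) le_sup_left _ _
    have hfix : Char.conjIdx g (⟨U, linBlock M L U (D.cent_le htU)⟩ : BrauerPairIdx G) =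
        ⟨U, linBlock M L U (D.cent_le htU)⟩ := by
      refine (Char.conjIdx_eq_self_iff (Char.pmod_prime hM) (isPBlock_linBlock L U _) g).mpr
        ⟨hgU, stabilizes_linBlock hM L _ hgU fun k k' hk hk' => hgL k k' ?_ hk'⟩
      exact (Subgroup.mem_centralizer_iff.mp hk v (Subgroup.mem_sup_right (Subgroup.mem_zpowers v))).symm
    have h2 := Char.subpair_rel_conj hM g h1
    rw [hfix] at h2
    exact h2.trans (linBlock_chain hM L P.isPGroup' D.le_cent hUP _ (D.cent_le D.mem_t))

open scoped Classical in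
/-- The block above the linear character. -/
theorem exists_block (hM : IsPModular 2 M) (D : Data P ι t O L) : ∃ B : Set (IrrCharacter G),
    IsInducedBlock M (Subgroup.centralizer ({t} : Set G))
      (blockOf M (linIrr L : Subgroup.centralizer ({t} : Set G) → ℂ)) B ∧
    IsDefectGroup 2 M B (P : Subgroup G) ∧
    ∀ β, IsInducedBlock M (Subgroup.centralizer ({t} : Set G)) β B →
      β = blockOf M (linIrr L : Subgroup.centralizer ({t} : Set G) → ℂ) := by
  haveI := Fintype.ofFinite (Subgroup.centralizer ({t} : Set G))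
  have hP := Char.pmod_prime hM
  obtain ⟨B, hB⟩ := Char.exists_induced_centralizer hM (x := t) ⟨1, by rw [D.order_t, pow_one]⟩
    (b := blockOf M (linIrr L : Subgroup.centralizer ({t} : Set G) → ℂ)) ⟨_, rfl⟩
  have hcongr : ∀ (k : Subgroup.centralizer ({t} : Set G)) (k' : Subgroup.centralizer (Subgroup.zpowers t : Set G)),
      (k : G) = k' → L k = linAt L _ (D.cent_le (Subgroup.mem_zpowers t)) k' := fun k k' h =>
    congrArg L (Subtype.ext h)
  have hindZ : IsInducedBlock M (Subgroup.centralizer (Subgroup.zpowers t : Set G)) (D.pairT M).2 B :=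
    induced_lin_congr (cent_z t).symm hcongr hB
  have hpairT : IsBrauerPairOf 2 M B (D.pairT M).1 (D.pairT M).2 :=
    Char.SubsectionOrbits.pair_of_induced hM D.pgroup_z hindZ
  have hpair : IsBrauerPairOf 2 M B (D.pairS M).1 (D.pairS M).2 :=
    (Char.brauerPairOf_rel hM hB.2.1 (D.pairT_le hM)).mp hpairT
  have hmax : IsMaximalBrauerPair 2 M B (D.pairS M).1 (D.pairS M).2 :=
    ⟨hpair, fun R g hR hle => P.is_maximal' hR.1.1 (Char.subpair_le hle)⟩
  refine ⟨B, hB, Char.maximal_pair_defect hM hmax, fun β hβ => ?_⟩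
  obtain ⟨β0, hβ0, -, hc, hi⟩ := Char.CentralPairs.exists_same (B := B) (p := 2) (cent_z t).symm β hβ.1
  obtain ⟨x, hx⟩ := Char.pairs_conj_into_maximal hM hmax
    (Char.SubsectionOrbits.pair_of_induced hM D.pgroup_z (hi hβ))
  have hx' : ReflTransGen (NormalSubpairRel 2 M) (Char.conjIdx x (⟨Subgroup.zpowers t, β0⟩ : BrauerPairIdx G))
      (D.pairS M) := hx
  have hmem : x * t * x⁻¹ ∈ (P : Subgroup G) :=
    Char.subpair_rel_le hx' ⟨t, Subgroup.mem_zpowers t, rfl⟩
  obtain ⟨g, hg, hg'⟩ := D.exists_move hM hmem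
    (by rw [show x * t * x⁻¹ = MulAut.conj x t from rfl, MulEquiv.orderOf_eq, D.order_t])
  have hbT : IsPBlock M (D.pairT M).2 := isPBlock_linBlock L _ _
  have heq : Char.conjIdx x (⟨Subgroup.zpowers t, β0⟩ : BrauerPairIdx G) = Char.conjIdx g (D.pairT M) := by
    refine idx_unique hM (e := (D.pairS M).2) hpair.1 (Char.isPBlock_conjBlock _ hβ0)
      (Char.isPBlock_conjBlock _ hbT) hx' hg' ?_
    show (Subgroup.zpowers t).map (MulAut.conj x).toMonoidHom = (Subgroup.zpowers t).map (MulAut.conj g).toMonoidHom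
    simp only [MonoidHom.map_zpowers, MulEquiv.coe_toMonoidHom, MulAut.conj_apply, hg]
  have hgx : g⁻¹ * x ∈ Subgroup.centralizer (Subgroup.zpowers t : Set G) := by
    rw [cent_z, Subgroup.mem_centralizer_singleton_iff]
    calc g⁻¹ * x * t = g⁻¹ * (x * t * x⁻¹) * x := by group
      _ = t * (g⁻¹ * x) := by rw [← hg]; group
  have h3 := congrArg (Char.conjIdx g⁻¹) heq
  rw [Char.conjIdx_mul hP _ _ _ hβ0, Char.conjIdx_mul hP _ _ _ hbT, inv_mul_cancel,
    Char.conjIdx_one hP _ hbT, (Char.conjIdx_eq_self_iff hP hβ0 _).mpr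
      ⟨Char.centralizer_le_norm _ hgx, Char.stabilizesBlock_of_centralizer hM D.pgroup_z hβ0 hgx⟩] at h3
  obtain rfl : β0 = (D.pairT M).2 := eq_of_heq (Sigma.mk.inj_iff.mp h3).2
  refine Char.SemiBlock.coeff_det hP hβ.1 ⟨_, rfl⟩ ?_
  rw [← hc]
  exact (coeff_lin_congr (cent_z t).symm hcongr).symm

open scoped Classical in
/-- The carried functions exist, with the linear character as the character of height zero. -/
theorem exists_dblock (hM : IsPModular 2 M) (D : Data P ι t O L)
    [Fintype (Subgroup.centralizer ({t} : Set G))] {B : Set (IrrCharacter G)}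
    (hB : IsInducedBlock M (Subgroup.centralizer ({t} : Set G))
      (blockOf M (linIrr L : Subgroup.centralizer ({t} : Set G) → ℂ)) B)
    (hD : IsDefectGroup 2 M B (P : Subgroup G)) :
    ∃ S : Char.DihBlock.DBlock M B N t,
      S.f = blockOf M (linIrr L : Subgroup.centralizer ({t} : Set G) → ℂ) ∧ S.ψ = linIrr L ∧
        ∀ y, ((S.d y : Subgroup.centralizer ({t} : Set G)) : G) = ι y := by
  haveI := Fact.mk Nat.prime_two
  have hP := Char.pmod_prime hM
  set f := blockOf M (linIrr L : Subgroup.centralizer ({t} : Set G) → ℂ) with hfd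
  have hf : IsPBlock M f := ⟨_, rfl⟩
  have hψ : linIrr L ∈ f := Char.self_mem_blockOf hP _
  have hdeg : charDegree (linIrr L : Subgroup.centralizer ({t} : Set G) → ℂ) = 1 := by
    simp [charDegree, linIrr_apply]
  have hmin : sInf ((fun χ : IrrCharacter (Subgroup.centralizer ({t} : Set G)) => (charDegree (χ : Subgroup.centralizer ({t} : Set G) → ℂ)).factorization 2) '' f) = 0 :=
    Nat.eq_zero_of_le_zero (Nat.sInf_le ⟨_, hψ, by simp [hdeg]⟩)
  have hbd : blockDefect 2 f = (Nat.card (Subgroup.centralizer ({t} : Set G))).factorization 2 := by rw [blockDefect, hmin, Nat.sub_zero]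
  have hψ0 : blockHeight 2 f (linIrr L : Subgroup.centralizer ({t} : Set G) → ℂ) = 0 := by rw [blockHeight, hdeg]; simp
  obtain ⟨D0, hD0⟩ := Char.exists_isDefectGroup hM hf
  have hcard0 : Nat.card D0 = 2 ^ (Nat.card (Subgroup.centralizer ({t} : Set G))).factorization 2 := by
    rw [Char.card_defectGroup hM hf hD0, hbd]
  let PC : Sylow 2 (Subgroup.centralizer ({t} : Set G)) := P.subtype D.le_cent
  obtain ⟨c, hc⟩ := MulAction.exists_smul_eq (Subgroup.centralizer ({t} : Set G)) (Sylow.ofCard D0 hcard0) PC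
  have hP' : IsDefectGroup 2 M f ((P : Subgroup G).subgroupOf (Subgroup.centralizer ({t} : Set G))) := by
    have h := Char.isDefectGroup_conj hM hD0 c
    have he : (PC : Subgroup (Subgroup.centralizer ({t} : Set G))) = D0.map (MulAut.conj c).toMonoidHom := by rw [← hc]; rfl
    rw [← he] at h
    exact h
  obtain ⟨e, he⟩ := Char.exists_pair_of_le_defect hM hf hP' le_rfl
  let ι' : DihedralGroup N ≃* (P : Subgroup G).subgroupOf (Subgroup.centralizer ({t} : Set G)) :=
    ι.trans (Subgroup.subgroupOfEquivOfLe D.le_cent).symm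
  have hι : ∀ y, (((ι' y : (P : Subgroup G).subgroupOf (Subgroup.centralizer ({t} : Set G))) : Subgroup.centralizer ({t} : Set G)) : G) = ι y := fun _ => rfl
  have hcard : Nat.card (P : Subgroup G) = Nat.card ((P : Subgroup G).subgroupOf (Subgroup.centralizer ({t} : Set G))) :=
    (Nat.card_congr (Subgroup.subgroupOfEquivOfLe D.le_cent).toEquiv).symm
  have hdef : blockDefect 2 f = blockDefect 2 B := by
    refine Nat.pow_right_injective le_rfl ?_
    show 2 ^ blockDefect 2 f = 2 ^ blockDefect 2 B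
    rw [← Char.card_defectGroup hM hf hP', ← Char.card_defectGroup hM hB.2.1 hD, hcard]
  obtain ⟨a, ha⟩ := D.pow
  exact ⟨⟨hM, hB.2.1, f, hB, hdef, _, hP', e, Char.maximal_of_defect hM hP' he,
    Char.DihBlock.nilpotent_of_central hM hf hP' ι' ha D.two_dvd (fun w => by
      refine Subtype.ext ?_
      simp only [Subgroup.coe_mul, hι, ← D.ht]
      exact (Subgroup.mem_centralizer_singleton_iff.mp w.2).symm),
    linIrr L, hψ, hψ0, ι', D.pow, by rw [hι, ← D.ht]⟩, rfl, rfl, fun y => hι y⟩

end Data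

end Cfsg.Agent.GW.Eight
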