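import Cfsg.Agent.Lib.GW.EightBlock
import Cfsg.Agent.Lib.Char.DihedralBlock.Main
import Cfsg.Agent.Lib.Char.DihedralOrder

/-!
# The carried functions and the count of involution pairs

On the centralizer a carried function is the function of the dihedral quotient times the linear character, and the
weighted column of the block at the involution counts pairs of involutions of the centralizer.
-/

set_option autoImplicit false
set_option linter.unusedSectionVars false
set_option linter.style.haveILetI false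

open Cfsg DihedralGroup

namespace Cfsg.Agent.GW.Eight

universe u

variable {G : Type u} [Group G] [Fintype G] {M : Ideal AlgInt}
variable {P : Sylow 2 G} {N : ℕ} [NeZero N] {ι : DihedralGroup N ≃* (P : Subgroup G)} {t : G} {O : Subgroup G}
  {L : Subgroup.centralizer ({t} : Set G) →* ℂˣ}

namespace Data

theorem card_dih (D : Data P ι t O L) : ∃ k : ℕ, Nat.card (DihedralGroup N) = 2 ^ k := by
  obtain ⟨a, ha⟩ := D.pow
  exact ⟨a + 3, by rw [DihedralGroup.nat_card, ha]; ring⟩

theorem eq_one_of_regular (D : Data P ι t O L) {y : DihedralGroup N} (hy : ¬ 2 ∣ orderOf y) : y = 1 := by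
  obtain ⟨k, hk⟩ := D.card_dih
  obtain ⟨j, -, hj⟩ := (Nat.dvd_prime_pow Nat.prime_two).mp (hk ▸ orderOf_dvd_natCard y)
  rcases j with _ | j
  · exact orderOf_eq_one_iff.mp (by simpa using hj)
  · exact absurd (hj ▸ dvd_pow_self 2 j.succ_ne_zero) hy

theorem regular_O (D : Data P ι t O L) {y : G} (hy : y ∈ O) : ¬ 2 ∣ orderOf y := fun h =>
  Nat.not_even_iff_odd.mpr D.hOodd (even_iff_two_dvd.mpr
    (h.trans (by rw [← Subgroup.orderOf_mk y hy]; exact orderOf_dvd_natCard _)))

/-- The retraction of the centralizer onto the Sylow subgroup. -/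
theorem exists_retraction (D : Data P ι t O L) :
    ∃ π : Subgroup.centralizer ({t} : Set G) →* DihedralGroup N,
      (∀ (c : Subgroup.centralizer ({t} : Set G)) (y : DihedralGroup N), (c : G) = ι y → π c = y) ∧
        ∀ c : Subgroup.centralizer ({t} : Set G), π c = 1 ↔ (c : G) ∈ O := by
  haveI : (O.subgroupOf (Subgroup.centralizer ({t} : Set G))).Normal :=
    ⟨fun n hn g => Subgroup.mem_subgroupOf.mpr (D.hOn g g.2 n (Subgroup.mem_subgroupOf.mp hn))⟩
  set mk := QuotientGroup.mk' (O.subgroupOf (Subgroup.centralizer ({t} : Set G))) with hmk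
  set j : DihedralGroup N →* Subgroup.centralizer ({t} : Set G) :=
    (Subgroup.inclusion D.le_cent).comp ι.toMonoidHom with hj
  have hjv : ∀ y, (j y : G) = ι y := fun _ => rfl
  have hker : ∀ c, mk c = 1 ↔ (c : G) ∈ O := fun c => by
    rw [hmk, QuotientGroup.mk'_apply, QuotientGroup.eq_one_iff, Subgroup.mem_subgroupOf]
  have hinj : Function.Injective (mk.comp j) := (injective_iff_map_eq_one _).mpr fun y hy => by
    refine D.eq_one_of_regular ?_
    rw [← MulEquiv.orderOf_eq ι, ← Subgroup.orderOf_coe]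
    exact D.regular_O ((hker _).mp hy)
  have hsur : Function.Surjective (mk.comp j) := by
    intro q
    obtain ⟨c, rfl⟩ := QuotientGroup.mk'_surjective _ q
    have hle : Subgroup.centralizer ({t} : Set G) ≤
        ((mk.comp j).range.comap mk).map (Subgroup.centralizer ({t} : Set G)).subtype := by
      conv_lhs => rw [← D.hC]
      refine sup_le (fun o ho => ⟨⟨o, D.hOle ho⟩, ?_, rfl⟩) fun p hp => ?_
      · show mk _ ∈ (mk.comp j).range
        rw [(hker _).mpr ho]
        exact one_mem _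
      · obtain ⟨y, hy⟩ := ι.surjective ⟨p, hp⟩
        exact ⟨j y, ⟨y, rfl⟩, congrArg Subtype.val hy⟩
    obtain ⟨c', ⟨y, hy⟩, hc'⟩ := hle c.2
    obtain rfl : c' = c := Subtype.ext hc'
    exact ⟨y, hy⟩
  set e := MulEquiv.ofBijective (mk.comp j) ⟨hinj, hsur⟩ with he
  refine ⟨e.symm.toMonoidHom.comp mk, fun c y hc => ?_, fun c => ?_⟩
  · show e.symm (mk c) = y
    obtain rfl : c = j y := Subtype.ext hc
    exact e.symm_apply_eq.mpr rfl
  · show e.symm (mk c) = 1 ↔ _
    rw [e.symm_apply_eq, map_one, hker]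

/-- The retraction. -/
noncomputable def proj (D : Data P ι t O L) : Subgroup.centralizer ({t} : Set G) →* DihedralGroup N :=
  D.exists_retraction.choose

theorem proj_of_eq (D : Data P ι t O L) {c : Subgroup.centralizer ({t} : Set G)} {y : DihedralGroup N}
    (h : (c : G) = ι y) : D.proj c = y := D.exists_retraction.choose_spec.1 c y h

theorem proj_eq_one_iff (D : Data P ι t O L) (c : Subgroup.centralizer ({t} : Set G)) :
    D.proj c = 1 ↔ (c : G) ∈ O := D.exists_retraction.choose_spec.2 c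

theorem proj_regular (D : Data P ι t O L) {c : Subgroup.centralizer ({t} : Set G)} (hc : ¬ 2 ∣ orderOf c) :
    D.proj c = 1 := D.eq_one_of_regular fun h => hc (h.trans (orderOf_map_dvd _ c))

/-- An element of the centralizer is the image of its projection times an element of `O`. -/
theorem decomp (D : Data P ι t O L) (c : Subgroup.centralizer ({t} : Set G)) :
    ((ι (D.proj c) : (P : Subgroup G)) : G)⁻¹ * (c : G) ∈ O := by
  have hm : ((ι (D.proj c) : (P : Subgroup G)) : G) ∈ Subgroup.centralizer ({t} : Set G) := D.le_cent (ι _).2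
  refine (D.proj_eq_one_iff (⟨_, hm⟩⁻¹ * c)).mp ?_
  rw [map_mul, map_inv, D.proj_of_eq (c := ⟨_, hm⟩) rfl, inv_mul_cancel]

theorem L_t (D : Data P ι t O L) (c : Subgroup.centralizer ({t} : Set G)) (hc : (c : G) = t) : L c = 1 :=
  D.hLP c (by rw [hc]; exact D.mem_t)

/-- Every involution is conjugate to `t`. -/
theorem isConj_t (D : Data P ι t O L) {u : G} (hu : orderOf u = 2) : IsConj t u := by
  haveI := Fact.mk Nat.prime_two
  obtain ⟨Q, hQ⟩ := (Char.SemiBlock.isPGroup_inv hu).exists_le_sylow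
  obtain ⟨c, hc⟩ := MulAction.exists_smul_eq G Q P
  have hm : c * u * c⁻¹ ∈ (P : Subgroup G) := by rw [← hc]; exact ⟨u, hQ (Subgroup.mem_zpowers u), rfl⟩
  obtain ⟨y, hy⟩ := ι.surjective ⟨_, hm⟩
  have hyw : ((ι y : (P : Subgroup G)) : G) = c * u * c⁻¹ := congrArg Subtype.val hy
  have hy2 : orderOf y = 2 := by
    rw [← MulEquiv.orderOf_eq ι, ← Subgroup.orderOf_coe, hyw,
      show c * u * c⁻¹ = MulAut.conj c u from rfl, MulEquiv.orderOf_eq, hu]
  rcases Solv.DihedralClasses.involution_cases' hy2 with e | ⟨i, e⟩ <;> rw [e] at hyw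
  · exact isConj_iff.mpr ⟨c⁻¹, by rw [D.ht, hyw]; group⟩
  · obtain ⟨g, hg, -⟩ := D.hfus i
    exact isConj_iff.mpr ⟨c⁻¹ * g, by
      calc c⁻¹ * g * t * (c⁻¹ * g)⁻¹ = c⁻¹ * (g * t * g⁻¹) * c := by group
        _ = u := by rw [hg, hyw]; group⟩

theorem L_inv (D : Data P ι t O L) {c : Subgroup.centralizer ({t} : Set G)} (hc : orderOf c = 2) : L c = 1 := by
  have hm : ((ι (D.proj c) : (P : Subgroup G)) : G) ∈ Subgroup.centralizer ({t} : Set G) := D.le_cent (ι _).2
  set o : Subgroup.centralizer ({t} : Set G) := (⟨_, hm⟩ : Subgroup.centralizer ({t} : Set G))⁻¹ * c with ho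
  have hL : L c = L o := by rw [ho, map_mul, map_inv, D.hLP ⟨_, hm⟩ (ι _).2, inv_one, one_mul]
  have h1 : orderOf (L c) ∣ 2 := hc ▸ orderOf_map_dvd L c
  rcases (Nat.dvd_prime Nat.prime_two).mp h1 with h | h
  · exact orderOf_eq_one_iff.mp h
  · refine absurd ?_ (D.regular_O (D.decomp c))
    have h2 : 2 ∣ orderOf o := by rw [← h, hL]; exact orderOf_map_dvd L o
    rw [← Subgroup.orderOf_coe] at h2
    exact h2

open scoped Classical in
/-- The sum over the involutions of the centralizer. -/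
theorem sum_inv (D : Data P ι t O L) [Fintype (Subgroup.centralizer ({t} : Set G))] {r₀ : ℕ}
    (hinv : ∀ i : ZMod N, Nat.card {y : G // y ∈ O ∧ (ι (sr i) : G) * y * (ι (sr i) : G)⁻¹ = y⁻¹} = r₀)
    (F : DihedralGroup N → ℂ) :
    ∑ c : Subgroup.centralizer ({t} : Set G) with orderOf c = 2, F (D.proj c) =
      F (r ((N / 2 : ℕ) : ZMod N)) + (r₀ : ℂ) * ∑ i : ZMod N, F (sr i) := by
  rw [← Finset.sum_fiberwise_of_maps_to (g := D.proj) (t := Finset.univ) (fun _ _ => Finset.mem_univ _),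
    Finset.sum_congr rfl (g := fun d : DihedralGroup N =>
      (((Finset.univ.filter fun c : Subgroup.centralizer ({t} : Set G) => orderOf c = 2).filter
        (fun c => D.proj c = d)).card : ℂ) * F d) (fun d _ => by
      rw [Finset.sum_congr rfl fun c hc => congrArg F (Finset.mem_filter.mp hc).2, Finset.sum_const, nsmul_eq_mul]),
    Char.DihBlock.sum_dihedral]
  have hrot : ∀ i : ZMod N, ((Finset.univ.filter fun c : Subgroup.centralizer ({t} : Set G) => orderOf c = 2).filter
      (fun c => D.proj c = r i)).card = if i = ((N / 2 : ℕ) : ZMod N) then 1 else 0 := by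
    intro i
    have key : ∀ c : Subgroup.centralizer ({t} : Set G), orderOf c = 2 → D.proj c = r i →
        i = ((N / 2 : ℕ) : ZMod N) ∧ (c : G) = t := by
      intro c hc hp
      have hcc : c * c = 1 := by rw [← sq, ← hc, pow_orderOf_eq_one]
      have h2 : i + i = 0 := by
        have h := congrArg D.proj hcc
        rw [map_mul, map_one, hp, r_mul_r, DihedralGroup.one_def] at h
        exact r.inj h
      rcases Char.DihBlock.zmod_two_torsion D.two_dvd h2 with rfl | rfl
      · exfalso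
        have hm := (D.proj_eq_one_iff c).mp (by rw [hp]; rfl)
        exact D.regular_O hm (by rw [Subgroup.orderOf_coe, hc])
      · refine ⟨rfl, ?_⟩
        have ho := D.decomp c
        rw [hp, ← D.ht] at ho
        have hct : (c : G) * t = t * c := Subgroup.mem_centralizer_singleton_iff.mp c.2
        have htt : t * t = 1 := by rw [← sq, ← D.order_t, pow_orderOf_eq_one]
        have hsq : (t⁻¹ * (c : G)) ^ 2 = 1 := by
          rw [sq, inv_eq_of_mul_eq_one_left htt]
          calc t * (c : G) * (t * c) = t * ((c : G) * t) * c := by group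
            _ = (t * t) * ((c : G) * c) := by rw [hct]; group
            _ = 1 := by rw [htt, one_mul, ← Subgroup.coe_mul, hcc]; rfl
        by_contra hne
        refine D.regular_O ho ?_
        rw [orderOf_eq_prime hsq fun e => hne (inv_mul_eq_one.mp e).symm]
    split_ifs with hi
    · subst hi
      refine Finset.card_eq_one.mpr ⟨⟨t, Subgroup.mem_centralizer_singleton_iff.mpr rfl⟩,
        Finset.eq_singleton_iff_unique_mem.mpr ⟨?_, fun c hc => ?_⟩⟩
      · simp only [Finset.mem_filter, Finset.mem_univ, true_and]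
        exact ⟨by rw [Subgroup.orderOf_mk, D.order_t], D.proj_of_eq D.ht⟩
      · simp only [Finset.mem_filter, Finset.mem_univ, true_and] at hc
        exact Subtype.ext (key c hc.1 hc.2).2
    · refine Finset.card_eq_zero.mpr (Finset.filter_eq_empty_iff.mpr fun c hc hp => hi ?_)
      exact (key c (Finset.mem_filter.mp hc).2 hp).1
  have href : ∀ i : ZMod N, ((Finset.univ.filter fun c : Subgroup.centralizer ({t} : Set G) => orderOf c = 2).filter
      (fun c => D.proj c = sr i)).card = r₀ := by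
    intro i
    set v : G := ((ι (sr i) : (P : Subgroup G)) : G) with hv
    have hvv : v * v = 1 := by rw [hv, ← Subgroup.coe_mul, ← map_mul, sr_mul_self, map_one]; rfl
    have hvC : v ∈ Subgroup.centralizer ({t} : Set G) := D.le_cent (ι _).2
    have hvi : v⁻¹ = v := inv_eq_of_mul_eq_one_left hvv
    rw [← hinv i, ← Nat.card_eq_finsetCard]
    refine Nat.card_congr ⟨fun c => ⟨v⁻¹ * (c.1 : G), ?_⟩,
      fun y => ⟨⟨v * y.1, mul_mem hvC (D.hOle y.2.1)⟩, ?_⟩, fun c => ?_, fun y => ?_⟩
    · obtain ⟨⟨c, hcC⟩, hc⟩ := c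
      simp only [Finset.mem_filter, Finset.mem_univ, true_and] at hc
      have hd := D.decomp ⟨c, hcC⟩
      rw [hc.2] at hd
      have hcc : c * c = 1 := by rw [← sq, ← hc.1, Subgroup.orderOf_mk, pow_orderOf_eq_one]
      refine ⟨hd, ?_⟩
      show v * (v⁻¹ * c) * v⁻¹ = (v⁻¹ * c)⁻¹
      rw [mul_inv_cancel_left, hvi, mul_inv_rev, hvi, inv_eq_of_mul_eq_one_left hcc]
    · obtain ⟨y, hy, hy2⟩ := y
      have hp : D.proj ⟨v * y, mul_mem hvC (D.hOle hy)⟩ = sr i := by
        rw [show (⟨v * y, mul_mem hvC (D.hOle hy)⟩ : Subgroup.centralizer ({t} : Set G)) = ⟨v, hvC⟩ * ⟨y, D.hOle hy⟩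
          from rfl, map_mul, D.proj_of_eq (c := ⟨v, hvC⟩) hv, (D.proj_eq_one_iff ⟨y, D.hOle hy⟩).mpr hy, mul_one]
      simp only [Finset.mem_filter, Finset.mem_univ, true_and]
      refine ⟨?_, hp⟩
      rw [Subgroup.orderOf_mk]
      refine orderOf_eq_prime ?_ fun e => ?_
      · rw [hvi] at hy2
        calc (v * y) ^ 2 = (v * y * v) * y := by rw [sq]; group
          _ = 1 := by rw [hy2, inv_mul_cancel]
      · have h0 : D.proj ⟨v * y, mul_mem hvC (D.hOle hy)⟩ = 1 := (D.proj_eq_one_iff _).mpr (by show v * y ∈ O; rw [e]; exact one_mem O)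
        rw [hp] at h0
        exact nomatch h0
    · exact Subtype.ext (Subtype.ext (mul_inv_cancel_left v _))
    · exact Subtype.ext (inv_mul_cancel_left v _)
  simp only [hrot, href, Nat.cast_ite, Nat.cast_one, Nat.cast_zero, ite_mul, one_mul, zero_mul,
    Finset.sum_ite_eq', Finset.mem_univ, if_true, ← Finset.mul_sum]

open Char.DihBlock in
/-- The carried functions on the centralizer. -/
theorem th_value (D : Data P ι t O L) [Fintype (Subgroup.centralizer ({t} : Set G))] {B : Set (IrrCharacter G)}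
    (S : DBlock M B N t) (hψ : S.ψ = linIrr L)
    (hd : ∀ y, ((S.d y : Subgroup.centralizer ({t} : Set G)) : G) = ι y)
    {μ : DihedralGroup N → ℂ} (hμ : IsClassFunction _ μ) (c : Subgroup.centralizer ({t} : Set G)) :
    S.th μ c = μ (D.proj c) * (L c : ℂ) := by
  rw [S.th_const hμ (c := μ (D.proj c)), hψ, linIrr_apply]
  intro w y hy
  obtain ⟨z, hz, -, -, hzr⟩ := Char.isPPart_ppt Nat.prime_two c
  have h1 : D.proj (Char.ppt 2 c) = D.proj c := by
    conv_rhs => rw [← hz]
    rw [map_mul, D.proj_regular hzr, mul_one]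
  have h2 := congrArg D.proj hy
  rw [map_mul, map_mul, map_inv, h1, D.proj_of_eq (hd y)] at h2
  rw [← h2, hμ]

open scoped Classical in
theorem sum_conj_t (D : Data P ι t O L) (F : G → ℂ) :
    ∑ a : G, F (a * t * a⁻¹) =
      (Nat.card (Subgroup.centralizer ({t} : Set G)) : ℂ) * ∑ u : G with orderOf u = 2, F u := by
  rw [← Finset.sum_fiberwise_of_maps_to (g := fun a => a * t * a⁻¹)
    (t := Finset.univ.filter fun u : G => orderOf u = 2) (fun a _ => by
      simp only [Finset.mem_filter, Finset.mem_univ, true_and]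
      rw [show a * t * a⁻¹ = MulAut.conj a t from rfl, MulEquiv.orderOf_eq, D.order_t]), Finset.mul_sum]
  refine Finset.sum_congr rfl fun u hu => ?_
  obtain ⟨s, hs⟩ := isConj_iff.1 (D.isConj_t (Finset.mem_filter.1 hu).2)
  rw [Finset.sum_congr rfl fun a ha => congrArg F (Finset.mem_filter.1 ha).2, Finset.sum_const,
    nsmul_eq_mul, Char.card_filter_conj_eq hs]

open scoped Classical in
theorem sum_inv_cent [Fintype (Subgroup.centralizer ({t} : Set G))] (H : G → ℂ)
    (h : ∀ u, orderOf u = 2 → u ∉ Subgroup.centralizer ({t} : Set G) → H u = 0) :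
    ∑ u : G with orderOf u = 2, H u =
      ∑ c : Subgroup.centralizer ({t} : Set G) with orderOf c = 2, H (c : G) := by
  refine Eq.trans (Finset.sum_subset (s₁ := Finset.univ.filter fun u : G =>
    orderOf u = 2 ∧ u ∈ Subgroup.centralizer ({t} : Set G)) ?_ ?_).symm ?_
  · exact fun u hu => Finset.mem_filter.2 ⟨Finset.mem_univ _, (Finset.mem_filter.1 hu).2.1⟩
  · exact fun u hu hn => h u (Finset.mem_filter.1 hu).2 fun hC =>
      hn (Finset.mem_filter.2 ⟨Finset.mem_univ _, (Finset.mem_filter.1 hu).2, hC⟩)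
  refine Eq.symm ?_
  refine Finset.sum_bij (fun c _ => (c : G)) ?_ ?_ ?_ fun c _ => rfl
  · intro c hc
    exact Finset.mem_filter.2 ⟨Finset.mem_univ _,
      by rw [Subgroup.orderOf_coe]; exact (Finset.mem_filter.1 hc).2, c.2⟩
  · exact fun a _ b _ e => Subtype.ext e
  · intro u hu
    obtain ⟨h1, h2⟩ := (Finset.mem_filter.1 hu).2
    exact ⟨⟨u, h2⟩, Finset.mem_filter.2 ⟨Finset.mem_univ _, by rw [Subgroup.orderOf_mk]; exact h1⟩, rfl⟩

open Char.DihBlock in
open scoped Classical in
/-- The weighted column of the block counts pairs of involutions. -/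
theorem weighted_sum (D : Data P ι t O L) [Fintype (Subgroup.centralizer ({t} : Set G))] {B : Set (IrrCharacter G)}
    (S : DBlock M B N t) (hψ : S.ψ = linIrr L)
    (hd : ∀ y, ((S.d y : Subgroup.centralizer ({t} : Set G)) : G) = ι y) {r₀ : ℕ}
    (hinv : ∀ i : ZMod N, Nat.card {y : G // y ∈ O ∧ (ι (sr i) : G) * y * (ι (sr i) : G)⁻¹ = y⁻¹} = r₀)
    {μ : DihedralGroup N → ℂ} (hμ : IsClassFunction _ μ) (ho : OnRot μ) :
    (∑ χ ∈ Char.bset B, S.v μ χ * ((χ : G → ℂ) t ^ 2 / (χ : G → ℂ) 1)) * (Nat.card G : ℂ) =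
      (Nat.card (Subgroup.centralizer ({t} : Set G)) : ℂ) * (r₀ : ℂ) ^ 2 * (N : ℂ) * ∑ k : ZMod N, μ (r k) := by
  set Θ : G → ℂ := extendByZero (Subgroup.centralizer ({t} : Set G)) (S.th μ) with hΘ
  have hg0 : (Nat.card G : ℂ) ≠ 0 := Nat.cast_ne_zero.mpr Nat.card_pos.ne'
  have hc0 : (Nat.card (Subgroup.centralizer ({t} : Set G)) : ℂ) ≠ 0 := Nat.cast_ne_zero.mpr Nat.card_pos.ne'
  have h1 : (∑ χ ∈ Char.bset B, S.v μ χ * ((χ : G → ℂ) t ^ 2 / (χ : G → ℂ) 1)) * (Nat.card G : ℂ) ^ 2 =
      ∑ a : G, ∑ b : G, S.L μ (a * t * a⁻¹ * (b * t * b⁻¹)) := by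
    simp only [← S.sum_v_value hμ ho]
    rw [Finset.sum_congr rfl fun a _ => Finset.sum_comm, Finset.sum_comm, Finset.sum_mul]
    refine Finset.sum_congr rfl fun χ _ => ?_
    simp only [← Finset.mul_sum]
    rw [Char.sum_pair_irr χ t]
    ring
  have h2 : ∑ a : G, ∑ b : G, S.L μ (a * t * a⁻¹ * (b * t * b⁻¹)) =
      (Nat.card G : ℂ) * ((Nat.card (Subgroup.centralizer ({t} : Set G)) : ℂ)⁻¹ * ∑ a : G, ∑ b : G, Θ (a * t * a⁻¹ * (b * t * b⁻¹))) := by
    simp only [DBlock.L, indFun, ← hΘ, ← Finset.mul_sum]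
    rw [Finset.sum_congr rfl fun a _ => Finset.sum_comm, Finset.sum_comm, mul_left_comm]
    congr 1
    rw [Finset.sum_congr rfl fun x _ => show
      ∑ a : G, ∑ b : G, Θ (x⁻¹ * (a * t * a⁻¹ * (b * t * b⁻¹)) * x) =
        ∑ a : G, ∑ b : G, Θ (a * t * a⁻¹ * (b * t * b⁻¹)) from
      Fintype.sum_equiv (Equiv.mulLeft x⁻¹) _ _ fun a =>
        Fintype.sum_equiv (Equiv.mulLeft x⁻¹) _ _ fun b => by simp only [Equiv.coe_mulLeft]; congr 1; group,
      Finset.sum_const, Finset.card_univ, nsmul_eq_mul, Nat.card_eq_fintype_card]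
  have hcent : ∀ u v : G, orderOf u = 2 → orderOf v = 2 → Θ (u * v) ≠ 0 → u ∈ Subgroup.centralizer ({t} : Set G) ∧ v ∈ Subgroup.centralizer ({t} : Set G) := by
    intro u v hu hv hne
    have huv : u * v ∈ Subgroup.centralizer ({t} : Set G) := by
      by_contra h'
      exact hne (Char.extendByZero_not_mem _ _ h')
    rw [hΘ, Char.extendByZero_mem _ _ huv] at hne
    obtain ⟨k, hk⟩ := S.good_of_ne hμ ho hne
    obtain ⟨y, hy, hc, ⟨l, hl⟩, hyr⟩ := Char.isPPart_ppt Nat.prime_two (u * v)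
    have hx1 : Char.ppt 2 (u * v) ≠ 1 := fun e => by
      have ht := D.order_t
      have e1 : Char.ppt 2 ((⟨u * v, huv⟩ : Subgroup.centralizer ({t} : Set G)) : G) = 1 := e
      rw [e1, one_pow] at hk
      rw [← hk, orderOf_one] at ht
      omega
    have hti : Char.HasTwoInv (u * v) t := by
      refine ⟨Char.ppt 2 (u * v), ⟨y, hy, hc, ⟨l, hl⟩, hyr⟩, hx1, ?_⟩
      have hk' : Char.ppt 2 (u * v) ^ 2 ^ k = t := hk
      have e : orderOf (Char.ppt 2 (u * v)) = 2 ^ (k + 1) := by
        refine orderOf_eq_prime_pow ?_ ?_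
        · rw [hk']
          intro h'
          have ht := D.order_t
          rw [h', orderOf_one] at ht
          omega
        · rw [pow_succ, pow_mul, hk', ← D.order_t, pow_orderOf_eq_one]
      rw [e, pow_succ, Nat.mul_div_cancel _ two_pos, hk']
    have := hti.commute_factor (by rw [← pow_two, ← hu, pow_orderOf_eq_one])
      (by rw [← pow_two, ← hv, pow_orderOf_eq_one])
    exact ⟨Subgroup.mem_centralizer_singleton_iff.2 this.1, Subgroup.mem_centralizer_singleton_iff.2 this.2⟩
  have h3 : ∑ a : G, ∑ b : G, Θ (a * t * a⁻¹ * (b * t * b⁻¹)) =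
      (Nat.card (Subgroup.centralizer ({t} : Set G)) : ℂ) ^ 2 * ∑ c : Subgroup.centralizer ({t} : Set G) with orderOf c = 2, ∑ d : Subgroup.centralizer ({t} : Set G) with orderOf d = 2, μ (D.proj c * D.proj d) := by
    rw [D.sum_conj_t fun u => ∑ b : G, Θ (u * (b * t * b⁻¹)),
      Finset.sum_congr rfl fun u _ => D.sum_conj_t fun v => Θ (u * v), ← Finset.mul_sum, ← mul_assoc, ← pow_two]
    congr 1
    rw [sum_inv_cent _ fun u hu hC => Finset.sum_eq_zero fun v hv => by
      by_contra hne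
      exact hC (hcent u v hu (Finset.mem_filter.1 hv).2 hne).1]
    refine Finset.sum_congr rfl fun c hc => ?_
    have hc2 : orderOf c = 2 := (Finset.mem_filter.1 hc).2
    rw [sum_inv_cent _ fun v hv hC => by
      by_contra hne
      exact hC (hcent _ v (by rw [Subgroup.orderOf_coe]; exact hc2) hv hne).2]
    refine Finset.sum_congr rfl fun d hd' => ?_
    rw [hΘ, ← Subgroup.coe_mul, Char.extendByZero_mem _ _ (c * d).2, Subtype.coe_eta, D.th_value S hψ hd hμ,
      map_mul L, D.L_inv hc2, D.L_inv (Finset.mem_filter.1 hd').2, map_mul, one_mul, Units.val_one, mul_one]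
  have h4 : ∑ c : Subgroup.centralizer ({t} : Set G) with orderOf c = 2, ∑ d : Subgroup.centralizer ({t} : Set G) with orderOf d = 2, μ (D.proj c * D.proj d) =
      (r₀ : ℂ) ^ 2 * (N : ℂ) * ∑ k : ZMod N, μ (r k) := by
    rw [Finset.sum_congr rfl fun c _ => D.sum_inv hinv fun e => μ (D.proj c * e)]
    rw [D.sum_inv hinv fun e => μ (e * r ((N / 2 : ℕ) : ZMod N)) + (r₀ : ℂ) * ∑ i : ZMod N, μ (e * sr i)]
    have e1 : μ (r ((N / 2 : ℕ) : ZMod N) * r ((N / 2 : ℕ) : ZMod N)) = 0 := by
      rw [r_mul_r, ← Nat.cast_add, ← two_mul, Nat.mul_div_cancel' D.two_dvd, ZMod.natCast_self,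
        ← DihedralGroup.one_def, ho.1]
    have e2 : ∀ i : ZMod N, ∑ j : ZMod N, μ (r (j - i)) = ∑ k : ZMod N, μ (r k) := fun i =>
      Fintype.sum_equiv (Equiv.subRight i) _ _ fun j => rfl
    simp only [r_mul_sr, sr_mul_r, sr_mul_sr, ho.2, e1, e2, Finset.sum_const_zero, mul_zero, add_zero, zero_add,
      Finset.sum_const, Finset.card_univ, ZMod.card, nsmul_eq_mul]
    ring
  rw [h2, h3, h4] at h1
  have h5 : (Nat.card (Subgroup.centralizer ({t} : Set G)) : ℂ)⁻¹ * ((Nat.card (Subgroup.centralizer ({t} : Set G)) : ℂ) ^ 2 * ((r₀ : ℂ) ^ 2 * (N : ℂ) * ∑ k : ZMod N, μ (r k))) =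
      (Nat.card (Subgroup.centralizer ({t} : Set G)) : ℂ) * (r₀ : ℂ) ^ 2 * (N : ℂ) * ∑ k : ZMod N, μ (r k) := by
    field_simp
  rw [h5] at h1
  refine mul_left_cancel₀ hg0 ?_
  linear_combination h1

end Data

end Cfsg.Agent.GW.Eight
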