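import Cfsg.Agent.Lib.GW.FourTwist
import Cfsg.Agent.Lib.Char.CentralPairs
import Cfsg.Agent.Lib.Char.FirstMain
import Cfsg.Agent.Lib.Char.SectionPart
import Mathlib.Data.Nat.Prime.Basic

/-!
# The Brauer pairs of a linear character

A linear character of a subgroup `K` gives a block of the centralizer of each 2-subgroup `Q` of `K` whose
centralizer lies in `K`, and these blocks form a system of pairs.
-/

set_option autoImplicit false
set_option linter.unusedSectionVars false
set_option linter.style.haveILetI false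

open Cfsg

namespace Cfsg.Agent.GW.Eight

universe u

variable {G : Type u} [Group G] [Fintype G] {M : Ideal AlgInt} {K : Subgroup G}

open scoped Classical in
/-- An invariant sum over a normalised set reduces to the fixed points of a 2-group. -/
theorem sum_fixed_congr (hM : IsPModular 2 M) {R : Subgroup G} (hR : IsPGroup 2 R) (s : Finset G)
    (F : G → ℂ) (hs : ∀ x ∈ R, ∀ y ∈ s, x * y * x⁻¹ ∈ s) (hF : ∀ x ∈ R, ∀ y ∈ s, F (x * y * x⁻¹) = F y)
    (hloc : ∀ y ∈ s, MemLocalRing M (F y)) :
    MemLocalIdeal M (∑ y ∈ s, F y - ∑ y ∈ s.filter (fun y => y ∈ Subgroup.centralizer (R : Set G)), F y) := by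
  haveI : Fact (Nat.Prime 2) := ⟨Nat.prime_two⟩
  have hP := Char.pmod_prime hM
  rw [← Finset.sum_filter_add_sum_filter_not s (fun y => y ∈ Subgroup.centralizer (R : Set G)), add_sub_cancel_left]
  set U := s.filter (fun y => ¬ y ∈ Subgroup.centralizer (R : Set G)) with hU
  let orb : G → Finset G := fun y => (Finset.univ : Finset R).image fun x : R => (x : G) * y * (x : G)⁻¹
  have hmem : ∀ y z, z ∈ orb y ↔ ∃ x ∈ R, x * y * x⁻¹ = z := fun y z => by
    simp only [orb, Finset.mem_image, Finset.mem_univ, true_and, Subtype.exists, exists_prop]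
  have horb : ∀ y z, z ∈ orb y → orb z = orb y := by
    intro y z hz
    obtain ⟨x, hx, rfl⟩ := (hmem y z).1 hz
    ext w
    rw [hmem, hmem]
    constructor
    · rintro ⟨a, ha, rfl⟩; exact ⟨a * x, mul_mem ha hx, by group⟩
    · rintro ⟨a, ha, rfl⟩; exact ⟨a * x⁻¹, mul_mem ha (inv_mem hx), by group⟩
  have hUorb : ∀ y ∈ U, ∀ z ∈ orb y, z ∈ U := by
    intro y hy z hz
    obtain ⟨x, hx, rfl⟩ := (hmem y z).1 hz
    rw [hU, Finset.mem_filter] at hy ⊢
    refine ⟨hs x hx y hy.1, fun hc => hy.2 (Subgroup.mem_centralizer_iff.2 fun w hw => ?_)⟩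
    have h1 := Subgroup.mem_centralizer_iff.1 hc (x * w * x⁻¹) (mul_mem (mul_mem hx hw) (inv_mem hx))
    calc w * y = x⁻¹ * (x * w * x⁻¹ * (x * y * x⁻¹)) * x := by group
      _ = x⁻¹ * (x * y * x⁻¹ * (x * w * x⁻¹)) * x := by rw [h1]
      _ = y * w := by group
  rw [← Finset.sum_fiberwise_of_maps_to (g := orb) (t := U.image orb) fun y hy => Finset.mem_image_of_mem _ hy]
  refine Char.memLI_sum hP _ _ fun o ho => ?_
  obtain ⟨y, hy, rfl⟩ := Finset.mem_image.1 ho
  have hfib : U.filter (fun z => orb z = orb y) = orb y := by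
    ext z
    rw [Finset.mem_filter]
    refine ⟨fun h => h.2 ▸ (hmem z z).2 ⟨1, one_mem R, by simp⟩, fun hz => ⟨hUorb y hy z hz, horb y z hz⟩⟩
  rw [hfib, Finset.sum_congr rfl (g := fun _ => F y) (fun z hz => by
    obtain ⟨x, hx, rfl⟩ := (hmem y z).1 hz
    exact hF x hx y (Finset.mem_filter.1 hy).1), Finset.sum_const, nsmul_eq_mul]
  refine Char.memLI_mul_right hP ?_ (hloc y (Finset.mem_filter.1 hy).1)
  -- the orbit has even size
  suffices h2 : 2 ∣ (orb y).card by
    obtain ⟨k, hk⟩ := h2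
    rw [hk, Nat.cast_mul, Nat.cast_two]
    exact Char.memLI_mul_right hP (by exact_mod_cast Char.memLI_p hM) (Char.memLR_natCast hP k)
  let T : Subgroup R := (Subgroup.centralizer ({y} : Set G)).comap R.subtype
  have hTo : T.index = (orb y).card := by
    rw [Subgroup.index, ← Nat.card_eq_finsetCard]
    refine Nat.card_congr (Equiv.ofBijective (fun q : R ⧸ T => Quotient.liftOn' q
      (fun x : R => (⟨(x : G) * y * (x : G)⁻¹, (hmem y _).2 ⟨x, x.2, rfl⟩⟩ : orb y)) fun a b hab => ?_) ⟨?_, ?_⟩)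
    · rw [QuotientGroup.leftRel_apply, Subgroup.mem_comap, Subgroup.mem_centralizer_singleton_iff] at hab
      refine Subtype.ext ?_
      simp only [Subgroup.coe_subtype, Subgroup.coe_mul, Subgroup.coe_inv] at hab
      calc (a : G) * y * (a : G)⁻¹ = (a : G) * (y * ((a : G)⁻¹ * b)) * (b : G)⁻¹ := by group
        _ = (a : G) * (((a : G)⁻¹ * b) * y) * (b : G)⁻¹ := by rw [hab]
        _ = (b : G) * y * (b : G)⁻¹ := by group
    · intro p q
      refine Quotient.inductionOn₂' p q fun a b hab => Quotient.sound' ?_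
      have h' : (a : G) * y * (a : G)⁻¹ = (b : G) * y * (b : G)⁻¹ := congrArg Subtype.val hab
      rw [QuotientGroup.leftRel_apply, Subgroup.mem_comap, Subgroup.mem_centralizer_singleton_iff]
      simp only [Subgroup.coe_subtype, Subgroup.coe_mul, Subgroup.coe_inv]
      calc (a : G)⁻¹ * b * y = (a : G)⁻¹ * ((b : G) * y * (b : G)⁻¹) * b := by group
        _ = y * ((a : G)⁻¹ * b) := by rw [← h']; group
    · rintro ⟨z, hz⟩
      obtain ⟨x, hx, rfl⟩ := (hmem y z).1 hz
      exact ⟨Quotient.mk'' (⟨x, hx⟩ : R), rfl⟩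
  rw [← hTo]
  obtain ⟨k, hk⟩ := IsPGroup.iff_card.1 hR
  obtain ⟨j, -, hj⟩ := (Nat.dvd_prime_pow Nat.prime_two).1 (hk ▸ T.index_dvd_card)
  rw [hj]
  rcases j with _ | j
  · refine absurd (Subgroup.index_eq_one.1 (by simpa using hj)) fun htop => (Finset.mem_filter.1 hy).2 ?_
    refine Subgroup.mem_centralizer_iff.2 fun w hw => ?_
    have : (⟨w, hw⟩ : R) ∈ T := htop ▸ Subgroup.mem_top _
    exact Subgroup.mem_centralizer_singleton_iff.1 this
  · exact dvd_pow_self 2 j.succ_ne_zero

/-- A linear character at the centralizer of a subgroup. -/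
def linAt (L : K →* ℂˣ) (Q : Subgroup G) (hQ : Subgroup.centralizer (Q : Set G) ≤ K) :
    Subgroup.centralizer (Q : Set G) →* ℂˣ := L.comp (Subgroup.inclusion hQ)

/-- Its block. -/
noncomputable def linBlock (M : Ideal AlgInt) (L : K →* ℂˣ) (Q : Subgroup G)
    (hQ : Subgroup.centralizer (Q : Set G) ≤ K) : Set (IrrCharacter (Subgroup.centralizer (Q : Set G))) :=
  blockOf M (linIrr (linAt L Q hQ) : Subgroup.centralizer (Q : Set G) → ℂ)

theorem isPBlock_linBlock (L : K →* ℂˣ) (Q : Subgroup G) (hQ : Subgroup.centralizer (Q : Set G) ≤ K) :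
    IsPBlock M (linBlock M L Q hQ) := ⟨_, rfl⟩

theorem self_mem_linBlock (hM : IsPModular 2 M) (L : K →* ℂˣ) (Q : Subgroup G)
    (hQ : Subgroup.centralizer (Q : Set G) ≤ K) : linIrr (linAt L Q hQ) ∈ linBlock M L Q hQ :=
  Char.self_mem_blockOf (Char.pmod_prime hM) _

/-- An element fixing the linear character at `Q` stabilizes its block. -/
theorem stabilizes_linBlock (hM : IsPModular 2 M) (L : K →* ℂˣ) {Q : Subgroup G}
    (hQ : Subgroup.centralizer (Q : Set G) ≤ K) {u : G} (hu : u ∈ Subgroup.normalizer (Q : Set G))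
    (hinv : ∀ k k' : K, (k : G) ∈ Subgroup.centralizer (Q : Set G) → (k' : G) = u * k * u⁻¹ → L k' = L k) :
    StabilizesBlock (Subgroup.centralizer (Q : Set G)) (linBlock M L Q hQ) u := by
  classical
  haveI := Fintype.ofFinite (Subgroup.centralizer (Q : Set G))
  have hP := Char.pmod_prime hM
  have hb := isPBlock_linBlock (M := M) L Q hQ
  refine Char.stabilizes_of_blockCoeff hP hu hb fun y => ?_
  rw [Char.subgroupBlockCoeff_eq]
  by_cases hy : y ∈ Subgroup.centralizer (Q : Set G)
  · rw [Char.extendByZero_mem _ _ hy, Char.extendByZero_mem _ _ (Char.conj_mem_centralizer hu hy)]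
    have himg := Char.isPBlock_image (M := M) (Q := Q) (Char.conjC Q ⟨u, hu⟩) hb
    have hfix : Char.irrComp (Char.conjC Q ⟨u, hu⟩) (linIrr (linAt L Q hQ)) = linIrr (linAt L Q hQ) := by
      refine Subtype.ext (funext fun c => ?_)
      rw [Char.irrComp_apply, linIrr_apply, linIrr_apply]
      exact congrArg _ (hinv (Subgroup.inclusion hQ c) (Subgroup.inclusion hQ _) c.2 rfl)
    have hEq : Char.irrComp (Char.conjC Q ⟨u, hu⟩) '' linBlock M L Q hQ = linBlock M L Q hQ :=
      Char.block_eq_blockOf hP himg ⟨_, self_mem_linBlock hM L Q hQ, hfix⟩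
    conv_rhs => rw [← hEq, Char.blockCoeff_image]
    rfl
  · rw [Char.extendByZero_not_mem _ _ hy, Char.extendByZero_not_mem]
    exact fun h' => hy (by simpa [mul_assoc] using Char.conj_mem_centralizer (inv_mem hu) h')

theorem linear_conj_eq (L : K →* ℂˣ) {u : G} (hu : u ∈ K) (k k' : K) (h : (k' : G) = u * k * u⁻¹) :
    L k' = L k := by
  rw [show k' = ⟨u, hu⟩ * k * ⟨u, hu⟩⁻¹ from Subtype.ext h, map_mul, map_mul, map_inv, mul_comm (L ⟨u, hu⟩),
    mul_inv_cancel_right]

open scoped Classical in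
/-- One normal step between the pairs of a linear character. -/
theorem linBlock_step (hM : IsPModular 2 M) (L : K →* ℂˣ) {Q R : Subgroup G} (hR : IsPGroup 2 R) (hQR : Q ≤ R)
    (hRK : R ≤ K) (hRN : R ≤ Subgroup.normalizer (Q : Set G)) (hQ : Subgroup.centralizer (Q : Set G) ≤ K)
    (hR' : Subgroup.centralizer (R : Set G) ≤ K) :
    IsNormalSubpair 2 M Q (linBlock M L Q hQ) R (linBlock M L R hR') := by
  have hP := Char.pmod_prime hM
  haveI := Fintype.ofFinite (Subgroup.centralizer (Q : Set G))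
  haveI := Fintype.ofFinite (Subgroup.centralizer (R : Set G))
  have hb := isPBlock_linBlock (M := M) L Q hQ
  have hst : ∀ x ∈ R, StabilizesBlock (Subgroup.centralizer (Q : Set G)) (linBlock M L Q hQ) x := fun x hx =>
    stabilizes_linBlock hM L hQ (hRN hx) fun k k' _ h => linear_conj_eq L (hRK hx) k k' h
  have hgood := Char.isGoodFun_stable hM hQR hRN hb hst
  refine ⟨⟨hR.to_le hQR, hb⟩, ⟨hR, isPBlock_linBlock L R hR'⟩, hQR, hRN, hst, ?_⟩
  refine Char.brOne_of_mem hM (isPBlock_linBlock L R hR') hgood (self_mem_linBlock hM L R hR') ?_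
  rw [Char.brauerOmega_eq]
  set β : G → ℂ := subgroupBlockCoeff (Subgroup.centralizer (Q : Set G)) (linBlock M L Q hQ) with hβ
  -- the product with the linear character, as a function on `G`
  set F : G → ℂ := fun y => if hy : y ∈ K then β y * (L ⟨y, hy⟩ : ℂ) else 0 with hF
  have hfull : ∑ y ∈ (Finset.univ : Finset G).filter (fun y => y ∈ Subgroup.centralizer (Q : Set G)), F y = 1 := by
    have h1 := Char.lam_blockCoeff (linBlock M L Q hQ) (linIrr (linAt L Q hQ))
    rw [if_pos (self_mem_linBlock hM L Q hQ)] at h1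
    simp only [Char.lam, linIrr_apply, map_one, Units.val_one, div_one] at h1
    rw [Finset.sum_subtype (p := fun y => y ∈ Subgroup.centralizer (Q : Set G)) _ (fun y => by simp)]
    refine Eq.trans (Finset.sum_congr rfl fun c _ => ?_) h1
    simp only [hF]
    rw [dif_pos (hQ c.2), hβ, Char.subgroupBlockCoeff_eq, Char.extendByZero_mem _ _ c.2]
    rfl
  have hcong := sum_fixed_congr hM hR
    ((Finset.univ : Finset G).filter (fun y => y ∈ Subgroup.centralizer (Q : Set G))) F
    (fun x hx y hy => Finset.mem_filter.2 ⟨Finset.mem_univ _,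
      Char.conj_mem_centralizer (hRN hx) (Finset.mem_filter.1 hy).2⟩)
    (fun x hx y hy => by
      have hyK := hQ (Finset.mem_filter.1 hy).2
      have hyK' : x * y * x⁻¹ ∈ K := mul_mem (mul_mem (hRK hx) hyK) (inv_mem (hRK hx))
      simp only [hF]
      rw [dif_pos hyK', dif_pos hyK, linear_conj_eq L (hRK hx) ⟨y, hyK⟩ ⟨_, hyK'⟩ rfl]
      congr 1
      exact Char.blockCoeff_conj_eq_of_stabilizes (hRN hx) (hst x hx) y)
    (fun y hy => by
      have hyQ := (Finset.mem_filter.1 hy).2
      simp only [hF]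
      rw [dif_pos (hQ hyQ), hβ, Char.subgroupBlockCoeff_eq, Char.extendByZero_mem _ _ hyQ]
      exact Char.memLR_mul hP (Char.memLR_blockCoeff hM hb _)
        (Char.memLocalRing_of_isIntegral hP.ne_top (linear_isIntegral L _)))
  rw [hfull, Finset.filter_filter] at hcong
  have hrw : Char.lam (linIrr (linAt L R hR') : Subgroup.centralizer (R : Set G) → ℂ) (Char.tr R β) =
      ∑ y ∈ (Finset.univ : Finset G).filter
        (fun y => y ∈ Subgroup.centralizer (Q : Set G) ∧ y ∈ Subgroup.centralizer (R : Set G)), F y := by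
    simp only [Char.lam, linIrr_apply, map_one, Units.val_one, div_one, Char.tr_apply]
    rw [Finset.sum_subtype (p := fun y => y ∈ Subgroup.centralizer (R : Set G)) _
      (fun y => by simp only [Finset.mem_filter, Finset.mem_univ, true_and]
                   exact ⟨fun h => h.2, fun h => ⟨Char.centralizer_antitone hQR h, h⟩⟩)]
    refine Finset.sum_congr rfl fun c _ => ?_
    simp only [hF]
    rw [dif_pos (hR' c.2)]
    rfl
  rw [hrw]
  exact Char.memLI_symm hP hcong

end Cfsg.Agent.GW.Eight
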