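import Cfsg.Agent.Lib.GW.FourSections

/-!
# Coefficients of the block above a linear character on the section of an involution

The characters of the block are integral combinations of the linear pullbacks on the section of `t`; the
coefficients are orthogonal of norm four, orthogonal to the degrees, and congruent modulo two.
-/

set_option autoImplicit false
set_option linter.unusedSectionVars false

open scoped ComplexConjugate
open Cfsg

namespace Cfsg.Agent.GW

universe u

section Orth

variable {H : Type u} [Group H] [Fintype H]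

open scoped Classical in
/-- Linear characters are orthogonal on an odd normal subgroup of `2`-power index. -/
theorem linear_orth_regular (K : Subgroup H) [K.Normal] (hK : ¬ 2 ∣ Nat.card K)
    (hreg : ∀ c, ¬ 2 ∣ orderOf c → c ∈ K) (hK4 : K.index = 4) (L L' : H →* ℂˣ) :
    4 * (Nat.card H : ℂ)⁻¹ * ∑ y : H with ¬ 2 ∣ orderOf y, conj (L y : ℂ) * (L' y : ℂ) =
      if ∀ k ∈ K, L k = L' k then 1 else 0 := by
  have hKmem : ∀ c : H, c ∈ K ↔ ¬ 2 ∣ orderOf c := fun c =>
    ⟨fun hc h => hK (h.trans (Subgroup.orderOf_mk c hc ▸ orderOf_dvd_natCard (⟨c, hc⟩ : K))), hreg c⟩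
  have hsum : ∑ y : H with ¬ 2 ∣ orderOf y, conj (L y : ℂ) * (L' y : ℂ) =
      ∑ k : K, ((Units.coeHom ℂ).comp ((L⁻¹ * L').comp K.subtype)) k := by
    refine Finset.sum_bij' (fun y hy => (⟨y, (hKmem y).2 (Finset.mem_filter.1 hy).2⟩ : K)) (fun k _ => (k : H))
      ?_ ?_ ?_ ?_ ?_
    · intro a _; exact Finset.mem_univ _
    · intro k _; exact Finset.mem_filter.2 ⟨Finset.mem_univ _, (hKmem k).1 k.2⟩
    · intro a _; rfl
    · intro k _; rfl
    · intro y hy
      rw [conj_linear]
      simp
  rw [hsum, sum_hom_units]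
  have hH : (Nat.card H : ℂ) = 4 * Nat.card K := by
    rw [← K.index_mul_card, hK4]; push_cast; ring
  have hK0 : (Nat.card K : ℂ) ≠ 0 := Nat.cast_ne_zero.2 Nat.card_pos.ne'
  by_cases h : ∀ k ∈ K, L k = L' k
  · rw [if_pos h, if_pos (MonoidHom.ext fun k => by simp [h k k.2]), hH, Fintype.card_eq_nat_card]
    field_simp
  · rw [if_neg h, if_neg fun he => h fun k hk => ?_]
    · simp
    · have h1 := DFunLike.congr_fun he ⟨k, hk⟩
      simp only [MonoidHom.comp_apply, Units.coeHom_apply, MonoidHom.one_apply, Units.val_eq_one,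
        MonoidHom.mul_apply, MonoidHom.inv_apply, Subgroup.coe_subtype] at h1
      exact inv_mul_eq_one.1 h1

theorem linIrr_mem_iff {M : Ideal AlgInt} (hM : IsPModular 2 M) (K : Subgroup H) [K.Normal]
    (hK : ¬ 2 ∣ Nat.card K) (hK4 : K.index = 4) (L L' : H →* ℂˣ) :
    linIrr L' ∈ blockOf M (linIrr L : H → ℂ) ↔ ∀ k ∈ K, L k = L' k := by
  rw [mem_blockOf_linear_iff hM,
    Char.mem_principal_iff_of_index hM K hK (k := 2) (by rw [hK4]; norm_num)]
  refine forall_congr' fun k => forall_congr' fun _ => ?_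
  rw [twist_apply, twist_apply, linIrr_apply, linIrr_apply, map_one, map_one, Units.val_one, mul_one,
    MonoidHom.inv_apply, ← Units.val_mul, ← Units.val_one, Units.val_inj, inv_mul_eq_one]

end Orth

variable {G : Type u} [Group G] [Fintype G] {M : Ideal AlgInt}
  {P : Sylow 2 G} {t v : G}
  {π : (Subgroup.centralizer ((P : Subgroup G) : Set G) →* ℂˣ) → (Subgroup.centralizer ({t} : Set G) →* ℂˣ)}
  {θ : Subgroup.centralizer ((P : Subgroup G) : Set G) →* ℂˣ}

local notation "W" => Subgroup.centralizer ((P : Subgroup G) : Set G)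
set_option quotPrecheck false in
local notation "C" => Subgroup.centralizer ({t} : Set G)

/-- A subgroup of odd order and index four containing the odd elements, with its projection onto the four group. -/
theorem exists_proj (D : LinData P t v π θ) :
    ∃ η : C →* (P : Subgroup G), (∀ c : C, ∀ hc : (c : G) ∈ (P : Subgroup G), η c = ⟨c, hc⟩) ∧
      (∀ c : C, η c = 1 ↔ ¬ 2 ∣ orderOf c) ∧ ¬ 2 ∣ Nat.card η.ker ∧ η.ker.index = 4 := by
  classical
  obtain ⟨K, hKn, hKc, hKreg, hKi, hKP⟩ := Char.four_complement P D.card D.exp D.tP D.t1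
  have hPC : (P : Subgroup G) ≤ C := fun a ha => Subgroup.mem_centralizer_singleton_iff.2
    (Char.comm_of_exp_two (P := (P : Subgroup G)) D.exp a ha t D.tP)
  let ι : (P : Subgroup G) →* C := Subgroup.inclusion hPC
  have hinj : Function.Injective ((QuotientGroup.mk' K).comp ι) := by
    rw [← MonoidHom.ker_eq_bot_iff, Subgroup.eq_bot_iff_forall]
    intro u hu
    have h1 : ι u ∈ K := (QuotientGroup.eq_one_iff _).mp hu
    exact Subgroup.inclusion_injective hPC ((hKP _ u.2 h1).trans (map_one ι).symm)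
  have hbij : Function.Bijective ((QuotientGroup.mk' K).comp ι) :=
    (Nat.bijective_iff_injective_and_card _).mpr ⟨hinj, by rw [← Subgroup.index_eq_card, hKi]; exact D.card⟩
  let e := MulEquiv.ofBijective _ hbij
  refine ⟨e.symm.toMonoidHom.comp (QuotientGroup.mk' K), fun c hc => ?_, fun c => ?_, ?_, ?_⟩
  · show e.symm (QuotientGroup.mk' K c) = _
    rw [MulEquiv.symm_apply_eq]
    rfl
  · show e.symm (QuotientGroup.mk' K c) = 1 ↔ _
    rw [MulEquiv.symm_apply_eq, map_one, QuotientGroup.mk'_apply, QuotientGroup.eq_one_iff]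
    exact ⟨fun hc h => hKc (h.trans (Subgroup.orderOf_mk c hc ▸ orderOf_dvd_natCard (⟨c, hc⟩ : K))), hKreg c⟩
  all_goals rw [show (e.symm.toMonoidHom.comp (QuotientGroup.mk' K)).ker = K by
    ext c
    simp [MonoidHom.mem_ker, QuotientGroup.eq_one_iff]]
  · exact hKc
  · exact hKi

/-- The coefficient of the `j`-th pullback in a character. -/
noncomputable def cf (D : LinData P t v π θ) (j : ℕ) (χ : IrrCharacter G) : ℂ :=
  letI : Fintype C := Fintype.ofFinite _
  secCoeff t (linPull D j) (χ : G → ℂ)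

/-- A complete set of indices of the blocks inducing `B` at `t`. -/
structure Reps (M : Ideal AlgInt) (D : LinData P t v π θ) (B : Set (IrrCharacter G)) (J : Finset ℕ) : Prop where
  block : IsPBlock M B
  ind : ∀ j : ℕ, IsInducedBlock M C (sectionBlock M D j) B
  all : ∀ b, IsInducedBlock M C b B → ∃ j ∈ J, b = sectionBlock M D j
  inj : ∀ i ∈ J, ∀ j ∈ J, sectionBlock M D i = sectionBlock M D j → i = j

open scoped Classical in
/-- The expansion of a character of the block on the section of `t`. -/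
theorem expansion (hM : IsPModular 2 M) (D : LinData P t v π θ) {B : Set (IrrCharacter G)} {J : Finset ℕ}
    (R : Reps M D B J) {χ : IrrCharacter G} (hχ : χ ∈ B) (y : C) (hy : ¬ 2 ∣ orderOf y) :
    (χ : G → ℂ) (t * (y : G)) = ∑ j ∈ J, (linPull D j y : ℂ) * cf D j χ := by
  haveI : Fact (Nat.Prime 2) := ⟨Nat.prime_two⟩
  letI : Fintype C := Fintype.ofFinite _
  have hP := Char.pmod_prime hM
  obtain ⟨η, -, hη1, hKc, hK4⟩ := exists_proj D
  have hreg : ∀ c, ¬ 2 ∣ orderOf c → c ∈ η.ker := fun c hc => (hη1 c).2 hc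
  have h := Char.eq_sum_blockPart hP (Char.isClassFunction_secFun (x := t)
    (Char.isClassFunction_character (Char.irr_isCharacter χ.2))) y
  rw [show Char.secFun t (χ : G → ℂ) y = (χ : G → ℂ) (t * (y : G)) from rfl] at h
  rw [h, ← Finset.sum_subset (s₁ := J.image (sectionBlock M D)) ?_ ?_,
    Finset.sum_image fun i hi j hj => R.inj i hi j hj]
  · exact Finset.sum_congr rfl fun j _ =>
      blockPart_secFun_linear η.ker hM hKc hreg hK4 _ _ y hy
  · intro b hb
    obtain ⟨j, -, rfl⟩ := Finset.mem_image.1 hb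
    exact Finset.mem_image.2 ⟨linIrr (linPull D j), Finset.mem_univ _, rfl⟩
  · intro b hb hne
    obtain ⟨ξ, -, rfl⟩ := Finset.mem_image.1 hb
    refine Char.blockPart_secFun_eq_zero hM (two_pow_order D) R.block χ hχ (Char.isPBlock_blockOf M ξ)
      (fun hi => hne ?_) y hy
    obtain ⟨j, hj, e⟩ := R.all _ hi
    exact Finset.mem_image.2 ⟨j, hj, e.symm⟩

/-- The value at `t`. -/
theorem value_t (hM : IsPModular 2 M) (D : LinData P t v π θ) {B : Set (IrrCharacter G)} {J : Finset ℕ}
    (R : Reps M D B J) {χ : IrrCharacter G} (hχ : χ ∈ B) : (χ : G → ℂ) t = ∑ j ∈ J, cf D j χ := by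
  have := expansion hM D R hχ 1 (by simp)
  simpa using this

/-- The coefficients vanish off the block. -/
theorem cf_eq_zero (hM : IsPModular 2 M) (D : LinData P t v π θ) {B : Set (IrrCharacter G)} {J : Finset ℕ}
    (R : Reps M D B J) {χ : IrrCharacter G} (hχ : χ ∉ B) (j : ℕ) : cf D j χ = 0 := by
  haveI : Fact (Nat.Prime 2) := ⟨Nat.prime_two⟩
  letI : Fintype C := Fintype.ofFinite _
  have hP := Char.pmod_prime hM
  obtain ⟨η, -, hη1, hKc, hK4⟩ := exists_proj D
  have hreg : ∀ c, ¬ 2 ∣ orderOf c → c ∈ η.ker := fun c hc => (hη1 c).2 hc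
  have h := blockPart_secFun_linear η.ker hM hKc hreg hK4 (linPull D j) (χ : G → ℂ) 1 (by simp)
  rw [map_one, Units.val_one, one_mul] at h
  rw [show cf D j χ = secCoeff t (linPull D j) (χ : G → ℂ) from rfl, ← h]
  refine Char.blockPart_secFun_eq_zero hM (two_pow_order D) (Char.isPBlock_blockOf M χ) χ
    (Char.self_mem_blockOf hP χ) (R.ind j).1 (fun hi => hχ ?_) 1 (by simp)
  rw [Char.induced_unique hP (R.ind j) hi]
  exact Char.self_mem_blockOf hP χ

open scoped Classical in
/-- The coefficients are orthogonal of norm four. -/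
theorem cf_orth (hM : IsPModular 2 M) (D : LinData P t v π θ) {B : Set (IrrCharacter G)} {J : Finset ℕ}
    (R : Reps M D B J) {i k : ℕ} (hi : i ∈ J) (hk : k ∈ J) :
    ∑ χ : IrrCharacter G with χ ∈ B, conj (cf D i χ) * cf D k χ = if i = k then 4 else 0 := by
  haveI : Fact (Nat.Prime 2) := ⟨Nat.prime_two⟩
  letI : Fintype C := Fintype.ofFinite _
  have hP := Char.pmod_prime hM
  obtain ⟨η, -, hη1, hKc, hK4⟩ := exists_proj D
  have hreg : ∀ c, ¬ 2 ∣ orderOf c → c ∈ η.ker := fun c hc => (hη1 c).2 hc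
  set a : ℂ := 4 * (Nat.card C : ℂ)⁻¹ with ha
  have hca : conj a = a := by
    rw [ha, show (4 : ℂ) = ((4 : ℕ) : ℂ) by norm_num, map_mul, map_inv₀, Complex.conj_natCast, Complex.conj_natCast]
  set Y := Finset.univ.filter fun y : C => ¬ 2 ∣ orderOf y with hY
  have hδ : ∀ l ∈ J, ∀ m ∈ J, a * ∑ y ∈ Y, conj (linPull D l y : ℂ) * (linPull D m y : ℂ) =
      if l = m then 1 else 0 := by
    intro l hl m hm
    refine (linear_orth_regular η.ker hKc hreg hK4 _ _).trans ?_
    split_ifs with h1 h2 h2
    · rfl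
    · exact absurd (R.inj l hl m hm
        (Char.blockOf_eq_of_sameBlock hP ((linIrr_mem_iff hM η.ker hKc hK4 _ _).2 h1))) h2
    · exact absurd (fun x _ => by rw [h2]) h1
    · rfl
  have hcol : ∀ y ∈ Y, ∀ y' ∈ Y, ∑ χ : IrrCharacter G with χ ∈ B,
      conj ((χ : G → ℂ) (t * (y : G))) * (χ : G → ℂ) (t * (y' : G)) =
        ∑ j ∈ J, 4 * (conj (linPull D j y : ℂ) * (linPull D j y' : ℂ)) := by
    intro y hy y' hy'
    have hy2 := (Finset.mem_filter.1 hy).2
    have hy2' := (Finset.mem_filter.1 hy').2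
    rw [Char.sum_block_section_orth hM (two_pow_order D) R.block y y' hy2 hy2']
    have e : ((Finset.univ : Finset (IrrCharacter C)).image (fun ξ : IrrCharacter C =>
        blockOf M (ξ : C → ℂ))).filter (fun b => IsInducedBlock M C b B) = J.image (sectionBlock M D) := by
      ext b
      simp only [Finset.mem_filter, Finset.mem_image, Finset.mem_univ, true_and]
      constructor
      · rintro ⟨-, hb⟩
        obtain ⟨j, hj, rfl⟩ := R.all b hb
        exact ⟨j, hj, rfl⟩
      · rintro ⟨j, -, rfl⟩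
        exact ⟨⟨linIrr (linPull D j), rfl⟩, R.ind j⟩
    rw [e, Finset.sum_image fun i hi j hj => R.inj i hi j hj]
    refine Finset.sum_congr rfl fun j _ => ?_
    rw [sectionBlock, linear_block_orth hM η.ker hKc hreg (k := 2) (by rw [hK4]; norm_num) _ y y' hy2 hy2', hK4]
    norm_num
  calc ∑ χ : IrrCharacter G with χ ∈ B, conj (cf D i χ) * cf D k χ
      = ∑ χ : IrrCharacter G with χ ∈ B, ∑ y ∈ Y, ∑ y' ∈ Y, a * a * ((linPull D i y : ℂ) *
          conj (linPull D k y' : ℂ) * (conj ((χ : G → ℂ) (t * (y : G))) * (χ : G → ℂ) (t * (y' : G)))) := by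
        refine Finset.sum_congr rfl fun χ _ => ?_
        simp only [cf, secCoeff, ← hY, ← ha]
        rw [map_mul, map_sum, hca]
        simp only [map_mul, Complex.conj_conj]
        rw [mul_mul_mul_comm, Finset.sum_mul_sum, Finset.mul_sum]
        refine Finset.sum_congr rfl fun y _ => ?_
        rw [Finset.mul_sum]
        exact Finset.sum_congr rfl fun y' _ => by ring
    _ = ∑ y ∈ Y, ∑ y' ∈ Y, a * a * ((linPull D i y : ℂ) * conj (linPull D k y' : ℂ) *
          ∑ j ∈ J, 4 * (conj (linPull D j y : ℂ) * (linPull D j y' : ℂ))) := by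
        rw [Finset.sum_comm]
        refine Finset.sum_congr rfl fun y hy => ?_
        rw [Finset.sum_comm]
        refine Finset.sum_congr rfl fun y' hy' => ?_
        rw [← hcol y hy y' hy', Finset.mul_sum, Finset.mul_sum]
    _ = ∑ j ∈ J, 4 * ((a * ∑ y ∈ Y, conj (linPull D j y : ℂ) * (linPull D i y : ℂ)) *
          (a * ∑ y' ∈ Y, conj (linPull D k y' : ℂ) * (linPull D j y' : ℂ))) := by
        simp only [Finset.mul_sum, Finset.sum_mul]
        rw [Finset.sum_comm]
        refine (Finset.sum_congr rfl fun y' _ => Finset.sum_comm).trans ?_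
        rw [Finset.sum_comm]
        refine Finset.sum_congr rfl fun j _ => Finset.sum_congr rfl fun y' _ => ?_
        exact Finset.sum_congr rfl fun y _ => by ring
    _ = ∑ j ∈ J, 4 * ((if j = i then (1 : ℂ) else 0) * (if k = j then 1 else 0)) :=
        Finset.sum_congr rfl fun j hj => by rw [hδ j hj i hi, hδ k hk j hj]
    _ = if i = k then 4 else 0 := by
        rw [Finset.sum_eq_single i (fun j _ hji => by simp [hji]) (fun h => absurd hi h), if_pos rfl]
        split_ifs with h1 h2 h2
        · ring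
        · exact absurd h1.symm h2
        · exact absurd h2.symm h1
        · ring

open scoped Classical in
/-- The coefficients are orthogonal to the degrees. -/
theorem cf_degree (hM : IsPModular 2 M) (D : LinData P t v π θ) {B : Set (IrrCharacter G)} {J : Finset ℕ}
    (R : Reps M D B J) (j : ℕ) : ∑ χ : IrrCharacter G with χ ∈ B, cf D j χ * (χ : G → ℂ) 1 = 0 := by
  haveI : Fact (Nat.Prime 2) := ⟨Nat.prime_two⟩
  letI : Fintype C := Fintype.ofFinite _
  simp only [cf, secCoeff, Finset.mul_sum, Finset.sum_mul]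
  rw [Finset.sum_comm]
  refine Finset.sum_eq_zero fun y hy => ?_
  have h2 : 2 ∣ orderOf (t * (y : G)) := by
    rw [Commute.orderOf_mul_eq_mul_orderOf_of_coprime
      ((Subgroup.mem_centralizer_singleton_iff.mp y.2).symm : Commute t (y : G))
      (by rw [D.order D.tP D.t1, Subgroup.orderOf_coe]
          exact Nat.prime_two.coprime_iff_not_dvd.mpr (Finset.mem_filter.1 hy).2), D.order D.tP D.t1]
    exact dvd_mul_right _ _
  have h := Char.weak_orthogonality hM R.block (x := (1 : G)) (y := t * (y : G)) (by simp) h2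
  rw [Char.finsum_mem_irr] at h
  have h' : ∑ χ : IrrCharacter G with χ ∈ B, (χ : G → ℂ) (t * (y : G)) * (χ : G → ℂ) 1 = 0 := by
    rw [← map_zero (starRingEnd ℂ), ← h, map_sum]
    refine Finset.sum_congr rfl fun χ _ => ?_
    obtain ⟨d, hd⟩ := Char.charOne_eq_natCast (Char.irr_isCharacter χ.2)
    rw [hd, map_mul, Complex.conj_conj, Complex.conj_natCast]
    ring
  calc _ = 4 * (Nat.card C : ℂ)⁻¹ * conj (linPull D j y : ℂ) *
        ∑ χ : IrrCharacter G with χ ∈ B, (χ : G → ℂ) (t * (y : G)) * (χ : G → ℂ) 1 := by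
        rw [Finset.mul_sum]; exact Finset.sum_congr rfl fun χ _ => by ring
    _ = 0 := by rw [h', mul_zero]

end Cfsg.Agent.GW
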