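import Mathlib.Tactic

/-!
# Arithmetic of the order formula against the incidence count

`N = |G : M|` where `M` is a maximal subgroup over an involution centraliser with `M / O(M)` symmetric of
degree four and `f` is the number of elements of `O(M)` inverted by an outer involution.  The order formula
gives `3 N (y - 1)^2 = 8 y (y + 1) (1 + f)^2`, the incidence count gives `4 f^2 + 2 f + 1 ≤ N`.
-/

set_option autoImplicit false

namespace Cfsg.Agent.GW

/-- the order formula in reduced form: `y = 8 p + 1`, `1 + f = 2 p j` -/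
theorem orderEight_param (N f : ℕ) (y : ℤ) (hN : Odd N) (hf : Odd f) (hy4 : y % 4 = 1) (hy1 : y ≠ 1)
    (heq : 3 * (N : ℤ) * (y - 1) ^ 2 = 8 * y * (y + 1) * (1 + f) ^ 2) :
    ∃ p j : ℤ, p ≠ 0 ∧ y = 8 * p + 1 ∧ (1 + (f : ℤ)) = 2 * (p * j) ∧
      3 * (N : ℤ) = (8 * p + 1) * (4 * p + 1) * j ^ 2 := by
  obtain ⟨m, hm⟩ : ∃ m : ℤ, y = 4 * m + 1 := ⟨y / 4, by omega⟩
  obtain ⟨h, hh⟩ : ∃ h : ℤ, (1 + (f : ℤ)) = 2 * h := by
    obtain ⟨k, hk⟩ := hf
    exact ⟨k + 1, by omega⟩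
  subst hm
  rw [hh] at heq
  have e1 : 3 * (N : ℤ) * m ^ 2 = 4 * ((4 * m + 1) * (2 * m + 1) * h ^ 2) := by nlinarith [heq]
  have hNo : Odd (N : ℤ) := (Int.odd_coe_nat N).2 hN
  have hmeven : Even m := by
    by_contra hodd
    rw [Int.not_even_iff_odd] at hodd
    have h3 : Odd (3 * (N : ℤ) * m ^ 2) := ((by decide : Odd (3 : ℤ)).mul hNo).mul (hodd.pow)
    rw [e1] at h3
    exact (Int.not_odd_iff_even.2 ((by decide : Even (4 : ℤ)).mul_right _)) h3
  obtain ⟨p, hp⟩ := hmeven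
  have hp0 : p ≠ 0 := fun e => hy1 (by omega)
  rw [hp] at e1
  have e2 : 3 * (N : ℤ) * p ^ 2 = (8 * p + 1) * (4 * p + 1) * h ^ 2 := by nlinarith [e1]
  have hco : IsCoprime (p ^ 2) ((8 * p + 1) * (4 * p + 1)) :=
    IsCoprime.mul_right (IsCoprime.pow_left ⟨-8, 1, by ring⟩) (IsCoprime.pow_left ⟨-4, 1, by ring⟩)
  have hdvd : p ^ 2 ∣ h ^ 2 :=
    hco.dvd_of_dvd_mul_left ⟨3 * (N : ℤ), by rw [← e2]; ring⟩
  obtain ⟨j, hj⟩ := (Int.pow_dvd_pow_iff (by norm_num)).1 hdvd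
  refine ⟨p, j, hp0, by omega, by rw [hh, hj], ?_⟩
  rw [hj] at e2
  exact mul_right_cancel₀ (pow_ne_zero 2 hp0) (by rw [e2]; ring)

/-- the count leaves only `y = 9` and five values of `f` -/
theorem orderEight_count (N f : ℕ) (y : ℤ) (hN : Odd N) (hf : Odd f) (hy4 : y % 4 = 1) (hy1 : y ≠ 1)
    (heq : 3 * (N : ℤ) * (y - 1) ^ 2 = 8 * y * (y + 1) * (1 + f) ^ 2) (hf5 : 5 ≤ f)
    (hcount : 4 * f ^ 2 + 2 * f + 1 ≤ N) :
    (f = 5 ∧ N = 135) ∨ (f = 9 ∧ N = 375) ∨ (f = 13 ∧ N = 735) ∨ (f = 17 ∧ N = 1215) ∨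
      (f = 21 ∧ N = 1815) := by
  obtain ⟨p, j, hp0, hy, hf2, h3N⟩ := orderEight_param N f y hN hf hy4 hy1 heq
  have hc : (4 * (f : ℤ) ^ 2 + 2 * f + 1) ≤ N := by exact_mod_cast hcount
  have hfe : (f : ℤ) = 2 * (p * j) - 1 := by omega
  rw [hfe] at hc
  have hpj : 3 ≤ p * j := by omega
  have key : (p * j) ^ 2 * (16 * p ^ 2 - 12 * p - 1) ≤ p ^ 2 * (36 * (p * j) - 9) := by
    have := mul_le_mul_of_nonneg_left hc (mul_nonneg (by norm_num : (0 : ℤ) ≤ 3) (sq_nonneg p))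
    nlinarith [this, h3N]
  rcases lt_trichotomy p 0 with hneg | h0 | hpos
  · exfalso
    have h1 : 16 * p ^ 2 ≤ 16 * p ^ 2 - 12 * p - 1 := by omega
    have h2 : (p * j) ^ 2 * (16 * p ^ 2) ≤ p ^ 2 * (36 * (p * j) - 9) :=
      le_trans (mul_le_mul_of_nonneg_left h1 (sq_nonneg _)) key
    have h4 : 16 * (p * j) ^ 2 ≤ 36 * (p * j) - 9 :=
      le_of_mul_le_mul_left (a := p ^ 2) (by linarith) (by positivity)
    nlinarith
  · exact absurd h0 hp0
  · rcases (by omega : p = 1 ∨ 2 ≤ p) with rfl | hp2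
    · simp only [one_mul] at *
      have hj11 : j ≤ 11 := by nlinarith
      obtain ⟨k, hk⟩ := hN
      interval_cases j <;> omega
    · exfalso
      have h1 : 39 * p ^ 2 ≤ 4 * (16 * p ^ 2 - 12 * p - 1) := by nlinarith
      have h2 : (p * j) ^ 2 * (39 * p ^ 2) ≤ 4 * (p ^ 2 * (36 * (p * j) - 9)) := by
        have := mul_le_mul_of_nonneg_left h1 (sq_nonneg (p * j))
        linarith
      have h4 : 39 * (p * j) ^ 2 ≤ 4 * (36 * (p * j) - 9) :=
        le_of_mul_le_mul_left (a := p ^ 2) (by linarith) (by positivity)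
      have h5 : p * j ≤ 3 := by nlinarith
      have hj1 : j = 1 := by nlinarith
      subst hj1
      have hp3 : p = 3 := by omega
      subst hp3
      omega

/-- `f = 3`: the two candidate indices -/
theorem orderEight_three (N : ℕ) (y : ℤ) (hN : Odd N) (hy4 : y % 4 = 1) (hy1 : y ≠ 1)
    (heq : 3 * (N : ℤ) * (y - 1) ^ 2 = 8 * y * (y + 1) * (1 + (3 : ℕ)) ^ 2) :
    N = 35 ∨ N = 51 := by
  obtain ⟨p, j, hp0, hy, hf2, h3N⟩ := orderEight_param N 3 y hN (by decide) hy4 hy1 heq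
  have hpj : p * j = 2 := by push_cast at hf2; omega
  have hp : p ∣ 2 := ⟨j, hpj.symm⟩
  have hle : p ≤ 2 := Int.le_of_dvd (by norm_num) hp
  have hge : -2 ≤ p := by
    have := Int.le_of_dvd (by norm_num) (Int.neg_dvd.2 hp)
    omega
  obtain ⟨k, hk⟩ := hN
  interval_cases p <;> first
    | omega
    | (have : j = 2 := by omega
       subst this; omega)
    | (have : j = -2 := by omega
       subst this; omega)
    | (have : j = 1 := by omega
       subst this; omega)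
    | (have : j = -1 := by omega
       subst this; omega)

/-- `f = 9`: the index divisible by `35` -/
theorem orderEight_nine (N : ℕ) (y : ℤ) (hN : Odd N) (hy4 : y % 4 = 1) (hy1 : y ≠ 1)
    (heq : 3 * (N : ℤ) * (y - 1) ^ 2 = 8 * y * (y + 1) * (1 + (9 : ℕ)) ^ 2) (h35 : 35 ∣ N) :
    N = 175 := by
  obtain ⟨p, j, hp0, hy, hf2, h3N⟩ := orderEight_param N 9 y hN (by decide) hy4 hy1 heq
  have hpj : p * j = 5 := by push_cast at hf2; omega
  have hp : p ∣ 5 := ⟨j, hpj.symm⟩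
  have hle : p ≤ 5 := Int.le_of_dvd (by norm_num) hp
  have hge : -5 ≤ p := by
    have := Int.le_of_dvd (by norm_num) (Int.neg_dvd.2 hp)
    omega
  interval_cases p <;> first
    | omega
    | (have : j = 5 := by omega
       subst this; omega)
    | (have : j = -5 := by omega
       subst this; omega)
    | (have : j = 1 := by omega
       subst this; omega)
    | (have : j = -1 := by omega
       subst this; omega)

end Cfsg.Agent.GW
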