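import Mathlib

/-!
# A maximal subgroup `M = N(U)` over an involution centraliser: involutions of `M`

`U = ⟨t, u⟩` is a four group, `C(t) ≤ M`, `M` permutes the three involutions of `U` transitively and
`C(U) = U × E` with `E` of odd order.  The involutions of `M` are those of `U` (*inner*) and those acting as
transpositions on `U` (*outer*).
-/

set_option autoImplicit false
set_option linter.unusedSectionVars false
set_option linter.style.haveILetI false

namespace Cfsg.Agent.GW

universe w

variable {G : Type w} [Group G] [Finite G]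

/-- one of the three involutions of the four group `⟨t, u⟩` -/
def Inner (t u a : G) : Prop := a = t ∨ a = u ∨ a = t * u

/-- the configuration without `J`: `M = N(U)` over `C(t)` and `C(U) = U × E` with `E` of odd order -/
structure FourCore (t u s : G) (M E : Subgroup G) : Prop where
  tt : t * t = 1
  t_ne : t ≠ 1
  uu : u * u = 1
  u_ne : u ≠ 1
  ut_ne : u ≠ t
  tu : Commute t u
  ss : s * s = 1
  st : Commute s t
  su : s * u * s⁻¹ = t * u
  cent_le : Subgroup.centralizer ({t} : Set G) ≤ M
  normU : ∀ m ∈ M, ∀ a, Inner t u a → Inner t u (m * a * m⁻¹)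
  rot : ∃ h ∈ M, h * t * h⁻¹ = u
  E_odd : Odd (Nat.card E)
  E_t : ∀ e ∈ E, Commute e t
  E_u : ∀ e ∈ E, Commute e u
  cu : ∀ g : G, Commute g t → Commute g u → ∃ v, (v = 1 ∨ Inner t u v) ∧ ∃ e ∈ E, g = v * e
  one_class : ∀ i : G, i * i = 1 → i ≠ 1 → IsConj t i

/-- the configuration: additionally `J`, the elements of `E` inverted by `s`, is a subgroup -/
structure FourEight (t u s : G) (M E J : Subgroup G) : Prop extends FourCore t u s M E where
  J_le : J ≤ E
  J_inv : ∀ e ∈ E, s * e * s⁻¹ = e⁻¹ ↔ e ∈ J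
  J_norm : M ≤ Subgroup.normalizer (J : Set G)
  good : ∀ a ∈ J, a ≠ 1 → Subgroup.centralizer ({a} : Set G) ≤ M

variable {t u s : G} {M E J : Subgroup G}

/-- an involution of `M` outside `U` -/
def Outer (t u : G) (M : Subgroup G) (i : G) : Prop := i ∈ M ∧ i * i = 1 ∧ i ≠ 1 ∧ ¬ Inner t u i

theorem inv_self {i : G} (hi : i * i = 1) : i⁻¹ = i := inv_eq_of_mul_eq_one_right hi

theorem commute_of_conj {g a : G} (h : g * a * g⁻¹ = a) : Commute g a :=
  mul_inv_eq_iff_eq_mul.1 h

theorem conj_of_commute {g a : G} (h : Commute g a) : g * a * g⁻¹ = a :=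
  mul_inv_eq_iff_eq_mul.2 h.eq

/-- a power of an element of odd order that is its own square is trivial -/
theorem eq_one_of_sq_odd {e : G} (he : Odd (orderOf e)) (h2 : e * e = 1) : e = 1 := by
  obtain ⟨k, hk⟩ := he
  have h := pow_orderOf_eq_one e
  rwa [hk, pow_succ, pow_mul, pow_two, h2, one_pow, one_mul] at h

theorem eq_one_of_eq_inv {e : G} (he : Odd (orderOf e)) (h2 : e = e⁻¹) : e = 1 :=
  eq_one_of_sq_odd he (mul_eq_one_iff_eq_inv.2 h2)

namespace FourCore

variable (h : FourCore t u s M E)
include h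

theorem s_mem : s ∈ M := h.cent_le (Subgroup.mem_centralizer_singleton_iff.2 h.st.eq)

theorem t_mem : t ∈ M := h.cent_le (Subgroup.mem_centralizer_singleton_iff.2 rfl)

theorem u_mem : u ∈ M := h.cent_le (Subgroup.mem_centralizer_singleton_iff.2 h.tu.eq.symm)

theorem inner_t : Inner t u t := Or.inl rfl

theorem inner_mem {a : G} (ha : Inner t u a) : a ∈ M := by
  rcases ha with rfl | rfl | rfl
  · exact h.t_mem
  · exact h.u_mem
  · exact M.mul_mem h.t_mem h.u_mem

theorem inner_comm {a b : G} (ha : Inner t u a) (hb : Inner t u b) : Commute a b := by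
  have h1 : Commute t (t * u) := (Commute.refl t).mul_right h.tu
  have h2 : Commute u (t * u) := h.tu.symm.mul_right (Commute.refl u)
  rcases ha with rfl | rfl | rfl <;> rcases hb with rfl | rfl | rfl <;>
    first
      | exact Commute.refl _
      | exact h.tu
      | exact h.tu.symm
      | exact h1
      | exact h1.symm
      | exact h2
      | exact h2.symm

theorem inner_sq {a : G} (ha : Inner t u a) : a * a = 1 := by
  rcases ha with rfl | rfl | rfl
  · exact h.tt
  · exact h.uu
  · rw [h.tu.symm.mul_mul_mul_comm, h.tt, h.uu, one_mul]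

theorem inner_ne_one {a : G} (ha : Inner t u a) : a ≠ 1 := by
  rcases ha with rfl | rfl | rfl
  · exact h.t_ne
  · exact h.u_ne
  · intro e
    exact h.ut_ne (by rw [eq_inv_of_mul_eq_one_right e, inv_self h.tt])

/-- every involution of `U` is `M`-conjugate to `t` -/
theorem inner_conj {a : G} (ha : Inner t u a) : ∃ m ∈ M, m * t * m⁻¹ = a := by
  obtain ⟨r, hr, hru⟩ := h.rot
  rcases ha with rfl | rfl | rfl
  · exact ⟨1, M.one_mem, by group⟩
  · exact ⟨r, hr, hru⟩
  · refine ⟨s * r, M.mul_mem h.s_mem hr, ?_⟩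
    rw [← h.su, ← hru]
    group

/-- an element carrying an inner involution to an inner involution lies in `M` -/
theorem mem_of_inner {x a b : G} (ha : Inner t u a) (hb : Inner t u b) (hx : x * a * x⁻¹ = b) : x ∈ M := by
  obtain ⟨m, hm, hma⟩ := h.inner_conj ha
  obtain ⟨n, hn, hnb⟩ := h.inner_conj hb
  have hc : n⁻¹ * x * m ∈ M := h.cent_le (Subgroup.mem_centralizer_singleton_iff.2 (commute_of_conj (by
    calc n⁻¹ * x * m * t * (n⁻¹ * x * m)⁻¹ = n⁻¹ * (x * (m * t * m⁻¹) * x⁻¹) * n := by group
      _ = n⁻¹ * (n * t * n⁻¹) * n := by rw [hma, hx, hnb]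
      _ = t := by group)).eq)
  have := M.mul_mem (M.mul_mem hn hc) (M.inv_mem hm)
  simpa [mul_assoc] using this

theorem e_mem {e : G} (he : e ∈ E) : e ∈ M :=
  h.cent_le (Subgroup.mem_centralizer_singleton_iff.2 (h.E_t e he).eq)

theorem e_inner {e a : G} (he : e ∈ E) (ha : Inner t u a) : Commute e a := by
  rcases ha with rfl | rfl | rfl
  · exact h.E_t e he
  · exact h.E_u e he
  · exact (h.E_t e he).mul_right (h.E_u e he)

theorem e_odd {e : G} (he : e ∈ E) : Odd (orderOf e) :=
  h.E_odd.of_dvd_nat (Subgroup.orderOf_dvd_natCard E he)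

theorem cent_U {g : G} (hg : ∀ a, Inner t u a → Commute g a) :
    ∃ v, (v = 1 ∨ Inner t u v) ∧ ∃ e ∈ E, g = v * e :=
  h.cu g (hg t (Or.inl rfl)) (hg u (Or.inr (Or.inl rfl)))

/-- an element centralising two different involutions of `U` centralises all of `U` -/
theorem commute_all {g a b : G} (ha : Inner t u a) (hb : Inner t u b) (hab : a ≠ b) (h1 : Commute g a)
    (h2 : Commute g b) {c : G} (hc : Inner t u c) : Commute g c := by
  have htu : t * (t * u) = u := by rw [← mul_assoc, h.tt, one_mul]
  have hut : u * (t * u) = t := by rw [h.tu.eq, ← mul_assoc, h.uu, one_mul]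
  rcases ha with rfl | rfl | rfl <;> rcases hb with rfl | rfl | rfl <;> rcases hc with rfl | rfl | rfl <;>
    first
      | exact absurd rfl hab
      | exact h1
      | exact h2
      | exact h1.mul_right h2
      | exact h2.mul_right h1
      | (have := h1.mul_right h2; rwa [htu] at this)
      | (have := h2.mul_right h1; rwa [htu] at this)
      | (have := h1.mul_right h2; rwa [hut] at this)
      | (have := h2.mul_right h1; rwa [hut] at this)

/-- an element of odd order of `M` centralising `U` lies in `E` -/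
theorem mem_E_of_odd {g : G} (hodd : Odd (orderOf g)) (hg : ∀ a, Inner t u a → Commute g a) : g ∈ E := by
  obtain ⟨v, hv, e, he, rfl⟩ := h.cent_U hg
  rcases hv with rfl | hv
  · simpa using he
  exfalso
  refine h.inner_ne_one hv (eq_one_of_sq_odd ?_ (h.inner_sq hv))
  have hc : Commute v e := (h.e_inner he hv).symm
  refine hodd.of_dvd_nat ?_
  have hp : (v * e) ^ orderOf (v * e) = 1 := pow_orderOf_eq_one _
  rw [hc.mul_pow] at hp
  have hev : e ^ (2 * orderOf (v * e)) = 1 := by
    have := congrArg (· ^ 2) hp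
    rw [show ((v ^ orderOf (v * e) * e ^ orderOf (v * e)) ^ 2) =
      (v ^ orderOf (v * e)) ^ 2 * (e ^ orderOf (v * e)) ^ 2 from (hc.pow_pow _ _).mul_pow 2] at this
    rwa [← pow_mul, ← pow_mul, mul_comm _ 2, pow_mul v 2, pow_two v, h.inner_sq hv, one_pow, one_mul,
      one_pow] at this
  have he' : e ^ orderOf (v * e) = 1 := by
    have hd := orderOf_dvd_of_pow_eq_one hev
    exact orderOf_dvd_iff_pow_eq_one.1
      ((Nat.coprime_two_right.2 (h.e_odd he)).dvd_of_dvd_mul_left hd)
  rw [he', mul_one] at hp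
  exact orderOf_dvd_of_pow_eq_one hp

/-- the involution of `U` fixed by an element of `M` -/
theorem fixed_of_sq {i : G} (hi : i ∈ M) (hi2 : i * i = 1) : ∃ a, Inner t u a ∧ Commute i a := by
  have hi' : i⁻¹ = i := inv_self hi2
  by_contra hne
  push Not at hne
  have h1 := h.normU i hi t (Or.inl rfl)
  have h2 := h.normU i hi u (Or.inr (Or.inl rfl))
  have hback : ∀ a b : G, i * a * i⁻¹ = b → i * b * i⁻¹ = a := fun a b e => by
    rw [← e, hi']
    calc i * (i * a * i) * i = (i * i) * a * (i * i) := by group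
      _ = a := by rw [hi2]; group
  have hn : ∀ a, Inner t u a → i * a * i⁻¹ ≠ a := fun a ha e => hne a ha (commute_of_conj e)
  have hmul : i * (t * u) * i⁻¹ = (i * t * i⁻¹) * (i * u * i⁻¹) := by group
  rcases h1 with e1 | e1 | e1
  · exact hn t (Or.inl rfl) e1
  · refine hn (t * u) (Or.inr (Or.inr rfl)) ?_
    rw [hmul, e1, hback t u e1, ← h.tu.eq]
  · rcases h2 with e2 | e2 | e2
    · exact absurd (hback u t e2) (fun e3 => by
        rw [e1] at e3
        exact h.t_ne (by simpa using e3))
    · exact hn u (Or.inr (Or.inl rfl)) e2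
    · have := hback u (t * u) e2
      rw [hmul, e1, e2, h.inner_sq (Or.inr (Or.inr rfl))] at this
      exact h.u_ne this.symm

/-- an involution of `M` centralising `U` is inner -/
theorem inner_of_cent {i : G} (hi2 : i * i = 1) (hi1 : i ≠ 1) (hc : ∀ a, Inner t u a → Commute i a) :
    Inner t u i := by
  obtain ⟨v, hv, e, he, rfl⟩ := h.cent_U hc
  have hve : Commute v e := by
    rcases hv with rfl | hv
    · exact Commute.one_left e
    · exact (h.e_inner he hv).symm
  have hvv : v * v = 1 := by
    rcases hv with rfl | hv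
    · exact one_mul 1
    · exact h.inner_sq hv
  have he1 : e = 1 := eq_one_of_sq_odd (h.e_odd he) (by
    rw [hve.symm.mul_mul_mul_comm, hvv, one_mul] at hi2
    exact hi2)
  subst he1
  rw [mul_one] at hi1 ⊢
  exact hv.resolve_left hi1

/-- an outer involution centralises exactly one involution of `U` -/
theorem outer_fixed_unique {i a b : G} (hi : Outer t u M i) (ha : Inner t u a) (hb : Inner t u b)
    (h1 : Commute i a) (h2 : Commute i b) : a = b := by
  by_contra hab
  exact hi.2.2.2 (h.inner_of_cent hi.2.1 hi.2.2.1 fun c hc => h.commute_all ha hb hab h1 h2 hc)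

/-- two elements centralising the same inner involution and no other: their product centralises `U` -/
theorem mul_cent {x y a : G} (hx : x ∈ M) (hy : y ∈ M) (ha : Inner t u a) (hxa : Commute x a)
    (hya : Commute y a) (hxn : ∀ b, Inner t u b → Commute x b → b = a)
    (hyn : ∀ b, Inner t u b → Commute y b → b = a) {c : G} (hc : Inner t u c) : Commute (x * y) c := by
  rcases eq_or_ne c a with rfl | hca
  · exact hxa.mul_left hya
  -- `y` and `x` both interchange the two others
  have key : ∀ z ∈ M, Commute z a → (∀ b, Inner t u b → Commute z b → b = a) →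
      ∀ b, Inner t u b → b ≠ a → z * b * z⁻¹ ≠ b ∧ z * b * z⁻¹ ≠ a := by
    intro z hz hza hzn b hb hba
    refine ⟨fun e => hba (hzn b hb (commute_of_conj e)), fun e => hba ?_⟩
    have e2 := (conj_of_commute hza).symm.trans (congrArg (fun x => z * x * z⁻¹) (rfl : a = a))
    exact mul_left_cancel (mul_right_cancel (e.trans (conj_of_commute hza).symm))
  obtain ⟨hy1, hy2⟩ := key y hy hya hyn c hc hca
  have hd := h.normU y hy c hc
  obtain ⟨hx1, hx2⟩ := key x hx hxa hxn _ hd hy2
  have hxy := h.normU x hx _ hd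
  refine commute_of_conj ?_
  rw [show x * y * c * (x * y)⁻¹ = x * (y * c * y⁻¹) * x⁻¹ by group]
  generalize y * c * y⁻¹ = d at *
  generalize x * d * x⁻¹ = e at *
  rcases ha with rfl | rfl | rfl <;> rcases hc with rfl | rfl | rfl <;> rcases hd with rfl | rfl | rfl <;>
    rcases hxy with rfl | rfl | rfl <;> first | rfl | contradiction

/-- two commuting outer involutions: the same involution of `U` is fixed, and it is their product -/
theorem outer_pair {i j : G} (hi : Outer t u M i) (hj : Outer t u M j) (hij : i ≠ j) (hc : Commute i j) :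
    Inner t u (i * j) := by
  obtain ⟨a, ha, hia⟩ := h.fixed_of_sq hi.1 hi.2.1
  obtain ⟨b, hb, hjb⟩ := h.fixed_of_sq hj.1 hj.2.1
  have hin := fun b hb hb' => h.outer_fixed_unique hi (a := b) hb ha hb' hia
  have hjn := fun c hc hc' => h.outer_fixed_unique hj (a := c) hc hb hc' hjb
  -- `i` fixes the fixed involution of `j`
  have hib : Commute i b := by
    have hb' := h.normU i hi.1 b hb
    refine commute_of_conj (hjn _ hb' ?_)
    have h1 : Commute (i * j * i⁻¹) (i * b * i⁻¹) := by
      simpa using (hjb.map (MulAut.conj i).toMonoidHom)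
    rwa [conj_of_commute hc] at h1
  have hab : b = a := hin b hb hib
  subst hab
  refine h.inner_of_cent ?_ ?_ fun c hc' => h.mul_cent hi.1 hj.1 hb hib hjb hin hjn hc'
  · rw [hc.symm.mul_mul_mul_comm, hi.2.1, hj.2.1, one_mul]
  · intro e
    exact hij (by rw [eq_inv_of_mul_eq_one_left e, inv_self hj.2.1])

/-- every element of `E` gives an inverted element `s e s⁻¹ e⁻¹` -/
theorem outer_s : Outer t u M s := by
  refine ⟨h.s_mem, h.ss, ?_, ?_⟩
  · rintro rfl
    have := h.su
    rw [one_mul, inv_one, mul_one] at this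
    exact h.t_ne (by simpa using this.symm)
  · intro hs
    have := h.su
    rw [conj_of_commute (h.inner_comm hs (Or.inr (Or.inl rfl)))] at this
    exact h.t_ne (by simpa using this.symm)

/-- outer involutions centralising `t` are `s v e` with `v ∈ ⟨t⟩` and `e ∈ J` -/
theorem outer_at_t' {i : G} (hi : Outer t u M i) (hit : Commute i t) :
    ∃ v, (v = 1 ∨ v = t) ∧ ∃ e ∈ E, s * e * s⁻¹ = e⁻¹ ∧ i = s * v * e := by
  have hin := fun b hb hb' => h.outer_fixed_unique hi (a := b) hb h.inner_t hb' hit
  have hsn := fun b hb hb' => h.outer_fixed_unique h.outer_s (a := b) hb h.inner_t hb' h.st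
  obtain ⟨v, hv, e, he, hsi⟩ := h.cent_U fun c hc => h.mul_cent h.s_mem hi.1 h.inner_t h.st hit hsn hin hc
  have hi' : i = s * v * e := by rw [mul_assoc, ← hsi, ← mul_assoc, h.ss, one_mul]
  have hve : Commute v e := by
    rcases hv with rfl | hv
    · exact Commute.one_left e
    · exact (h.e_inner he hv).symm
  have hsq : (s * v * s⁻¹ * v) * (s * e * s⁻¹ * e) = 1 := by
    have h2 := hi.2.1
    rw [hi'] at h2
    have hse : Commute (s * e * s⁻¹) v := by
      rcases hv with rfl | hv
      · exact Commute.one_right _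
      · have := (h.e_inner he (h.normU s h.s_mem v hv)).map (MulAut.conj s).toMonoidHom
        have hs2 : s * (s * v * s⁻¹) * s⁻¹ = v := by
          rw [inv_self h.ss]
          calc s * (s * v * s) * s = (s * s) * v * (s * s) := by group
            _ = v := by rw [h.ss]; group
        simpa [hs2] using this
    rw [← h2, inv_self h.ss]
    rw [inv_self h.ss] at hse
    calc s * v * s * v * (s * e * s * e) = s * v * s * (v * (s * e * s)) * e := by group
      _ = s * v * s * ((s * e * s) * v) * e := by rw [hse.eq]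
      _ = s * v * (s * s) * e * s * (v * e) := by group
      _ = s * v * e * (s * v * e) := by rw [h.ss]; group
  -- separate the two parts
  have hsv : s * v * s⁻¹ * v = 1 ∨ Inner t u (s * v * s⁻¹ * v) := by
    rcases hv with rfl | hv
    · left; group
    rcases eq_or_ne (s * v * s⁻¹ * v) 1 with e | hne
    · exact Or.inl e
    · right
      refine h.inner_of_cent ?_ hne fun c hc =>
        (h.inner_comm (h.normU s h.s_mem v hv) hc).mul_left (h.inner_comm hv hc)
      rw [(h.inner_comm (h.normU s h.s_mem v hv) hv).symm.mul_mul_mul_comm,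
        h.inner_sq (h.normU s h.s_mem v hv), h.inner_sq hv, one_mul]
  have hses : s * e * s⁻¹ ∈ E := by
    refine h.mem_E_of_odd ?_ fun c hc => ?_
    · have : orderOf (s * e * s⁻¹) = orderOf e := by
        simpa using orderOf_injective (MulAut.conj s).toMonoidHom (MulAut.conj s).injective e
      rw [this]; exact h.e_odd he
    · have hc' := h.normU s h.s_mem c hc
      have := (h.e_inner he hc').map (MulAut.conj s).toMonoidHom
      have hs2 : s * (s * c * s⁻¹) * s⁻¹ = c := by
        rw [inv_self h.ss]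
        calc s * (s * c * s) * s = (s * s) * c * (s * s) := by group
          _ = c := by rw [h.ss]; group
      simpa [hs2] using this
  have hprod : s * e * s⁻¹ * e = 1 ∧ s * v * s⁻¹ * v = 1 := by
    rcases hsv with e1 | hin'
    · rw [e1, one_mul] at hsq
      exact ⟨hsq, e1⟩
    · exfalso
      have hEm : s * v * s⁻¹ * v ∈ E := by
        rw [eq_inv_of_mul_eq_one_left hsq]
        exact E.inv_mem (E.mul_mem hses he)
      exact h.inner_ne_one hin' (eq_one_of_sq_odd (h.e_odd hEm) (h.inner_sq hin'))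
  refine ⟨v, ?_, e, he, eq_inv_of_mul_eq_one_left hprod.1, hi'⟩
  rcases hv with rfl | hv
  · exact Or.inl rfl
  · refine Or.inr (h.outer_fixed_unique h.outer_s hv h.inner_t (commute_of_conj ?_) h.st)
    rw [eq_inv_of_mul_eq_one_left hprod.2, inv_self (h.inner_sq hv)]

/-- an outer involution inverts a normal subgroup of `M` inside `E` inverted by `s` -/
theorem outer_inverts_of {W : Subgroup G} (hWE : W ≤ E) (hW : ∀ w ∈ W, s * w * s⁻¹ = w⁻¹)
    (hWn : ∀ m ∈ M, ∀ w ∈ W, m * w * m⁻¹ ∈ W) {i : G} (hi : Outer t u M i) {e : G} (he : e ∈ W) :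
    i * e * i⁻¹ = e⁻¹ := by
  obtain ⟨a, ha, hia⟩ := h.fixed_of_sq hi.1 hi.2.1
  obtain ⟨m, hm, hma⟩ := h.inner_conj ha
  have hj : Outer t u M (m⁻¹ * i * m) := by
    refine ⟨M.mul_mem (M.mul_mem (M.inv_mem hm) hi.1) hm, ?_, fun e => hi.2.2.1 ?_, fun hI => hi.2.2.2 ?_⟩
    · calc m⁻¹ * i * m * (m⁻¹ * i * m) = m⁻¹ * (i * i) * m := by group
        _ = 1 := by rw [hi.2.1]; group
    · calc i = m * (m⁻¹ * i * m) * m⁻¹ := by group
        _ = 1 := by rw [e]; group
    · have := h.normU m hm _ hI
      simpa [mul_assoc] using this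
  have hjt : Commute (m⁻¹ * i * m) t := by
    refine commute_of_conj ?_
    calc m⁻¹ * i * m * t * (m⁻¹ * i * m)⁻¹ = m⁻¹ * (i * (m * t * m⁻¹) * i⁻¹) * m := by group
      _ = t := by rw [hma, conj_of_commute hia, ← hma]; group
  obtain ⟨v, hv, d, hd, hdinv, hjd⟩ := h.outer_at_t' hj hjt
  -- `d` and `v` centralise `W`
  have hgen : ∀ y ∈ W, (m⁻¹ * i * m) * y * (m⁻¹ * i * m)⁻¹ = y⁻¹ := by
    intro y hy
    have hvy : Commute v y := by
      rcases hv with rfl | rfl
      · exact Commute.one_left y
      · exact (h.E_t y (hWE hy)).symm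
    have hdy : Commute d y := by
      have hz : d * y * d⁻¹ ∈ W := hWn d (h.cent_le (Subgroup.mem_centralizer_singleton_iff.2 (h.E_t d hd).eq)) y hy
      have h1 := hW _ hz
      have h2 : s * (d * y * d⁻¹) * s⁻¹ = (s * d * s⁻¹) * (s * y * s⁻¹) * (s * d * s⁻¹)⁻¹ := by group
      rw [h2, hdinv, hW y hy, inv_inv] at h1
      obtain ⟨k, hk⟩ := h.e_odd hd
      have e2 : Commute (d * d) y := commute_of_conj (by
        calc d * d * y * (d * d)⁻¹ = d * (d * y⁻¹ * d⁻¹)⁻¹ * d⁻¹ := by group
          _ = d * (d⁻¹ * y⁻¹ * d)⁻¹ * d⁻¹ := by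
            rw [show d * y⁻¹ * d⁻¹ = (d * y * d⁻¹)⁻¹ by group, ← h1]
          _ = y := by group)
      have e3 : (d * d) ^ (k + 1) = d := by
        rw [← pow_two, ← pow_mul, show 2 * (k + 1) = orderOf d + 1 by omega, pow_succ, pow_orderOf_eq_one,
          one_mul]
      have := e2.pow_left (k + 1)
      rwa [e3] at this
    rw [hjd]
    calc s * v * d * y * (s * v * d)⁻¹ = s * (v * (d * y * d⁻¹) * v⁻¹) * s⁻¹ := by group
      _ = s * y * s⁻¹ := by rw [conj_of_commute hdy, conj_of_commute hvy]
      _ = y⁻¹ := hW y hy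
  have hy : m⁻¹ * e * m ∈ W := by
    have := hWn m⁻¹ (M.inv_mem hm) e he
    simpa using this
  calc i * e * i⁻¹ = m * ((m⁻¹ * i * m) * (m⁻¹ * e * m) * (m⁻¹ * i * m)⁻¹) * m⁻¹ := by group
    _ = m * (m⁻¹ * e * m)⁻¹ * m⁻¹ := by rw [hgen _ hy]
    _ = e⁻¹ := by group

end FourCore

namespace FourEight

variable (h : FourEight t u s M E J)
include h

theorem outer_at_t {i : G} (hi : Outer t u M i) (hit : Commute i t) :
    ∃ v, (v = 1 ∨ v = t) ∧ ∃ e ∈ J, i = s * v * e := by
  obtain ⟨v, hv, e, he, hinv, hi'⟩ := h.outer_at_t' hi hit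
  exact ⟨v, hv, e, (h.J_inv e he).1 hinv, hi'⟩

/-- an outer involution inverts `J` -/
theorem outer_inverts {i : G} (hi : Outer t u M i) {e : G} (he : e ∈ J) : i * e * i⁻¹ = e⁻¹ :=
  h.outer_inverts_of h.J_le (fun w hw => (h.J_inv w (h.J_le hw)).2 hw)
    (fun m hm w hw => (Subgroup.mem_normalizer_iff.1 (h.J_norm hm) w).1 hw) hi he

end FourEight

end Cfsg.Agent.GW
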