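import Cfsg.Agent.Lib.GW.FourEightFix

/-!
# Orders of the centralisers and the incidence count for `M = N(U)`

For the configuration `FourEight` with `f = |J|`: `|M| = 3 |C(t)|`, `M` has `3 + 6 f` involutions, every
involution fixes `1 + 2 f` cosets of `M`, and `4 f^2 + 2 f + 1 ≤ |G : M|` once `f > 3`.
-/

set_option autoImplicit false
set_option linter.unusedSectionVars false
set_option linter.style.haveILetI false

namespace Cfsg.Agent.GW

open Subgroup

universe w

variable {G : Type w} [Group G] [Finite G] {t u s : G} {M E J : Subgroup G}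

theorem mem_cent_pair {g a b : G} :
    g ∈ centralizer ({a, b} : Set G) ↔ Commute g a ∧ Commute g b := by
  rw [mem_centralizer_iff]
  constructor
  · intro h
    exact ⟨(h a (by simp)).symm, (h b (by simp)).symm⟩
  · rintro ⟨h1, h2⟩ x (rfl | rfl)
    · exact h1.eq.symm
    · exact h2.eq.symm

theorem mem_cent_one {g a : G} : g ∈ centralizer ({a} : Set G) ↔ Commute g a :=
  mem_centralizer_singleton_iff

/-- `1` or `a` -/
def bsel (a : G) (b : Bool) : G := if b then a else 1

namespace FourCore

variable (h : FourCore t u s M E)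
include h

theorem card_inner : Nat.card {a : G // Inner t u a} = 3 := by
  let ψ : Fin 3 → {a : G // Inner t u a} :=
    ![⟨t, h.inner_t⟩, ⟨u, Or.inr (Or.inl rfl)⟩, ⟨t * u, Or.inr (Or.inr rfl)⟩]
  have hψ : Function.Bijective ψ := by
    have d1 : t ≠ u := Ne.symm h.ut_ne
    have d2 : t ≠ t * u := fun e => h.u_ne (by simpa using e.symm)
    have d3 : u ≠ t * u := fun e => h.t_ne (by simpa using e.symm)
    constructor
    · intro i j hij
      have e := congrArg Subtype.val hij
      fin_cases i <;> fin_cases j <;> first | rfl | (simp [ψ] at e; simp_all)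
    · rintro ⟨a, ha | ha | ha⟩
      · exact ⟨0, Subtype.ext ha.symm⟩
      · exact ⟨1, Subtype.ext ha.symm⟩
      · exact ⟨2, Subtype.ext ha.symm⟩
  rw [← Nat.card_eq_of_bijective ψ hψ]
  simp

theorem conj_E {m e : G} (hm : m ∈ M) (he : e ∈ E) : m * e * m⁻¹ ∈ E := by
  refine h.mem_E_of_odd ?_ fun a ha => ?_
  · rw [orderOf_conj_eq]; exact h.e_odd he
  · have := commute_conj m (h.e_inner he (h.normU _ (M.inv_mem hm) a ha))
    rwa [show m * (m⁻¹ * a * m⁻¹⁻¹) * m⁻¹ = a by group] at this

/-- `C(U) = U × E`: uniqueness of the two parts -/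
theorem decomp_unique {v v' e e' : G} (hv : v = 1 ∨ Inner t u v) (hv' : v' = 1 ∨ Inner t u v') (he : e ∈ E)
    (he' : e' ∈ E) (h1 : v * e = v' * e') : v = v' ∧ e = e' := by
  have hsq : ∀ {x : G}, (x = 1 ∨ Inner t u x) → x * x = 1 := by
    rintro x (rfl | hx)
    · exact one_mul 1
    · exact h.inner_sq hx
  have hcm : Commute v v' := by
    rcases hv with rfl | hv
    · exact Commute.one_left _
    rcases hv' with rfl | hv'
    · exact Commute.one_right _
    exact h.inner_comm hv hv'
  have e1 : v' * v = e' * e⁻¹ := by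
    rw [eq_mul_inv_iff_mul_eq, mul_assoc, h1, ← mul_assoc, hsq hv', one_mul]
  have hE : v' * v ∈ E := e1 ▸ E.mul_mem he' (E.inv_mem he)
  have h2 : v' * v * (v' * v) = 1 := by rw [hcm.mul_mul_mul_comm, hsq hv', hsq hv, one_mul]
  have h3 := eq_one_of_sq_odd (h.e_odd hE) h2
  have hvv : v = v' := by rw [eq_inv_of_mul_eq_one_right h3, inv_self (hsq hv')]
  subst hvv
  exact ⟨rfl, mul_left_cancel h1⟩

theorem sel_inner (b c : Bool) : bsel t b * bsel u c = 1 ∨ Inner t u (bsel t b * bsel u c) := by
  cases b <;> cases c <;> simp [bsel, Inner]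

theorem sel_inj {b c b' c' : Bool} (e : bsel t b * bsel u c = bsel t b' * bsel u c') : b = b' ∧ c = c' := by
  have d1 : t ≠ u := Ne.symm h.ut_ne
  have d2 : t ≠ t * u := fun e => h.u_ne (by simpa using e.symm)
  have d3 : u ≠ t * u := fun e => h.t_ne (by simpa using e.symm)
  have d4 : t * u ≠ 1 := h.inner_ne_one (Or.inr (Or.inr rfl))
  have d5 := h.t_ne
  have d6 := h.u_ne
  cases b <;> cases c <;> cases b' <;> cases c' <;> simp_all [bsel, eq_comm]

theorem card_cent_U : Nat.card (centralizer ({t, u} : Set G)) = 4 * Nat.card E := by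
  let φ : Bool × Bool × E → centralizer ({t, u} : Set G) := fun p =>
    ⟨bsel t p.1 * bsel u p.2.1 * (p.2.2 : G), mem_cent_pair.2 (by
      have ha : ∀ a, Inner t u a → Commute (bsel t p.1 * bsel u p.2.1 * (p.2.2 : G)) a := by
        intro a ha
        refine Commute.mul_left ?_ (h.e_inner p.2.2.2 ha)
        rcases h.sel_inner p.1 p.2.1 with e | e
        · rw [e]; exact Commute.one_left a
        · exact h.inner_comm e ha
      exact ⟨ha t h.inner_t, ha u (Or.inr (Or.inl rfl))⟩)⟩
  have hφ : Function.Bijective φ := by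
    constructor
    · rintro ⟨b, c, e⟩ ⟨b', c', e'⟩ he
      have := h.decomp_unique (h.sel_inner b c) (h.sel_inner b' c') e.2 e'.2 (congrArg Subtype.val he)
      obtain ⟨rfl, rfl⟩ := h.sel_inj this.1
      obtain rfl := Subtype.ext this.2
      rfl
    · rintro ⟨g, hg⟩
      obtain ⟨hgt, hgu⟩ := mem_cent_pair.1 hg
      obtain ⟨v, hv, e, he, rfl⟩ := h.cu g hgt hgu
      rcases hv with rfl | rfl | rfl | rfl
      · exact ⟨⟨false, false, e, he⟩, Subtype.ext (by simp [φ, bsel])⟩
      · exact ⟨⟨true, false, e, he⟩, Subtype.ext (by simp [φ, bsel])⟩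
      · exact ⟨⟨false, true, e, he⟩, Subtype.ext (by simp [φ, bsel])⟩
      · exact ⟨⟨true, true, e, he⟩, Subtype.ext (by simp [φ, bsel])⟩
  rw [← Nat.card_eq_of_bijective φ hφ]
  simp
  ring

/-- an element of `C(t)` not centralising `u` centralises only `t` among the inner involutions -/
theorem only_t {g : G} (hgt : Commute g t) (hgu : ¬ Commute g u) {b : G} (hb : Inner t u b)
    (hgb : Commute g b) : b = t := by
  by_contra hne
  exact hgu (h.commute_all hb h.inner_t hne hgb hgt (Or.inr (Or.inl rfl)))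

theorem s_not_u : ¬ Commute s u := fun hc => h.t_ne (by
  have := h.su
  rw [conj_of_commute hc] at this
  simpa using this.symm)

theorem card_cent_t : Nat.card (centralizer ({t} : Set G)) = 8 * Nat.card E := by
  let φ : Bool × centralizer ({t, u} : Set G) → centralizer ({t} : Set G) := fun p =>
    ⟨bsel s p.1 * (p.2 : G), mem_cent_one.2 (by
      refine Commute.mul_left ?_ (mem_cent_pair.1 p.2.2).1
      cases p.1 <;> simp [bsel, h.st, Commute.one_left])⟩
  have hφ : Function.Bijective φ := by
    constructor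
    · rintro ⟨a, g⟩ ⟨a', g'⟩ he
      have e : bsel s a * (g : G) = bsel s a' * (g' : G) := congrArg Subtype.val he
      have hg := (mem_cent_pair.1 g.2).2
      have hg' := (mem_cent_pair.1 g'.2).2
      cases a <;> cases a'
      · simp only [bsel, Bool.false_eq_true, if_false, one_mul] at e
        rw [Subtype.ext e]
      · exfalso
        simp only [bsel, Bool.false_eq_true, if_false, if_true, one_mul] at e
        rw [e] at hg
        have := hg.mul_left (hg'.inv_left)
        rw [mul_assoc, mul_inv_cancel, mul_one] at this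
        exact h.s_not_u this
      · exfalso
        simp only [bsel, Bool.false_eq_true, if_false, if_true, one_mul] at e
        rw [← e] at hg'
        have := hg'.mul_left (hg.inv_left)
        rw [mul_assoc, mul_inv_cancel, mul_one] at this
        exact h.s_not_u this
      · simp only [bsel, if_true, mul_right_inj] at e
        rw [Subtype.ext e]
    · rintro ⟨g, hg⟩
      have hgt := mem_cent_one.1 hg
      by_cases hgu : Commute g u
      · exact ⟨⟨false, g, mem_cent_pair.2 ⟨hgt, hgu⟩⟩, Subtype.ext (by simp [φ, bsel])⟩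
      · have hgM := h.cent_le hg
        have hc := h.mul_cent (x := s) h.s_mem hgM h.inner_t h.st hgt
          (fun b hb hb' => h.only_t h.st h.s_not_u hb hb') (fun b hb hb' => h.only_t hgt hgu hb hb')
          (c := u) (Or.inr (Or.inl rfl))
        exact ⟨⟨true, s * g, mem_cent_pair.2 ⟨h.st.mul_left hgt, hc⟩⟩,
          Subtype.ext (by simp [φ, bsel, ← mul_assoc, h.ss])⟩
  rw [← Nat.card_eq_of_bijective φ hφ, Nat.card_prod, h.card_cent_U]
  simp
  ring

/-- a representative carrying `t` to an inner involution -/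
noncomputable def rep (a : {a : G // Inner t u a}) : G := (h.inner_conj a.2).choose

theorem rep_mem (a : {a : G // Inner t u a}) : h.rep a ∈ M := (h.inner_conj a.2).choose_spec.1

theorem rep_spec (a : {a : G // Inner t u a}) : h.rep a * t * (h.rep a)⁻¹ = (a : G) :=
  (h.inner_conj a.2).choose_spec.2

theorem card_M : Nat.card M = 3 * Nat.card (centralizer ({t} : Set G)) := by
  let φ : {a : G // Inner t u a} × centralizer ({t} : Set G) → M := fun p =>
    ⟨h.rep p.1 * (p.2 : G), M.mul_mem (h.rep_mem _) (h.cent_le p.2.2)⟩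
  have hφ : Function.Bijective φ := by
    constructor
    · rintro ⟨a, c⟩ ⟨a', c'⟩ he
      have e : h.rep a * (c : G) = h.rep a' * (c' : G) := congrArg Subtype.val he
      have ha : ∀ (a : {a : G // Inner t u a}) (c : centralizer ({t} : Set G)),
          h.rep a * (c : G) * t * (h.rep a * (c : G))⁻¹ = (a : G) := by
        intro a c
        rw [show h.rep a * (c : G) * t * (h.rep a * (c : G))⁻¹ =
          h.rep a * ((c : G) * t * (c : G)⁻¹) * (h.rep a)⁻¹ by group,
          conj_of_commute (mem_cent_one.1 c.2), h.rep_spec]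
      obtain rfl : a = a' := Subtype.ext (by rw [← ha a c, e, ha])
      obtain rfl : c = c' := Subtype.ext (mul_left_cancel e)
      rfl
    · rintro ⟨m, hm⟩
      obtain ⟨a, ha⟩ : ∃ a : {a : G // Inner t u a}, (a : G) = m * t * m⁻¹ :=
        ⟨⟨_, h.normU m hm t h.inner_t⟩, rfl⟩
      refine ⟨⟨a, (h.rep a)⁻¹ * m, mem_cent_one.2 (commute_of_conj ?_)⟩, Subtype.ext (by simp [φ])⟩
      calc (h.rep a)⁻¹ * m * t * ((h.rep a)⁻¹ * m)⁻¹ = (h.rep a)⁻¹ * (m * t * m⁻¹) * h.rep a := by group
        _ = t := by rw [← ha, ← h.rep_spec a]; group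
  rw [← Nat.card_eq_of_bijective φ hφ, Nat.card_prod, h.card_inner]

theorem card_cent_ts :
    Nat.card (centralizer ({t, t * s} : Set G)) = 4 * Nat.card (E ⊓ centralizer ({s} : Set G) : Subgroup G) := by
  have hmem : ∀ {g : G}, g ∈ centralizer ({t, t * s} : Set G) ↔ Commute g t ∧ Commute g s := by
    intro g
    rw [mem_cent_pair]
    refine ⟨fun ⟨h1, h2⟩ => ⟨h1, ?_⟩, fun ⟨h1, h2⟩ => ⟨h1, h1.mul_right h2⟩⟩
    have := h1.mul_right h2
    rwa [← mul_assoc, h.tt, one_mul] at this
  let φ : Bool × Bool × (E ⊓ centralizer ({s} : Set G) : Subgroup G) → centralizer ({t, t * s} : Set G) :=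
    fun p => ⟨bsel s p.1 * bsel t p.2.1 * (p.2.2 : G), hmem.2 (by
      obtain ⟨hcE, hcs⟩ := mem_inf.1 p.2.2.2
      constructor
      · refine Commute.mul_left (Commute.mul_left ?_ ?_) (h.E_t _ hcE)
        · cases p.1 <;> simp [bsel, h.st, Commute.one_left]
        · cases p.2.1 <;> simp [bsel, Commute.one_left]
      · refine Commute.mul_left (Commute.mul_left ?_ ?_) (mem_cent_one.1 hcs)
        · cases p.1 <;> simp [bsel, Commute.one_left]
        · cases p.2.1 <;> simp [bsel, h.st.symm, Commute.one_left])⟩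
  have hφ : Function.Bijective φ := by
    have huc : ∀ (b : Bool) {c : G}, c ∈ E → Commute (bsel t b * c) u := by
      intro b c hc
      refine Commute.mul_left ?_ (h.E_u c hc)
      cases b <;> simp [bsel, h.tu, Commute.one_left]
    constructor
    · rintro ⟨a, b, c⟩ ⟨a', b', c'⟩ he
      have e : bsel s a * bsel t b * (c : G) = bsel s a' * bsel t b' * (c' : G) := congrArg Subtype.val he
      rw [mul_assoc, mul_assoc] at e
      have hc := huc b (mem_inf.1 c.2).1
      have hc' := huc b' (mem_inf.1 c'.2).1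
      have haa : a = a' := by
        cases a <;> cases a' <;> first | rfl | exfalso
        · simp only [bsel, Bool.false_eq_true, if_false, if_true, one_mul] at e hc hc'
          rw [e] at hc
          have := hc.mul_left hc'.inv_left
          rw [mul_assoc, mul_inv_cancel, mul_one] at this
          exact h.s_not_u this
        · simp only [bsel, Bool.false_eq_true, if_false, if_true, one_mul] at e hc hc'
          rw [← e] at hc'
          have := hc'.mul_left hc.inv_left
          rw [mul_assoc, mul_inv_cancel, mul_one] at this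
          exact h.s_not_u this
      subst haa
      have e' := mul_left_cancel e
      have hs := h.sel_inner b false
      have hs' := h.sel_inner b' false
      simp only [bsel, Bool.false_eq_true, if_false, mul_one] at hs hs'
      obtain ⟨e1, e2⟩ := h.decomp_unique hs hs' (mem_inf.1 c.2).1 (mem_inf.1 c'.2).1 e'
      obtain ⟨rfl, -⟩ := h.sel_inj (b := b) (c := false) (b' := b') (c' := false) (by simp [bsel] at e1 ⊢; exact e1)
      obtain rfl := Subtype.ext e2
      rfl
    · rintro ⟨g, hg⟩
      obtain ⟨hgt, hgs⟩ := hmem.1 hg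
      -- the case centralising `u`
      have key : ∀ g : G, Commute g t → Commute g s → Commute g u →
          ∃ b : Bool, ∃ c : (E ⊓ centralizer ({s} : Set G) : Subgroup G), g = bsel t b * (c : G) := by
        intro g hgt hgs hgu
        obtain ⟨v, hv, e, he, rfl⟩ := h.cu g hgt hgu
        have hv' : s * v * s⁻¹ = 1 ∨ Inner t u (s * v * s⁻¹) := by
          rcases hv with rfl | hv
          · left; group
          · exact Or.inr (h.normU s h.s_mem v hv)
        have hdec := h.decomp_unique hv' hv (h.conj_E h.s_mem he) he (by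
          rw [show s * v * s⁻¹ * (s * e * s⁻¹) = s * (v * e) * s⁻¹ by group, conj_of_commute hgs.symm])
        refine ?_
        have hc : e ∈ E ⊓ centralizer ({s} : Set G) :=
          mem_inf.2 ⟨he, mem_cent_one.2 (commute_of_conj hdec.2).symm⟩
        rcases hv with rfl | hv
        · exact ⟨false, ⟨e, hc⟩, by simp [bsel]⟩
        · have := h.outer_fixed_unique h.outer_s hv h.inner_t (commute_of_conj hdec.1) h.st
          exact ⟨true, ⟨e, hc⟩, by simp [bsel, this]⟩
      by_cases hgu : Commute g u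
      · obtain ⟨b, c, rfl⟩ := key g hgt hgs hgu
        exact ⟨⟨false, b, c⟩, Subtype.ext (by simp [φ, bsel])⟩
      · have hgM := h.cent_le (mem_cent_one.2 hgt)
        have hc := h.mul_cent (x := s) h.s_mem hgM h.inner_t h.st hgt
          (fun b hb hb' => h.only_t h.st h.s_not_u hb hb') (fun b hb hb' => h.only_t hgt hgu hb hb')
          (c := u) (Or.inr (Or.inl rfl))
        obtain ⟨b, c, hbc⟩ := key (s * g) (h.st.mul_left hgt) ((Commute.refl s).mul_left hgs) hc
        refine ⟨⟨true, b, c⟩, Subtype.ext ?_⟩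
        simp only [φ, bsel, if_true]
        rw [mul_assoc]
        simp only [bsel] at hbc
        rw [← hbc, ← mul_assoc, h.ss, one_mul]
  rw [← Nat.card_eq_of_bijective φ hφ]
  simp
  ring

end FourCore

namespace FourEight

variable (h : FourEight t u s M E J)
include h

theorem card_JK : Nat.card J * Nat.card (E ⊓ centralizer ({s} : Set G) : Subgroup G) = Nat.card E := by
  let φ : J × (E ⊓ centralizer ({s} : Set G) : Subgroup G) → E := fun p =>
    ⟨(p.1 : G) * (p.2 : G), E.mul_mem (h.J_le p.1.2) (mem_inf.1 p.2.2).1⟩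
  have hφ : Function.Bijective φ := by
    constructor
    · rintro ⟨j, c⟩ ⟨j', c'⟩ he
      have e : (j : G) * c = (j' : G) * c' := congrArg Subtype.val he
      have hz : (j' : G)⁻¹ * j = (c' : G) * (c : G)⁻¹ := by
        rw [eq_mul_inv_iff_mul_eq, mul_assoc, e, inv_mul_cancel_left]
      have hzJ : (j' : G)⁻¹ * j ∈ J := J.mul_mem (J.inv_mem j'.2) j.2
      have h1 := (h.J_inv _ (h.J_le hzJ)).2 hzJ
      have h2 : s * ((j' : G)⁻¹ * j) * s⁻¹ = (j' : G)⁻¹ * j := by
        rw [hz]
        exact conj_of_commute ((mem_cent_one.1 (mem_inf.1 c'.2).2).symm.mul_right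
          (mem_cent_one.1 (mem_inf.1 c.2).2).symm.inv_right)
      have h3 := eq_one_of_eq_inv (h.e_odd (h.J_le hzJ)) (h2.symm.trans h1)
      obtain rfl : j' = j := Subtype.ext (eq_of_inv_mul_eq_one h3)
      obtain rfl : c = c' := Subtype.ext (mul_left_cancel e)
      rfl
    · rintro ⟨e, he⟩
      have hxE : e * (s * e⁻¹ * s⁻¹) ∈ E := E.mul_mem he (h.conj_E h.s_mem (E.inv_mem he))
      have hx : e * (s * e⁻¹ * s⁻¹) ∈ J := (h.J_inv _ hxE).1 (by
        rw [inv_self h.ss]
        calc s * (e * (s * e⁻¹ * s)) * s = s * e * s * e⁻¹ * (s * s) := by group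
          _ = (e * (s * e⁻¹ * s))⁻¹ := by
            rw [h.ss, mul_inv_rev, mul_inv_rev, mul_inv_rev, inv_inv, inv_self h.ss, mul_one]
            group)
      obtain ⟨k, hk⟩ := h.e_odd hxE
      generalize hxdef : e * (s * e⁻¹ * s⁻¹) = x at *
      set j := x ^ (k + 1) with hj
      have hjJ : j ∈ J := J.pow_mem hx _
      have hj2 : j * j = x := by
        rw [hj, ← pow_add, show k + 1 + (k + 1) = orderOf x + 1 by omega, pow_succ, pow_orderOf_eq_one, one_mul]
      have hsj := (h.J_inv _ (h.J_le hjJ)).2 hjJ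
      refine ⟨⟨⟨j, hjJ⟩, j⁻¹ * e, mem_inf.2 ⟨E.mul_mem (E.inv_mem (h.J_le hjJ)) he,
        mem_cent_one.2 (Commute.symm (commute_of_conj ?_))⟩⟩, Subtype.ext (by simp [φ])⟩
      have hse : s * e * s⁻¹ = (j * j)⁻¹ * e := by
        rw [hj2, ← hxdef]; group
      calc s * (j⁻¹ * e) * s⁻¹ = (s * j * s⁻¹)⁻¹ * (s * e * s⁻¹) := by group
        _ = j⁻¹ * e := by rw [hsj, hse]; group
  rw [← Nat.card_eq_of_bijective φ hφ, Nat.card_prod]

theorem card_outer_t : Nat.card {i : G // Outer t u M i ∧ Commute i t} = 2 * Nat.card J := by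
  have hpre : ∀ (b : Bool) {e : G}, e ∈ J → Outer t u M (s * bsel t b * e) ∧ Commute (s * bsel t b * e) t := by
    intro b e he
    have hb : Commute (bsel t b) t ∧ Commute (bsel t b) e ∧ Commute (bsel t b) s ∧ bsel t b * bsel t b = 1 ∧
        Commute (bsel t b) u := by
      cases b <;> simp [bsel, h.tt, h.tu, h.st.symm, (h.E_t e (h.J_le he)).symm, Commute.one_left]
    have hct : Commute (s * bsel t b * e) t := (h.st.mul_left hb.1).mul_left (h.E_t e (h.J_le he))
    have hnu : ¬ Commute (s * bsel t b * e) u := by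
      intro hc
      have := hc.mul_left ((hb.2.2.2.2.mul_left (h.E_u e (h.J_le he))).inv_left)
      rw [mul_assoc s, mul_assoc, mul_inv_cancel, mul_one] at this
      exact h.s_not_u this
    refine ⟨⟨h.cent_le (mem_cent_one.2 hct), ?_, fun e1 => hnu (e1 ▸ Commute.one_left u),
      fun hI => hnu (h.inner_comm hI (Or.inr (Or.inl rfl)))⟩, hct⟩
    have hsj : s * e * s = e⁻¹ := by
      have := (h.J_inv _ (h.J_le he)).2 he
      rwa [inv_self h.ss] at this
    calc s * bsel t b * e * (s * bsel t b * e) = (s * bsel t b) * e * s * bsel t b * e := by group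
      _ = (bsel t b * s) * e * s * bsel t b * e := by rw [hb.2.2.1.symm.eq]
      _ = bsel t b * (s * e * s) * bsel t b * e := by group
      _ = bsel t b * (e⁻¹ * bsel t b) * e := by rw [hsj]; group
      _ = bsel t b * (bsel t b * e⁻¹) * e := by rw [hb.2.1.inv_right.eq]
      _ = (bsel t b * bsel t b) * (e⁻¹ * e) := by group
      _ = 1 := by rw [hb.2.2.2.1]; group
  let φ : Bool × J → {i : G // Outer t u M i ∧ Commute i t} := fun p =>
    ⟨s * bsel t p.1 * (p.2 : G), hpre p.1 p.2.2⟩
  have hφ : Function.Bijective φ := by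
    constructor
    · rintro ⟨b, e⟩ ⟨b', e'⟩ he
      have e1 : s * bsel t b * (e : G) = s * bsel t b' * (e' : G) := congrArg Subtype.val he
      rw [mul_assoc, mul_assoc] at e1
      have hs := h.sel_inner b false
      have hs' := h.sel_inner b' false
      simp only [bsel, Bool.false_eq_true, if_false, mul_one] at hs hs'
      obtain ⟨e2, e3⟩ := h.decomp_unique hs hs' (h.J_le e.2) (h.J_le e'.2) (mul_left_cancel e1)
      obtain ⟨rfl, -⟩ := h.sel_inj (b := b) (c := false) (b' := b') (c' := false) (by simp [bsel] at e2 ⊢; exact e2)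
      obtain rfl := Subtype.ext e3
      rfl
    · rintro ⟨i, hi, hit⟩
      obtain ⟨v, hv, e, he, rfl⟩ := h.outer_at_t hi hit
      rcases hv with rfl | rfl
      · exact ⟨⟨false, e, he⟩, Subtype.ext (by simp [φ, bsel])⟩
      · exact ⟨⟨true, e, he⟩, Subtype.ext (by simp [φ, bsel])⟩
  rw [← Nat.card_eq_of_bijective φ hφ]
  simp

theorem card_outer : Nat.card {i : G // Outer t u M i} = 6 * Nat.card J := by
  have hconj : ∀ {m i : G}, m ∈ M → Outer t u M i → Outer t u M (m * i * m⁻¹) := by
    intro m i hm hi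
    refine ⟨M.mul_mem (M.mul_mem hm hi.1) (M.inv_mem hm), conj_mul_self hi.2.1, conj_ne_one hi.2.2.1,
      fun hI => hi.2.2.2 ?_⟩
    have := h.normU _ (M.inv_mem hm) _ hI
    simpa [mul_assoc] using this
  let φ : {a : G // Inner t u a} × {i : G // Outer t u M i ∧ Commute i t} → {i : G // Outer t u M i} :=
    fun p => ⟨h.rep p.1 * (p.2 : G) * (h.rep p.1)⁻¹, hconj (h.rep_mem _) p.2.2.1⟩
  have hφ : Function.Bijective φ := by
    constructor
    · rintro ⟨a, i⟩ ⟨a', i'⟩ he
      have e : h.rep a * (i : G) * (h.rep a)⁻¹ = h.rep a' * (i' : G) * (h.rep a')⁻¹ := congrArg Subtype.val he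
      have c1 := commute_conj (h.rep a) i.2.2
      have c2 := commute_conj (h.rep a') i'.2.2
      rw [h.rep_spec] at c1 c2
      rw [← e] at c2
      obtain rfl : a = a' := Subtype.ext (h.outer_fixed_unique (hconj (h.rep_mem _) i.2.1) a.2 a'.2 c1 c2)
      obtain rfl : i = i' := Subtype.ext (mul_left_cancel (mul_right_cancel e))
      rfl
    · rintro ⟨i, hi⟩
      obtain ⟨a, ha, hia⟩ := h.fixed_of_sq hi.1 hi.2.1
      obtain ⟨r, hr⟩ : ∃ r, r = h.rep ⟨a, ha⟩ := ⟨_, rfl⟩
      have h1 := hconj (M.inv_mem (h.rep_mem ⟨a, ha⟩)) hi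
      have h2 := commute_conj (h.rep ⟨a, ha⟩)⁻¹ hia
      have h3 : h.rep ⟨a, ha⟩ * t * (h.rep ⟨a, ha⟩)⁻¹ = a := h.rep_spec ⟨a, ha⟩
      rw [← hr] at h1 h2 h3
      rw [inv_inv] at h1 h2
      rw [← h3, show r⁻¹ * (r * t * r⁻¹) * r = t by group] at h2
      refine ⟨⟨⟨a, ha⟩, _, h1, h2⟩, Subtype.ext ?_⟩
      show h.rep ⟨a, ha⟩ * (r⁻¹ * i * r) * (h.rep ⟨a, ha⟩)⁻¹ = i
      rw [← hr]
      group
  rw [← Nat.card_eq_of_bijective φ hφ, Nat.card_prod, h.card_inner, h.card_outer_t]
  ring

theorem card_invol_M : Nat.card {i : G // i ∈ M ∧ i * i = 1 ∧ i ≠ 1} = 3 + 6 * Nat.card J := by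
  classical
  let φ : {a : G // Inner t u a} ⊕ {i : G // Outer t u M i} → {i : G // i ∈ M ∧ i * i = 1 ∧ i ≠ 1} := fun p =>
    match p with
    | Sum.inl a => ⟨a, h.inner_mem a.2, h.inner_sq a.2, h.inner_ne_one a.2⟩
    | Sum.inr i => ⟨i, i.2.1, i.2.2.1, i.2.2.2.1⟩
  have hφ : Function.Bijective φ := by
    constructor
    · rintro (a | a) (b | b) he
      · have e := congrArg Subtype.val he
        have e' : (a : G) = b := e
        rw [Subtype.ext e']
      · have e := congrArg Subtype.val he
        have e' : (a : G) = b := e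
        exact absurd (e' ▸ a.2) b.2.2.2.2
      · have e := congrArg Subtype.val he
        have e' : (a : G) = b := e
        exact absurd (e'.symm ▸ b.2) a.2.2.2.2
      · have e := congrArg Subtype.val he
        have e' : (a : G) = b := e
        rw [Subtype.ext e']
    · rintro ⟨i, h1, h2, h3⟩
      by_cases hI : Inner t u i
      · exact ⟨Sum.inl ⟨i, hI⟩, rfl⟩
      · exact ⟨Sum.inr ⟨i, h1, h2, h3, hI⟩, rfl⟩
  rw [← Nat.card_eq_of_bijective φ hφ, Nat.card_sum, h.card_inner, h.card_outer]

end FourEight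

end Cfsg.Agent.GW
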