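import Cfsg.Agent.Lib.Small.SimpleOrderTools

/-!
# No centraliser of an element of order three has index dividing fifteen here

A simple group with a Sylow `2`-subgroup of order eight, a cyclic subgroup of order four squaring to `t`, no element
of order seven in `C(t)` and a Sylow `7`-subgroup of order seven inside `C(z)`, `z` of order three: then the
index of `C(z)` does not divide fifteen.
-/

set_option autoImplicit false
set_option linter.unusedSectionVars false
set_option linter.style.haveILetI false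

namespace Cfsg.Agent.GW

open Subgroup

universe w

variable {G : Type w} [Group G] [Finite G]

/-- in a subgroup with Sylow `7`-subgroups of order seven: an element of order seven is conjugate into another's
span -/
theorem exists_conj_seven {L : Subgroup G} (h49 : ¬ 49 ∣ Nat.card G) {x y : G} (hx : x ∈ L) (hy : y ∈ L)
    (hxo : orderOf x = 7) (hyo : orderOf y = 7) : ∃ l ∈ L, l * y * l⁻¹ ∈ zpowers x := by
  haveI : Fact (Nat.Prime 7) := ⟨by norm_num⟩
  have hfac : (Nat.card L).factorization 7 = 1 := by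
    have h1 : 7 ∣ Nat.card L := hxo ▸ Subgroup.orderOf_dvd_natCard L hx
    have h2 : ¬ 7 ^ 2 ∣ Nat.card L := fun hd => h49 (by
      simpa using hd.trans L.card_subgroup_dvd_card)
    have h3 := (Nat.Prime.dvd_iff_one_le_factorization (by norm_num) Nat.card_pos.ne').1 h1
    have h4 : ¬ 2 ≤ (Nat.card L).factorization 7 := fun hle =>
      h2 ((Nat.Prime.pow_dvd_iff_le_factorization (by norm_num) Nat.card_pos.ne').2 hle)
    omega
  let Sx : Sylow 7 L := Sylow.ofCard (zpowers (⟨x, hx⟩ : L))
    (by rw [Nat.card_zpowers, Subgroup.orderOf_mk, hxo, hfac, pow_one])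
  let Sy : Sylow 7 L := Sylow.ofCard (zpowers (⟨y, hy⟩ : L))
    (by rw [Nat.card_zpowers, Subgroup.orderOf_mk, hyo, hfac, pow_one])
  obtain ⟨l, hl⟩ := MulAction.exists_smul_eq L Sy Sx
  refine ⟨l, l.2, ?_⟩
  have h5 : l * ⟨y, hy⟩ * l⁻¹ ∈ (Sx : Subgroup L) := by
    rw [← hl, Sylow.coe_subgroup_smul]
    exact ⟨⟨y, hy⟩, mem_zpowers _, rfl⟩
  obtain ⟨i, hi⟩ := h5
  exact ⟨i, congrArg Subtype.val hi⟩

/-- the configuration with index dividing fifteen is impossible -/
theorem no_fifteen [IsSimpleGroup G] (hnc : ¬ IsMulCommutative G) {z t w : G} (hz : orderOf z = 3)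
    (P : Sylow 2 G) (hP8 : Nat.card P = 8) (hwP : w ∈ (P : Subgroup G)) (hwt : w ^ 2 = t)
    (ht : t * t = 1) (h7t : ¬ 7 ∣ Nat.card (centralizer ({t} : Set G))) (h49 : ¬ 49 ∣ Nat.card G)
    (h7 : 7 ∣ Nat.card (centralizer ({z} : Set G))) (h15 : (centralizer ({z} : Set G)).index ∣ 15) :
    False := by
  classical
  haveI : Fact (Nat.Prime 2) := ⟨Nat.prime_two⟩
  haveI : Fact (Nat.Prime 7) := ⟨by norm_num⟩
  obtain ⟨L, hL⟩ : ∃ L, L = centralizer ({z} : Set G) := ⟨_, rfl⟩
  rw [← hL] at h7 h15
  haveI := Fintype.ofFinite (G ⧸ L)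
  have hz1 : z ≠ 1 := fun e => by rw [e, orderOf_one] at hz; omega
  have hne : L ≠ ⊤ := by
    intro e
    refine hz1 (mem_bot.1 (Small.SmallOrders.center_eq_bot hnc ▸ mem_center_iff.2 fun g => ?_))
    exact mem_centralizer_singleton_iff.1 (hL ▸ e ▸ mem_top g)
  have hcore : L.normalCore = ⊥ := (IsSimpleGroup.eq_bot_or_eq_top_of_normal _ inferInstance).resolve_right
    fun e => hne (top_le_iff.1 (e ▸ L.normalCore_le))
  set f := MulAction.toPermHom G (G ⧸ L) with hf
  have hinj : Function.Injective f := by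
    rw [← MonoidHom.ker_eq_bot_iff, hf, ← normalCore_eq_ker, hcore]
  have h15' : L.index = 15 := by
    have hd : Nat.card G ∣ (L.index).factorial := by
      have := Subgroup.card_dvd_of_injective f hinj
      rwa [Nat.card_perm, ← Subgroup.index_eq_card] at this
    have h7G : 7 ∣ (L.index).factorial := (h7.trans L.card_subgroup_dvd_card).trans hd
    have hle := (Nat.Prime.dvd_factorial (by norm_num)).1 h7G
    have hmem : L.index ∈ Nat.divisors 15 := Nat.mem_divisors.2 ⟨h15, by norm_num⟩
    have key : ∀ d ∈ Nat.divisors 15, 7 ≤ d → d = 15 := by decide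
    exact key _ hmem hle
  have hcard : Fintype.card (G ⧸ L) = 15 := by rw [← Nat.card_eq_fintype_card, ← Subgroup.index_eq_card, h15']
  obtain ⟨x, hx⟩ := exists_prime_orderOf_dvd_card' (G := L) 7 h7
  have hxo : orderOf (x : G) = 7 := by rw [Subgroup.orderOf_coe, hx]
  have hxz : Commute (x : G) z := mem_centralizer_singleton_iff.1 (hL ▸ x.2)
  have hσ : orderOf (f (x : G)) = 7 := by rw [orderOf_injective f hinj, hxo]
  obtain ⟨n, hn⟩ := Equiv.Perm.cycleType_prime_order (σ := f (x : G)) (by rw [hσ]; norm_num)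
  rw [hσ] at hn
  have hsupp : (f (x : G)).support.card = (n + 1) * 7 := by
    rw [← Equiv.Perm.sum_cycleType, hn, Multiset.sum_replicate, smul_eq_mul]
  have hle := (f (x : G)).support.card_le_univ
  rw [hsupp, hcard] at hle
  rcases (by omega : n = 1 ∨ n = 0) with rfl | rfl
  · -- two cycles: the centraliser has order `98`
    have hcent : Nat.card (Subgroup.centralizer {f (x : G)}) = 98 := by
      rw [Equiv.Perm.nat_card_centralizer, hn, hcard]
      decide
    have hd := Subgroup.orderOf_dvd_natCard _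
      (mem_centralizer_singleton_iff.2 (hxz.symm.map f).eq : f z ∈ Subgroup.centralizer {f (x : G)})
    rw [orderOf_injective f hinj, hz, hcent] at hd
    norm_num at hd
  · -- eight fixed cosets, permuted transitively by the normaliser
    obtain ⟨H, hH⟩ : ∃ H, H = Subgroup.normalizer ((zpowers (x : G) : Subgroup G) : Set G) := ⟨_, rfl⟩
    have hfix : ∀ c : G ⧸ L, c ∉ (f (x : G)).support ↔ (x : G) • c = c := fun c => by
      rw [Equiv.Perm.notMem_support]
      rfl
    have horb : MulAction.orbit H ((1 : G) : G ⧸ L) = ((f (x : G)).supportᶜ : Finset (G ⧸ L)) := by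
      ext c
      rw [Finset.coe_compl, Set.mem_compl_iff, Finset.mem_coe, hfix]
      constructor
      · rintro ⟨m, rfl⟩
        show (x : G) • ((((m : G) * 1 : G)) : G ⧸ L) = ((((m : G) * 1 : G)) : G ⧸ L)
        rw [MulAction.Quotient.smul_coe, QuotientGroup.eq, mul_one, smul_eq_mul]
        have hm : (m : G) ∈ Subgroup.normalizer ((zpowers (x : G) : Subgroup G) : Set G) := hH ▸ m.2
        have := (Subgroup.mem_normalizer_iff.1 (inv_mem hm) (x : G)⁻¹).1 (inv_mem (mem_zpowers _))
        rw [inv_inv] at this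
        have h1 := (zpowers_le.2 x.2) this
        simpa [mul_assoc] using h1
        
      · obtain ⟨g, rfl⟩ := QuotientGroup.mk_surjective c
        intro hc
        rw [MulAction.Quotient.smul_coe, QuotientGroup.eq, smul_eq_mul] at hc
        have hc' : g⁻¹ * (x : G) * g ∈ L := by
          have := L.inv_mem hc
          simpa [mul_assoc] using this
        have ho : orderOf (g⁻¹ * (x : G) * g) = 7 := by
          have := orderOf_injective (MulAut.conj g⁻¹).toMonoidHom (MulAut.conj g⁻¹).injective (x : G)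
          simpa [hxo] using this
        obtain ⟨l, hl, hlx⟩ := exists_conj_seven h49 x.2 hc' hxo ho
        obtain ⟨m, hm⟩ : ∃ m, m = g * l⁻¹ := ⟨_, rfl⟩
        have hmm : m⁻¹ * (x : G) * m ∈ zpowers (x : G) := by
          rw [hm]
          simpa [mul_assoc] using hlx
        have hmH : m⁻¹ ∈ H := by
          rw [hH]
          have hle : (zpowers (x : G)).map (MulAut.conj m⁻¹).toMonoidHom ≤ zpowers (x : G) := by
            rw [MonoidHom.map_zpowers, zpowers_le]
            simpa using hmm
          have heq := eq_of_le_of_card_ge hle (le_of_eq (Nat.card_congr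
            ((zpowers (x : G)).equivMapOfInjective _ (MulAut.conj m⁻¹).injective).toEquiv))
          rw [Subgroup.mem_normalizer_iff]
          intro a
          constructor
          · intro ha
            rw [← heq]
            exact ⟨a, ha, rfl⟩
          · intro ha
            rw [← heq] at ha
            obtain ⟨b, hb, hba⟩ := ha
            have : b = a := (MulAut.conj m⁻¹).injective hba
            rwa [← this]
        refine ⟨⟨m, inv_inv m ▸ inv_mem hmH⟩, ?_⟩
        show ((m * 1 : G) : G ⧸ L) = (g : G ⧸ L)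
        rw [mul_one, QuotientGroup.eq, hm]
        simpa [mul_assoc] using hl
    have h8 : 8 ∣ Nat.card H := by
      have h1 := MulAction.index_stabilizer H ((1 : G) : G ⧸ L)
      rw [horb, Set.ncard_coe_finset, Finset.card_compl, hsupp, hcard] at h1
      have h2 := (MulAction.stabilizer H ((1 : G) : G ⧸ L)).index_dvd_card
      rwa [h1] at h2
    obtain ⟨Q, hQ⟩ := Sylow.exists_subgroup_card_pow_prime (G := H) 2 (n := 3) (by simpa using h8)
    have hQc : Nat.card (Q.map H.subtype) = 2 ^ (Nat.card G).factorization 2 := by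
      rw [← P.card_eq_multiplicity, hP8, ← Nat.card_congr
        (Q.equivMapOfInjective _ (H.subtype_injective)).toEquiv, hQ]
      norm_num
    obtain ⟨c, hc⟩ := MulAction.exists_smul_eq G P (Sylow.ofCard _ hQc)
    obtain ⟨g, hg⟩ : ∃ g, g = c * w * c⁻¹ := ⟨_, rfl⟩
    have hgH : g ∈ H := by
      have h1 : g ∈ ((Sylow.ofCard _ hQc : Sylow 2 G) : Subgroup G) := by
        rw [← hc, Sylow.coe_subgroup_smul, hg]
        exact ⟨w, hwP, rfl⟩
      exact map_subtype_le Q h1
    obtain ⟨a, ha⟩ := (isOfFinOrder_of_finite (x : G)).mem_powers_iff_mem_zpowers.2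
      ((Subgroup.mem_normalizer_iff.1 (hH ▸ hgH) (x : G)).1 (mem_zpowers _))
    simp only at ha
    have hpow : ∀ k : ℕ, g ^ k * (x : G) * (g ^ k)⁻¹ = (x : G) ^ (a ^ k) := by
      intro k
      induction k with
      | zero => simp
      | succ k ih =>
        calc g ^ (k + 1) * (x : G) * (g ^ (k + 1))⁻¹ = g * (g ^ k * (x : G) * (g ^ k)⁻¹) * g⁻¹ := by
              rw [pow_succ']; group
          _ = (g * (x : G) * g⁻¹) ^ (a ^ k) := by rw [ih, conj_pow]
          _ = (x : G) ^ (a ^ (k + 1)) := by rw [← ha, ← pow_mul, pow_succ']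
    have hg2 : g ^ 2 = c * t * c⁻¹ := by rw [hg, conj_pow, hwt]
    have h4 := hpow 4
    rw [show g ^ 4 = g ^ 2 * g ^ 2 by rw [← pow_add], hg2,
      show c * t * c⁻¹ * (c * t * c⁻¹) = c * (t * t) * c⁻¹ by group, ht] at h4
    simp only [mul_one, mul_inv_cancel, one_mul, inv_one] at h4
    have hmod : a ^ 4 % 7 = 1 := by
      have := pow_eq_pow_iff_modEq.1 ((pow_one (x : G)).trans h4)
      rw [hxo] at this
      exact this.symm
    have h2 : a ^ 2 ≡ 1 [MOD 7] := by
      have hdec : ∀ b < 7, b ^ 4 % 7 = 1 → b ^ 2 % 7 = 1 := by decide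
      have := hdec (a % 7) (Nat.mod_lt _ (by norm_num)) (by rw [← Nat.pow_mod]; exact hmod)
      rw [← Nat.pow_mod] at this
      exact this
    have hcomm : Commute (c * t * c⁻¹) (x : G) := by
      have h3 := hpow 2
      rw [hg2, pow_eq_pow_iff_modEq.2 (show a ^ 2 ≡ 1 [MOD orderOf (x : G)] by rw [hxo]; exact h2), pow_one] at h3
      exact mul_inv_eq_iff_eq_mul.1 h3
    refine h7t ?_
    have hmem : c⁻¹ * (x : G) * c ∈ centralizer ({t} : Set G) := by
      refine mem_centralizer_singleton_iff.2 ?_
      calc c⁻¹ * (x : G) * c * t = c⁻¹ * ((x : G) * (c * t * c⁻¹)) * c := by group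
        _ = c⁻¹ * ((c * t * c⁻¹) * (x : G)) * c := by rw [hcomm.eq]
        _ = t * (c⁻¹ * (x : G) * c) := by group
    have ho : orderOf (c⁻¹ * (x : G) * c) = 7 := by
      have := orderOf_injective (MulAut.conj c⁻¹).toMonoidHom (MulAut.conj c⁻¹).injective (x : G)
      simpa [hxo] using this
    exact ho ▸ Subgroup.orderOf_dvd_natCard _ hmem

end Cfsg.Agent.GW
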