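import Cfsg.Agent.Lib.GW.FourEightInverted
import Cfsg.Agent.Lib.GW.FourEightFifteen

/-!
# A fused maximal subgroup over an involution centraliser forces order 2520 or a trivial core

The configuration `FourCtx`: `M = N(U)` maximal over `C(t)`, `C(U) = U × E`, Sylow `2`-subgroups of order eight.
Then `E = 1` or `|G| = 2520`.
-/

set_option autoImplicit false
set_option linter.unusedSectionVars false
set_option linter.style.haveILetI false

namespace Cfsg.Agent.GW

open Subgroup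

open scoped commutatorElement

universe w

variable {G : Type w} [Group G] [Finite G] {t u s : G} {M E : Subgroup G}

/-- a commutator with central value is multiplicative on the right -/
theorem comm_mul_right {Z : Subgroup G} {x a b : G} (hc : ∀ z ∈ Z, Commute a z) (hb : ⁅x, b⁆ ∈ Z) :
    ⁅x, a * b⁆ = ⁅x, a⁆ * ⁅x, b⁆ := by
  calc ⁅x, a * b⁆ = x * a * x⁻¹ * (⁅x, b⁆) * a⁻¹ := by rw [commutatorElement_def, commutatorElement_def]; group
    _ = x * a * x⁻¹ * a⁻¹ * (a * ⁅x, b⁆ * a⁻¹) := by group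
    _ = _ := by rw [conj_of_commute (hc _ hb), commutatorElement_def x a]

/-- a commutator with central value is multiplicative on the left -/
theorem comm_mul_left {Z : Subgroup G} {a b y : G} (hc : ∀ z ∈ Z, Commute a z) (hb : ⁅b, y⁆ ∈ Z) :
    ⁅a * b, y⁆ = ⁅b, y⁆ * ⁅a, y⁆ := by
  calc ⁅a * b, y⁆ = (a * ⁅b, y⁆ * a⁻¹) * ⁅a, y⁆ := by
        rw [commutatorElement_def, commutatorElement_def, commutatorElement_def]; group
    _ = _ := by rw [conj_of_commute (hc _ hb)]

namespace FourCtx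

variable [IsSimpleGroup G] (h : FourCtx t u s M E)
include h

/-- an element of `E` commuting with `t` and `u`: the commutators with `y` in a central `Z` form a subgroup -/
theorem mem_of_comm_sq {Z : Subgroup G} (hZ : ∀ x ∈ E, ∀ z ∈ Z, Commute x z) {e y : G} (he : e ∈ E)
    (h2 : ⁅e * e, y⁆ ∈ Z) : ⁅e, y⁆ ∈ Z := by
  let T : Subgroup G :=
    { carrier := {x | x ∈ E ∧ ⁅x, y⁆ ∈ Z}
      one_mem' := ⟨E.one_mem, by rw [commutatorElement_one_left]; exact Z.one_mem⟩
      mul_mem' := fun {a b} ha hb => ⟨E.mul_mem ha.1 hb.1, by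
        rw [comm_mul_left (hZ a ha.1) hb.2]; exact Z.mul_mem hb.2 ha.2⟩
      inv_mem' := fun {a} ha => ⟨E.inv_mem ha.1, by
        have e1 : ⁅a⁻¹, y⁆ = a⁻¹ * ⁅a, y⁆⁻¹ * a⁻¹⁻¹ := by
          rw [commutatorElement_def, commutatorElement_def]; group
        rw [e1, conj_of_commute (hZ _ (E.inv_mem ha.1) _ (Z.inv_mem ha.2))]
        exact Z.inv_mem ha.2⟩ }
  exact (mem_of_sq_odd (h.e_odd he) (show e * e ∈ T from ⟨E.mul_mem he he, h2⟩)).2

/-- **A fused maximal subgroup over an involution centraliser**: trivial core or order 2520. -/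
theorem fused_card : E = ⊥ ∨ Nat.card G = 2520 := by
  haveI : Fact (Nat.Prime 7) := ⟨by norm_num⟩
  by_cases hE : E = ⊥
  · exact Or.inl hE
  right
  have hEs : ∀ a ∈ E, s * a * s⁻¹ ∈ E := fun a ha => h.conj_E h.s_mem ha
  obtain ⟨W, hW0, hWE, hW, hWmin⟩ := exists_minimal_over (Z := ⊥) h.mInv_E (bot_lt_iff_ne_bot.2 hE)
  have hWne : W ≠ ⊥ := bot_lt_iff_ne_bot.1 hW0
  have hWinv : ∀ a ∈ W, s * a * s⁻¹ = a⁻¹ := fun a ha => h.minimal_inverted hWE hW hWne hWmin ha
  by_cases hK : ∀ k ∈ E, Commute k s → (∀ a ∈ W, Commute k a) → k = 1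
  · exact h.inverted_done hWE hW hWne hWinv hK
  push Not at hK
  obtain ⟨z₀, hz₀, hz₀s, hz₀W, hz₀1⟩ := hK
  obtain ⟨f₀, hfW, hf1⟩ : ∃ f ∈ W, f ≠ 1 := by
    by_contra hcon
    push Not at hcon
    exact hWne ((Subgroup.eq_bot_iff_forall W).2 hcon)
  have threeW : ∀ a ∈ W, a = 1 ∨ a = f₀ ∨ a = f₀⁻¹ := fun a ha => (em (a = 1)).imp_right fun ha1 =>
    h.inv_three hz₀ hz₀s hz₀1 (hWE hfW) (hz₀W _ hfW).symm (hWinv _ hfW) hf1 (hWE ha) (hz₀W _ ha).symm
      (hWinv _ ha) ha1
  have hWcard : Nat.card W = 3 :=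
    card_eq_three_of_le (h.E_odd.of_dvd_nat (card_dvd_of_le hWE)) hWne (card_le_three f₀ threeW)
  have hWc : ∀ x ∈ E, ∀ a ∈ W, Commute x a := by
    intro x hx a ha
    rcases eq_or_ne a 1 with rfl | ha1
    · exact Commute.one_right x
    refine commute_of_pm (h.e_odd hx) ?_
    exact (eq_of_card_three hWcard ha ha1 (hW x (h.e_mem hx) a ha)).resolve_left (conj_ne_one ha1)
  have hfix : ∀ k ∈ E, Commute k s → k ≠ 1 → ∀ x ∈ E, s * x * s⁻¹ = x⁻¹ → Commute x k → x ∈ W := by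
    intro k hk hks hk1 x hx hxi hxk
    rcases eq_or_ne x 1 with rfl | hx1
    · exact W.one_mem
    rcases h.inv_three hk hks hk1 (hWE hfW) (hWc k hk f₀ hfW).symm (hWinv _ hfW) hf1 hx hxk hxi hx1 with e | e
    · exact e ▸ hfW
    · exact e ▸ W.inv_mem hfW
  by_cases hI : ∀ e ∈ E, s * e * s⁻¹ = e⁻¹ → e ∈ W
  · exfalso
    have hder : ⁅E, E⁆ = ⊥ := by
      have hle : ⁅E, E⁆ ≤ E ⊓ centralizer ({s} : Set G) := by
        refine commutator_le.2 fun x hx y hy => ?_
        obtain ⟨j, hj, hji, -, hjs⟩ := h.split le_rfl hEs hx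
        obtain ⟨j', hj', hji', -, hjs'⟩ := h.split le_rfl hEs hy
        have hk : j⁻¹ * x ∈ E := E.mul_mem (E.inv_mem hj) hx
        have hk' : j'⁻¹ * y ∈ E := E.mul_mem (E.inv_mem hj') hy
        have c1 : ∀ b ∈ E, Commute j b := fun b hb => (hWc b hb j (hI j hj hji)).symm
        have c2 : ∀ b ∈ E, Commute j' b := fun b hb => (hWc b hb j' (hI j' hj' hji')).symm
        have e1 : ⁅x, y⁆ = ⁅j⁻¹ * x, j'⁻¹ * y⁆ := by
          obtain ⟨k, rfl⟩ : ∃ k, x = j * k := ⟨j⁻¹ * x, by group⟩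
          obtain ⟨k', rfl⟩ : ∃ k', y = j' * k' := ⟨j'⁻¹ * y, by group⟩
          rw [inv_mul_cancel_left] at hk hk' ⊢
          rw [inv_mul_cancel_left]
          have d1 : j * k * (j' * k') * (j * k)⁻¹ = j' * (k * k' * k⁻¹) := by
            calc j * k * (j' * k') * (j * k)⁻¹ = j * ((k * j') * k' * k⁻¹) * j⁻¹ := by group
              _ = j * (j' * (k * k' * k⁻¹)) * j⁻¹ := by rw [← (c2 k hk).eq]; group
              _ = j' * (k * k' * k⁻¹) := conj_of_commute
                (c1 _ (E.mul_mem hj' (E.mul_mem (E.mul_mem hk hk') (E.inv_mem hk))))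
          calc ⁅j * k, j' * k'⁆ = (j * k * (j' * k') * (j * k)⁻¹) * (j' * k')⁻¹ := by
                rw [commutatorElement_def]
            _ = j' * (k * k' * k⁻¹ * k'⁻¹) * j'⁻¹ := by rw [d1]; group
            _ = _ := by
              rw [conj_of_commute (c2 _ (E.mul_mem (E.mul_mem (E.mul_mem hk hk') (E.inv_mem hk)) (E.inv_mem hk'))),
                commutatorElement_def]
        rw [e1]
        refine mem_inf.2 ⟨?_, mem_cent_one.2 ?_⟩
        · rw [commutatorElement_def]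
          exact E.mul_mem (E.mul_mem (E.mul_mem hk hk') (E.inv_mem hk)) (E.inv_mem hk')
        · rw [commutatorElement_def]
          exact (((hjs.mul_left hjs').mul_left hjs.inv_left).mul_left hjs'.inv_left)
      exact h.eq_bot_of_fixed (fun a ha => (mem_inf.1 (hle ha)).1) (mInv_commutator h.mInv_E)
        fun a ha => mem_cent_one.1 (mem_inf.1 (hle ha)).2
    obtain ⟨x, hx, hxz⟩ := h.not_central hz₀ hz₀s hz₀1
    have := commutator_mem_commutator (H₁ := E) (H₂ := E) hx hz₀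
    rw [hder, mem_bot] at this
    exact hxz (commutatorElement_eq_one_iff_commute.1 this)
  push Not at hI
  obtain ⟨e₀, he₀, he₀i, he₀W⟩ := hI
  obtain ⟨W₁, hWW₁, hW₁E, hW₁, hW₁min⟩ := exists_minimal_over (Z := W) h.mInv_E
    (lt_of_le_of_ne hWE fun e => he₀W (e ▸ he₀))
  have hW₁s : ∀ a ∈ W₁, s * a * s⁻¹ ∈ W₁ := fun a ha => hW₁ s h.s_mem a ha
  have hcomm : ∀ a ∈ W₁, ∀ b ∈ W₁, ⁅a, b⁆ ∈ W := by
    have hle : ⁅W₁, W₁⁆ ≤ W := by
      have hle1 : ⁅W₁, W₁⁆ ⊔ W ≤ W₁ := sup_le (commutator_le.2 fun a ha b hb => by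
        rw [commutatorElement_def]
        exact W₁.mul_mem (W₁.mul_mem (W₁.mul_mem ha hb) (W₁.inv_mem ha)) (W₁.inv_mem hb)) hWW₁.le
      rcases (le_sup_right : W ≤ ⁅W₁, W₁⁆ ⊔ W).eq_or_lt with e | e
      · exact le_sup_left.trans (le_of_eq e.symm)
      · exfalso
        exact hWW₁.ne' (eq_of_commutator_sup (h.solvable_of_le hW₁E) hWW₁.le
          (fun a ha x hx => (hWc x (hW₁E hx) a ha).symm)
          (hW₁min _ e hle1 (mInv_sup (mInv_commutator hW₁) hW)))
    exact fun a ha b hb => hle (commutator_mem_commutator ha hb)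
  by_cases hQ : ∀ q ∈ W₁, Commute q s → q = 1
  · have hinv1 : ∀ a ∈ W₁, s * a * s⁻¹ = a⁻¹ := by
      intro a ha
      obtain ⟨j, hj, hji, -, hjs⟩ := h.split hW₁E hW₁s ha
      rw [← inv_mul_eq_one.1 (hQ _ (W₁.mul_mem (W₁.inv_mem hj) ha) hjs)]
      exact hji
    refine h.inverted_done hW₁E hW₁ (ne_bot_of_gt hWW₁) hinv1 fun k hk hks hkW => ?_
    by_contra hk1
    exact hWW₁.not_ge fun a ha => hfix k hk hks hk1 a (hW₁E ha) (hinv1 a ha) (hkW a ha).symm
  push Not at hQ
  obtain ⟨z, hzW₁, hzs, hz1⟩ := hQ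
  have hzE := hW₁E hzW₁
  exfalso
  -- in the case without inverted elements of `W₁` outside `W`
  have hfixcase : (∀ j ∈ W₁, s * j * s⁻¹ = j⁻¹ → j ∈ W) →
      ∀ e ∈ E, s * e * s⁻¹ = e⁻¹ → ∀ q ∈ W₁, Commute q s → ⁅e, q⁆ ∈ W := by
    intro hcase e he hei q hq hqs
    obtain ⟨j, hj, hji, -, hjs⟩ := h.split hW₁E hW₁s (hW₁ e (h.e_mem he) q hq)
    obtain ⟨q', hq'⟩ : ∃ q', q' = j⁻¹ * (e * q * e⁻¹) := ⟨_, rfl⟩
    rw [← hq'] at hjs
    have hjW := hcase j hj hji
    have hy : e * q * e⁻¹ = j * q' := by rw [hq', mul_inv_cancel_left]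
    have h1 : e⁻¹ * q * e = j⁻¹ * q' := by
      calc e⁻¹ * q * e = (s * e * s⁻¹) * (s * q * s⁻¹) * (s * e * s⁻¹)⁻¹ := by
            rw [hei, conj_of_commute hqs.symm]; group
        _ = s * (e * q * e⁻¹) * s⁻¹ := by group
        _ = (s * j * s⁻¹) * (s * q' * s⁻¹) := by rw [hy]; group
        _ = j⁻¹ * q' := by rw [hji, conj_of_commute hjs.symm]
    have h2 : e * e * q * (e * e)⁻¹ = j * j * q := by
      have cj : Commute e j := hWc e he j hjW
      have hq'e : e * q' * e⁻¹ = j * q := by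
        calc e * q' * e⁻¹ = e * (j * (e⁻¹ * q * e)) * e⁻¹ := by rw [h1, mul_inv_cancel_left]
          _ = (e * j * e⁻¹) * q := by group
          _ = j * q := by rw [conj_of_commute cj]
      calc e * e * q * (e * e)⁻¹ = e * (e * q * e⁻¹) * e⁻¹ := by group
        _ = (e * j * e⁻¹) * (e * q' * e⁻¹) := by rw [hy]; group
        _ = j * j * q := by rw [conj_of_commute cj, hq'e, mul_assoc]
    refine h.mem_of_comm_sq hWc he ?_
    rw [commutatorElement_def, h2, mul_inv_cancel_right]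
    exact W.mul_mem hjW hjW
  obtain ⟨e, he, hei, heW, heq⟩ : ∃ e ∈ E, s * e * s⁻¹ = e⁻¹ ∧ e ∉ W ∧
      ∀ q ∈ W₁, Commute q s → ⁅e, q⁆ ∈ W := by
    by_cases hcase : ∀ j ∈ W₁, s * j * s⁻¹ = j⁻¹ → j ∈ W
    · exact ⟨e₀, he₀, he₀i, he₀W, hfixcase hcase e₀ he₀ he₀i⟩
    · push Not at hcase
      obtain ⟨j, hj, hji, hjW⟩ := hcase
      exact ⟨j, hW₁E hj, hji, hjW, fun q hq _ => hcomm j hj q hq⟩
  have hinj : ∀ q ∈ W₁, Commute q s → ⁅e, q⁆ = 1 → q = 1 := by
    intro q hq hqs hc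
    by_contra hq1
    exact heW (hfix q (hW₁E hq) hqs hq1 e he hei (commutatorElement_eq_one_iff_commute.1 hc))
  -- the fixed elements of `W₁` are `1, z, z⁻¹`
  have Q3 : ∀ q ∈ W₁, Commute q s → q = 1 ∨ q = z ∨ q = z⁻¹ := by
    intro q hq hqs
    have hmul : ∀ a ∈ W₁, Commute a s → ∀ b ∈ W₁, Commute b s → ⁅e, a * b⁆ = ⁅e, a⁆ * ⁅e, b⁆ :=
      fun a ha _ b hb hbs => comm_mul_right (hWc a (hW₁E ha)) (heq b hb hbs)
    have hne : ⁅e, z⁆ ≠ 1 := fun hc => hz1 (hinj z hzW₁ hzs hc)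
    rcases eq_of_card_three hWcard (heq z hzW₁ hzs) hne (heq q hq hqs) with e1 | e1 | e1
    · exact Or.inl (hinj q hq hqs e1)
    · refine Or.inr (Or.inl (mul_inv_eq_one.1 (hinj _ (W₁.mul_mem hq (W₁.inv_mem hzW₁)) (hqs.mul_left hzs.inv_left) ?_)))
      have h0 := hmul z hzW₁ hzs z⁻¹ (W₁.inv_mem hzW₁) hzs.inv_left
      rw [mul_inv_cancel, commutatorElement_one_right] at h0
      rw [hmul q hq hqs z⁻¹ (W₁.inv_mem hzW₁) hzs.inv_left, e1, ← h0]
    · refine Or.inr (Or.inr (eq_inv_of_mul_eq_one_left (hinj _ (W₁.mul_mem hq hzW₁) (hqs.mul_left hzs) ?_)))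
      rw [hmul q hq hqs z hzW₁ hzs, e1, inv_mul_cancel]
  have hzo : orderOf z = 3 := by
    haveI : Fact (Nat.Prime 3) := ⟨Nat.prime_three⟩
    refine orderOf_eq_prime ?_ hz1
    rcases Q3 (z * z) (W₁.mul_mem hzW₁ hzW₁) (hzs.mul_left hzs) with e1 | e1 | e1
    · exact absurd (eq_one_of_sq_odd (h.e_odd hzE) e1) hz1
    · exact absurd (mul_eq_left.1 e1) hz1
    · rw [pow_succ, pow_two, e1, inv_mul_cancel]
  have hkz : ∀ k ∈ E, Commute k s → Commute k z := fun k hk hks => by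
    refine commute_of_pm (h.e_odd hk) ?_
    have hcs : Commute (k * z * k⁻¹) s := (hks.mul_left hzs).mul_left hks.inv_left
    exact (Q3 _ (hW₁ k (h.e_mem hk) z hzW₁) hcs).resolve_left (conj_ne_one hz1)
  -- `E` centralises `W₁ / W`
  have hV : ∀ x ∈ E, ∀ y ∈ W₁, ⁅x, y⁆ ∈ W := by
    have hDW : ∀ x ∈ E, ∀ a ∈ W, ⁅x, a⁆ = 1 := fun x hx a ha =>
      commutatorElement_eq_one_iff_commute.2 (hWc x hx a ha)
    by_cases hcase : ∀ j ∈ W₁, s * j * s⁻¹ = j⁻¹ → j ∈ W
    · intro x hx y hy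
      obtain ⟨j, hj, hji, -, hjs⟩ := h.split hW₁E hW₁s hy
      obtain ⟨q, rfl⟩ : ∃ q, y = j * q := ⟨j⁻¹ * y, by group⟩
      rw [inv_mul_cancel_left] at hjs
      have hq : q ∈ W₁ := by simpa using W₁.mul_mem (W₁.inv_mem hj) hy
      obtain ⟨i, hi, hii, -, his⟩ := h.split le_rfl hEs hx
      obtain ⟨k, rfl⟩ : ∃ k, x = i * k := ⟨i⁻¹ * x, by group⟩
      rw [inv_mul_cancel_left] at his
      have hk : k ∈ E := by simpa using E.mul_mem (E.inv_mem hi) hx
      have hxq : ⁅i * k, q⁆ ∈ W := by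
        have hkq : ⁅k, q⁆ = 1 := by
          refine commutatorElement_eq_one_iff_commute.2 ?_
          rcases Q3 q hq hjs with rfl | rfl | rfl
          · exact Commute.one_right k
          · exact hkz k hk his
          · exact (hkz k hk his).inv_right
        rw [comm_mul_left (hWc i hi) (hkq ▸ W.one_mem), hkq, one_mul]
        exact hfixcase hcase i hi hii q hq hjs
      rw [comm_mul_right (hWc j (hW₁E hj)) hxq, hDW _ hx j (hcase j hj hji), one_mul]
      exact hxq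
    · push Not at hcase
      obtain ⟨j₀, hj₀, hj₀i, hj₀W⟩ := hcase
      let φ : W₁ →* G := MonoidHom.mk' (fun y => ⁅z, (y : G)⁆) fun a b =>
        comm_mul_right (hWc (a : G) (hW₁E a.2)) (hcomm z hzW₁ b b.2)
      have hrange : Nat.card φ.range = 3 := by
        have hle : φ.range ≤ W := by rintro _ ⟨y, rfl⟩; exact hcomm z hzW₁ y y.2
        refine card_eq_three_of_le (h.E_odd.of_dvd_nat (card_dvd_of_le (hle.trans hWE))) ?_
          ((Nat.le_of_dvd Nat.card_pos (card_dvd_of_le hle)).trans (le_of_eq hWcard))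
        intro e1
        have h2 : ⁅z, j₀⁆ ∈ φ.range := ⟨⟨j₀, hj₀⟩, rfl⟩
        rw [e1, mem_bot] at h2
        exact hj₀W (hfix z hzE hzs hz1 j₀ (hW₁E hj₀) hj₀i (commutatorElement_eq_one_iff_commute.1 h2).symm)
      obtain ⟨Q, hQdef⟩ : ∃ Q, Q = W₁ ⊓ centralizer ({s} : Set G) := ⟨_, rfl⟩
      have hQcard : Nat.card Q = 3 := by
        refine card_eq_three_of_le (h.E_odd.of_dvd_nat (card_dvd_of_le (hQdef ▸ inf_le_left.trans hW₁E))) ?_
          (card_le_three z fun q hq => ?_)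
        · intro e1
          have h2 : z ∈ Q := hQdef ▸ mem_inf.2 ⟨hzW₁, mem_cent_one.2 hzs⟩
          rw [e1, mem_bot] at h2
          exact hz1 h2
        · rw [hQdef, mem_inf, mem_cent_one] at hq
          exact Q3 q hq.1 hq.2
      have hQmem : ∀ {q : G}, q ∈ Q → q ∈ W₁ ∧ Commute q s := fun {q} hq => by
        rw [hQdef, mem_inf, mem_cent_one] at hq; exact hq
      let ψ : W × Q → φ.ker := fun p => ⟨⟨(p.1 : G) * p.2, W₁.mul_mem (hWW₁.le p.1.2) (hQmem p.2.2).1⟩, by
        show ⁅z, (p.1 : G) * p.2⁆ = 1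
        refine commutatorElement_eq_one_iff_commute.2 (Commute.mul_right (hWc z hzE _ p.1.2) ?_)
        exact (hkz _ (hW₁E (hQmem p.2.2).1) (hQmem p.2.2).2).symm⟩
      have hψ : Function.Bijective ψ := by
        constructor
        · rintro ⟨a, q⟩ ⟨a', q'⟩ hab
          have e1 : (a : G) * q = (a' : G) * q' := congrArg (fun v : φ.ker => ((v : W₁) : G)) hab
          have e2 : (a' : G)⁻¹ * a = (q' : G) * (q : G)⁻¹ := by
            rw [eq_mul_inv_iff_mul_eq, mul_assoc, e1, inv_mul_cancel_left]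
          have hmW : (a' : G)⁻¹ * a ∈ W := W.mul_mem (W.inv_mem a'.2) a.2
          have h3 := h.inv_fixed (hWE hmW) (hWinv _ hmW)
            (e2 ▸ (hQmem q'.2).2.mul_left (hQmem q.2).2.inv_left)
          obtain rfl : a' = a := Subtype.ext (inv_mul_eq_one.1 h3)
          obtain rfl : q = q' := Subtype.ext (mul_left_cancel e1)
          rfl
        · rintro ⟨⟨y, hy⟩, hyk⟩
          have hzy : Commute z y := commutatorElement_eq_one_iff_commute.1 hyk
          obtain ⟨j, hj, hji, -, hjs⟩ := h.split hW₁E hW₁s hy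
          have hq : j⁻¹ * y ∈ W₁ := W₁.mul_mem (W₁.inv_mem hj) hy
          have hjz : Commute j z := by
            have := hzy.symm.mul_left ((hkz _ (hW₁E hq) hjs).inv_left)
            rwa [mul_inv_rev, inv_inv, mul_inv_cancel_left] at this
          exact ⟨(⟨j, hfix z hzE hzs hz1 j (hW₁E hj) hji hjz⟩,
            ⟨j⁻¹ * y, hQdef ▸ mem_inf.2 ⟨hq, mem_cent_one.2 hjs⟩⟩),
            Subtype.ext (Subtype.ext (mul_inv_cancel_left _ _))⟩
      have hker : Nat.card φ.ker = 9 := by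
        rw [← Nat.card_eq_of_bijective ψ hψ, Nat.card_prod, hWcard, hQcard]
      have h27 : Nat.card W₁ = 27 := by
        rw [← φ.ker.card_mul_index, Subgroup.index_ker, hker, hrange]
      haveI hNW : (W.subgroupOf E).Normal := ⟨fun x hx g => by
        rw [mem_subgroupOf] at hx ⊢
        exact hW _ (h.e_mem g.2) _ hx⟩
      haveI hNW₁ : (W₁.subgroupOf E).Normal := ⟨fun x hx g => by
        rw [mem_subgroupOf] at hx ⊢
        exact hW₁ _ (h.e_mem g.2) _ hx⟩
      haveI : ((W₁.subgroupOf E).map (QuotientGroup.mk' (W.subgroupOf E))).Normal :=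
        Subgroup.Normal.map hNW₁ _ (QuotientGroup.mk'_surjective _)
      have hV9 : Nat.card ((W₁.subgroupOf E).map (QuotientGroup.mk' (W.subgroupOf E))) = 9 := by
        obtain ⟨g, hg⟩ : ∃ g, g = (QuotientGroup.mk' (W.subgroupOf E)).comp (W₁.subgroupOf E).subtype := ⟨_, rfl⟩
        have hr : g.range = (W₁.subgroupOf E).map (QuotientGroup.mk' (W.subgroupOf E)) := by
          rw [hg, MonoidHom.range_comp, range_subtype]
        have hk : Nat.card g.ker = 3 := by
          rw [hg, ← MonoidHom.comap_ker, QuotientGroup.ker_mk']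
          have hle : W.subgroupOf E ≤ W₁.subgroupOf E := fun x hx => hWW₁.le hx
          exact (Nat.card_congr (subgroupOfEquivOfLe hle).toEquiv).trans
            ((Nat.card_congr (subgroupOfEquivOfLe hWE).toEquiv).trans hWcard)
        have := g.ker.card_mul_index
        rw [Subgroup.index_ker, hk, Nat.card_congr (subgroupOfEquivOfLe hW₁E).toEquiv, h27] at this
        rw [← hr]
        omega
      obtain ⟨v, hv, hv1, hvc⟩ := exists_central_nine
        (h.E_odd.of_dvd_nat (Subgroup.card_quotient_dvd_card (W.subgroupOf E))) hV9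
      obtain ⟨y₀, hy₀, rfl⟩ := hv
      have hy₀W : (y₀ : G) ∉ W := fun hm => hv1 ((QuotientGroup.eq_one_iff _).2 hm)
      let D : Subgroup G :=
        { carrier := {y | y ∈ W₁ ∧ ∀ x ∈ E, ⁅x, y⁆ ∈ W}
          one_mem' := ⟨W₁.one_mem, fun x _ => by rw [commutatorElement_one_right]; exact W.one_mem⟩
          mul_mem' := fun {a b} ha hb => ⟨W₁.mul_mem ha.1 hb.1, fun x hx => by
            rw [comm_mul_right (hWc a (hW₁E ha.1)) (hb.2 x hx)]
            exact W.mul_mem (ha.2 x hx) (hb.2 x hx)⟩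
          inv_mem' := fun {a} ha => ⟨W₁.inv_mem ha.1, fun x hx => by
            have e1 : ⁅x, a⁻¹⁆ = a⁻¹ * ⁅x, a⁆⁻¹ * a⁻¹⁻¹ := by
              rw [commutatorElement_def, commutatorElement_def]; group
            rw [e1, conj_of_commute (hWc _ (E.inv_mem (hW₁E ha.1)) _ (W.inv_mem (ha.2 x hx)))]
            exact W.inv_mem (ha.2 x hx)⟩ }
      have hlt : W < D := by
        refine lt_of_le_of_ne (fun a ha => ⟨hWW₁.le ha, fun x hx => hDW x hx a ha ▸ W.one_mem⟩) fun e1 => hy₀W ?_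
        have hmem : (y₀ : G) ∈ D := ⟨hy₀, fun x hx => by
          have hc := commutatorElement_eq_one_iff_commute.2 (hvc (QuotientGroup.mk' (W.subgroupOf E) ⟨x, hx⟩))
          rw [← map_commutatorElement] at hc
          exact mem_subgroupOf.1 ((QuotientGroup.eq_one_iff ⁅(⟨x, hx⟩ : E), y₀⁆).1 hc)⟩
        rwa [← e1] at hmem
      have hDM : MInv M D := by
        intro m hm a ha
        refine ⟨hW₁ m hm a ha.1, fun x hx => ?_⟩
        have hx' : m⁻¹ * x * m ∈ E := by
          have := h.conj_E (M.inv_mem hm) hx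
          rwa [inv_inv] at this
        have := hW m hm _ (ha.2 _ hx')
        rw [conjugate_commutatorElement, show m * (m⁻¹ * x * m) * m⁻¹ = x by group] at this
        exact this
      have hD := hW₁min D hlt (fun a ha => ha.1) hDM
      intro x hx y hy
      rw [← hD] at hy
      exact hy.2 x hx
  -- the centraliser of `z` in `E` has index three
  obtain ⟨C, hC⟩ : ∃ C, C = E ⊓ centralizer ({z} : Set G) := ⟨_, rfl⟩
  have hCE : C ≤ E := hC ▸ inf_le_left
  have hEC : Nat.card E = 3 * Nat.card C := by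
    let χ : E →* G := MonoidHom.mk' (fun x => ⁅(x : G), z⁆) fun a b => by
      rw [Subgroup.coe_mul, comm_mul_left (hWc a a.2) (hV b b.2 z hzW₁)]
      exact (hWc _ (hWE (hV b b.2 z hzW₁)) _ (hV a a.2 z hzW₁)).eq
    have hle : χ.range ≤ W := by rintro _ ⟨x, rfl⟩; exact hV x x.2 z hzW₁
    have hr : Nat.card χ.range = 3 := by
      refine card_eq_three_of_le (h.E_odd.of_dvd_nat (card_dvd_of_le (hle.trans hWE))) ?_
        ((Nat.le_of_dvd Nat.card_pos (card_dvd_of_le hle)).trans (le_of_eq hWcard))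
      intro e1
      obtain ⟨x, hx, hxz⟩ := h.not_central hzE hzs hz1
      have h2 : ⁅x, z⁆ ∈ χ.range := ⟨⟨x, hx⟩, rfl⟩
      rw [e1, mem_bot] at h2
      exact hxz (commutatorElement_eq_one_iff_commute.1 h2)
    have hk : χ.ker = C.subgroupOf E := by
      ext x
      rw [mem_subgroupOf, hC, mem_inf, mem_cent_one]
      exact ⟨fun hx => ⟨x.2, commutatorElement_eq_one_iff_commute.1 hx⟩,
        fun hx => commutatorElement_eq_one_iff_commute.2 hx.2⟩
    rw [← χ.ker.card_mul_index, Subgroup.index_ker, hr, hk, Nat.card_congr (subgroupOfEquivOfLe hCE).toEquiv,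
      mul_comm]
  rcases h.fixed_cent hzE hzs hz1 with hall | ⟨O, hOs, hdvd, hOle, hrel, -⟩
  · exact hf1 (h.inv_fixed (hWE hfW) (hWinv _ hfW) (hall f₀ (hWE hfW) (hWc z hzE f₀ hfW).symm))
  rw [← hC] at hOle hrel
  obtain ⟨K, hK⟩ : ∃ K, K = E ⊓ centralizer ({s} : Set G) := ⟨_, rfl⟩
  have hKmem : ∀ {k : G}, k ∈ K ↔ k ∈ E ∧ Commute k s := fun {k} => by rw [hK, mem_inf, mem_cent_one]
  have hKC : K ≤ C := fun k hk => hC ▸ mem_inf.2
    ⟨(hKmem.1 hk).1, mem_cent_one.2 (hkz k (hKmem.1 hk).1 (hKmem.1 hk).2)⟩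
  have hOK : O ≤ K := fun o ho => hKmem.2 (hOs o ho)
  have hKO : K ≤ O := by
    have hm := Subgroup.relIndex_mul_relIndex O K C hOK hKC
    rw [hrel] at hm
    rcases (Nat.dvd_prime Nat.prime_three).1 (Dvd.intro _ hm) with e1 | e1
    · exact relIndex_eq_one.1 e1
    · exfalso
      have h1 : K.relIndex C = 1 := by rw [e1] at hm; omega
      have hfC : f₀ ∈ C := hC ▸ mem_inf.2 ⟨hWE hfW, mem_cent_one.2 (hWc z hzE f₀ hfW).symm⟩
      exact hf1 (h.inv_fixed (hWE hfW) (hWinv _ hfW) (hKmem.1 (relIndex_eq_one.1 h1 hfC)).2)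
  obtain rfl : O = K := le_antisymm hOK hKO
  have hCO : Nat.card C = 3 * Nat.card O := by
    have := Subgroup.relIndex_mul_relIndex ⊥ O C bot_le hOle
    rw [hrel, relIndex_bot_left, relIndex_bot_left] at this
    omega
  -- no element of order seven in `C_E(s)`
  have h7K : ¬ 7 ∣ Nat.card O := by
    intro h7
    obtain ⟨x, hx⟩ := exists_prime_orderOf_dvd_card' (G := O) 7 h7
    have hxo : orderOf (x : G) = 7 := by rw [Subgroup.orderOf_coe, hx]
    obtain ⟨hxE, hxs⟩ := hKmem.1 x.2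
    have hW3 : ∀ a ∈ W, a ^ 3 = 1 := fun a ha => by
      rw [← hWcard]
      exact congrArg Subtype.val (pow_card_eq_one' (x := (⟨a, ha⟩ : W)))
    have seven : ∀ a ∈ W, a ^ 7 = 1 → a = 1 := fun a ha h' => by
      have h6 : a ^ 6 = 1 := by rw [show 6 = 3 * 2 from rfl, pow_mul, hW3 a ha, one_pow]
      rwa [pow_succ, h6, one_mul] at h'
    have hxW₁ : ∀ y ∈ W₁, Commute (x : G) y := by
      intro y hy
      obtain ⟨w, hw⟩ : ∃ w, w = ⁅(x : G), y⁆ := ⟨_, rfl⟩
      have hwW : w ∈ W := hw ▸ hV x hxE y hy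
      have hpow : ∀ n : ℕ, (x : G) ^ n * y * ((x : G) ^ n)⁻¹ = w ^ n * y := by
        intro n
        induction n with
        | zero => simp
        | succ n ih =>
          calc (x : G) ^ (n + 1) * y * ((x : G) ^ (n + 1))⁻¹
              = (x : G) * ((x : G) ^ n * y * ((x : G) ^ n)⁻¹) * (x : G)⁻¹ := by rw [pow_succ']; group
            _ = ((x : G) * w ^ n * (x : G)⁻¹) * ((x : G) * y * (x : G)⁻¹) := by rw [ih]; group
            _ = w ^ n * (w * y) := by
              rw [conj_of_commute ((hWc x hxE w hwW).pow_right n), hw, commutatorElement_def,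
                inv_mul_cancel_right]
            _ = w ^ (n + 1) * y := by rw [pow_succ, mul_assoc]
      have h' := hpow 7
      rw [show (x : G) ^ 7 = 1 from hxo ▸ pow_orderOf_eq_one _, one_mul, inv_one, mul_one] at h'
      have hw7 : w ^ 7 = 1 := right_eq_mul.1 h'
      exact commutatorElement_eq_one_iff_commute.1 (hw ▸ seven w hwW hw7)
    obtain ⟨S7, hS7⟩ : ∃ S7 : Set G, S7 = {c | c ∈ E ∧ (∀ y ∈ W₁, Commute c y) ∧ c ^ 7 = 1} := ⟨_, rfl⟩
    have hle : closure S7 ≤ O := by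
      rw [closure_le]
      intro c hc
      rw [hS7] at hc
      obtain ⟨hcE, hcW, hc7⟩ := hc
      have hCs : ∀ a ∈ C, s * a * s⁻¹ ∈ C := by
        intro a ha
        rw [hC, mem_inf, mem_cent_one] at ha ⊢
        refine ⟨hEs a ha.1, ?_⟩
        have := commute_conj s ha.2
        rwa [conj_of_commute hzs.symm] at this
      obtain ⟨j, hj, hji, -, hjs⟩ := h.split hCE hCs (hC ▸ mem_inf.2 ⟨hcE, mem_cent_one.2 (hcW z hzW₁)⟩)
      rw [hC, mem_inf, mem_cent_one] at hj
      have hjW := hfix z hzE hzs hz1 j hj.1 hji hj.2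
      have hk : j⁻¹ * c ∈ E := E.mul_mem (E.inv_mem hj.1) hcE
      have h' : j ^ 7 * (j⁻¹ * c) ^ 7 = 1 := by
        rw [← (hWc _ hk j hjW).symm.mul_pow, mul_inv_cancel_left, hc7]
      have hj7 : j ^ 7 = 1 := by
        refine h.inv_fixed (hWE (W.pow_mem hjW 7)) (hWinv _ (W.pow_mem hjW 7)) ?_
        rw [eq_inv_of_mul_eq_one_left h']
        exact (hjs.pow_left 7).inv_left
      have hj1 := seven j hjW hj7
      rw [hj1, inv_one, one_mul] at hjs
      exact hKmem.2 ⟨hcE, hjs⟩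
    have hmem : (x : G) ∈ closure S7 := subset_closure (by
      rw [hS7]; exact ⟨hxE, hxW₁, hxo ▸ pow_orderOf_eq_one _⟩)
    have hbot : closure S7 = ⊥ := by
      refine h.eq_bot_of_fixed (fun a ha => (hKmem.1 (hle ha)).1) ?_ fun a ha => (hKmem.1 (hle ha)).2
      intro m hm a ha
      have hsub : (closure S7).map (MulAut.conj m).toMonoidHom ≤ closure S7 := by
        rw [MonoidHom.map_closure, closure_le]
        rintro _ ⟨c, hc, rfl⟩
        refine subset_closure ?_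
        rw [hS7] at hc ⊢
        refine ⟨h.conj_E hm hc.1, fun y hy => ?_, ?_⟩
        · have hy' : m⁻¹ * y * m ∈ W₁ := by
            have := hW₁ m⁻¹ (M.inv_mem hm) y hy
            rwa [inv_inv] at this
          have := commute_conj m (hc.2.1 _ hy')
          rwa [show m * (m⁻¹ * y * m) * m⁻¹ = y by group] at this
        · show (m * c * m⁻¹) ^ 7 = 1
          rw [conj_pow, hc.2.2, mul_one, mul_inv_cancel]
      exact hsub ⟨a, ha, rfl⟩
    rw [hbot, mem_bot] at hmem
    rw [hmem, orderOf_one] at hxo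
    omega
  -- the arithmetic
  obtain ⟨P, hP8, hPgen⟩ := h.sylow
  have hE9 : 9 * Nat.card O = Nat.card E := by omega
  obtain ⟨hG, hN, -, X, hX4, hX1, heqX⟩ :=
    h.toFourCore.order_formula P hP8 hPgen (f := 9) (k := Nat.card O) (by rw [hK]) hE9
  have hC7 : 7 ∣ Nat.card (centralizer ({z} : Set G)) :=
    ((show 7 ∣ 2520 by norm_num).trans (dvd_mul_right _ _)).trans hdvd
  obtain ⟨c, hc⟩ := hdvd
  have hidx := (centralizer ({z} : Set G)).card_mul_index
  rw [hc, hG] at hidx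
  have hOpos : 0 < Nat.card O := Nat.card_pos
  have h35 : 35 * (c * (centralizer ({z} : Set G)).index) = 3 * M.index :=
    Nat.eq_of_mul_eq_mul_left (show 0 < 72 * Nat.card O by omega) (by rw [← mul_assoc, ← mul_assoc]; linarith)
  have hN175 := orderEight_nine M.index X hN hX4 hX1 heqX
    ((show Nat.Coprime 35 3 by norm_num).dvd_of_dvd_mul_left ⟨_, h35.symm⟩)
  rw [hN175] at h35 hG
  have h15 : (centralizer ({z} : Set G)).index ∣ 15 := ⟨c, by rw [mul_comm]; omega⟩
  have hwt : (u * s) ^ 2 = t := by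
    have hs1 : s * u * s = t * u := by
      have := h.su
      rwa [inv_self h.ss] at this
    calc (u * s) ^ 2 = u * (s * u * s) := by rw [pow_two]; group
      _ = t := by rw [hs1, h.tu.eq, ← mul_assoc, h.uu, one_mul]
  refine no_fifteen h.nc hzo P hP8 (hPgen ▸ subset_closure (Or.inl rfl)) hwt h.tt ?_ ?_ hC7 h15
  · rw [h.card_cent_t, ← hE9, ← mul_assoc]
    exact fun hd => ((Fact.out : Nat.Prime 7).dvd_mul.1 hd).elim (by norm_num) h7K
  · intro hd
    rw [hG, show 24 * (9 * Nat.card O) * 175 = 7 * (5400 * Nat.card O) by ring,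
      show (49 : ℕ) = 7 * 7 from rfl] at hd
    exact ((Fact.out : Nat.Prime 7).dvd_mul.1 (Nat.dvd_of_mul_dvd_mul_left (by norm_num) hd)).elim
      (by norm_num) h7K

end FourCtx

end Cfsg.Agent.GW
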