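import Cfsg.Agent.Lib.GW.FourEightCard
import Cfsg.Agent.Lib.GW.FourEightArith
import Cfsg.Agent.Lib.Char.CentFour.Data
import Cfsg.Agent.Lib.Small.SimpleOrderTools

/-!
# The configuration `M = N(U)` over an involution centraliser forces order 2520

Counting the incidences between the outer involutions of `M` and the cosets of `M` against the order formula
for dihedral Sylow `2`-subgroups of order eight (no exceptional characters are needed).
-/

set_option autoImplicit false
set_option linter.unusedSectionVars false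
set_option linter.style.haveILetI false

namespace Cfsg.Agent.GW

open Subgroup

universe w

variable {G : Type w} [Group G] [Finite G] {t u s : G} {M E J : Subgroup G}

theorem fix_iff {i x : G} (hi : i * i = 1) : i • (x : G ⧸ M) = (x : G ⧸ M) ↔ x⁻¹ * i * x ∈ M := by
  rw [show i • (x : G ⧸ M) = ((i * x : G) : G ⧸ M) from rfl, QuotientGroup.eq, mul_inv_rev, inv_self hi]

/-- a group of order `3672` is not simple -/
theorem card_ne_3672 [IsSimpleGroup G] (hnc : ¬ IsMulCommutative G) : Nat.card G ≠ 3672 := by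
  classical
  intro hG
  haveI : Fact (Nat.Prime 17) := ⟨by norm_num⟩
  obtain ⟨P⟩ : Nonempty (Sylow 17 G) := inferInstance
  have hPc : Nat.card P = 17 := by
    rw [P.card_eq_multiplicity, hG, show (3672 : ℕ) = 17 ^ 1 * 216 from rfl,
      Nat.factorization_mul (by norm_num) (by norm_num), Finsupp.coe_add, Pi.add_apply,
      Nat.factorization_pow, Finsupp.coe_smul, Pi.smul_apply, Nat.Prime.factorization_self (by norm_num),
      Nat.factorization_eq_zero_of_not_dvd (by norm_num)]
    norm_num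
  set H := normalizer ((P : Subgroup G) : Set G) with hH
  have hidx : Nat.card (Sylow 17 G) = H.index := Sylow.card_eq_index_normalizer P
  have hmod : Nat.card (Sylow 17 G) ≡ 1 [MOD 17] := card_sylow_modEq_one 17 G
  have hdvd : H.index ∣ 216 := by
    have h1 : H.index ∣ (P : Subgroup G).index := Subgroup.index_dvd_of_le Subgroup.le_normalizer
    have h2 := (P : Subgroup G).card_mul_index
    rw [hPc, hG] at h2
    rwa [show (P : Subgroup G).index = 216 by omega] at h1
  rw [hidx] at hmod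
  have hHne : H ≠ ⊤ := by
    intro e
    haveI : (P : Subgroup G).Normal := normalizer_eq_top_iff.mp (hH.symm.trans e)
    rcases IsSimpleGroup.eq_bot_or_eq_top_of_normal (P : Subgroup G) inferInstance with e1 | e1
    · rw [e1] at hPc
      simp at hPc
    · rw [e1, Subgroup.card_top, hG] at hPc
      norm_num at hPc
  have h18 : H.index = 18 := by
    have hle : H.index ≤ 216 := Nat.le_of_dvd (by norm_num) hdvd
    have hne1 : H.index ≠ 1 := fun e => hHne (index_eq_one.1 e)
    have hmem : H.index ∈ Nat.divisors 216 := Nat.mem_divisors.2 ⟨hdvd, by norm_num⟩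
    have key : ∀ d ∈ Nat.divisors 216, d ≠ 1 → d % 17 = 1 → d = 18 := by decide
    exact key _ hmem hne1 hmod
  obtain ⟨f, hf, -⟩ := Small.SimpleOrderTools.card_dvd_half_factorial hnc H hHne
  obtain ⟨x, hxo, hxP⟩ := Small.SimpleOrderTools.exists_generator (by norm_num : Nat.Prime 17) hPc
  have hcard : Nat.card H = 204 := by
    have := H.card_mul_index
    rw [h18, hG] at this
    omega
  haveI : Fact (Nat.Prime 3) := ⟨by norm_num⟩
  obtain ⟨y, hy⟩ := exists_prime_orderOf_dvd_card' (G := H) 3 (by rw [hcard]; norm_num)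
  have hyo : orderOf (y : G) = 3 := by rw [Subgroup.orderOf_coe, hy]
  -- `y` centralises `x`
  have hyx : Commute (y : G) x := by
    have hxP' : x ∈ (P : Subgroup G) := hxP ▸ mem_zpowers x
    have hmem : (y : G) * x * (y : G)⁻¹ ∈ (P : Subgroup G) := (mem_normalizer_iff.1 y.2 x).1 hxP'
    rw [← hxP] at hmem
    obtain ⟨a, ha⟩ := (isOfFinOrder_of_finite x).mem_powers_iff_mem_zpowers.2 hmem
    simp only at ha
    have hpow : ∀ n : ℕ, (y : G) ^ n * x * ((y : G) ^ n)⁻¹ = x ^ (a ^ n) := by
      intro n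
      induction n with
      | zero => simp
      | succ n ih =>
        calc (y : G) ^ (n + 1) * x * ((y : G) ^ (n + 1))⁻¹
            = (y : G) * ((y : G) ^ n * x * ((y : G) ^ n)⁻¹) * (y : G)⁻¹ := by rw [pow_succ']; group
          _ = ((y : G) * x * (y : G)⁻¹) ^ (a ^ n) := by rw [ih, conj_pow]
          _ = (x ^ a) ^ (a ^ n) := by rw [← ha]
          _ = x ^ (a ^ (n + 1)) := by rw [← pow_mul, pow_succ']
    have h3 := hpow 3
    rw [← hyo, pow_orderOf_eq_one, one_mul, inv_one, mul_one, hyo] at h3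
    have h4 : a ^ 3 ≡ 1 [MOD 17] := by
      rw [← hxo, ← pow_eq_pow_iff_modEq, pow_one, ← h3]
    refine commute_of_conj ?_
    rw [← ha]
    conv_rhs => rw [← pow_one x]
    rw [pow_eq_pow_iff_modEq, hxo]
    have hcub : ∀ b < 17, b ^ 3 % 17 = 1 → b = 1 := by decide
    have := hcub (a % 17) (Nat.mod_lt _ (by norm_num)) (by rw [← Nat.pow_mod]; exact h4)
    unfold Nat.ModEq
    omega
  -- inside the symmetric group on eighteen points the centraliser of `x` has order 17
  have hσo : orderOf (f x) = 17 := by rw [orderOf_injective f hf, hxo]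
  have hct : (f x).cycleType = {17} := by
    obtain ⟨n, hn⟩ := Equiv.Perm.cycleType_prime_order (σ := f x) (by rw [hσo]; norm_num)
    rw [hσo] at hn
    have hle := (f x).sum_cycleType ▸ Finset.card_le_univ (f x).support
    rw [hn, Multiset.sum_replicate, Fintype.card_fin, h18, smul_eq_mul] at hle
    rw [hn, show n = 0 by omega]
    rfl
  have hcent : Nat.card (Subgroup.centralizer {f x}) = 17 := by
    rw [Equiv.Perm.nat_card_centralizer, hct, Fintype.card_fin, h18]
    simp
  have hmem : f (y : G) ∈ Subgroup.centralizer {f x} := mem_centralizer_singleton_iff.2 (hyx.map f).eq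
  have hd := Subgroup.orderOf_dvd_natCard _ hmem
  rw [orderOf_injective f hf, hyo, hcent] at hd
  norm_num at hd

namespace FourCore

variable (h : FourCore t u s M E)
include h

/-- the order formula, with `|E| = f |C_E(s)|` -/
theorem order_formula (P : Sylow 2 G) (hP8 : Nat.card P = 8)
    (hPgen : Subgroup.closure ({u * s, u} : Set G) = (P : Subgroup G)) {f k : ℕ}
    (hk : Nat.card (E ⊓ centralizer ({s} : Set G) : Subgroup G) = k) (hE : f * k = Nat.card E) :
    Nat.card G = 24 * (f * k) * M.index ∧ Odd M.index ∧ Odd f ∧ ∃ X : ℤ, X % 4 = 1 ∧ X ≠ 1 ∧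
      3 * (M.index : ℤ) * (X - 1) ^ 2 = 8 * X * (X + 1) * (1 + (f : ℤ)) ^ 2 := by
  have hkpos : 0 < k := hk ▸ Nat.card_pos
  have hEpos : 0 < f * k := hE ▸ Nat.card_pos
  have hfpos : 0 < f := Nat.pos_of_mul_pos_right hEpos
  have hG : Nat.card G = 24 * (f * k) * M.index := by
    rw [← M.card_mul_index, h.card_M, h.card_cent_t, ← hE]; ring
  have hwsq : (u * s) ^ 2 = t := by
    have hs1 : s * u * s = t * u := by
      have := h.su
      rwa [inv_self h.ss] at this
    calc (u * s) ^ 2 = u * (s * u * s) := by rw [pow_two]; group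
      _ = t := by rw [hs1, h.tu.eq, ← mul_assoc, h.uu, one_mul]
  have hwτ : u * s * u = t * s := by
    have := h.su
    rw [inv_self h.ss] at this
    calc u * s * u = u * (s * u * s) * s := by
          rw [show u * (s * u * s) * s = u * s * u * (s * s) by group, h.ss, mul_one]
      _ = t * s := by rw [this, h.tu.eq, ← mul_assoc, h.uu, one_mul]
  have hts2 : t * s * (t * s) = 1 := by rw [h.st.mul_mul_mul_comm, h.tt, h.ss, one_mul]
  have hts1 : t * s ≠ 1 := fun e => h.outer_s.2.2.2 (Or.inl (by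
    rw [eq_inv_of_mul_eq_one_right e, inv_self h.tt]))
  haveI : Fact (Nat.Prime 2) := ⟨Nat.prime_two⟩
  have hwo : orderOf (u * s) = 4 := by
    have := orderOf_eq_prime_pow (x := u * s) (p := 2) (n := 1) (by rw [pow_one, hwsq]; exact h.t_ne)
      (by rw [show (2 : ℕ) ^ (1 + 1) = 2 * 2 from rfl, pow_mul, hwsq, pow_two, h.tt])
    simpa using this
  have huo : orderOf u = 2 := orderOf_eq_prime (by rw [pow_two, h.uu]) h.u_ne
  obtain ⟨X, Y, Z, hX8, -, -, hX1, -, hform, -⟩ := CentFour.order_data P (w := u * s) (τ := u) hwo huo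
    (by rw [inv_self h.uu, mul_inv_rev, inv_self h.uu, inv_self h.ss, ← mul_assoc, h.uu, one_mul]) hPgen
    (by rw [hwsq]; exact h.one_class u h.uu h.u_ne)
    (by rw [hwsq, hwτ]; exact h.one_class _ hts2 hts1)
  rw [hwsq, hwτ, h.card_cent_t, h.card_cent_U, h.card_cent_ts, hk, hG, ← hE] at hform
  push_cast at hform
  have hfQ : (f : ℚ) ≠ 0 := by exact_mod_cast hfpos.ne'
  have hkQ : (k : ℚ) ≠ 0 := by exact_mod_cast hkpos.ne'
  field_simp at hform
  have hQ : (3 : ℚ) * (M.index : ℚ) * ((X : ℚ) - 1) ^ 2 = 8 * (X : ℚ) * ((X : ℚ) + 1) * (1 + (f : ℚ)) ^ 2 := by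
    linear_combination (1 / 128 : ℚ) * hform
  have heq : 3 * (M.index : ℤ) * (X - 1) ^ 2 = 8 * X * (X + 1) * (1 + (f : ℤ)) ^ 2 := by
    exact_mod_cast hQ
  have hNodd : Odd M.index := by
    have h1 := P.not_dvd_index
    have h2 := (P : Subgroup G).card_mul_index
    rw [show Nat.card (P : Subgroup G) = 8 from hP8, hG] at h2
    rw [Nat.odd_iff]
    by_contra hne
    have hd : 2 ∣ M.index := Nat.dvd_of_mod_eq_zero (by omega)
    refine h1 ?_
    have e : (P : Subgroup G).index = 3 * (f * k) * M.index := by nlinarith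
    rw [e]
    exact hd.mul_left _
  have hfodd : Odd f := (Nat.odd_mul.1 (hE ▸ h.E_odd)).1
  have hX4 : X % 4 = 1 := by omega
  exact ⟨hG, hNodd, hfodd, X, hX4, hX1, heq⟩

end FourCore

namespace FourEight

variable (h : FourEight t u s M E J)
include h

theorem card_invol_mul :
    Nat.card {i : G // i * i = 1 ∧ i ≠ 1} * Nat.card (centralizer ({t} : Set G)) = Nat.card G := by
  rw [← Small.SimpleOrderTools.card_conjugates t]
  congr 1
  refine Nat.card_congr (Equiv.subtypeEquivRight fun i => ⟨fun hi => h.one_class i hi.1 hi.2, fun hi => ?_⟩)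
  obtain ⟨g, rfl⟩ := isConj_iff.1 hi
  exact ⟨conj_mul_self h.tt, conj_ne_one h.t_ne⟩

/-- the involutions are three times the cosets of `M` -/
theorem card_invol : Nat.card {i : G // i * i = 1 ∧ i ≠ 1} = 3 * M.index := by
  have h1 := h.card_invol_mul
  have h2 := M.card_mul_index
  rw [h.card_M] at h2
  have hpos : 0 < Nat.card (centralizer ({t} : Set G)) := Nat.card_pos
  refine Nat.eq_of_mul_eq_mul_right hpos (h1.trans ?_)
  rw [← h2]; ring

/-- every involution fixes `1 + 2 |J|` cosets of `M` -/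
theorem card_fixed {i : G} (hi : i * i = 1) (hi1 : i ≠ 1) :
    Nat.card {c : G ⧸ M // i • c = c} = 1 + 2 * Nat.card J := by
  classical
  haveI := Fintype.ofFinite G
  haveI := Fintype.ofFinite (G ⧸ M)
  have hconst : ∀ j : {i : G // i * i = 1 ∧ i ≠ 1},
      Nat.card {c : G ⧸ M // (j : G) • c = c} = Nat.card {c : G ⧸ M // t • c = c} := by
    intro j
    obtain ⟨g, hg⟩ := isConj_iff.1 (h.one_class j j.2.1 j.2.2)
    refine (Nat.card_congr ((MulAction.toPerm g).subtypeEquiv fun c => ?_)).symm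
    rw [MulAction.toPerm_apply, ← hg, smul_smul, show g * t * g⁻¹ * g = g * t by group, ← smul_smul,
      smul_left_cancel_iff]
  have hbelow : ∀ c : G ⧸ M,
      Nat.card {j : {i : G // i * i = 1 ∧ i ≠ 1} // (j : G) • c = c} = 3 + 6 * Nat.card J := by
    intro c
    obtain ⟨x, rfl⟩ := QuotientGroup.mk_surjective c
    rw [← h.card_invol_M]
    refine Nat.card_congr
      { toFun := fun j => ⟨x⁻¹ * (j.1 : G) * x, (fix_iff j.1.2.1).1 j.2,
          by simpa using conj_mul_self (g := x⁻¹) j.1.2.1, by simpa using conj_ne_one (g := x⁻¹) j.1.2.2⟩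
        invFun := fun i => ⟨⟨x * (i : G) * x⁻¹, conj_mul_self i.2.2.1, conj_ne_one i.2.2.2⟩,
          (fix_iff (conj_mul_self i.2.2.1)).2 (by
            rw [show x⁻¹ * (x * (i : G) * x⁻¹) * x = i by group]; exact i.2.1)⟩
        left_inv := fun j => Subtype.ext (Subtype.ext (by dsimp only; group))
        right_inv := fun i => Subtype.ext (by dsimp only; group) }
  have hdc : ∑ j : {i : G // i * i = 1 ∧ i ≠ 1}, Nat.card {c : G ⧸ M // (j : G) • c = c} =
      ∑ c : G ⧸ M, Nat.card {j : {i : G // i * i = 1 ∧ i ≠ 1} // (j : G) • c = c} := by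
    simp only [Nat.card_eq_fintype_card, Fintype.card_subtype]
    exact Finset.sum_card_bipartiteAbove_eq_sum_card_bipartiteBelow
      (fun (j : {i : G // i * i = 1 ∧ i ≠ 1}) (c : G ⧸ M) => (j : G) • c = c)
  rw [Finset.sum_congr rfl (fun j _ => hconst j), Finset.sum_congr rfl (fun c _ => hbelow c),
    Finset.sum_const, Finset.sum_const, Finset.card_univ, Finset.card_univ, smul_eq_mul, smul_eq_mul,
    ← Nat.card_eq_fintype_card, ← Nat.card_eq_fintype_card, h.card_invol, ← Subgroup.index_eq_card] at hdc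
  rw [hconst ⟨i, hi, hi1⟩]
  have hpos : 0 < M.index := Nat.pos_of_ne_zero index_ne_zero_of_finite
  nlinarith [hdc]

/-- the incidence count -/
theorem index_ge (hJ : 3 < Nat.card J) : 4 * Nat.card J ^ 2 + 2 * Nat.card J + 1 ≤ M.index := by
  classical
  haveI := Fintype.ofFinite G
  haveI := Fintype.ofFinite (G ⧸ M)
  set c0 : G ⧸ M := ((1 : G) : G ⧸ M) with hc0
  set f := Nat.card J with hfdef
  have hne0 : ∀ {x : G}, (x : G ⧸ M) ≠ c0 → x ∉ M := fun {x} hx hxM => hx (by
    rw [hc0, QuotientGroup.eq, mul_one]; exact M.inv_mem hxM)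
  set A : G → Finset (G ⧸ M) := fun a => Finset.univ.filter fun c => a • c = c ∧ c ≠ c0 with hA
  have hfix : ∀ {i : G}, i * i = 1 → i ≠ 1 →
      (Finset.univ.filter fun c : G ⧸ M => i • c = c).card = 1 + 2 * f := by
    intro i hi hi1
    rw [← Fintype.card_subtype, ← Nat.card_eq_fintype_card]
    exact h.card_fixed hi hi1
  have hc0fix : ∀ {a : G}, a ∈ M → a * a = 1 → a • c0 = c0 := by
    intro a ha ha2
    rw [hc0, fix_iff ha2]
    simpa using ha
  have hAcard : ∀ {a : G}, Inner t u a → (A a).card = 2 * f := by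
    intro a ha
    have := hfix (h.inner_sq ha) (h.inner_ne_one ha)
    have e : A a = (Finset.univ.filter fun c : G ⧸ M => a • c = c).erase c0 := by
      ext c; simp [hA, and_comm]
    rw [e, Finset.card_erase_of_mem (by simp [hc0fix (h.inner_mem ha) (h.inner_sq ha)]), this]
    omega
  have hAdisj : ∀ {a b : G}, Inner t u a → Inner t u b → a ≠ b → Disjoint (A a) (A b) := by
    intro a b ha hb hab
    rw [Finset.disjoint_left]
    intro c hca hcb
    simp only [hA, Finset.mem_filter, Finset.mem_univ, true_and] at hca hcb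
    obtain ⟨x, rfl⟩ := QuotientGroup.mk_surjective c
    exact hab (h.fix_unique ha hb (hne0 hca.2) ((fix_iff (h.inner_sq ha)).1 hca.1)
      ((fix_iff (h.inner_sq hb)).1 hcb.1))
  have iu : Inner t u u := Or.inr (Or.inl rfl)
  have iv : Inner t u (t * u) := Or.inr (Or.inr rfl)
  set X := A t ∪ A u ∪ A (t * u) with hX
  have hXcard : X.card = 6 * f := by
    rw [hX, Finset.card_union_of_disjoint, Finset.card_union_of_disjoint (hAdisj h.inner_t iu (Ne.symm h.ut_ne)),
      hAcard h.inner_t, hAcard iu, hAcard iv]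
    · ring
    · rw [Finset.disjoint_union_left]
      exact ⟨hAdisj h.inner_t iv (fun e => h.u_ne (by simpa using e.symm)),
        hAdisj iu iv (fun e => h.t_ne (by simpa using e.symm))⟩
  have hc0X : c0 ∉ X := by simp [hX, hA]
  set P := Finset.univ \ insert c0 X with hP
  have hPcard : P.card + 6 * f + 1 = M.index := by
    rw [hP, Finset.card_univ_diff, Finset.card_insert_of_notMem hc0X, hXcard, Subgroup.index_eq_card,
      Nat.card_eq_fintype_card]
    have : (insert c0 X).card ≤ Fintype.card (G ⧸ M) := Finset.card_le_univ _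
    rw [Finset.card_insert_of_notMem hc0X, hXcard] at this
    omega
  have hmemX : ∀ {c : G ⧸ M}, c ∈ X ↔ c ≠ c0 ∧ ∃ b, Inner t u b ∧ b • c = c := by
    intro c
    simp only [hX, hA, Finset.mem_union, Finset.mem_filter, Finset.mem_univ, true_and]
    constructor
    · rintro ((⟨h1, h2⟩ | ⟨h1, h2⟩) | ⟨h1, h2⟩)
      · exact ⟨h2, t, h.inner_t, h1⟩
      · exact ⟨h2, u, iu, h1⟩
      · exact ⟨h2, t * u, iv, h1⟩
    · rintro ⟨h2, b, rfl | rfl | rfl, h1⟩
      · exact Or.inl (Or.inl ⟨h1, h2⟩)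
      · exact Or.inl (Or.inr ⟨h1, h2⟩)
      · exact Or.inr ⟨h1, h2⟩
  set O := Finset.univ.filter fun i : G => Outer t u M i with hO
  have hOcard : O.card = 6 * f := by
    rw [hO, ← Fintype.card_subtype, ← Nat.card_eq_fintype_card]
    exact h.card_outer
  -- an outer involution fixes many cosets in `P`
  have habove : ∀ i ∈ O, 2 * f - 2 ≤ (P.bipartiteAbove (fun (i : G) (c : G ⧸ M) => i • c = c) i).card := by
    intro i hi
    simp only [hO, Finset.mem_filter, Finset.mem_univ, true_and] at hi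
    obtain ⟨a, ha, hia⟩ := h.fixed_of_sq hi.1 hi.2.1
    set Fi := Finset.univ.filter fun c : G ⧸ M => i • c = c with hFi
    have hXi : (Fi.filter fun c => c ∈ X).card ≤ 2 := by
      by_contra hlt
      obtain ⟨c₁, h1, c₂, h2, c₃, h3, d12, d13, d23⟩ := Finset.two_lt_card.1 (not_le.1 hlt)
      simp only [hFi, Finset.mem_filter, Finset.mem_univ, true_and, hmemX] at h1 h2 h3
      obtain ⟨x, rfl⟩ := QuotientGroup.mk_surjective c₁
      obtain ⟨y, rfl⟩ := QuotientGroup.mk_surjective c₂
      obtain ⟨z, rfl⟩ := QuotientGroup.mk_surjective c₃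
      have key : ∀ {v : G}, i • (v : G ⧸ M) = v → (v : G ⧸ M) ≠ c0 →
          (∃ b, Inner t u b ∧ b • (v : G ⧸ M) = v) →
          v ∉ M ∧ v⁻¹ * i * v ∈ M ∧ v⁻¹ * a * v ∈ M := by
        rintro v hv hv0 ⟨b, hb, hbv⟩
        have h4 := (fix_iff hi.2.1).1 hv
        have h5 := (fix_iff (h.inner_sq hb)).1 hbv
        have hba : b = a := h.outer_fixed_unique hi hb ha (h.fix_commute hi hb (hne0 hv0) h4 h5) hia
        exact ⟨hne0 hv0, h4, hba ▸ h5⟩
      obtain ⟨x0, x1, x2⟩ := key h1.1 h1.2.1 h1.2.2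
      obtain ⟨y0, y1, y2⟩ := key h2.1 h2.2.1 h2.2.2
      obtain ⟨z0, z1, z2⟩ := key h3.1 h3.2.1 h3.2.2
      rcases h.fix_pair hi ha hia x0 y0 z0 x1 y1 z1 x2 y2 z2 with e | e | e
      · exact d12 (QuotientGroup.eq.2 e)
      · exact d13 (QuotientGroup.eq.2 e)
      · exact d23 (QuotientGroup.eq.2 e)
    have hsub : Fi ⊆ P.bipartiteAbove (fun (i : G) (c : G ⧸ M) => i • c = c) i ∪
        insert c0 (Fi.filter fun c => c ∈ X) := by
      intro c hc
      simp only [hFi, Finset.mem_filter, Finset.mem_univ, true_and] at hc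
      by_cases hc' : c = c0
      · simp [hc']
      by_cases hcX : c ∈ X
      · simp [hFi, hc, hcX]
      · simp [Finset.mem_bipartiteAbove, hP, hc, hc', hcX]
    have h6 := (Finset.card_le_card hsub).trans ((Finset.card_union_le _ _).trans
      (Nat.add_le_add_left (Finset.card_insert_le _ _) _))
    rw [show Fi.card = 1 + 2 * f from hfix hi.2.1 hi.2.2.1] at h6
    omega
  -- a coset in `P` is fixed by at most three outer involutions
  have hbelow : ∀ c ∈ P, (O.bipartiteBelow (fun (i : G) (c : G ⧸ M) => i • c = c) c).card ≤ 3 := by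
    intro c hc
    obtain ⟨x, rfl⟩ := QuotientGroup.mk_surjective c
    simp only [hP, Finset.mem_sdiff, Finset.mem_univ, true_and, Finset.mem_insert, not_or] at hc
    have hx := hne0 hc.1
    have hno : ∀ b, Inner t u b → x⁻¹ * b * x ∉ M := fun b hb hmem =>
      hc.2 (hmemX.2 ⟨hc.1, b, hb, (fix_iff (h.inner_sq hb)).2 hmem⟩)
    have hfx : ∀ i : {i : G // Outer t u M i ∧ i • (x : G ⧸ M) = (x : G ⧸ M)},
        ∃ a : {a : G // Inner t u a}, Commute (i : G) (a : G) := fun i => by
      obtain ⟨a, ha, hia⟩ := h.fixed_of_sq i.2.1.1 i.2.1.2.1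
      exact ⟨⟨a, ha⟩, hia⟩
    choose φ hφ using hfx
    have hinj : Function.Injective φ := by
      intro i j hij
      refine Subtype.ext (h.fix_outer_eq hJ i.2.1 j.2.1 (φ i).2 (hφ i) (hij ▸ hφ j) hx hno
        ((fix_iff i.2.1.2.1).1 i.2.2) ((fix_iff j.2.1.2.1).1 j.2.2))
    have h7 := Nat.card_le_card_of_injective φ hinj
    rw [h.card_inner, Nat.card_eq_fintype_card, Fintype.card_subtype] at h7
    refine le_trans (le_of_eq (congrArg Finset.card ?_)) h7
    ext i
    simp only [Finset.mem_bipartiteBelow, hO, Finset.mem_filter, Finset.mem_univ, true_and]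
  have h8 := Finset.card_mul_le_card_mul (fun (i : G) (c : G ⧸ M) => i • c = c) habove hbelow
  rw [hOcard] at h8
  have hf2 : ((2 * f - 2 : ℕ) : ℤ) = 2 * f - 2 := by omega
  have h9 : ((6 * f * (2 * f - 2) : ℕ) : ℤ) ≤ ((P.card * 3 : ℕ) : ℤ) := by exact_mod_cast h8
  push_cast [hf2] at h9
  have h10 : ((4 * f ^ 2 + 2 * f + 1 : ℕ) : ℤ) ≤ (M.index : ℕ) := by
    rw [← hPcard]; push_cast; nlinarith
  exact_mod_cast h10

theorem J_odd : Odd (Nat.card J) := h.E_odd.of_dvd_nat (Subgroup.card_dvd_of_le h.J_le)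

/-- a prime dividing `|J|` whose elements fix only `M` divides `|G : M| - 1` -/
theorem index_modEq {p : ℕ} [Fact p.Prime] {e : G} (heo : orderOf e = p)
    (hfix : ∀ x : G, x ∉ M → x⁻¹ * e * x ∉ M) (heM : e ∈ M) : M.index % p = 1 := by
  have hpg : IsPGroup p (zpowers e) := IsPGroup.of_card (n := 1) (by rw [Nat.card_zpowers, heo, pow_one])
  have h1 := hpg.card_modEq_card_fixedPoints (G ⧸ M)
  have hsing : MulAction.fixedPoints (zpowers e) (G ⧸ M) = {((1 : G) : G ⧸ M)} := by
    ext c
    obtain ⟨x, rfl⟩ := QuotientGroup.mk_surjective c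
    constructor
    · intro hc
      have h2 : e • (x : G ⧸ M) = (x : G ⧸ M) := hc ⟨e, mem_zpowers e⟩
      rw [show e • (x : G ⧸ M) = ((e * x : G) : G ⧸ M) from rfl, QuotientGroup.eq] at h2
      rw [Set.mem_singleton_iff, QuotientGroup.eq, mul_one]
      by_contra hx
      refine hfix x (fun hxM => hx (M.inv_mem hxM)) ?_
      have := M.inv_mem h2
      simpa [mul_assoc] using this
    · rintro hx
      rw [Set.mem_singleton_iff.1 hx]
      rintro ⟨g, hg⟩
      show g • ((1 : G) : G ⧸ M) = ((1 : G) : G ⧸ M)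
      rw [show g • ((1 : G) : G ⧸ M) = ((g * 1 : G) : G ⧸ M) from rfl, QuotientGroup.eq]
      simpa using M.inv_mem (Subgroup.zpowers_le.2 heM hg)
  rw [hsing, Nat.card_coe_set_eq, Set.ncard_singleton, ← Subgroup.index_eq_card] at h1
  rw [h1, Nat.mod_eq_of_lt (Fact.out : p.Prime).one_lt]

/-- for `p ≥ 5` dividing `|J| > 3` -/
theorem index_modEq_big {p : ℕ} [Fact p.Prime] (hp : 5 ≤ p) (hpd : p ∣ Nat.card J) (hJ : 3 < Nat.card J) :
    M.index % p = 1 := by
  obtain ⟨e, he⟩ := exists_prime_orderOf_dvd_card' (G := J) p hpd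
  have heo : orderOf (e : G) = p := by rw [Subgroup.orderOf_coe, he]
  refine h.index_modEq heo (fun x hx hm => ?_) (h.e_mem (h.J_le e.2))
  have he1 : (e : G) ≠ 1 := fun e1 => (Fact.out : p.Prime).ne_one (by rw [← heo, e1, orderOf_one])
  refine absurd (h.fix_core e.2 he1 hx hm (Or.inl fun a ha => h.commute_inner_of_coprime hm ?_ ha)) (by omega)
  have e2 : orderOf (x⁻¹ * (e : G) * x) = p := by
    rw [← heo, ← orderOf_conj_eq x⁻¹ (e : G), inv_inv]
  rw [e2]
  exact (Fact.out : p.Prime).coprime_iff_not_dvd.2 fun hd => by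
    have := Nat.le_of_dvd (by norm_num) hd
    interval_cases p <;> first | omega | exact absurd (Fact.out : Nat.Prime 6) (by norm_num)

/-- for `E = J`: elements of odd order of `M` centralise `J` -/
theorem cent_of_eq (hEJ : E = J) {g : G} (hg : g ∈ M) (hodd : Odd (orderOf g))
    (hgU : ¬ ∀ a, Inner t u a → Commute g a) {y : G} (hy : y ∈ J) : Commute g y := by
  have iu : Inner t u u := Or.inr (Or.inl rfl)
  have htu2 : t * (t * u) = u := by rw [← mul_assoc, h.tt, one_mul]
  -- `g` moves `t`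
  have hgt : ¬ Commute g t := by
    intro hgt
    refine hgU fun a ha => h.commute_all h.inner_t iu (Ne.symm h.ut_ne) hgt (commute_of_sq hodd (commute_of_conj ?_)) ha
    have hd := h.normU g hg u iu
    rw [show g * g * u * (g * g)⁻¹ = g * (g * u * g⁻¹) * g⁻¹ by group]
    rcases hd with e1 | e1 | e1
    · exfalso
      rw [← conj_of_commute hgt] at e1
      exact h.ut_ne (mul_left_cancel (mul_right_cancel e1))
    · rw [e1, e1]
    · rw [e1, show g * (t * u) * g⁻¹ = (g * t * g⁻¹) * (g * u * g⁻¹) by group, conj_of_commute hgt, e1,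
        ← mul_assoc, h.tt, one_mul]
  -- so `g` is a three-cycle on `U`
  have h1 := h.normU g hg t h.inner_t
  have hg2 : g * (g * t * g⁻¹) * g⁻¹ ≠ t := fun e => hgt (commute_of_sq hodd (commute_of_conj (by
    rw [show g * g * t * (g * g)⁻¹ = g * (g * t * g⁻¹) * g⁻¹ by group]; exact e)))
  have hgv : g * (t * u) * g⁻¹ = (g * t * g⁻¹) * (g * u * g⁻¹) := by group
  have hcyc : (g * t * g⁻¹ = u ∧ g * u * g⁻¹ = t * u) ∨ (g * t * g⁻¹ = t * u ∧ g * u * g⁻¹ = t) := by
    have hd := h.normU g hg u iu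
    rcases h1 with e | e | e
    · exact absurd (commute_of_conj e) hgt
    · refine Or.inl ⟨e, ?_⟩
      rcases hd with e' | e' | e'
      · exact absurd (by rw [e, e']) hg2
      · exact absurd (mul_left_cancel (mul_right_cancel (e'.trans e.symm))) h.ut_ne
      · exact e'
    · refine Or.inr ⟨e, ?_⟩
      rcases hd with e' | e' | e'
      · exact e'
      · exact absurd (by rw [e, hgv, e, e', mul_assoc, h.uu, mul_one]) hg2
      · exact absurd (mul_left_cancel (mul_right_cancel (e'.trans e.symm))) h.ut_ne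
  have hst : s * t * s⁻¹ = t := conj_of_commute h.st
  have hsv : s * (t * u) * s⁻¹ = u := by
    rw [show s * (t * u) * s⁻¹ = (s * t * s⁻¹) * (s * u * s⁻¹) by group, hst, h.su, htu2]
  have hwt : Commute (s * g * s * g) t := by
    refine commute_of_conj ?_
    rw [show s * g * s * g * t * (s * g * s * g)⁻¹ = s * (g * (s * (g * t * g⁻¹) * s⁻¹) * g⁻¹) * s⁻¹ by group]
    rcases hcyc with ⟨e, e'⟩ | ⟨e, e'⟩
    · rw [e, h.su, hgv, e, e', show u * (t * u) = t by rw [h.tu.eq, ← mul_assoc, h.uu, one_mul], hst]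
    · rw [e, hsv, e', hst]
  have hwu : Commute (s * g * s * g) u := by
    refine commute_of_conj ?_
    rw [show s * g * s * g * u * (s * g * s * g)⁻¹ = s * (g * (s * (g * u * g⁻¹) * s⁻¹) * g⁻¹) * s⁻¹ by group]
    rcases hcyc with ⟨e, e'⟩ | ⟨e, e'⟩
    · rw [e', hsv, e', hsv]
    · rw [e', hst, e, hsv]
  obtain ⟨v, hv, c, hc, hw⟩ := h.cu _ hwt hwu
  have hwy : Commute (s * g * s * g) y := by
    rw [hw]
    refine Commute.mul_left ?_ (h.J_abelian (hEJ ▸ hc) hy)
    rcases hv with rfl | hv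
    · exact Commute.one_left y
    · exact (h.e_inner (h.J_le hy) hv).symm
  refine commute_of_sq hodd (commute_of_conj ?_)
  have hz : g * y * g⁻¹ ∈ J := (mem_normalizer_iff.1 (h.J_norm hg) y).1 hy
  have hz2 : g * (g * y * g⁻¹) * g⁻¹ ∈ J := (mem_normalizer_iff.1 (h.J_norm hg) _).1 hz
  have h4 : s * (g * (s * (g * y * g⁻¹) * s⁻¹) * g⁻¹) * s⁻¹ = y := by
    rw [show s * (g * (s * (g * y * g⁻¹) * s⁻¹) * g⁻¹) * s⁻¹ = s * g * s * g * y * (s * g * s * g)⁻¹ by group]
    exact conj_of_commute hwy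
  rw [(h.J_inv _ (h.J_le hz)).2 hz, show g * (g * y * g⁻¹)⁻¹ * g⁻¹ = (g * (g * y * g⁻¹) * g⁻¹)⁻¹ by simp [mul_assoc],
    show s * (g * (g * y * g⁻¹) * g⁻¹)⁻¹ * s⁻¹ = (s * (g * (g * y * g⁻¹) * g⁻¹) * s⁻¹)⁻¹ by group,
    (h.J_inv _ (h.J_le hz2)).2 hz2, inv_inv] at h4
  rw [show g * g * y * (g * g)⁻¹ = g * (g * y * g⁻¹) * g⁻¹ by group]
  exact h4

/-- **The configuration forces order 2520.** -/
theorem card_eq [IsSimpleGroup G] (hnc : ¬ IsMulCommutative G) (P : Sylow 2 G) (hP8 : Nat.card P = 8)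
    (hPgen : Subgroup.closure ({u * s, u} : Set G) = (P : Subgroup G)) (hJ : J ≠ ⊥)
    (h3 : Nat.card J = 3 → E = J) (h9 : Nat.card J = 9 → E = J ∨ 7 ∣ M.index) :
    Nat.card G = 2520 := by
  obtain ⟨k, hk⟩ : ∃ k, Nat.card (E ⊓ centralizer ({s} : Set G) : Subgroup G) = k := ⟨_, rfl⟩
  obtain ⟨f, hfc⟩ : ∃ f, Nat.card J = f := ⟨_, rfl⟩
  have hE := h.card_JK
  rw [hk, hfc] at hE
  have hkpos : 0 < k := hk ▸ Nat.card_pos
  have hfpos : 0 < f := hfc ▸ Nat.card_pos
  have hG : Nat.card G = 24 * (f * k) * M.index := by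
    rw [← M.card_mul_index, h.card_M, h.card_cent_t, ← hE]; ring
  obtain ⟨-, hNodd, hfodd, X, hX4, hX1, heq⟩ := h.order_formula P hP8 hPgen hk hE
  have hf1 : f ≠ 1 := fun e => hJ (Subgroup.eq_bot_of_card_eq J (hfc.trans e))
  rcases (by obtain ⟨j, rfl⟩ := hfodd; omega : f = 3 ∨ 5 ≤ f) with rfl | hf5
  · have hk1 : k = 1 := by
      have := congrArg (fun H : Subgroup G => Nat.card H) (h3 hfc)
      simp only [hfc] at this
      rw [this] at hE
      omega
    subst hk1
    rcases orderEight_three M.index X hNodd hX4 hX1 heq with e | e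
    · rw [hG, e]
    · exact absurd (by rw [hG, e]) (card_ne_3672 (G := G) hnc)
  · exfalso
    have hcount := h.index_ge (by omega)
    rw [hfc] at hcount
    rcases orderEight_count M.index f X hNodd hfodd hX4 hX1 heq hf5 hcount with
      ⟨rfl, hN⟩ | ⟨rfl, hN⟩ | ⟨rfl, hN⟩ | ⟨rfl, hN⟩ | ⟨rfl, hN⟩
    · haveI : Fact (Nat.Prime 5) := ⟨by norm_num⟩
      have := h.index_modEq_big (p := 5) le_rfl (by rw [hfc]) (by omega)
      omega
    · rcases h9 hfc with hEJ | h7
      · haveI : Fact (Nat.Prime 3) := ⟨by norm_num⟩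
        obtain ⟨e, he⟩ := exists_prime_orderOf_dvd_card' (G := J) 3 (by rw [hfc]; norm_num)
        have heo : orderOf (e : G) = 3 := by rw [Subgroup.orderOf_coe, he]
        have he1 : (e : G) ≠ 1 := fun e1 => by rw [e1, orderOf_one] at heo; omega
        have := h.index_modEq heo (fun x hx hm => by
          refine absurd (h.fix_core e.2 he1 hx hm ?_) (by omega)
          by_cases hU : ∀ a, Inner t u a → Commute (x⁻¹ * (e : G) * x) a
          · exact Or.inl hU
          · refine Or.inr fun y hy => h.cent_of_eq hEJ hm ?_ hU hy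
            have := orderOf_conj_eq x⁻¹ (e : G)
            rw [inv_inv] at this
            rw [this, heo]; decide) (h.e_mem (h.J_le e.2))
        omega
      · omega
    · haveI : Fact (Nat.Prime 13) := ⟨by norm_num⟩
      have := h.index_modEq_big (p := 13) (by norm_num) (by rw [hfc]) (by omega)
      omega
    · haveI : Fact (Nat.Prime 17) := ⟨by norm_num⟩
      have := h.index_modEq_big (p := 17) (by norm_num) (by rw [hfc]) (by omega)
      omega
    · haveI : Fact (Nat.Prime 7) := ⟨by norm_num⟩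
      have := h.index_modEq_big (p := 7) (by norm_num) (by rw [hfc]; norm_num) (by omega)
      omega

end FourEight

end Cfsg.Agent.GW
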