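import Cfsg.Agent.Lib.GW.FourEightBasic

/-!
# Fixed points of the involutions of `M = N(U)` on the cosets of `M`

For the configuration `FourEight`: two inner involutions fix only the coset `M`; an outer involution fixes at
most two cosets other than `M` which an inner involution fixes; an element of `J` inverted by a fixed-point
partner fixes only `M` once `|J| > 3`; hence at most three outer involutions fix a coset that no inner one fixes.
-/

set_option autoImplicit false
set_option linter.unusedSectionVars false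
set_option linter.style.haveILetI false

namespace Cfsg.Agent.GW

universe w

variable {G : Type w} [Group G] [Finite G] {t u s : G} {M E J : Subgroup G}

/-- conjugation preserves commutation -/
theorem commute_conj {a b : G} (g : G) (h : Commute a b) : Commute (g * a * g⁻¹) (g * b * g⁻¹) := by
  simpa using h.map (MulAut.conj g).toMonoidHom

theorem orderOf_conj_eq (g a : G) : orderOf (g * a * g⁻¹) = orderOf a := by
  simpa using orderOf_injective (MulAut.conj g).toMonoidHom (MulAut.conj g).injective a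

theorem conj_mul_self {g a : G} (h : a * a = 1) : g * a * g⁻¹ * (g * a * g⁻¹) = 1 := by
  calc g * a * g⁻¹ * (g * a * g⁻¹) = g * (a * a) * g⁻¹ := by group
    _ = 1 := by rw [h]; group

theorem conj_ne_one {g a : G} (h : a ≠ 1) : g * a * g⁻¹ ≠ 1 := fun e => h (by
  calc a = g⁻¹ * (g * a * g⁻¹) * g := by group
    _ = 1 := by rw [e]; group)

/-- an element of odd order is centralised by what centralises its square -/
theorem commute_of_sq {a b : G} (ha : Odd (orderOf a)) (h : Commute (a * a) b) : Commute a b := by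
  obtain ⟨k, hk⟩ := ha
  have e : (a * a) ^ (k + 1) = a := by
    rw [← pow_two, ← pow_mul, show 2 * (k + 1) = orderOf a + 1 by omega, pow_succ, pow_orderOf_eq_one, one_mul]
  have := h.pow_left (k + 1)
  rwa [e] at this

namespace FourEight

variable (h : FourEight t u s M E J)
include h

theorem outer_of_fix {a x : G} (ha : Inner t u a) (hx : x ∉ M) (hm : x⁻¹ * a * x ∈ M) :
    Outer t u M (x⁻¹ * a * x) := by
  have e : x⁻¹ * a * x = x⁻¹ * a * (x⁻¹)⁻¹ := by rw [inv_inv]
  refine ⟨hm, ?_, ?_, fun hI => hx ?_⟩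
  · rw [e]; exact conj_mul_self (h.inner_sq ha)
  · rw [e]; exact conj_ne_one (h.inner_ne_one ha)
  · exact h.mem_of_inner (x := x) hI ha (by group)

/-- two inner involutions fix only `M` -/
theorem fix_unique {a b x : G} (ha : Inner t u a) (hb : Inner t u b) (hx : x ∉ M) (hma : x⁻¹ * a * x ∈ M)
    (hmb : x⁻¹ * b * x ∈ M) : a = b := by
  by_contra hab
  have hi := h.outer_of_fix ha hx hma
  have hj := h.outer_of_fix hb hx hmb
  have hab' : Inner t u (a * b) := by
    refine h.inner_of_cent ?_ (fun e => hab ?_) fun c hc =>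
      (h.inner_comm ha hc).mul_left (h.inner_comm hb hc)
    · rw [(h.inner_comm ha hb).symm.mul_mul_mul_comm, h.inner_sq ha, h.inner_sq hb, one_mul]
    · rw [eq_inv_of_mul_eq_one_left e, inv_self (h.inner_sq hb)]
  have hc : Commute (x⁻¹ * a * x) (x⁻¹ * b * x) := by simpa using commute_conj x⁻¹ (h.inner_comm ha hb)
  have hp := h.outer_pair hi hj (fun e => hab (by
    calc a = x * (x⁻¹ * a * x) * x⁻¹ := by group
      _ = x * (x⁻¹ * b * x) * x⁻¹ := by rw [e]
      _ = b := by group)) hc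
  exact hx (h.mem_of_inner (x := x) hp hab' (by group))

/-- an outer involution fixing a coset with an inner one centralises that inner involution -/
theorem fix_commute {i b x : G} (hi : Outer t u M i) (hb : Inner t u b) (hx : x ∉ M)
    (hmi : x⁻¹ * i * x ∈ M) (hmb : x⁻¹ * b * x ∈ M) : Commute i b := by
  refine commute_of_conj (h.fix_unique (h.normU i hi.1 b hb) hb hx ?_ hmb)
  have : x⁻¹ * (i * b * i⁻¹) * x = (x⁻¹ * i * x) * (x⁻¹ * b * x) * (x⁻¹ * i * x)⁻¹ := by group
  rw [this]
  exact M.mul_mem (M.mul_mem hmi hmb) (M.inv_mem hmi)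

/-- at most two cosets other than `M` are fixed by a commuting pair outer, inner -/
theorem fix_pair {i a x y z : G} (hi : Outer t u M i) (ha : Inner t u a) (hia : Commute i a)
    (hx : x ∉ M) (hy : y ∉ M) (hz : z ∉ M)
    (hxi : x⁻¹ * i * x ∈ M) (hyi : y⁻¹ * i * y ∈ M) (hzi : z⁻¹ * i * z ∈ M)
    (hxa : x⁻¹ * a * x ∈ M) (hya : y⁻¹ * a * y ∈ M) (hza : z⁻¹ * a * z ∈ M) :
    x⁻¹ * y ∈ M ∨ x⁻¹ * z ∈ M ∨ y⁻¹ * z ∈ M := by
  have hia1 : i * a ≠ 1 := fun e => hi.2.2.2 (by rwa [eq_inv_of_mul_eq_one_left e, inv_self (h.inner_sq ha)])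
  have key : ∀ {v : G}, v ∉ M → v⁻¹ * i * v ∈ M → v⁻¹ * a * v ∈ M →
      Inner t u (v⁻¹ * i * v) ∨ Inner t u (v⁻¹ * (i * a) * v) := by
    intro v hv hvi hva
    by_cases hI : Inner t u (v⁻¹ * i * v)
    · exact Or.inl hI
    right
    have hio : Outer t u M (v⁻¹ * i * v) := by
      refine ⟨hvi, ?_, ?_, hI⟩
      · simpa using conj_mul_self (g := v⁻¹) hi.2.1
      · simpa using conj_ne_one (g := v⁻¹) hi.2.2.1
    have hc : Commute (v⁻¹ * i * v) (v⁻¹ * a * v) := by simpa using commute_conj v⁻¹ hia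
    have hp := h.outer_pair hio (h.outer_of_fix ha hv hva) (fun e => hi.2.2.2 (by
      have : i = a := by
        calc i = v * (v⁻¹ * i * v) * v⁻¹ := by group
          _ = v * (v⁻¹ * a * v) * v⁻¹ := by rw [e]
          _ = a := by group
      rwa [this])) hc
    have e : v⁻¹ * (i * a) * v = (v⁻¹ * i * v) * (v⁻¹ * a * v) := by group
    rwa [e]
  have same : ∀ (g v w : G), Inner t u (v⁻¹ * g * v) → Inner t u (w⁻¹ * g * w) → v⁻¹ * w ∈ M :=
    fun g v w h1 h2 => h.mem_of_inner h2 h1 (by group)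
  rcases key hx hxi hxa with h1 | h1 <;> rcases key hy hyi hya with h2 | h2 <;>
    rcases key hz hzi hza with h3 | h3 <;>
    first
      | exact Or.inl (same _ _ _ h1 h2)
      | exact Or.inr (Or.inl (same _ _ _ h1 h3))
      | exact Or.inr (Or.inr (same _ _ _ h2 h3))

theorem J_abelian {a b : G} (ha : a ∈ J) (hb : b ∈ J) : Commute a b := by
  have h1 := (h.J_inv _ (h.J_le ha)).2 ha
  have h2 := (h.J_inv _ (h.J_le hb)).2 hb
  have h3 := (h.J_inv _ (h.J_le (J.mul_mem ha hb))).2 (J.mul_mem ha hb)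
  have h4 : a⁻¹ * b⁻¹ = (a * b)⁻¹ := by rw [← h3, ← h1, ← h2]; group
  rw [mul_inv_rev] at h4
  exact (by simpa using congrArg Inv.inv h4.symm : a * b = b * a)

/-- an element of `M` of order prime to six centralises `U` -/
theorem commute_inner_of_coprime {g a : G} (hg : g ∈ M) (hco : Nat.Coprime (orderOf g) 6)
    (ha : Inner t u a) : Commute g a := by
  have hit : ∀ n : ℕ, Inner t u (g ^ n * a * (g ^ n)⁻¹) := fun n => h.normU _ (M.pow_mem hg n) a ha
  have hd : ∃ d, 0 < d ∧ d ≤ 3 ∧ Commute (g ^ d) a := by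
    have back : ∀ m n : ℕ, m < n → n ≤ 3 → g ^ m * a * (g ^ m)⁻¹ = g ^ n * a * (g ^ n)⁻¹ →
        ∃ d, 0 < d ∧ d ≤ 3 ∧ Commute (g ^ d) a := by
      intro m n hmn hn e
      refine ⟨n - m, by omega, by omega, commute_of_conj ?_⟩
      rw [show n = m + (n - m) by omega, pow_add] at e
      calc g ^ (n - m) * a * (g ^ (n - m))⁻¹
          = (g ^ m)⁻¹ * (g ^ m * g ^ (n - m) * a * (g ^ m * g ^ (n - m))⁻¹) * g ^ m := by group
        _ = a := by rw [← e]; group
    have b01 := back 0 1 (by omega) (by omega)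
    have b02 := back 0 2 (by omega) (by omega)
    have b03 := back 0 3 (by omega) (by omega)
    have b12 := back 1 2 (by omega) (by omega)
    have b13 := back 1 3 (by omega) (by omega)
    have b23 := back 2 3 (by omega) (by omega)
    have h0 := hit 0
    have h1 := hit 1
    have h2 := hit 2
    have h3 := hit 3
    generalize g ^ 0 * a * (g ^ 0)⁻¹ = a0 at *
    generalize g ^ 1 * a * (g ^ 1)⁻¹ = a1 at *
    generalize g ^ 2 * a * (g ^ 2)⁻¹ = a2 at *
    generalize g ^ 3 * a * (g ^ 3)⁻¹ = a3 at *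
    rcases h0 with rfl | rfl | rfl <;> rcases h1 with rfl | rfl | rfl <;> rcases h2 with rfl | rfl | rfl <;>
      rcases h3 with rfl | rfl | rfl <;>
      first | exact b01 rfl | exact b02 rfl | exact b03 rfl | exact b12 rfl | exact b13 rfl | exact b23 rfl
  obtain ⟨d, hd0, hd3, hc⟩ := hd
  obtain ⟨k, hk⟩ := exists_pow_eq_self_of_coprime (x := g) (n := d)
    (((show d ∣ 6 by interval_cases d <;> norm_num) |> hco.symm.coprime_dvd_left))
  rw [← hk]
  exact hc.pow_left k

/-- an element of `J` fixing a coset other than `M` -/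
theorem fix_core {e x : G} (he : e ∈ J) (he1 : e ≠ 1) (hx : x ∉ M) (hm : x⁻¹ * e * x ∈ M)
    (hJ : (∀ a, Inner t u a → Commute (x⁻¹ * e * x) a) ∨ ∀ y ∈ J, Commute (x⁻¹ * e * x) y) :
    Nat.card J ≤ 3 := by
  rcases hJ with hU | hC
  · exfalso
    set e' := x⁻¹ * e * x with he'
    have hmem : ∀ a, Inner t u a → Outer t u M (x * a * x⁻¹) := by
      intro a ha
      refine ⟨?_, conj_mul_self (h.inner_sq ha), conj_ne_one (h.inner_ne_one ha), fun hI => hx ?_⟩
      · refine h.good e he he1 (Subgroup.mem_centralizer_singleton_iff.2 ?_)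
        have := commute_conj x (hU a ha)
        rw [he', show x * (x⁻¹ * e * x) * x⁻¹ = e by group] at this
        exact this.symm.eq
      · exact h.mem_of_inner ha hI rfl
    have ho := hmem t h.inner_t
    have hinv := h.outer_inverts ho he
    have hc : x * t * x⁻¹ * e * (x * t * x⁻¹)⁻¹ = e := by
      refine conj_of_commute ?_
      have := commute_conj x (hU t h.inner_t)
      rw [he', show x * (x⁻¹ * e * x) * x⁻¹ = e by group] at this
      exact this.symm
    exact he1 (eq_one_of_eq_inv (h.e_odd (h.J_le he)) (hc.symm.trans hinv))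
  · -- conjugates of `J` by `x` lie in `M` and act semiregularly on the three inner involutions
    have hM : ∀ y ∈ J, x * y * x⁻¹ ∈ M := by
      intro y hy
      refine h.good e he he1 (Subgroup.mem_centralizer_singleton_iff.2 ?_)
      have := commute_conj x (hC y hy)
      rw [show x * (x⁻¹ * e * x) * x⁻¹ = e by group] at this
      exact this.symm.eq
    have hno : ∀ y ∈ J, (∀ a, Inner t u a → Commute (x * y * x⁻¹) a) → y = 1 := by
      intro y hy hcy
      by_contra hy1
      have hfix : ∀ a, Inner t u a → x⁻¹ * a * x ∈ M := by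
        intro a ha
        refine h.good y hy hy1 (Subgroup.mem_centralizer_singleton_iff.2 ?_)
        have := commute_conj x⁻¹ (hcy a ha)
        rw [show x⁻¹ * (x * y * x⁻¹) * x⁻¹⁻¹ = y by group, inv_inv] at this
        exact this.symm.eq
      exact h.ut_ne (h.fix_unique (Or.inr (Or.inl rfl)) h.inner_t hx (hfix u (Or.inr (Or.inl rfl)))
        (hfix t h.inner_t))
    let φ : J → {a : G // Inner t u a} := fun y =>
      ⟨x * (y : G) * x⁻¹ * t * (x * (y : G) * x⁻¹)⁻¹, h.normU _ (hM y y.2) t h.inner_t⟩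
    have hφ : Function.Injective φ := by
      intro y₁ y₂ hy
      have hy' : x * (y₁ : G) * x⁻¹ * t * (x * (y₁ : G) * x⁻¹)⁻¹ =
          x * (y₂ : G) * x⁻¹ * t * (x * (y₂ : G) * x⁻¹)⁻¹ := congrArg Subtype.val hy
      set z := (y₂ : G)⁻¹ * (y₁ : G) with hz
      have hzJ : z ∈ J := J.mul_mem (J.inv_mem y₂.2) y₁.2
      have hzt : Commute (x * z * x⁻¹) t := by
        refine commute_of_conj ?_
        calc x * z * x⁻¹ * t * (x * z * x⁻¹)⁻¹
            = (x * (y₂ : G) * x⁻¹)⁻¹ * (x * (y₁ : G) * x⁻¹ * t * (x * (y₁ : G) * x⁻¹)⁻¹) *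
              (x * (y₂ : G) * x⁻¹) := by rw [hz]; group
          _ = t := by rw [hy']; group
      have hodd : Odd (orderOf (x * z * x⁻¹)) := by
        rw [orderOf_conj_eq]; exact h.e_odd (h.J_le hzJ)
      have hzU : ∀ a, Inner t u a → Commute (x * z * x⁻¹) a := by
        have hut : Commute (x * z * x⁻¹) u := by
          refine commute_of_sq hodd (commute_of_conj ?_)
          have hd := h.normU _ (hM z hzJ) u (Or.inr (Or.inl rfl))
          generalize x * z * x⁻¹ = g at *
          have hg2 : g * g * u * (g * g)⁻¹ = g * (g * u * g⁻¹) * g⁻¹ := by group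
          rw [hg2]
          rcases hd with e1 | e1 | e1
          · exfalso
            rw [← conj_of_commute hzt] at e1
            exact h.ut_ne (mul_left_cancel (mul_right_cancel e1))
          · rw [e1, e1]
          · rw [e1, show g * (t * u) * g⁻¹ = (g * t * g⁻¹) * (g * u * g⁻¹) by group, conj_of_commute hzt, e1,
              ← mul_assoc, h.tt, one_mul]
        intro a ha
        exact h.commute_all h.inner_t (Or.inr (Or.inl rfl)) (Ne.symm h.ut_ne) hzt hut ha
      have hz1 := hno z hzJ hzU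
      exact Subtype.ext (eq_of_inv_mul_eq_one hz1).symm
    refine (Nat.card_le_card_of_injective φ hφ).trans ?_
    let ψ : Fin 3 → {a : G // Inner t u a} :=
      ![⟨t, h.inner_t⟩, ⟨u, Or.inr (Or.inl rfl)⟩, ⟨t * u, Or.inr (Or.inr rfl)⟩]
    have hψ : Function.Surjective ψ := by
      rintro ⟨a, ha | ha | ha⟩
      · exact ⟨0, Subtype.ext ha.symm⟩
      · exact ⟨1, Subtype.ext ha.symm⟩
      · exact ⟨2, Subtype.ext ha.symm⟩
    simpa using Nat.card_le_card_of_surjective ψ hψ

/-- an element of `J` fixing with an outer involution a coset other than `M` forces `|J| ≤ 3` -/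
theorem fix_real {i e x : G} (hi : Outer t u M i) (he : e ∈ J) (he1 : e ≠ 1) (hx : x ∉ M)
    (hmi : x⁻¹ * i * x ∈ M) (hm : x⁻¹ * e * x ∈ M) : Nat.card J ≤ 3 := by
  refine h.fix_core he he1 hx hm ?_
  by_cases hU : ∀ a, Inner t u a → Commute (x⁻¹ * e * x) a
  · exact Or.inl hU
  right
  push Not at hU
  obtain ⟨a, ha, hna⟩ := hU
  have hinv : x⁻¹ * i * x * (x⁻¹ * e * x) * (x⁻¹ * i * x)⁻¹ = (x⁻¹ * e * x)⁻¹ := by
    calc x⁻¹ * i * x * (x⁻¹ * e * x) * (x⁻¹ * i * x)⁻¹ = x⁻¹ * (i * e * i⁻¹) * x := by group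
      _ = _ := by rw [h.outer_inverts hi he]; group
  have hodd : Odd (orderOf (x⁻¹ * e * x)) := by
    have := orderOf_conj_eq x⁻¹ e
    rw [inv_inv] at this
    rw [this]; exact h.e_odd (h.J_le he)
  have hi2 : x⁻¹ * i * x * (x⁻¹ * i * x) = 1 := by simpa using conj_mul_self (g := x⁻¹) hi.2.1
  have hi1 : x⁻¹ * i * x ≠ 1 := by simpa using conj_ne_one (g := x⁻¹) hi.2.2.1
  have he1' : x⁻¹ * e * x ≠ 1 := by simpa using conj_ne_one (g := x⁻¹) he1
  generalize x⁻¹ * e * x = g at *
  generalize x⁻¹ * i * x = i' at *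
  have hio : Outer t u M i' := by
    refine ⟨hmi, hi2, hi1, fun hI => he1' ?_⟩
    have hd := h.normU g hm i' hI
    have e2 : g * g = (g * i' * g⁻¹) * i' := by
      have h3 : i' * g⁻¹ * i' = g := by
        have := congrArg Inv.inv hinv
        rw [inv_inv, mul_inv_rev, mul_inv_rev, inv_inv, inv_self hi2, ← mul_assoc] at this
        exact this
      calc g * g = g * (i' * g⁻¹ * i') := by rw [h3]
        _ = _ := by group
    have h4 : (g * g) * (g * g) = 1 := by
      rw [e2, (h.inner_comm hd hI).symm.mul_mul_mul_comm, h.inner_sq hd, h.inner_sq hI, one_mul]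
    exact eq_one_of_sq_odd hodd (eq_one_of_sq_odd (hodd.of_dvd_nat (orderOf_dvd_of_pow_eq_one (by
      rw [← pow_two, ← pow_mul, mul_comm, pow_mul, pow_orderOf_eq_one, one_pow]))) h4)
  intro y hy
  refine commute_of_sq hodd (commute_of_conj ?_)
  have hz : g * y * g⁻¹ ∈ J := (Subgroup.mem_normalizer_iff.1 (h.J_norm hm) y).1 hy
  have h1 := h.outer_inverts hio hz
  have h2 := h.outer_inverts hio hy
  have h3 : g⁻¹ * y⁻¹ * g = g * y⁻¹ * g⁻¹ := by
    have e : i' * (g * y * g⁻¹) * i'⁻¹ = (i' * g * i'⁻¹) * (i' * y * i'⁻¹) * (i' * g * i'⁻¹)⁻¹ := by group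
    rw [e, hinv, h2, inv_inv] at h1
    rw [h1]; group
  calc g * g * y * (g * g)⁻¹ = g * (g * y⁻¹ * g⁻¹)⁻¹ * g⁻¹ := by group
    _ = g * (g⁻¹ * y⁻¹ * g)⁻¹ * g⁻¹ := by rw [h3]
    _ = y := by group

/-- two outer involutions fixing the same inner involution and a coset no inner involution fixes are equal -/
theorem fix_outer_eq {i j a x : G} (hJ : 3 < Nat.card J) (hi : Outer t u M i) (hj : Outer t u M j)
    (ha : Inner t u a) (hia : Commute i a) (hja : Commute j a) (hx : x ∉ M)
    (hno : ∀ b, Inner t u b → x⁻¹ * b * x ∉ M)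
    (hmi : x⁻¹ * i * x ∈ M) (hmj : x⁻¹ * j * x ∈ M) : i = j := by
  obtain ⟨m, hm, hma⟩ := h.inner_conj ha
  have conjOuter : ∀ {k : G}, Outer t u M k → Outer t u M (m⁻¹ * k * m) := by
    intro k hk
    refine ⟨M.mul_mem (M.mul_mem (M.inv_mem hm) hk.1) hm, ?_, ?_, fun hI => hk.2.2.2 ?_⟩
    · simpa using conj_mul_self (g := m⁻¹) hk.2.1
    · simpa using conj_ne_one (g := m⁻¹) hk.2.2.1
    · have := h.normU m hm _ hI
      rwa [show m * (m⁻¹ * k * m) * m⁻¹ = k by group] at this
  have conjT : ∀ {k : G}, Commute k a → Commute (m⁻¹ * k * m) t := by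
    intro k hk
    have := commute_conj m⁻¹ hk
    rw [inv_inv, ← hma, show m⁻¹ * (m * t * m⁻¹) * m = t by group] at this
    exact this
  obtain ⟨v, hv, d, hd, hid⟩ := h.outer_at_t (conjOuter hi) (conjT hia)
  obtain ⟨v', hv', d', hd', hjd⟩ := h.outer_at_t (conjOuter hj) (conjT hja)
  have hmy : m⁻¹ * x ∉ M := fun hmem => hx (by simpa using M.mul_mem hm hmem)
  have e1 : (m⁻¹ * x)⁻¹ * (m⁻¹ * i * m) * (m⁻¹ * x) ∈ M := by
    rw [show (m⁻¹ * x)⁻¹ * (m⁻¹ * i * m) * (m⁻¹ * x) = x⁻¹ * i * x by group]; exact hmi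
  have e2 : (m⁻¹ * x)⁻¹ * (m⁻¹ * j * m) * (m⁻¹ * x) ∈ M := by
    rw [show (m⁻¹ * x)⁻¹ * (m⁻¹ * j * m) * (m⁻¹ * x) = x⁻¹ * j * x by group]; exact hmj
  have hw : (v = 1 ∨ v = t) → ∀ {c : G}, c ∈ J → Commute v c := by
    intro hv c hc
    rcases hv with rfl | rfl
    · exact Commute.one_left c
    · exact (h.E_t c (h.J_le hc)).symm
  have hvv : ∀ {w : G}, (w = 1 ∨ w = t) → w * w = 1 ∧ Commute s w := by
    rintro w (rfl | rfl)
    · exact ⟨one_mul 1, Commute.one_right s⟩
    · exact ⟨h.tt, h.st⟩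
  have hprod : (m⁻¹ * i * m) * (m⁻¹ * j * m) = (v * v') * (d⁻¹ * d') := by
    rw [hid, hjd]
    have e3 : s * d = d⁻¹ * s := by
      have := (h.J_inv _ (h.J_le hd)).2 hd
      rw [← this]; group
    calc s * v * d * (s * v' * d') = v * (s * d) * s * v' * d' := by rw [(hvv hv).2.eq]; group
      _ = v * d⁻¹ * (s * s) * v' * d' := by rw [e3]; group
      _ = v * (d⁻¹ * v') * d' := by rw [h.ss]; group
      _ = v * (v' * d⁻¹) * d' := by
        rw [(show Commute d⁻¹ v' from by
          rcases hv' with rfl | rfl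
          · exact Commute.one_right _
          · exact h.E_t _ (E.inv_mem (h.J_le hd))).eq]
      _ = _ := by group
  have hmemP : (m⁻¹ * x)⁻¹ * ((v * v') * (d⁻¹ * d')) * (m⁻¹ * x) ∈ M := by
    rw [← hprod]
    have := M.mul_mem e1 e2
    simpa [mul_assoc] using this
  have hdJ : d⁻¹ * d' ∈ J := J.mul_mem (J.inv_mem hd) hd'
  rcases (show v * v' = 1 ∨ v * v' = t by
      rcases hv with rfl | rfl <;> rcases hv' with rfl | rfl <;> simp [h.tt]) with e | e
  · rw [e, one_mul] at hmemP hprod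
    rcases eq_or_ne (d⁻¹ * d') 1 with e' | hne
    · rw [e'] at hprod
      have : m⁻¹ * i * m = m⁻¹ * j * m := by
        rw [eq_inv_of_mul_eq_one_left hprod, inv_self (conjOuter hj).2.1]
      exact mul_left_cancel (mul_right_cancel this)
    · exact absurd (h.fix_real (conjOuter hi) hdJ hne hmy e1 hmemP) (by omega)
  · exfalso
    rw [e] at hmemP
    set d'' := d⁻¹ * d' with hd''
    have hodd := h.e_odd (h.J_le hdJ)
    have hpow : (t * d'') ^ orderOf d'' = t := by
      rw [(show Commute t d'' from (h.E_t _ (h.J_le hdJ)).symm).mul_pow, pow_orderOf_eq_one, mul_one]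
      obtain ⟨k, hk⟩ := hodd
      rw [hk, pow_succ, pow_mul, pow_two, h.tt, one_pow, one_mul]
    have hk' := M.pow_mem hmemP (orderOf d'')
    rw [show ((m⁻¹ * x)⁻¹ * (t * d'') * (m⁻¹ * x)) = (m⁻¹ * x)⁻¹ * (t * d'') * ((m⁻¹ * x)⁻¹)⁻¹ by group,
      conj_pow, hpow] at hk'
    refine hno a ha ?_
    rw [← hma]
    simpa [mul_assoc] using hk'

end FourEight

end Cfsg.Agent.GW
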