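import Cfsg.Agent.Lib.GW.FourEightLocal
import Cfsg.Agent.S0205

/-!
# Minimal `M`-invariant subgroups of `E` are inverted by `s`

An `M`-invariant subgroup `A ≠ 1` of `E` inverted by `s` whose centraliser meets `C_E(s)` trivially gives the
configuration `FourEight` with `J = C_E(A)`, hence order 2520.
-/

set_option autoImplicit false
set_option linter.unusedSectionVars false
set_option linter.style.haveILetI false

namespace Cfsg.Agent.GW

open Subgroup

universe w

variable {G : Type w} [Group G] [Finite G] {t u s : G} {M E : Subgroup G}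

/-- a smallest `M`-invariant subgroup strictly over `Z` inside `E` -/
theorem exists_minimal_over {Z : Subgroup G} (hE : MInv M E) (hZ : Z < E) :
    ∃ W : Subgroup G, Z < W ∧ W ≤ E ∧ MInv M W ∧ ∀ A : Subgroup G, Z < A → A ≤ W → MInv M A → A = W := by
  classical
  obtain ⟨W, ⟨h1, h2, h3⟩, hmin⟩ :=
    Set.exists_min_image {A : Subgroup G | Z < A ∧ A ≤ E ∧ MInv M A} (fun A => Nat.card A) (Set.toFinite _)
      ⟨E, hZ, le_rfl, hE⟩
  exact ⟨W, h1, h2, h3, fun A ha haW hA => eq_of_le_of_card_ge haW (hmin A ⟨ha, haW.trans h2, hA⟩)⟩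

theorem mInv_commutator {A : Subgroup G} (hA : MInv M A) : MInv M ⁅A, A⁆ := by
  intro m hm a ha
  have hle : (⁅A, A⁆).map (MulAut.conj m).toMonoidHom ≤ ⁅A, A⁆ := by
    rw [map_commutator]
    have : A.map (MulAut.conj m).toMonoidHom ≤ A := by
      rintro _ ⟨b, hb, rfl⟩
      exact hA m hm b hb
    exact commutator_mono this this
  exact hle ⟨a, ha, rfl⟩

theorem mInv_inf_cent {A B : Subgroup G} (hA : MInv M A) (hB : MInv M B) :
    MInv M (A ⊓ centralizer (B : Set G)) := by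
  intro m hm a ha
  obtain ⟨haA, haB⟩ := mem_inf.1 ha
  refine mem_inf.2 ⟨hA m hm a haA, mem_centralizer_iff.2 fun b hb => ?_⟩
  have h1 : m⁻¹ * b * m ∈ B := by
    have := hB m⁻¹ (M.inv_mem hm) b hb
    rwa [inv_inv] at this
  have := (mem_centralizer_iff.1 haB _ h1)
  calc b * (m * a * m⁻¹) = m * ((m⁻¹ * b * m) * a) * m⁻¹ := by group
    _ = m * (a * (m⁻¹ * b * m)) * m⁻¹ := by rw [this]
    _ = m * a * m⁻¹ * b := by group

theorem mInv_sup {A B : Subgroup G} (hA : MInv M A) (hB : MInv M B) : MInv M (A ⊔ B) := by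
  intro m hm a ha
  have hle : (A ⊔ B).map (MulAut.conj m).toMonoidHom ≤ A ⊔ B := by
    rw [Subgroup.map_sup]
    refine sup_le_sup ?_ ?_
    · rintro _ ⟨b, hb, rfl⟩
      exact hA m hm b hb
    · rintro _ ⟨b, hb, rfl⟩
      exact hB m hm b hb
  exact hle ⟨a, ha, rfl⟩

namespace FourCtx

variable [IsSimpleGroup G] (h : FourCtx t u s M E)
include h

theorem solvable_of_le {A : Subgroup G} (hA : A ≤ E) : Group.IsSolvable A :=
  S0205.result (h.E_odd.of_dvd_nat (Subgroup.card_dvd_of_le hA))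

theorem eq_bot_of_perfect {A : Subgroup G} (hA : A ≤ E) (hc : ⁅A, A⁆ = A) : A = ⊥ :=
  eq_of_commutator_sup (h.solvable_of_le hA) bot_le (fun z hz x _ => (mem_bot.1 hz) ▸ Commute.one_left x)
    (by rw [hc, sup_bot_eq])

/-- a minimal `M`-invariant subgroup of `E` is inverted by `s` -/
theorem minimal_inverted {W : Subgroup G} (hWE : W ≤ E) (hW : MInv M W) (hne : W ≠ ⊥)
    (hmin : ∀ A : Subgroup G, ⊥ < A → A ≤ W → MInv M A → A = W) {w : G} (hw : w ∈ W) :
    s * w * s⁻¹ = w⁻¹ := by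
  by_contra hbad
  have hWs : ∀ a ∈ W, s * a * s⁻¹ ∈ W := fun a ha => hW s h.s_mem a ha
  have habel : ∀ a ∈ W, ∀ b ∈ W, Commute a b := by
    have hle : ⁅W, W⁆ ≤ W := commutator_le.2 fun a ha b hb => by
      rw [commutatorElement_def]
      exact W.mul_mem (W.mul_mem (W.mul_mem ha hb) (W.inv_mem ha)) (W.inv_mem hb)
    have hbot : ⁅W, W⁆ = ⊥ := by
      by_contra hcne
      exact hne (h.eq_bot_of_perfect hWE (hmin _ (bot_lt_iff_ne_bot.2 hcne) hle (mInv_commutator hW)))
    intro a ha b hb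
    have := commutator_mem_commutator (H₁ := W) (H₂ := W) ha hb
    rw [hbot, mem_bot] at this
    exact commutatorElement_eq_one_iff_commute.1 this
  -- a fixed and an inverted element
  obtain ⟨j, hj, hji, -, hjs⟩ := h.split hWE hWs hw
  obtain ⟨z, hzW, hzs, hz1⟩ : ∃ z ∈ W, Commute z s ∧ z ≠ 1 :=
    ⟨j⁻¹ * w, W.mul_mem (W.inv_mem hj) hw, hjs, fun e => hbad (by rwa [← inv_mul_eq_one.1 e])⟩
  obtain ⟨f₀, hfW, hfi, hf1⟩ : ∃ f ∈ W, s * f * s⁻¹ = f⁻¹ ∧ f ≠ 1 := by
    by_contra hcon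
    push Not at hcon
    refine hne (h.eq_bot_of_fixed hWE hW fun a ha => ?_)
    obtain ⟨i, hi, hii, -, his⟩ := h.split hWE hWs ha
    rw [hcon i hi hii, inv_one, one_mul] at his
    exact his
  have three : ∀ a ∈ W, s * a * s⁻¹ = a⁻¹ → a = 1 ∨ a = f₀ ∨ a = f₀⁻¹ := fun a ha hai =>
    (em (a = 1)).imp_right fun ha1 => h.inv_three (hWE hzW) hzs hz1 (hWE hfW) (habel _ hfW _ hzW) hfi hf1
      (hWE ha) (habel _ ha _ hzW) hai ha1
  -- some nontrivial element of `W` is central in `E`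
  obtain ⟨c, hcW, hc1, hcE⟩ : ∃ c ∈ W, c ≠ 1 ∧ ∀ x ∈ E, Commute x c := by
    by_cases hI : ∀ e ∈ E, s * e * s⁻¹ = e⁻¹ → e ∈ W
    · refine ⟨f₀, hfW, hf1, fun x hx => ?_⟩
      obtain ⟨i, hi, hii, -, his⟩ := h.split le_rfl (fun a ha => h.conj_E h.s_mem ha) hx
      have hk : Commute (i⁻¹ * x) f₀ := by
        have hkE : i⁻¹ * x ∈ E := E.mul_mem (E.inv_mem hi) hx
        refine commute_of_pm (h.e_odd hkE) ?_
        have hm := hW _ (h.e_mem hkE) f₀ hfW
        have hmi : s * (i⁻¹ * x * f₀ * (i⁻¹ * x)⁻¹) * s⁻¹ = (i⁻¹ * x * f₀ * (i⁻¹ * x)⁻¹)⁻¹ := by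
          generalize i⁻¹ * x = k at his
          calc s * (k * f₀ * k⁻¹) * s⁻¹ = (s * k * s⁻¹) * (s * f₀ * s⁻¹) * (s * k * s⁻¹)⁻¹ := by group
            _ = (k * f₀ * k⁻¹)⁻¹ := by rw [conj_of_commute his.symm, hfi]; group
        exact (three _ hm hmi).resolve_left (conj_ne_one hf1)
      have := (habel _ (hI i hi hii) _ hfW).mul_left hk
      rwa [mul_inv_cancel_left] at this
    · push Not at hI
      obtain ⟨e, he, hei, heW⟩ := hI
      haveI : (W.subgroupOf E).Normal := ⟨fun x hx g => by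
        rw [mem_subgroupOf] at hx ⊢
        exact hW _ (h.e_mem g.2) _ hx⟩
      let χ : W →* G := MonoidHom.mk' (fun x => (x : G) * (s * (x : G)⁻¹ * s⁻¹)) fun a b => by
        have c1 : Commute (b : G) (s * (a : G)⁻¹ * s⁻¹) := habel _ b.2 _ (hWs _ (W.inv_mem a.2))
        have c2 : Commute (s * (a : G)⁻¹ * s⁻¹) (s * (b : G)⁻¹ * s⁻¹) :=
          habel _ (hWs _ (W.inv_mem a.2)) _ (hWs _ (W.inv_mem b.2))
        calc ((a * b : W) : G) * (s * ((a * b : W) : G)⁻¹ * s⁻¹)
            = (a : G) * (b : G) * ((s * (b : G)⁻¹ * s⁻¹) * (s * (a : G)⁻¹ * s⁻¹)) := by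
              rw [Subgroup.coe_mul]; group
          _ = (a : G) * ((b : G) * (s * (a : G)⁻¹ * s⁻¹)) * (s * (b : G)⁻¹ * s⁻¹) := by rw [← c2.eq]; group
          _ = _ := by rw [c1.eq]; group
      have hrange : Nat.card χ.range = 3 := by
        refine card_eq_three_of_le (h.E_odd.of_dvd_nat (card_dvd_of_le ?_)) ?_ (card_le_three f₀ ?_)
        · rintro _ ⟨x, rfl⟩
          exact E.mul_mem (hWE x.2) (h.conj_E h.s_mem (E.inv_mem (hWE x.2)))
        · intro e1
          have h2 : f₀ * (s * f₀⁻¹ * s⁻¹) ∈ χ.range := ⟨⟨f₀, hfW⟩, rfl⟩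
          rw [e1, mem_bot, ← conj_inv, hfi, inv_inv] at h2
          exact hf1 (eq_one_of_sq_odd (h.e_odd (hWE hfW)) h2)
        · rintro _ ⟨x, rfl⟩
          refine three _ (W.mul_mem x.2 (hWs _ (W.inv_mem x.2))) ?_
          show s * ((x : G) * (s * (x : G)⁻¹ * s⁻¹)) * s⁻¹ = ((x : G) * (s * (x : G)⁻¹ * s⁻¹))⁻¹
          calc s * ((x : G) * (s * (x : G)⁻¹ * s⁻¹)) * s⁻¹
              = (s * (x : G) * s⁻¹) * (s * (s * (x : G)⁻¹ * s⁻¹) * s⁻¹) := by group
            _ = (s * (x : G) * s⁻¹) * (x : G)⁻¹ := by rw [invol_conj h.ss]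
            _ = _ := by group
      have hker : Nat.card χ.ker = 3 := by
        refine card_eq_three_of_le ?_ ?_ ?_
        · exact (h.E_odd.of_dvd_nat (card_dvd_of_le hWE)).of_dvd_nat χ.ker.card_subgroup_dvd_card
        · intro e1
          have : (⟨z, hzW⟩ : W) ∈ χ.ker := by
            show z * (s * z⁻¹ * s⁻¹) = 1
            rw [conj_of_commute hzs.inv_left.symm, mul_inv_cancel]
          rw [e1, mem_bot] at this
          exact hz1 (congrArg Subtype.val this)
        · let ψ : χ.ker → χ.range := fun q =>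
            ⟨χ ⟨e * ((q : W) : G) * e⁻¹, hW e (h.e_mem he) _ (q : W).2⟩, ⟨_, rfl⟩⟩
          have hψ : Function.Injective ψ := by
            intro a b hab
            have hab' : χ ⟨e * ((a : W) : G) * e⁻¹, hW e (h.e_mem he) _ (a : W).2⟩ =
                χ ⟨e * ((b : W) : G) * e⁻¹, hW e (h.e_mem he) _ (b : W).2⟩ := congrArg Subtype.val hab
            obtain ⟨q, hq⟩ : ∃ q : W, q = (a : W)⁻¹ * (b : W) := ⟨_, rfl⟩
            have hqk : q ∈ χ.ker := hq ▸ χ.ker.mul_mem (χ.ker.inv_mem a.2) b.2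
            have hq0 : χ ⟨e * (q : G) * e⁻¹, hW e (h.e_mem he) _ q.2⟩ = 1 := by
              rw [show (⟨e * (q : G) * e⁻¹, hW e (h.e_mem he) _ q.2⟩ : W) =
                (⟨e * ((a : W) : G) * e⁻¹, hW e (h.e_mem he) _ (a : W).2⟩ : W)⁻¹ *
                ⟨e * ((b : W) : G) * e⁻¹, hW e (h.e_mem he) _ (b : W).2⟩ from Subtype.ext (by
                  rw [hq]; push_cast; group), map_mul, map_inv, hab', inv_mul_cancel]
            suffices hq1 : (q : G) = 1 by
              refine Subtype.ext ?_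
              exact inv_mul_eq_one.1 (hq.symm.trans (Subtype.ext hq1))
            by_contra hq1
            have hfix : ∀ {x : G}, x * (s * x⁻¹ * s⁻¹) = 1 → Commute x s := by
              intro x hx
              have := eq_inv_of_mul_eq_one_left hx
              exact (commute_of_conj ((show s * x * s⁻¹ = (s * x⁻¹ * s⁻¹)⁻¹ by group).trans this.symm)).symm
            have hqs : Commute (q : G) s := hfix hqk
            have hys : Commute (e * (q : G) * e⁻¹) s := hfix hq0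
            have hqe : Commute e (q : G) := by
              refine commute_of_sq (h.e_odd he) (commute_of_conj ?_)
              have h1 := conj_of_commute hys.symm
              rw [show s * (e * (q : G) * e⁻¹) * s⁻¹ = (s * e * s⁻¹) * (s * (q : G) * s⁻¹) * (s * e * s⁻¹)⁻¹
                by group, hei, conj_of_commute hqs.symm, inv_inv] at h1
              calc e * e * (q : G) * (e * e)⁻¹ = e * (e * (q : G) * e⁻¹) * e⁻¹ := by group
                _ = e * (e⁻¹ * (q : G) * e) * e⁻¹ := by rw [← h1]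
                _ = q := by group
            have he1 : e ≠ 1 := fun e1 => heW (e1 ▸ W.one_mem)
            rcases h.inv_three (hWE q.2) hqs hq1 (hWE hfW) (habel _ hfW _ q.2) hfi hf1 he hqe hei he1 with e1 | e1
            · exact heW (e1 ▸ hfW)
            · exact heW (e1 ▸ W.inv_mem hfW)
          exact (Nat.card_le_card_of_injective ψ hψ).trans (le_of_eq hrange)
      have h9 : Nat.card (W.subgroupOf E) = 9 := by
        rw [Nat.card_congr (subgroupOfEquivOfLe hWE).toEquiv, ← χ.ker.card_mul_index, Subgroup.index_ker,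
          hker, hrange]
      obtain ⟨v, hv, hv1, hvc⟩ := exists_central_nine h.E_odd h9
      exact ⟨v, mem_subgroupOf.1 hv, fun e1 => hv1 (Subtype.ext e1),
        fun x hx => congrArg Subtype.val (hvc ⟨x, hx⟩).eq⟩
  have hCW : W ⊓ centralizer (E : Set G) = W := hmin _ (bot_lt_iff_ne_bot.2 fun e1 => hc1 (by
      have : c ∈ W ⊓ centralizer (E : Set G) := mem_inf.2 ⟨hcW, mem_centralizer_iff.2 fun x hx => (hcE x hx).eq⟩
      rwa [e1, mem_bot] at this)) inf_le_left (mInv_inf_cent hW h.mInv_E)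
  obtain ⟨x, hx, hxz⟩ := h.not_central (hWE hzW) hzs hz1
  rw [← hCW] at hzW
  exact hxz (mem_centralizer_iff.1 (mem_inf.1 hzW).2 x hx)

/-- **an inverted `M`-invariant subgroup with no fixed element centralising it forces order 2520** -/
theorem inverted_done {A : Subgroup G} (hAE : A ≤ E) (hA : MInv M A) (hne : A ≠ ⊥)
    (hinv : ∀ a ∈ A, s * a * s⁻¹ = a⁻¹)
    (hK : ∀ k ∈ E, Commute k s → (∀ a ∈ A, Commute k a) → k = 1) : Nat.card G = 2520 := by
  haveI : Fact (Nat.Prime 7) := ⟨by norm_num⟩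
  obtain ⟨J, hJ⟩ : ∃ J, J = E ⊓ centralizer (A : Set G) := ⟨_, rfl⟩
  have hJmem : ∀ {e : G}, e ∈ J ↔ e ∈ E ∧ ∀ a ∈ A, Commute e a := by
    intro e
    rw [hJ, mem_inf, mem_centralizer_iff]
    exact ⟨fun hh => ⟨hh.1, fun a ha => (hh.2 a ha).symm⟩, fun hh => ⟨hh.1, fun a ha => (hh.2 a ha).symm⟩⟩
  have hAJ : A ≤ J := fun a ha => hJmem.2 ⟨hAE ha, fun b hb => h.inv_commute hA hinv (hAE ha) (hinv a ha) hb⟩
  have hJn : MInv M J := hJ ▸ mInv_inf_cent h.mInv_E hA
  have hJE : J ≤ E := fun e he => (hJmem.1 he).1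
  have hJ4 : FourEight t u s M E J :=
    { toFourCore := h.toFourCore
      J_le := hJE
      J_inv := fun e he => ⟨fun hi => hJmem.2 ⟨he, fun a ha => h.inv_commute hA hinv he hi ha⟩, fun heJ => by
        obtain ⟨j, hj, hji, -, hjs⟩ := h.split hJE (fun a ha => hJn s h.s_mem a ha) heJ
        have hk : j⁻¹ * e ∈ J := J.mul_mem (J.inv_mem hj) heJ
        have := hK _ (hJE hk) hjs (hJmem.1 hk).2
        rwa [← inv_mul_eq_one.1 this]⟩
      J_norm := le_normalizer_of_mInv hJn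
      good := by
        intro a ha ha1 y hy
        have haE := hJE ha
        have hainv : s * a * s⁻¹ = a⁻¹ := by
          obtain ⟨j, hj, hji, -, hjs⟩ := h.split hJE (fun a ha => hJn s h.s_mem a ha) ha
          have hk : j⁻¹ * a ∈ J := J.mul_mem (J.inv_mem hj) ha
          have := hK _ (hJE hk) hjs (hJmem.1 hk).2
          rwa [← inv_mul_eq_one.1 this]
        have hc : ∀ b ∈ A, Commute (y * t * y⁻¹) b := fun b hb =>
          h.inv_cent haE ha1 hainv (hAE hb) ((hJmem.1 ha).2 b hb).symm (mem_cent_one.1 hy)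
        have htM := h.mem_of_cent hAE hne hA hc
        by_cases hI : Inner t u (y * t * y⁻¹)
        · exact h.mem_of_inner h.inner_t hI rfl
        · exfalso
          obtain ⟨b, hb, hb1⟩ := (A.ne_bot_iff_exists_ne_one).1 hne |> fun ⟨b, hb⟩ =>
            (⟨b.1, b.2, fun e => hb (Subtype.ext e)⟩ : ∃ b, b ∈ A ∧ b ≠ 1)
          have := h.outer_inverts_of hAE hinv hA ⟨htM, conj_mul_self h.tt, conj_ne_one h.t_ne, hI⟩ hb
          rw [conj_of_commute (hc b hb)] at this
          exact hb1 (eq_one_of_eq_inv (h.e_odd (hAE hb)) this) }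
  obtain ⟨P, hP8, hPgen⟩ := h.sylow
  have hJne : J ≠ ⊥ := fun e => hne (le_bot_iff.1 (e ▸ hAJ))
  refine hJ4.card_eq h.nc P hP8 hPgen hJne (fun h3 => le_antisymm (fun e he => ?_) hJE) fun h9 => ?_
  · obtain ⟨j, hj, hji, -, hjs⟩ := h.split le_rfl (fun a ha => h.conj_E h.s_mem ha) he
    have hkE : j⁻¹ * e ∈ E := E.mul_mem (E.inv_mem hj) he
    have hk1 : j⁻¹ * e = 1 := hK _ hkE hjs fun a ha => by
      rcases eq_or_ne a 1 with rfl | ha1
      · exact Commute.one_right _
      exact commute_of_pm (h.e_odd hkE) ((eq_of_card_three h3 (hAJ ha) ha1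
        (hJn _ (h.e_mem hkE) a (hAJ ha))).resolve_left (conj_ne_one ha1))
    rw [← inv_mul_eq_one.1 hk1]
    exact (hJ4.J_inv j hj).1 hji
  · by_cases hEJ : E = J
    · exact Or.inl hEJ
    right
    obtain ⟨k, hk, hks, hk1⟩ : ∃ k ∈ E, Commute k s ∧ k ≠ 1 := by
      by_contra hcon
      push Not at hcon
      refine hEJ (le_antisymm (fun e he => ?_) hJE)
      obtain ⟨j, hj, hji, -, hjs⟩ := h.split le_rfl (fun a ha => h.conj_E h.s_mem ha) he
      rw [← inv_mul_eq_one.1 (hcon _ (E.mul_mem (E.inv_mem hj) he) hjs)]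
      exact (hJ4.J_inv j hj).1 hji
    haveI : (J.subgroupOf E).Normal := ⟨fun x hx g => by
      rw [mem_subgroupOf] at hx ⊢
      exact hJn _ (h.e_mem g.2) _ hx⟩
    have hJ9 : Nat.card (J.subgroupOf E) = 9 := by
      rw [Nat.card_congr (subgroupOfEquivOfLe hJE).toEquiv, h9]
    obtain ⟨v, hv, hv1, hvc⟩ := exists_central_nine h.E_odd hJ9
    rcases h.fixed_cent hk hks hk1 with hall | ⟨O, -, hdvd, -⟩
    · exfalso
      refine hv1 (Subtype.ext (h.inv_fixed v.2 ((hJ4.J_inv v v.2).2 (mem_subgroupOf.1 hv))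
        (hall v v.2 (congrArg Subtype.val (hvc ⟨k, hk⟩).eq.symm))))
    · have h7 : 7 ∣ Nat.card G := ((show 7 ∣ 2520 by norm_num).trans (dvd_mul_right _ _)).trans
        (hdvd.trans (Subgroup.card_subgroup_dvd_card _))
      rw [← M.card_mul_index, h.card_M, h.card_cent_t] at h7
      refine ((Fact.out : Nat.Prime 7).dvd_mul.1 h7).resolve_left fun h7' => ?_
      have h7E : 7 ∣ Nat.card E := by
        rw [← mul_assoc] at h7'
        exact ((Fact.out : Nat.Prime 7).dvd_mul.1 h7').resolve_left (by norm_num)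
      obtain ⟨x, hx⟩ := exists_prime_orderOf_dvd_card' (G := E) 7 h7E
      have hxJ : (x : G) ∈ J := hJmem.2 ⟨x.2, fun a ha => congrArg Subtype.val
        (commute_nine h.E_odd hJ9 (x := x) (by rw [hx]; norm_num) (v := ⟨a, hAE ha⟩)
          (mem_subgroupOf.2 (hAJ ha))).eq⟩
      have := Subgroup.orderOf_dvd_natCard J hxJ
      rw [Subgroup.orderOf_coe, hx, h9] at this
      omega

end FourCtx

end Cfsg.Agent.GW
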