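import Cfsg.Agent.Lib.GW.FourEightCard
import Cfsg.Agent.Lib.Small.SimpleOrderTools

/-!
# Groups of odd order with a normal subgroup of order nine, and other small facts

For the configuration `M = N(U)` over an involution centraliser.
-/

set_option autoImplicit false
set_option linter.unusedSectionVars false
set_option linter.style.haveILetI false

namespace Cfsg.Agent.GW

open Subgroup

open scoped commutatorElement

universe w

variable {G : Type w} [Group G] [Finite G]

theorem mem_of_sq_odd {a : G} {H : Subgroup G} (ha : Odd (orderOf a)) (h : a * a ∈ H) : a ∈ H := by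
  obtain ⟨k, hk⟩ := ha
  have e : (a * a) ^ (k + 1) = a := by
    rw [← pow_two, ← pow_mul, show 2 * (k + 1) = orderOf a + 1 by omega, pow_succ, pow_orderOf_eq_one, one_mul]
  exact e ▸ H.pow_mem h _

theorem odd_orderOf_of_mem {H : Subgroup G} (hH : Odd (Nat.card H)) {a : G} (ha : a ∈ H) : Odd (orderOf a) :=
  hH.of_dvd_nat (Subgroup.orderOf_dvd_natCard H ha)

/-- an element of odd order carrying `a` to itself or to its inverse centralises it -/
theorem commute_of_pm {g a : G} (hg : Odd (orderOf g))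
    (h : g * a * g⁻¹ = a ∨ g * a * g⁻¹ = a⁻¹) : Commute g a := by
  rcases h with h | h
  · exact commute_of_conj h
  · refine commute_of_sq hg (commute_of_conj ?_)
    calc g * g * a * (g * g)⁻¹ = g * (g * a * g⁻¹) * g⁻¹ := by group
      _ = g * a⁻¹ * g⁻¹ := by rw [h]
      _ = (g * a * g⁻¹)⁻¹ := by group
      _ = a := by rw [h, inv_inv]

/-- a subgroup of odd order whose elements are `1, x, x⁻¹` -/
theorem card_le_three {H : Subgroup G} (x : G) (h : ∀ y ∈ H, y = 1 ∨ y = x ∨ y = x⁻¹) : Nat.card H ≤ 3 := by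
  classical
  have hsub : (H : Set G) ⊆ ({1, x, x⁻¹} : Finset G) := by
    intro y hy
    simpa using h y hy
  have h1 := Set.ncard_le_ncard hsub (Finset.finite_toSet _)
  rw [Set.ncard_coe_finset] at h1
  exact (le_of_eq (Nat.card_coe_set_eq _)).trans (h1.trans Finset.card_le_three)

theorem card_eq_three_of_le {H : Subgroup G} (hodd : Odd (Nat.card H)) (hne : H ≠ ⊥) (hle : Nat.card H ≤ 3) :
    Nat.card H = 3 := by
  obtain ⟨k, hk⟩ := hodd
  have h1 : Nat.card H ≠ 1 := fun e => hne (eq_bot_of_card_eq H e)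
  omega

/-- the elements of a subgroup of order three -/
theorem eq_of_card_three {H : Subgroup G} (hc : Nat.card H = 3) {x : G} (hx : x ∈ H) (hx1 : x ≠ 1) {y : G}
    (hy : y ∈ H) : y = 1 ∨ y = x ∨ y = x⁻¹ := by
  haveI : Fact (Nat.Prime 3) := ⟨Nat.prime_three⟩
  have htop := zpowers_eq_top_of_prime_card (G := H) (p := 3) hc (g := ⟨x, hx⟩)
    (fun e => hx1 (congrArg Subtype.val e))
  obtain ⟨i, hi⟩ := mem_zpowers_iff.1 (htop ▸ mem_top (⟨y, hy⟩ : H))
  have hi' : x ^ i = y := congrArg Subtype.val hi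
  have ho : orderOf x = 3 := by
    rw [← Subgroup.orderOf_mk x hx]
    exact orderOf_eq_prime (by rw [← hc]; exact pow_card_eq_one') (fun e => hx1 (congrArg Subtype.val e))
  have h3 : x ^ (3 : ℤ) = 1 := by rw [show (3 : ℤ) = ((3 : ℕ) : ℤ) from rfl, zpow_natCast, ← ho, pow_orderOf_eq_one]
  have hmod : x ^ i = x ^ (i % 3) := by
    conv_lhs => rw [← Int.emod_add_mul_ediv i 3, zpow_add, zpow_mul, h3, one_zpow, mul_one]
  rw [hmod] at hi'
  rcases (by omega : i % 3 = 0 ∨ i % 3 = 1 ∨ i % 3 = 2) with e | e | e <;> rw [e] at hi'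
  · exact Or.inl (by simpa using hi'.symm)
  · exact Or.inr (Or.inl (by simpa using hi'.symm))
  · refine Or.inr (Or.inr ?_)
    rw [← hi', show (2 : ℤ) = 3 + -1 from rfl, zpow_add, h3, one_mul, zpow_neg_one]

section Nine

variable {A : Type w} [Group A] [Finite A] {V : Subgroup A} [V.Normal]

/-- the conjugates of an element -/
def cls (v : A) : Set A := {y | IsConj v y}

theorem cls_sub (v : A) (hv : v ∈ V) (hv1 : v ≠ 1) : cls v ⊆ (V : Set A) \ {1} := by
  intro y hy
  obtain ⟨c, rfl⟩ := isConj_iff.1 hy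
  exact ⟨Subgroup.Normal.conj_mem inferInstance v hv c, fun e => conj_ne_one hv1 e⟩

theorem cls_disjoint_inv (hA : Odd (Nat.card A)) (v : A) (hv1 : v ≠ 1) :
    Disjoint (cls v) (cls v⁻¹) := by
  rw [Set.disjoint_left]
  intro y h1 h2
  obtain ⟨c, hc⟩ := isConj_iff.1 (IsConj.trans h1 (IsConj.symm h2))
  have hcv := commute_of_pm (hA.of_dvd_nat (orderOf_dvd_natCard c)) (Or.inr hc)
  rw [conj_of_commute hcv] at hc
  exact hv1 (eq_one_of_eq_inv (hA.of_dvd_nat (orderOf_dvd_natCard v)) hc)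

theorem cls_ncard (hA : Odd (Nat.card A)) (v : A) : Odd (cls v).ncard := by
  rw [← Nat.card_coe_set_eq]
  exact hA.of_dvd_nat (Dvd.intro _ (Small.SimpleOrderTools.card_conjugates v))

theorem cls_inv_ncard (v : A) : (cls v⁻¹).ncard = (cls v).ncard := by
  have e : cls v⁻¹ = (fun y : A => y⁻¹) '' cls v := by
    ext y
    simp only [Set.mem_image, cls, Set.mem_ofPred_eq, isConj_iff]
    constructor
    · rintro ⟨c, rfl⟩
      exact ⟨c * v * c⁻¹, ⟨c, rfl⟩, by group⟩
    · rintro ⟨_, ⟨c, rfl⟩, rfl⟩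
      exact ⟨c, by group⟩
  rw [e, Set.ncard_image_of_injective _ inv_injective]

theorem nine_ncard (hV : Nat.card V = 9) : ((V : Set A) \ {1}).ncard = 8 := by
  rw [Set.ncard_sdiff_singleton_of_mem V.one_mem, ← Nat.card_coe_set_eq]
  show Nat.card V - 1 = 8
  omega

/-- classes in a normal subgroup of order nine have at most three elements -/
theorem cls_small (hA : Odd (Nat.card A)) (hV : Nat.card V = 9) (v : A) (hv : v ∈ V) (hv1 : v ≠ 1) :
    (cls v).ncard = 1 ∨ (cls v).ncard = 3 := by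
  have h1 := Set.ncard_le_ncard
    (Set.union_subset (cls_sub (V := V) v hv hv1) (cls_sub (V := V) v⁻¹ (V.inv_mem hv) (inv_ne_one.2 hv1)))
  rw [Set.ncard_union_eq (cls_disjoint_inv hA v hv1), cls_inv_ncard, nine_ncard hV] at h1
  obtain ⟨k, hk⟩ := cls_ncard hA v
  omega

/-- a group of odd order with a normal subgroup of order nine: it meets the centre -/
theorem exists_central_nine (hA : Odd (Nat.card A)) (hV : Nat.card V = 9) :
    ∃ v ∈ V, v ≠ 1 ∧ ∀ a : A, Commute a v := by
  by_contra hcon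
  push Not at hcon
  have h3 : ∀ v ∈ V, v ≠ 1 → (cls v).ncard = 3 := by
    intro v hv hv1
    refine (cls_small hA hV v hv hv1).resolve_left fun h1 => ?_
    obtain ⟨a, ha⟩ := hcon v hv hv1
    obtain ⟨y, hy⟩ := Set.ncard_eq_one.1 h1
    have e1 : v ∈ cls v := IsConj.refl v
    have e2 : a * v * a⁻¹ ∈ cls v := isConj_iff.2 ⟨a, rfl⟩
    rw [hy, Set.mem_singleton_iff] at e1 e2
    exact ha (commute_of_conj (e2.trans e1.symm))
  obtain ⟨v, hv, hv1⟩ := Set.nonempty_of_ncard_ne_zero
    (s := ((V : Set A) \ {1})) (by rw [nine_ncard hV]; norm_num)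
  have hS := Set.union_subset (cls_sub (V := V) v hv hv1)
    (cls_sub (V := V) v⁻¹ (V.inv_mem hv) (inv_ne_one.2 hv1))
  have hSc : (cls v ∪ cls v⁻¹).ncard = 6 := by
    rw [Set.ncard_union_eq (cls_disjoint_inv hA v hv1), cls_inv_ncard, h3 v hv hv1]
  obtain ⟨y, hy, hyS⟩ := Set.exists_mem_notMem_of_ncard_lt_ncard
    (s := cls v ∪ cls v⁻¹) (t := (V : Set A) \ {1}) (by rw [hSc, nine_ncard hV]; norm_num)
  have hd : Disjoint (cls v ∪ cls v⁻¹) (cls y) := by
    rw [Set.disjoint_left]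
    rintro z (hz | hz) hzy
    · exact hyS (Or.inl (IsConj.trans hz (IsConj.symm hzy)))
    · exact hyS (Or.inr (IsConj.trans hz (IsConj.symm hzy)))
  have h9 := Set.ncard_le_ncard (Set.union_subset hS (cls_sub (V := V) y hy.1 hy.2))
  rw [Set.ncard_union_eq hd, hSc, h3 y hy.1 hy.2, nine_ncard hV] at h9
  omega

/-- an element of order prime to six centralises a normal subgroup of order nine -/
theorem commute_nine (hA : Odd (Nat.card A)) (hV : Nat.card V = 9) {x : A} (hx : Nat.Coprime (orderOf x) 6)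
    {v : A} (hv : v ∈ V) : Commute x v := by
  classical
  rcases eq_or_ne v 1 with rfl | hv1
  · exact Commute.one_right x
  have hle : (cls v).ncard ≤ 3 := by rcases cls_small hA hV v hv hv1 with e | e <;> omega
  obtain ⟨i, -, j, -, hij, e⟩ := Set.exists_ne_map_eq_of_ncard_lt_of_maps_to
    (s := (Set.univ : Set (Fin 4))) (t := cls v) (f := fun i : Fin 4 => x ^ (i : ℕ) * v * (x ^ (i : ℕ))⁻¹)
    (by rw [Set.ncard_univ, Nat.card_fin]; omega) (fun i _ => isConj_iff.2 ⟨_, rfl⟩)
  have key : ∀ m n : ℕ, m < n → n < 4 → x ^ m * v * (x ^ m)⁻¹ = x ^ n * v * (x ^ n)⁻¹ → Commute x v := by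
    intro m n hmn hn e
    have hc : Commute (x ^ (n - m)) v := by
      refine commute_of_conj ?_
      rw [show n = m + (n - m) by omega, pow_add] at e
      calc x ^ (n - m) * v * (x ^ (n - m))⁻¹
          = (x ^ m)⁻¹ * (x ^ m * x ^ (n - m) * v * (x ^ m * x ^ (n - m))⁻¹) * x ^ m := by group
        _ = v := by rw [← e]; group
    obtain ⟨k, hk⟩ := exists_pow_eq_self_of_coprime (x := x) (n := n - m)
      ((Nat.Coprime.coprime_dvd_left (show n - m ∣ 6 by
        rcases (by omega : n - m = 1 ∨ n - m = 2 ∨ n - m = 3) with e | e | e <;> rw [e] <;> norm_num) hx.symm))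
    rw [← hk]
    exact hc.pow_left k
  rcases lt_or_gt_of_ne (Fin.val_ne_of_ne hij) with hlt | hlt
  · exact key _ _ hlt j.isLt e
  · exact key _ _ hlt i.isLt e.symm

end Nine

/-- a solvable subgroup equal to its derived group up to a central part is that part -/
theorem eq_of_commutator_sup {W Z : Subgroup G} (hW : Group.IsSolvable W) (hZ : Z ≤ W)
    (hc : ∀ z ∈ Z, ∀ x ∈ W, Commute z x) (h : ⁅W, W⁆ ⊔ Z = W) : W = Z := by
  set R := ⁅W, W⁆ with hR
  have hRW : R ≤ W := le_trans le_sup_left (le_of_eq h)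
  haveI : Group.IsSolvable R := Group.isSolvable_of_isSolvable_injective (f := inclusion hRW)
    (inclusion_injective hRW)
  have hdec : ∀ x ∈ W, ∃ r ∈ R, ∃ z ∈ Z, x = r * z := by
    intro x hx
    rw [← h] at hx
    refine Subgroup.closure_induction ?_ ⟨1, R.one_mem, 1, Z.one_mem, (one_mul 1).symm⟩ ?_ ?_
      (by rwa [sup_eq_closure] at hx : x ∈ closure ((R : Set G) ∪ (Z : Set G)))
    · rintro y (hy | hy)
      · exact ⟨y, hy, 1, Z.one_mem, (mul_one y).symm⟩
      · exact ⟨1, R.one_mem, y, hy, (one_mul y).symm⟩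
    · rintro _ _ _ _ ⟨r, hr, z, hz, rfl⟩ ⟨r', hr', z', hz', rfl⟩
      exact ⟨r * r', R.mul_mem hr hr', z * z', Z.mul_mem hz hz', (hc z hz r' (hRW hr')).mul_mul_mul_comm r z'⟩
    · rintro _ _ ⟨r, hr, z, hz, rfl⟩
      exact ⟨r⁻¹, R.inv_mem hr, z⁻¹, Z.inv_mem hz, by
        rw [mul_inv_rev, (hc z hz r (hRW hr)).inv_inv.eq]⟩
  have hle : R ≤ ⁅R, R⁆ := by
    conv_lhs => rw [hR]
    rw [commutator_le]
    intro x hx y hy
    obtain ⟨r, hr, z, hz, rfl⟩ := hdec x hx
    obtain ⟨r', hr', z', hz', rfl⟩ := hdec y hy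
    have e1 : ⁅r * z, r' * z'⁆ = ⁅r, r'⁆ := by
      have c1 : z * (r' * z') * z⁻¹ = r' * z' := conj_of_commute (hc z hz _ (W.mul_mem (hRW hr') (hZ hz')))
      calc ⁅r * z, r' * z'⁆ = r * (z * (r' * z') * z⁻¹) * r⁻¹ * (r' * z')⁻¹ := by
            rw [commutatorElement_def]; group
        _ = r * r' * (z' * r⁻¹) * z'⁻¹ * r'⁻¹ := by rw [c1]; group
        _ = r * r' * (r⁻¹ * z') * z'⁻¹ * r'⁻¹ := by rw [(hc z' hz' r⁻¹ (W.inv_mem (hRW hr))).eq]
        _ = ⁅r, r'⁆ := by rw [commutatorElement_def]; group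
    rw [e1]
    exact commutator_mem_commutator hr hr'
  have hbot : R = ⊥ := by
    by_contra hne
    haveI := (nontrivial_iff_ne_bot R).2 hne
    have hlt := (map_subtype_lt_map_subtype).2 (Group.IsSolvable.commutator_lt_top_of_nontrivial R)
    rw [map_subtype_commutator, ← MonoidHom.range_eq_map, range_subtype] at hlt
    exact not_le_of_gt hlt hle
  rw [hbot, bot_sup_eq] at h
  exact h.symm

end Cfsg.Agent.GW
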