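import Cfsg.Agent.Lib.GW.FourEightCount
import Cfsg.Agent.Lib.GW.FourEightTools

/-!
# Centralisers of elements of `E` in the configuration `M = N(U)`

`FourCtx` adds to `FourCore` the maximality of `M`, a Sylow `2`-subgroup of order eight and the structure of
proper subgroups over `⟨t, u⟩`.  No nontrivial element of `C_E(s)` is central in `E`.
-/

set_option autoImplicit false
set_option linter.unusedSectionVars false
set_option linter.style.haveILetI false

namespace Cfsg.Agent.GW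

open Subgroup

universe w

variable {G : Type w} [Group G] [Finite G]

/-- the configuration inside a simple group, with the structure of the proper subgroups over `⟨t, u⟩` -/
structure FourCtx (t u s : G) (M E : Subgroup G) : Prop extends FourCore t u s M E where
  nc : ¬ IsMulCommutative G
  coatom : IsCoatom M
  sylow : ∃ P : Sylow 2 G, Nat.card P = 8 ∧ Subgroup.closure ({u * s, u} : Set G) = (P : Subgroup G)
  struct : ∀ L : Subgroup G, L ≠ ⊤ → t ∈ L → u ∈ L → ∃ O : Subgroup G, O ≤ L ∧ O ≤ E ∧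
    L ≤ Subgroup.normalizer (O : Set G) ∧
    (E ⊓ L ≤ O ∨ (2520 * Nat.card O ∣ Nat.card L ∧ O.relIndex (E ⊓ L) = 3))

/-- invariance under conjugation by `M` -/
def MInv (M A : Subgroup G) : Prop := ∀ m ∈ M, ∀ a ∈ A, m * a * m⁻¹ ∈ A

theorem le_normalizer_of_mInv {M A : Subgroup G} (hA : MInv M A) : M ≤ Subgroup.normalizer (A : Set G) := by
  intro m hm
  rw [Subgroup.mem_normalizer_iff]
  refine fun a => ⟨hA m hm a, fun ha => ?_⟩
  have := hA m⁻¹ (M.inv_mem hm) _ ha
  simpa [mul_assoc] using this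

theorem invol_conj {s : G} (hs : s * s = 1) (a : G) : s * (s * a * s⁻¹) * s⁻¹ = a := by
  rw [inv_self hs]
  calc s * (s * a * s) * s = (s * s) * a * (s * s) := by group
    _ = a := by rw [hs]; group

variable {t u s : G} {M E : Subgroup G}

namespace FourCtx

variable (h : FourCtx t u s M E)
include h

theorem mInv_E : MInv M E := fun _ hm _ he => h.conj_E hm he

/-- inverted and centralised elements of `E` meet trivially -/
theorem inv_fixed {x : G} (hx : x ∈ E) (h1 : s * x * s⁻¹ = x⁻¹) (h2 : Commute x s) : x = 1 :=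
  eq_one_of_eq_inv (h.e_odd hx) ((conj_of_commute h2.symm).symm.trans h1)

/-- inside an `s`-invariant subgroup of `E`: inverted times centralised -/
theorem split {A : Subgroup G} (hA : A ≤ E) (hs : ∀ a ∈ A, s * a * s⁻¹ ∈ A) {e : G} (he : e ∈ A) :
    ∃ j ∈ A, s * j * s⁻¹ = j⁻¹ ∧ j * j = e * (s * e⁻¹ * s⁻¹) ∧ Commute (j⁻¹ * e) s := by
  obtain ⟨x, hxdef⟩ : ∃ x, x = e * (s * e⁻¹ * s⁻¹) := ⟨_, rfl⟩
  have hxA : x ∈ A := hxdef ▸ A.mul_mem he (hs _ (A.inv_mem he))
  have hinv : s * x * s⁻¹ = x⁻¹ := by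
    rw [hxdef, inv_self h.ss]
    calc s * (e * (s * e⁻¹ * s)) * s = s * e * s * e⁻¹ * (s * s) := by group
      _ = (e * (s * e⁻¹ * s))⁻¹ := by
        rw [h.ss, mul_inv_rev, mul_inv_rev, mul_inv_rev, inv_inv, inv_self h.ss, mul_one]
        group
  obtain ⟨k, hk⟩ := h.e_odd (hA hxA)
  have hj2 : x ^ (k + 1) * x ^ (k + 1) = x := by
    rw [← pow_add, show k + 1 + (k + 1) = orderOf x + 1 by omega, pow_succ, pow_orderOf_eq_one, one_mul]
  have hsj : s * x ^ (k + 1) * s⁻¹ = (x ^ (k + 1))⁻¹ := by rw [← conj_pow, hinv, inv_pow]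
  refine ⟨x ^ (k + 1), A.pow_mem hxA _, hsj, hj2.trans hxdef, Commute.symm (commute_of_conj ?_)⟩
  have hse : s * e * s⁻¹ = (x ^ (k + 1) * x ^ (k + 1))⁻¹ * e := by rw [hj2, hxdef]; group
  calc s * ((x ^ (k + 1))⁻¹ * e) * s⁻¹ = (s * x ^ (k + 1) * s⁻¹)⁻¹ * (s * e * s⁻¹) := by group
    _ = (x ^ (k + 1))⁻¹ * e := by rw [hsj, hse]; group

/-- an element of `E` inverted by `s` centralises an inverted `M`-invariant subgroup -/
theorem inv_commute {A : Subgroup G} (hA : MInv M A) (hAinv : ∀ a ∈ A, s * a * s⁻¹ = a⁻¹)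
    {e : G} (he : e ∈ E) (hinv : s * e * s⁻¹ = e⁻¹) {a : G} (ha : a ∈ A) : Commute e a := by
  have h1 := hAinv _ (hA e (h.e_mem he) a ha)
  have h2 : s * (e * a * e⁻¹) * s⁻¹ = (s * e * s⁻¹) * (s * a * s⁻¹) * (s * e * s⁻¹)⁻¹ := by group
  rw [h2, hinv, hAinv a ha, inv_inv] at h1
  refine commute_of_sq (h.e_odd he) (commute_of_conj ?_)
  calc e * e * a * (e * e)⁻¹ = e * (e * a⁻¹ * e⁻¹)⁻¹ * e⁻¹ := by group
    _ = e * (e⁻¹ * a⁻¹ * e)⁻¹ * e⁻¹ := by
      rw [show e * a⁻¹ * e⁻¹ = (e * a * e⁻¹)⁻¹ by group, ← h1]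
    _ = a := by group

theorem not_sixteen : ¬ 16 ∣ Nat.card G := by
  haveI : Fact (Nat.Prime 2) := ⟨Nat.prime_two⟩
  obtain ⟨P, hP8, -⟩ := h.sylow
  intro h16
  rw [← (P : Subgroup G).card_mul_index, show Nat.card (P : Subgroup G) = 8 from hP8,
    show (16 : ℕ) = 8 * 2 from rfl] at h16
  exact P.not_dvd_index (Nat.dvd_of_mul_dvd_mul_left (by norm_num) h16)

variable [IsSimpleGroup G]

theorem centralizer_ne_top {x : G} (hx : x ≠ 1) : centralizer ({x} : Set G) ≠ ⊤ := by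
  intro e
  refine hx (mem_bot.1 (Small.SmallOrders.center_eq_bot h.nc ▸ mem_center_iff.2 fun g => ?_))
  exact (mem_cent_one.1 (e ▸ mem_top g : g ∈ centralizer ({x} : Set G))).eq

/-- what centralises a nontrivial `M`-invariant subgroup of `E` lies in `M` -/
theorem mem_of_cent {A : Subgroup G} (hAE : A ≤ E) (hne : A ≠ ⊥) (hA : MInv M A) {g : G}
    (hg : ∀ a ∈ A, Commute g a) : g ∈ M := by
  have hN : Subgroup.normalizer (A : Set G) ≠ ⊤ := by
    intro e
    haveI : A.Normal := normalizer_eq_top_iff.mp e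
    rcases IsSimpleGroup.eq_bot_or_eq_top_of_normal A inferInstance with e1 | e1
    · exact hne e1
    · refine h.t_ne (eq_one_of_sq_odd (h.e_odd (hAE (e1 ▸ mem_top t))) h.tt)
  have hMN : M = Subgroup.normalizer (A : Set G) := by
    rcases (le_normalizer_of_mInv hA).eq_or_lt with e | e
    · exact e
    · exact absurd (h.coatom.2 _ e) hN
  rw [hMN, Subgroup.mem_normalizer_iff]
  intro a
  refine ⟨fun ha => by rwa [conj_of_commute (hg a ha)], fun ha => ?_⟩
  have e : a = g * a * g⁻¹ := by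
    calc a = g⁻¹ * (g * a * g⁻¹) * g⁻¹⁻¹ := by group
      _ = g * a * g⁻¹ := conj_of_commute (hg _ ha).inv_left
  rw [e]; exact ha

/-- some element centralising `C_E(s)` carries `t` to `s` -/
theorem exists_n : ∃ n : G, n * t * n⁻¹ = s ∧ ∀ k ∈ E, Commute k s → Commute n k := by
  classical
  haveI : Fact (Nat.Prime 2) := ⟨Nat.prime_two⟩
  -- an element carrying `t` to `s` and `s` to `t` or `t s`
  obtain ⟨g, hgt, hgs⟩ : ∃ g : G, g * t * g⁻¹ = s ∧ ∃ r, (r = s ∨ r = s * t) ∧ g * r * g⁻¹ = t := by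
    obtain ⟨g₀, hg₀⟩ := isConj_iff.1 (h.one_class s h.ss h.outer_s.2.2.1)
    obtain ⟨i, hi⟩ : ∃ i, i = g₀⁻¹ * t * g₀ := ⟨_, rfl⟩
    have hit : Commute i t := by
      have := commute_conj g₀⁻¹ h.st.symm
      rw [inv_inv, ← hi, ← hg₀, show g₀⁻¹ * (g₀ * t * g₀⁻¹) * g₀ = t by group] at this
      exact this
    have hiM : i ∈ M := h.cent_le (mem_cent_one.2 hit)
    have hi2 : i * i = 1 := by
      rw [hi]
      simpa using conj_mul_self (g := g₀⁻¹) h.tt
    have hi1 : i ≠ 1 := by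
      rw [hi]
      simpa using conj_ne_one (g := g₀⁻¹) h.t_ne
    have hgi : g₀ * i * g₀⁻¹ = t := by rw [hi]; group
    by_cases hI : Inner t u i
    · obtain ⟨m, hm, hmi⟩ := h.inner_conj hI
      -- `m⁻¹` carries `i` to `t`; the third involution gives `t s`
      refine ⟨g₀ * m⁻¹ * g₀⁻¹, ?_, ?_⟩
      · calc g₀ * m⁻¹ * g₀⁻¹ * t * (g₀ * m⁻¹ * g₀⁻¹)⁻¹
            = g₀ * (m⁻¹ * (g₀⁻¹ * t * g₀) * m) * g₀⁻¹ := by group
          _ = g₀ * t * g₀⁻¹ := by rw [← hi, ← hmi]; group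
          _ = s := hg₀
      · have himg := h.normU m hm i hI
        refine ⟨g₀ * (m * i * m⁻¹) * g₀⁻¹, ?_, ?_⟩
        · rcases eq_or_ne (m * i * m⁻¹) t with e | e
          · exact Or.inl (by rw [e, hg₀])
          right
          have e2 : m * i * m⁻¹ ≠ i := by
            intro e'
            have : i = t := by
              calc i = m⁻¹ * (m * i * m⁻¹) * m := by group
                _ = m⁻¹ * i * m := by rw [e']
                _ = t := by rw [← hmi]; group
            exact e (e'.trans this)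
          have hne : i ≠ t := fun e' => e (by
            rw [e'] at hmi ⊢
            exact hmi)
          have hthird : m * i * m⁻¹ = t * i := by
            rcases himg with e' | e' | e'
            · exact absurd e' e
            · rcases hI with h' | h' | h'
              · exact absurd h' hne
              · exact absurd (e'.trans h'.symm) e2
              · rw [e', h', ← mul_assoc, h.tt, one_mul]
            · rcases hI with h' | h' | h'
              · exact absurd h' hne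
              · rw [e', h']
              · exact absurd (e'.trans h'.symm) e2
          rw [hthird, show g₀ * (t * i) * g₀⁻¹ = (g₀ * t * g₀⁻¹) * (g₀ * i * g₀⁻¹) by group, hg₀, hgi]
        · calc g₀ * m⁻¹ * g₀⁻¹ * (g₀ * (m * i * m⁻¹) * g₀⁻¹) * (g₀ * m⁻¹ * g₀⁻¹)⁻¹
              = g₀ * i * g₀⁻¹ := by group
            _ = t := hgi
    · obtain ⟨v, hv, e, he, hinv, hie⟩ := h.outer_at_t' ⟨hiM, hi2, hi1, hI⟩ hit
      obtain ⟨k, hk⟩ := h.e_odd he
      -- `d = e ^ k` has `d⁻¹ d⁻¹ = e`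
      set d := e ^ k with hd
      have hdE : d ∈ E := E.pow_mem he k
      have hd2 : d⁻¹ * d⁻¹ = e := by
        have h1 := pow_orderOf_eq_one e
        rw [hk, pow_succ, two_mul, pow_add] at h1
        rw [← mul_inv_rev, hd]
        exact (eq_inv_of_mul_eq_one_right h1).symm
      have hsd : d * s = s * d⁻¹ := by
        have h1 : s * d * s⁻¹ = d⁻¹ := by rw [hd, ← conj_pow, hinv, inv_pow]
        calc d * s = (s * d * s⁻¹)⁻¹ * s := by rw [h1, inv_inv]
          _ = s * d⁻¹ := by group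
      have hvd : Commute d v := by
        rcases hv with rfl | rfl
        · exact Commute.one_right d
        · exact h.E_t d hdE
      refine ⟨g₀ * d, ?_, s * v, ?_, ?_⟩
      · calc g₀ * d * t * (g₀ * d)⁻¹ = g₀ * (d * t * d⁻¹) * g₀⁻¹ := by group
          _ = s := by rw [conj_of_commute (h.E_t d hdE), hg₀]
      · rcases hv with rfl | rfl
        · exact Or.inl (mul_one s)
        · exact Or.inr rfl
      · calc g₀ * d * (s * v) * (g₀ * d)⁻¹ = g₀ * ((d * s) * v * d⁻¹) * g₀⁻¹ := by group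
          _ = g₀ * (s * (d⁻¹ * v) * d⁻¹) * g₀⁻¹ := by rw [hsd]; group
          _ = g₀ * (s * v * (d⁻¹ * d⁻¹)) * g₀⁻¹ := by rw [hvd.inv_left.eq]; group
          _ = t := by rw [hd2, ← hie, hgi]
  -- `g` normalises `C_E(s)`
  have hgK : ∀ k ∈ E, Commute k s → g⁻¹ * k * g ∈ E ∧ Commute (g⁻¹ * k * g) s := by
    intro k hk hks
    obtain ⟨r, hr, hgr⟩ := hgs
    have c1 : Commute (g⁻¹ * k * g) t := by
      have := commute_conj g⁻¹ hks
      rw [inv_inv, ← hgt, show g⁻¹ * (g * t * g⁻¹) * g = t by group] at this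
      exact this
    have c2 : Commute (g⁻¹ * k * g) r := by
      have := commute_conj g⁻¹ (h.E_t k hk)
      rw [inv_inv, ← hgr, show g⁻¹ * (g * r * g⁻¹) * g = r by group] at this
      exact this
    have c3 : Commute (g⁻¹ * k * g) s := by
      rcases hr with rfl | rfl
      · exact c2
      · have := c2.mul_right c1
        rwa [mul_assoc s t t, h.tt, mul_one] at this
    refine ⟨h.mem_E_of_odd ?_ fun a ha => h.commute_all h.inner_t (Or.inr (Or.inl rfl)) (Ne.symm h.ut_ne) c1 ?_ ha,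
      c3⟩
    · have := orderOf_conj_eq g⁻¹ k
      rw [inv_inv] at this
      rw [this]; exact h.e_odd hk
    · have hodd : Odd (orderOf (g⁻¹ * k * g)) := by
        have := orderOf_conj_eq g⁻¹ k
        rw [inv_inv] at this
        rw [this]; exact h.e_odd hk
      generalize g⁻¹ * k * g = y at *
      refine commute_of_sq hodd (commute_of_conj ?_)
      have hd := h.normU y (h.cent_le (mem_cent_one.2 c1)) u (Or.inr (Or.inl rfl))
      rw [show y * y * u * (y * y)⁻¹ = y * (y * u * y⁻¹) * y⁻¹ by group]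
      rcases hd with e1 | e1 | e1
      · exfalso
        rw [← conj_of_commute c1] at e1
        exact h.ut_ne (mul_left_cancel (mul_right_cancel e1))
      · rw [e1, e1]
      · rw [e1, show y * (t * u) * y⁻¹ = (y * t * y⁻¹) * (y * u * y⁻¹) by group, conj_of_commute c1, e1,
          ← mul_assoc, h.tt, one_mul]
  obtain ⟨P, hP8, hPgen⟩ := h.sylow
  obtain ⟨Y, hY⟩ : ∃ Y : Subgroup G, Y = centralizer ({k : G | k ∈ E ∧ Commute k s}) := ⟨_, rfl⟩
  have memY : ∀ {y : G}, y ∈ Y ↔ ∀ k ∈ E, Commute k s → Commute y k := by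
    intro y
    rw [hY, mem_centralizer_iff]
    exact ⟨fun hh k hk hks => (hh k ⟨hk, hks⟩).symm, fun hh k hk => (hh k hk.1 hk.2).symm⟩
  have hPY : (P : Subgroup G) ≤ Y := by
    rw [← hPgen, closure_le]
    rintro x (rfl | rfl)
    · exact memY.2 fun k hk hks => ((h.E_u k hk).mul_right hks).symm
    · exact memY.2 fun k hk _ => (h.E_u k hk).symm
  have hgPY : ((g • P : Sylow 2 G) : Subgroup G) ≤ Y := by
    rw [Sylow.coe_subgroup_smul]
    rintro x ⟨p, hp, rfl⟩
    refine memY.2 fun k hk hks => ?_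
    obtain ⟨k1, k2⟩ := hgK k hk hks
    have := commute_conj g (memY.1 (hPY hp) _ k1 k2)
    rw [show g * (g⁻¹ * k * g) * g⁻¹ = k by group] at this
    exact this
  obtain ⟨y, hy⟩ := MulAction.exists_smul_eq Y ((g • P).subtype hgPY) (P.subtype hPY)
  obtain ⟨n', hn'⟩ : ∃ n' : G, n' = (y : G) * g := ⟨_, rfl⟩
  have hin : ∀ p ∈ (P : Subgroup G), n' * p * n'⁻¹ ∈ (P : Subgroup G) := by
    intro p hp
    have h1 : g * p * g⁻¹ ∈ ((g • P : Sylow 2 G) : Subgroup G) := by
      rw [Sylow.coe_subgroup_smul]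
      exact ⟨p, hp, rfl⟩
    have h2 : y * ⟨g * p * g⁻¹, hgPY h1⟩ * y⁻¹ ∈ (P.subtype hPY : Subgroup Y) := by
      rw [← hy, Sylow.coe_subgroup_smul]
      exact ⟨⟨g * p * g⁻¹, hgPY h1⟩, by rw [Sylow.coe_subtype]; exact h1, rfl⟩
    rw [Sylow.coe_subtype, mem_subgroupOf] at h2
    rw [hn', show (y : G) * g * p * ((y : G) * g)⁻¹ = (y : G) * (g * p * g⁻¹) * (y : G)⁻¹ by group]
    exact h2
  -- so `n'` fixes `t`
  have huP : u ∈ (P : Subgroup G) := hPgen ▸ subset_closure (Or.inr rfl)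
  have hsP : s ∈ (P : Subgroup G) := by
    have h1 : u * (u * s) ∈ (P : Subgroup G) := (P : Subgroup G).mul_mem huP (hPgen ▸ subset_closure (Or.inl rfl))
    rwa [← mul_assoc, h.uu, one_mul] at h1
  have htP : t ∈ (P : Subgroup G) := by
    have h1 : s * u * s⁻¹ * u ∈ (P : Subgroup G) :=
      (P : Subgroup G).mul_mem ((P : Subgroup G).mul_mem ((P : Subgroup G).mul_mem hsP huP)
        ((P : Subgroup G).inv_mem hsP)) huP
    rwa [h.su, mul_assoc, h.uu, mul_one] at h1
  have hPt : ∀ p ∈ (P : Subgroup G), Commute p t := by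
    intro p hp
    have : (P : Subgroup G) ≤ centralizer ({t} : Set G) := by
      rw [← hPgen, closure_le]
      rintro x (rfl | rfl)
      · exact mem_cent_one.2 (h.tu.symm.mul_left h.st)
      · exact mem_cent_one.2 h.tu.symm
    exact mem_cent_one.1 (this hp)
  have hcen : ∀ p ∈ (P : Subgroup G), Commute (n' * t * n'⁻¹) p := by
    intro p hp
    obtain ⟨q, hq, rfl⟩ : ∃ q ∈ (P : Subgroup G), n' * q * n'⁻¹ = p := by
      let φ : ↥(P : Subgroup G) → ↥(P : Subgroup G) := fun q => ⟨n' * (q : G) * n'⁻¹, hin (q : G) q.2⟩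
      have hφ : Function.Surjective φ := Finite.injective_iff_surjective.1 fun a b e =>
        Subtype.ext (mul_left_cancel (mul_right_cancel (congrArg Subtype.val e)))
      obtain ⟨q, hq⟩ := hφ ⟨p, hp⟩
      exact ⟨q, q.2, congrArg Subtype.val hq⟩
    exact commute_conj n' (hPt q hq).symm
  have hfix : n' * t * n'⁻¹ = t := by
    have c1 := hcen t htP
    have hinner : Inner t u (n' * t * n'⁻¹) := h.inner_of_cent (conj_mul_self h.tt) (conj_ne_one h.t_ne)
      fun a ha => by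
        rcases ha with rfl | rfl | rfl
        · exact c1
        · exact hcen a huP
        · exact c1.mul_right (hcen u huP)
    exact h.outer_fixed_unique h.outer_s hinner h.inner_t (hcen s hsP).symm h.st
  refine ⟨(y : G)⁻¹, ?_, fun k hk hks => (memY.1 y.2 k hk hks).inv_left⟩
  calc (y : G)⁻¹ * t * (y : G)⁻¹⁻¹ = (y : G)⁻¹ * (n' * t * n'⁻¹) * (y : G) := by rw [hfix]; group
    _ = g * t * g⁻¹ := by rw [hn']; group
    _ = s := hgt

/-- no nontrivial `M`-invariant subgroup of `E` is centralised by `s` -/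
theorem eq_bot_of_fixed {A : Subgroup G} (hAE : A ≤ E) (hA : MInv M A) (hs : ∀ a ∈ A, Commute a s) :
    A = ⊥ := by
  by_contra hne
  obtain ⟨n, hn, hnK⟩ := h.exists_n
  have hnM := h.mem_of_cent hAE hne hA fun a ha => hnK a (hAE ha) (hs a ha)
  exact h.outer_s.2.2.2 (hn ▸ h.normU n hnM t h.inner_t)

/-- the centraliser of an inverted element: `E ∩ C(e)` is centralised by every conjugate of `t` under it -/
theorem inv_cent {e : G} (he : e ∈ E) (he1 : e ≠ 1) (hinv : s * e * s⁻¹ = e⁻¹) {a y : G}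
    (ha : a ∈ E) (hae : Commute a e) (hy : Commute y e) : Commute (y * t * y⁻¹) a := by
  haveI : Fact (Nat.Prime 2) := ⟨Nat.prime_two⟩
  obtain ⟨L, hL⟩ : ∃ L, L = centralizer ({e} : Set G) := ⟨_, rfl⟩
  have memL : ∀ {x : G}, x ∈ L ↔ Commute x e := fun {x} => hL ▸ mem_cent_one
  obtain ⟨O, -, hOE, hON, hcase⟩ := h.struct L (hL ▸ h.centralizer_ne_top he1)
    (memL.2 (h.E_t e he).symm) (memL.2 (h.E_u e he).symm)
  have h8 : ¬ 8 ∣ Nat.card L := by
    intro h8
    obtain ⟨H, hH⟩ : ∃ H, H = Subgroup.normalizer ((zpowers e : Subgroup G) : Set G) := ⟨_, rfl⟩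
    have hLH : L ≤ H := by
      intro x hx
      rw [hH, Subgroup.mem_normalizer_iff]
      intro z
      constructor
      · rintro ⟨i, rfl⟩
        exact ⟨i, by simp only; rw [conj_of_commute ((memL.1 hx).zpow_right i)]⟩
      · rintro ⟨i, hi⟩
        refine ⟨i, ?_⟩
        simp only at hi ⊢
        calc e ^ i = x⁻¹ * (x * e ^ i * x⁻¹) * x := by group
          _ = x⁻¹ * (x * z * x⁻¹) * x := by rw [conj_of_commute ((memL.1 hx).zpow_right i), hi]
          _ = z := by group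
    have hsH : s ∈ H := by
      rw [hH, Subgroup.mem_normalizer_iff]
      intro z
      constructor
      · rintro ⟨i, rfl⟩
        exact ⟨-i, by simp only; rw [← conj_zpow, hinv, inv_zpow']⟩
      · rintro ⟨i, hi⟩
        refine ⟨-i, ?_⟩
        simp only at hi ⊢
        rw [zpow_neg, ← inv_zpow, ← hinv, conj_zpow, hi]
        exact invol_conj h.ss z
    have hsL : s ∉ L := fun hs => he1 (h.inv_fixed he hinv (memL.1 hs).symm)
    obtain ⟨H', hH'⟩ : ∃ H', H' = L ⊔ zpowers s := ⟨_, rfl⟩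
    have hlt : L < H' := lt_of_le_of_ne (hH' ▸ le_sup_left) fun e1 =>
      hsL (e1 ▸ hH' ▸ mem_sup_right (mem_zpowers s))
    haveI hnorm : (L.subgroupOf H).Normal := by
      refine ⟨fun x hx g => ?_⟩
      rw [mem_subgroupOf] at hx ⊢
      rw [memL] at hx ⊢
      have hg : (g : G) ∈ Subgroup.normalizer ((zpowers e : Subgroup G) : Set G) := hH ▸ g.2
      obtain ⟨i, hi⟩ := (Subgroup.mem_normalizer_iff.1 hg e).1 (mem_zpowers e)
      obtain ⟨j, hj⟩ := (Subgroup.mem_normalizer_iff.1 (inv_mem hg) e).1 (mem_zpowers e)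
      simp only [inv_inv] at hi hj
      have h1 : (g : G) * e ^ j * (g : G)⁻¹ = e := by rw [hj]; group
      have h2 := commute_conj (g : G) (hx.zpow_right j)
      rw [h1] at h2
      simpa using h2
    -- the index of `L` in `H` is even
    have h2 : 2 ∣ L.relIndex H := by
      obtain ⟨x, hx⟩ : ∃ x : H ⧸ L.subgroupOf H, x = ((⟨s, hsH⟩ : H) : H ⧸ L.subgroupOf H) := ⟨_, rfl⟩
      have hx1 : x ≠ 1 := fun e1 => hsL (by
        rw [hx, QuotientGroup.eq_one_iff] at e1
        exact mem_subgroupOf.1 e1)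
      have hx2 : x ^ 2 = 1 := by
        rw [hx, ← QuotientGroup.mk_pow, show (⟨s, hsH⟩ : H) ^ 2 = 1 from Subtype.ext (by simp [pow_two, h.ss])]
        rfl
      have ho := orderOf_eq_prime hx2 hx1
      rw [Subgroup.relIndex, Subgroup.index_eq_card, ← ho]
      exact orderOf_dvd_natCard x
    refine h.not_sixteen (dvd_trans ?_ H.card_subgroup_dvd_card)
    rw [show (16 : ℕ) = 8 * 2 from rfl, ← Subgroup.relIndex_bot_left H,
      ← Subgroup.relIndex_mul_relIndex ⊥ L H bot_le hLH, Subgroup.relIndex_bot_left]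
    exact mul_dvd_mul h8 h2
  have hle : E ⊓ L ≤ O := hcase.resolve_right fun hh =>
    h8 (dvd_trans (by norm_num : 8 ∣ 2520) (dvd_trans (dvd_mul_right _ _) hh.1))
  have haO : a ∈ O := hle (mem_inf.2 ⟨ha, memL.2 hae⟩)
  have hyn : y⁻¹ * a * y ∈ O := by
    have := (Subgroup.mem_normalizer_iff.1 (hON (L.inv_mem (memL.2 hy))) a).1 haO
    rwa [inv_inv] at this
  have := commute_conj y (h.E_t _ (hOE hyn)).symm
  rwa [show y * (y⁻¹ * a * y) * y⁻¹ = a by group] at this

/-- the centraliser of a nontrivial element of `C_E(s)` -/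
theorem fixed_cent {z : G} (hz : z ∈ E) (hzs : Commute z s) (hz1 : z ≠ 1) :
    (∀ x ∈ E, Commute x z → Commute x s) ∨ ∃ O : Subgroup G,
      (∀ o ∈ O, o ∈ E ∧ Commute o s) ∧ 2520 * Nat.card O ∣ Nat.card (centralizer ({z} : Set G)) ∧
      O ≤ E ⊓ centralizer ({z} : Set G) ∧ O.relIndex (E ⊓ centralizer ({z} : Set G)) = 3 ∧
      ∀ x ∈ E, Commute x z → ∀ o ∈ O, x * o * x⁻¹ ∈ O := by
  obtain ⟨O, hOL, hOE, hON, hcase⟩ := h.struct _ (h.centralizer_ne_top hz1)
    (mem_cent_one.2 (h.E_t z hz).symm) (mem_cent_one.2 (h.E_u z hz).symm)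
  obtain ⟨n, hn, hnK⟩ := h.exists_n
  have hOs : ∀ o ∈ O, o ∈ E ∧ Commute o s := by
    intro o ho
    refine ⟨hOE ho, ?_⟩
    have hnL : n ∈ centralizer ({z} : Set G) := mem_cent_one.2 (hnK z hz hzs)
    have h1 : n⁻¹ * o * n ∈ O := by
      have := (Subgroup.mem_normalizer_iff.1 (hON (inv_mem hnL)) o).1 ho
      rwa [inv_inv] at this
    have := commute_conj n (h.E_t _ (hOE h1))
    rwa [show n * (n⁻¹ * o * n) * n⁻¹ = o by group, hn] at this
  rcases hcase with hle | ⟨hdvd, hrel⟩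
  · exact Or.inl fun x hx hxz => (hOs x (hle (mem_inf.2 ⟨hx, mem_cent_one.2 hxz⟩))).2
  · exact Or.inr ⟨O, hOs, hdvd, le_inf hOE hOL, hrel, fun x _ hxz o ho =>
      (Subgroup.mem_normalizer_iff.1 (hON (mem_cent_one.2 hxz)) o).1 ho⟩

/-- at most three inverted elements centralise a nontrivial element of `C_E(s)` -/
theorem inv_three {z : G} (hz : z ∈ E) (hzs : Commute z s) (hz1 : z ≠ 1) {x y : G}
    (hx : x ∈ E) (hxz : Commute x z) (hxi : s * x * s⁻¹ = x⁻¹) (hx1 : x ≠ 1)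
    (hy : y ∈ E) (hyz : Commute y z) (hyi : s * y * s⁻¹ = y⁻¹) (hy1 : y ≠ 1) : y = x ∨ y = x⁻¹ := by
  rcases h.fixed_cent hz hzs hz1 with hall | ⟨O, hOs, -, hOle, hrel, hnorm⟩
  · exact absurd (h.inv_fixed hx hxi (hall x hx hxz)) hx1
  by_contra hne
  push Not at hne
  obtain ⟨H, hH⟩ : ∃ H, H = E ⊓ centralizer ({z} : Set G) := ⟨_, rfl⟩
  rw [← hH] at hOle hrel
  have hinvI : ∀ {a : G}, a ∈ E → s * a * s⁻¹ = a⁻¹ → s * a⁻¹ * s⁻¹ = a⁻¹⁻¹ := fun _ ha => by
    rw [← conj_inv, ha]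
  -- inverted elements in one coset of `O` are equal
  have same : ∀ a b : G, a ∈ E → Commute a z → s * a * s⁻¹ = a⁻¹ → s * b * s⁻¹ = b⁻¹ → a⁻¹ * b ∈ O →
      a = b := by
    intro a b ha haz hai hbi hab
    obtain ⟨o, ho⟩ : ∃ o, o = a⁻¹ * b := ⟨_, rfl⟩
    rw [← ho] at hab
    have hb : b = a * o := by rw [ho, mul_inv_cancel_left]
    have hso : s * o * s⁻¹ = o := conj_of_commute (hOs o hab).2.symm
    rw [hb, show s * (a * o) * s⁻¹ = (s * a * s⁻¹) * (s * o * s⁻¹) by group, hai, hso, mul_inv_rev] at hbi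
    have hoo : a * o * a⁻¹ = o⁻¹ ∨ a * o * a⁻¹ = o := by
      left
      calc a * o * a⁻¹ = a * (a * (a⁻¹ * o)) * a⁻¹ := by group
        _ = a * (a * (o⁻¹ * a⁻¹)) * a⁻¹ := by rw [hbi]
        _ = (a * a) * o⁻¹ * (a * a)⁻¹ := by group
        _ = o⁻¹ := by
          refine conj_of_commute ?_
          refine commute_of_conj ?_
          have e1 : a * o⁻¹ * a⁻¹ = o := by
            have := congrArg (fun q => a * q) hbi.symm
            simp only [mul_inv_cancel_left] at this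
            rw [← mul_assoc] at this
            exact this
          have e2 : a * o * a⁻¹ = o⁻¹ := by
            rw [← inv_inj, conj_inv, e1, inv_inv]
          calc a * a * o⁻¹ * (a * a)⁻¹ = a * (a * o⁻¹ * a⁻¹) * a⁻¹ := by group
            _ = o⁻¹ := by rw [e1, e2]
    have hc : Commute a o := commute_of_pm (h.e_odd ha) (hoo.symm)
    rw [conj_of_commute hc, or_comm] at hoo
    rcases hoo with e | e
    · rw [hc.inv_left.eq] at hbi
      have : o = o⁻¹ := mul_right_cancel hbi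
      rw [hb, eq_one_of_eq_inv (h.e_odd (hOs o hab).1) this, mul_one]
    · rw [hb, eq_one_of_eq_inv (h.e_odd (hOs o hab).1) e, mul_one]
  have mem : ∀ {a : G}, a ∈ E → Commute a z → a ∈ H := fun ha haz => hH ▸ mem_inf.2 ⟨ha, mem_cent_one.2 haz⟩
  let ψ : Fin 4 → H ⧸ O.subgroupOf H := fun i => QuotientGroup.mk
    (![(1 : H), ⟨x, mem hx hxz⟩, ⟨x⁻¹, mem (E.inv_mem hx) hxz.inv_left⟩, ⟨y, mem hy hyz⟩] i)
  have hψ : Function.Injective ψ := by
    have hgood : ∀ i, ((![(1 : H), ⟨x, mem hx hxz⟩, ⟨x⁻¹, mem (E.inv_mem hx) hxz.inv_left⟩,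
        ⟨y, mem hy hyz⟩] i : H) : G) ∈ E ∧
        Commute ((![(1 : H), ⟨x, mem hx hxz⟩, ⟨x⁻¹, mem (E.inv_mem hx) hxz.inv_left⟩,
        ⟨y, mem hy hyz⟩] i : H) : G) z ∧
        s * ((![(1 : H), ⟨x, mem hx hxz⟩, ⟨x⁻¹, mem (E.inv_mem hx) hxz.inv_left⟩,
        ⟨y, mem hy hyz⟩] i : H) : G) * s⁻¹ =
        ((![(1 : H), ⟨x, mem hx hxz⟩, ⟨x⁻¹, mem (E.inv_mem hx) hxz.inv_left⟩,
        ⟨y, mem hy hyz⟩] i : H) : G)⁻¹ := by
      intro i
      fin_cases i
      · exact ⟨E.one_mem, Commute.one_left z, by simp⟩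
      · exact ⟨hx, hxz, hxi⟩
      · exact ⟨E.inv_mem hx, hxz.inv_left, hinvI hx hxi⟩
      · exact ⟨hy, hyz, hyi⟩
    intro i j hij
    have hmem := mem_subgroupOf.1 (QuotientGroup.eq.1 hij)
    obtain ⟨a1, a2, a3⟩ := hgood i
    obtain ⟨-, -, b3⟩ := hgood j
    have e := same _ _ a1 a2 a3 b3 (by simpa using hmem)
    have hxx : x ≠ x⁻¹ := fun e' => hx1 (eq_one_of_eq_inv (h.e_odd hx) e')
    have d1 : x⁻¹ ≠ 1 := inv_ne_one.2 hx1
    fin_cases i <;> fin_cases j <;>
      first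
        | rfl
        | (exfalso; simp [hx1, hy1, hne.1, hne.2, hxx, d1, Ne.symm hx1, Ne.symm hy1, Ne.symm hne.1,
            Ne.symm hne.2, Ne.symm hxx, Ne.symm d1] at e)
  have h4 := Nat.card_le_card_of_injective ψ hψ
  rw [Nat.card_fin, ← Subgroup.index_eq_card] at h4
  change 4 ≤ O.relIndex H at h4
  omega

/-- no nontrivial element of `C_E(s)` is central in `E` -/
theorem not_central {z : G} (hz : z ∈ E) (hzs : Commute z s) (hz1 : z ≠ 1) : ∃ x ∈ E, ¬ Commute x z := by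
  by_contra hcon
  push Not at hcon
  have hEC : E ⊓ centralizer ({z} : Set G) = E := inf_eq_left.2 fun x hx => mem_cent_one.2 (hcon x hx)
  rcases h.fixed_cent hz hzs hz1 with hall | ⟨O, hOs, hdvd, hOle, hrel, -⟩
  · exact hz1 (mem_bot.1 (h.eq_bot_of_fixed le_rfl h.mInv_E (fun x hx => hall x hx (hcon x hx)) ▸ hz))
  rw [hEC] at hOle hrel
  obtain ⟨K, hK⟩ : ∃ K, K = E ⊓ centralizer ({s} : Set G) := ⟨_, rfl⟩
  have hOK : O ≤ K := fun o ho => hK ▸ mem_inf.2 ⟨(hOs o ho).1, mem_cent_one.2 (hOs o ho).2⟩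
  have hKE : K ≤ E := hK ▸ inf_le_left
  have hKO : K ≤ O := by
    have hm := Subgroup.relIndex_mul_relIndex O K E hOK hKE
    rw [hrel] at hm
    rcases (Nat.dvd_prime Nat.prime_three).1 (Dvd.intro _ hm) with e | e
    · exact relIndex_eq_one.1 e
    · exfalso
      have h1 : K.relIndex E = 1 := by rw [e] at hm; omega
      have hEK := relIndex_eq_one.1 h1
      exact hz1 (mem_bot.1 (h.eq_bot_of_fixed le_rfl h.mInv_E
        (fun x hx => mem_cent_one.1 (mem_inf.1 (hK ▸ hEK hx)).2) ▸ hz))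
  obtain rfl : O = K := le_antisymm hOK hKO
  have hcard : 3 * Nat.card O = Nat.card E := by
    have := Subgroup.relIndex_mul_relIndex ⊥ O E bot_le hOle
    rw [hrel, relIndex_bot_left, relIndex_bot_left] at this
    omega
  obtain ⟨P, hP8, hPgen⟩ := h.sylow
  obtain ⟨hG, hN, -, X, hX4, hX1, heq⟩ :=
    h.toFourCore.order_formula P hP8 hPgen (f := 3) (k := Nat.card O) (by rw [hK]) hcard
  obtain ⟨c, hc⟩ := hdvd
  have hidx := (centralizer ({z} : Set G)).card_mul_index
  rw [hc, hG] at hidx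
  have hpos : 0 < Nat.card O := Nat.card_pos
  have hN' : 35 * (c * (centralizer ({z} : Set G)).index) = M.index :=
    Nat.eq_of_mul_eq_mul_left (show 0 < 72 * Nat.card O by omega) (by rw [← mul_assoc, ← mul_assoc]; linarith)
  rcases orderEight_three M.index X hN hX4 hX1 heq with e | e
  · refine h.centralizer_ne_top hz1 (index_eq_one.1 (Nat.dvd_one.1 ⟨c, ?_⟩))
    rw [e] at hN'
    rw [mul_comm]
    omega
  · omega

end FourCtx

end Cfsg.Agent.GW
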