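import Cfsg.Agent.Lib.GW.FourCoeff

/-!
# Integrality and parity of the coefficients

Restricted to `C(P)` each coefficient is a signed sum of four multiplicities; changing the involution changes
it by an even number, and conjugation by `v` shifts the index.
-/

set_option autoImplicit false
set_option linter.unusedSectionVars false

open scoped ComplexConjugate
open Cfsg

namespace Cfsg.Agent.GW

universe u

variable {G : Type u} [Group G] [Fintype G] {M : Ideal AlgInt}
  {P : Sylow 2 G} {t v : G}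
  {π : (Subgroup.centralizer ((P : Subgroup G) : Set G) →* ℂˣ) → (Subgroup.centralizer ({t} : Set G) →* ℂˣ)}
  {θ : Subgroup.centralizer ((P : Subgroup G) : Set G) →* ℂˣ}

local notation "W" => Subgroup.centralizer ((P : Subgroup G) : Set G)
set_option quotPrecheck false in
local notation "C" => Subgroup.centralizer ({t} : Set G)

open scoped Classical in
/-- The sign character of the four group with kernel generated by `a`. -/
noncomputable def fourSign (hP : Nat.card P = 4) (hexp : ∀ x : P, x * x = 1) (a : (P : Subgroup G)) (ha : a ≠ 1) :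
    (P : Subgroup G) →* ℤˣ where
  toFun x := if x ∈ Subgroup.zpowers a then 1 else -1
  map_one' := if_pos (one_mem _)
  map_mul' x y := by
    have hi : (Subgroup.zpowers a).index = 2 := by
      have h1 := (Subgroup.zpowers a).index_mul_card
      have h2 : orderOf a = 2 := orderOf_eq_prime (by rw [pow_two]; exact hexp a) ha
      rw [Nat.card_zpowers, h2, show Nat.card (P : Subgroup G) = 4 from hP] at h1
      omega
    have := Subgroup.mul_mem_iff_of_index_two hi (a := x) (b := y)
    by_cases h1 : x ∈ Subgroup.zpowers a <;> by_cases h2 : y ∈ Subgroup.zpowers a <;> simp_all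

open scoped Classical in
theorem fourSign_apply (hP : Nat.card P = 4) (hexp : ∀ x : P, x * x = 1) (a : (P : Subgroup G)) (ha : a ≠ 1)
    (x : (P : Subgroup G)) : (fourSign hP hexp a ha x : ℤ) = if x = 1 ∨ x = a then 1 else -1 := by
  have hz : x ∈ Subgroup.zpowers a ↔ x = 1 ∨ x = a := by
    refine ⟨fun h => ?_, ?_⟩
    · have h2 : orderOf a = 2 := orderOf_eq_prime (by rw [pow_two]; exact hexp a) ha
      obtain ⟨k, hk, rfl⟩ := Finset.mem_image.1 ((mem_zpowers_iff_mem_range_orderOf).1 h)
      rw [h2, Finset.mem_range] at hk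
      rcases (by omega : k = 0 ∨ k = 1) with rfl | rfl <;> simp
    · rintro (rfl | rfl)
      · exact one_mem _
      · exact Subgroup.mem_zpowers _
  show (((if x ∈ Subgroup.zpowers a then 1 else -1 : ℤˣ)) : ℤ) = _
  by_cases h : x ∈ Subgroup.zpowers a
  · rw [if_pos h, if_pos (hz.1 h), Units.val_one]
  · rw [if_neg h, if_neg (fun h' => h (hz.2 h')), Units.val_neg, Units.val_one]

/-- Linear characters of `C(P)` agreeing with the data on odd elements are equal. -/
theorem hom_eq_of_odd (D : LinData P t v π θ) {φ ψ : W →* ℂˣ}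
    (hφ : ∀ w : W, (w : G) ∈ (P : Subgroup G) → φ w = 1) (hψ : ∀ w : W, (w : G) ∈ (P : Subgroup G) → ψ w = 1)
    (h : ∀ w : W, ¬ 2 ∣ orderOf w → φ w = ψ w) : φ = ψ := by
  haveI : Fact (Nat.Prime 2) := ⟨Nat.prime_two⟩
  refine MonoidHom.ext fun w => ?_
  obtain ⟨⟨y, hxy, hc, ⟨k, hk⟩, -⟩, hodd, -⟩ := Char.preg_spec Nat.prime_two w
  set x : W := w * (Char.preg 2 w)⁻¹ with hx
  have hxP : (x : G) ∈ (P : Subgroup G) := by
    have hp : IsPGroup 2 (Subgroup.zpowers (x : G)) :=
      IsPGroup.of_card (n := k) (by rw [Nat.card_zpowers, Subgroup.orderOf_coe, hk])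
    have hle : Subgroup.zpowers (x : G) ≤ Subgroup.normalizer ((P : Subgroup G) : Set G) :=
      Subgroup.zpowers_le.2 (Subgroup.centralizer_le_normalizer _ x.2)
    have := P.is_maximal' (hp.to_sup_of_normal_right' P.isPGroup' hle) le_sup_right
    exact (SetLike.ext_iff.1 this _).1 (Subgroup.mem_sup_left (Subgroup.mem_zpowers _))
  calc φ w = φ (x * Char.preg 2 w) := congrArg φ (inv_mul_cancel_right w _).symm
    _ = ψ (x * Char.preg 2 w) := by
      rw [map_mul φ x (Char.preg 2 w), map_mul ψ x (Char.preg 2 w), hφ x hxP, hψ x hxP, h _ hodd]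
    _ = ψ w := congrArg ψ (inv_mul_cancel_right w _)

theorem theta_eq_of_block (hM : IsPModular 2 M) (D : LinData P t v π θ) {i j : ℕ}
    (h : sectionBlock M D i = sectionBlock M D j) : linTheta D i = linTheta D j := by
  haveI : Fact (Nat.Prime 2) := ⟨Nat.prime_two⟩
  letI : Fintype C := Fintype.ofFinite _
  obtain ⟨η, -, hη1, hKc, hK4⟩ := exists_proj D
  have hmem : linIrr (linPull D j) ∈ sectionBlock M D i := by
    rw [h]; exact Char.self_mem_blockOf (Char.pmod_prime hM) _
  have hK := (linIrr_mem_iff hM η.ker hKc hK4 _ _).1 hmem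
  refine hom_eq_of_odd D (linTheta_triv D i) (linTheta_triv D j) fun w hw => ?_
  have hc : (⟨(w : G), D.W_le w.2⟩ : C) ∈ η.ker := by
    rw [MonoidHom.mem_ker, hη1, Subgroup.orderOf_mk, Subgroup.orderOf_coe]
    exact hw
  have := hK _ hc
  rwa [linPull_W D i _ w rfl, linPull_W D j _ w rfl] at this

/-- The coefficient on `C(P)` at the involution `s`. -/
noncomputable def cfW (D : LinData P t v π θ) (s : G) (i : ℕ) (χ : IrrCharacter G) : ℂ :=
  letI : Fintype W := Fintype.ofFinite _
  open scoped Classical in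
  4 * (Nat.card W : ℂ)⁻¹ *
    ∑ w : W with ¬ 2 ∣ orderOf w, conj (linTheta D i w : ℂ) * (χ : G → ℂ) (s * (w : G))

open scoped Classical in
theorem exists_projW (D : LinData P t v π θ) :
    ∃ η : W →* (P : Subgroup G), (∀ w : W, ∀ hw : (w : G) ∈ (P : Subgroup G), η w = ⟨w, hw⟩) ∧
      ∀ w : W, η w = 1 ↔ ¬ 2 ∣ orderOf w := by
  obtain ⟨η, hη, hη1, -, -⟩ := exists_proj D
  refine ⟨η.comp (Subgroup.inclusion D.W_le), fun w hw => hη _ hw, fun w => ?_⟩
  rw [MonoidHom.comp_apply, hη1, ← Subgroup.orderOf_coe, Subgroup.coe_inclusion, Subgroup.orderOf_coe]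

open scoped Classical in
/-- At `t` the coefficient on `C(P)` is the coefficient. -/
theorem cfW_t (hM : IsPModular 2 M) (D : LinData P t v π θ) {B : Set (IrrCharacter G)} {J : Finset ℕ}
    (R : Reps M D B J) {χ : IrrCharacter G} (hχ : χ ∈ B) (i : ℕ) : cfW D t i χ = cf D i χ := by
  haveI : Fact (Nat.Prime 2) := ⟨Nat.prime_two⟩
  letI : Fintype W := Fintype.ofFinite _
  obtain ⟨η, hη, hη1⟩ := exists_projW D
  have hreg : ∀ w, ¬ 2 ∣ orderOf w → w ∈ η.ker := fun w hw => (hη1 w).2 hw
  have hKc : ¬ 2 ∣ Nat.card η.ker := by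
    intro h2
    obtain ⟨x, hx⟩ := exists_prime_orderOf_dvd_card' 2 h2
    exact (hη1 x).1 x.2 (by rw [Subgroup.orderOf_coe, hx])
  have hK4 : η.ker.index = 4 := by
    have hPW : ∀ p : (P : Subgroup G), (p : G) ∈ W := fun p => Subgroup.mem_centralizer_iff.mpr fun x hx =>
      Char.comm_of_exp_two (P := (P : Subgroup G)) D.exp x hx p p.2
    rw [Subgroup.index_ker, MonoidHom.range_eq_top.2 fun p => ⟨⟨p, hPW p⟩, hη _ p.2⟩,
      Subgroup.card_top]
    exact D.card
  have hval : ∀ w : W, ¬ 2 ∣ orderOf w → (χ : G → ℂ) (t * (w : G)) = ∑ j ∈ J, (linTheta D j w : ℂ) * cf D j χ := by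
    intro w hw
    rw [show (w : G) = ((⟨(w : G), D.W_le w.2⟩ : C) : G) from rfl,
      expansion hM D R hχ _ (by rwa [Subgroup.orderOf_mk, Subgroup.orderOf_coe])]
    exact Finset.sum_congr rfl fun j _ => by rw [linPull_W D j _ w rfl]
  obtain ⟨i', hi', hblk⟩ := R.all _ (R.ind i)
  have hθ := theta_eq_of_block hM D hblk
  calc cfW D t i χ = ∑ j ∈ J, cf D j χ * (4 * (Nat.card W : ℂ)⁻¹ *
        ∑ w : W with ¬ 2 ∣ orderOf w, conj (linTheta D i w : ℂ) * (linTheta D j w : ℂ)) := by
        simp only [cfW, Finset.mul_sum]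
        rw [Finset.sum_comm]
        refine Finset.sum_congr rfl fun w hw => ?_
        rw [hval w (Finset.mem_filter.1 hw).2, Finset.mul_sum, Finset.mul_sum]
        exact Finset.sum_congr rfl fun j _ => by ring
    _ = ∑ j ∈ J, cf D j χ * if i' = j then 1 else 0 := by
        refine Finset.sum_congr rfl fun j hj => congrArg _ ?_
        refine (linear_orth_regular η.ker hKc hreg hK4 _ _).trans ?_
        split_ifs with h1 h2 h2
        · rfl
        · refine absurd (R.inj i' hi' j hj ?_) h2
          have e : linTheta D i = linTheta D j := hom_eq_of_odd D (linTheta_triv D i) (linTheta_triv D j)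
            fun w hw => h1 w (hreg w hw)
          rw [hθ] at e
          simp only [sectionBlock, linPull, e]
        · exact absurd (fun w _ => by rw [hθ, h2]) h1
        · rfl
    _ = cf D i χ := by
        rw [Finset.sum_eq_single i' (fun j _ hj => by simp [Ne.symm hj]) (fun h => absurd hi' h), if_pos rfl,
          mul_one]
        simp only [cf, linPull, hθ]

open scoped Classical in
/-- Conjugation by `v` shifts the index. -/
theorem cfW_shift (D : LinData P t v π θ) (χ : IrrCharacter G) (i : ℕ) :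
    cfW D (v * t * v⁻¹) i χ = cfW D t (i + 1) χ := by
  letI : Fintype W := Fintype.ofFinite _
  simp only [cfW]
  congr 1
  refine (Finset.sum_equiv (conjV D).toEquiv (fun w => ?_) fun w _ => ?_).symm
  · simp [MulEquiv.orderOf_eq]
  · show conj (linTheta D (i + 1) w : ℂ) * (χ : G → ℂ) (t * (w : G)) =
      conj (linTheta D i (conjV D w) : ℂ) * (χ : G → ℂ) (v * t * v⁻¹ * (conjV D w : G))
    rw [← linTheta_conj, conjV_apply,
      show v * t * v⁻¹ * (v * (w : G) * v⁻¹) = v * (t * (w : G)) * v⁻¹ by group,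
      Char.isClassFunction_character (Char.irr_isCharacter χ.2)]

open scoped Classical in
/-- The coefficient at an involution is a signed sum of four multiplicities. -/
theorem cfW_parity (D : LinData P t v π θ) (χ : IrrCharacter G) (i : ℕ) :
    ∃ a b : ℤ, cfW D t i χ = a ∧ cfW D (v * t * v⁻¹) i χ = b ∧ 2 ∣ a - b := by
  haveI : Fact (Nat.Prime 2) := ⟨Nat.prime_two⟩
  letI : Fintype W := Fintype.ofFinite _
  obtain ⟨η, hη, hη1⟩ := exists_projW D
  set u := v * t * v⁻¹ with hu
  let tt : (P : Subgroup G) := ⟨t, D.tP⟩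
  let uu : (P : Subgroup G) := ⟨u, D.uP⟩
  have htt : tt ≠ 1 := fun h => D.t1 (congrArg Subtype.val h)
  have huu : uu ≠ 1 := fun h => D.u1 (congrArg Subtype.val h)
  let σ₁ := fourSign D.card D.exp tt htt
  let σ₂ := fourSign D.card D.exp uu huu
  let σ : Fin 4 → ((P : Subgroup G) →* ℤˣ) := ![1, σ₁, σ₂, σ₁ * σ₂]
  have hind : ∀ s x : (P : Subgroup G), ∑ k : Fin 4, (σ k s : ℤ) * (σ k x : ℤ) = if x = s then 4 else 0 := by
    have hne : tt * uu ≠ 1 ∧ tt * uu ≠ tt ∧ tt * uu ≠ uu ∧ tt ≠ uu := by
      refine ⟨fun h => D.vne ?_, fun h => huu (mul_eq_left.1 h), fun h => htt (mul_eq_right.1 h),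
        fun h => D.vne (congrArg Subtype.val h).symm⟩
      have h' : t * u = 1 := congrArg Subtype.val h
      exact (eq_inv_of_mul_eq_one_right h').trans (inv_eq_of_mul_eq_one_left (D.sq D.tP))
    obtain ⟨n1, n2, n3, n4⟩ := hne
    have cases4 : ∀ s : (P : Subgroup G), s = 1 ∨ s = tt ∨ s = uu ∨ s = tt * uu := fun s => by
      rcases D.mem_cases s.2 with h | h | h | h
      · exact Or.inl (Subtype.ext h)
      · exact Or.inr (Or.inl (Subtype.ext h))
      · exact Or.inr (Or.inr (Or.inl (Subtype.ext h)))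
      · exact Or.inr (Or.inr (Or.inr (Subtype.ext h)))
    have s11 : (σ₁ tt : ℤ) = 1 := (fourSign_apply _ _ _ _ _).trans (if_pos (Or.inr rfl))
    have s12 : (σ₁ uu : ℤ) = -1 := (fourSign_apply _ _ _ _ _).trans (if_neg (by
      rintro (h | h)
      · exact huu h
      · exact n4 h.symm))
    have s21 : (σ₂ tt : ℤ) = -1 := (fourSign_apply _ _ _ _ _).trans (if_neg (by
      rintro (h | h)
      · exact htt h
      · exact n4 h))
    have s22 : (σ₂ uu : ℤ) = 1 := (fourSign_apply _ _ _ _ _).trans (if_pos (Or.inr rfl))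
    intro s x
    simp only [Fin.sum_univ_four, σ, Matrix.cons_val_zero, Matrix.cons_val_one, Matrix.cons_val,
      MonoidHom.mul_apply, MonoidHom.one_apply, Units.val_mul, Units.val_one]
    rcases cases4 s with rfl | rfl | rfl | rfl <;> rcases cases4 x with rfl | rfl | rfl | rfl <;>
      simp [map_mul, s11, s12, s21, s22, n1, n2, n3, n4, Ne.symm n1, Ne.symm n2, Ne.symm n3, Ne.symm n4, htt, huu,
        Ne.symm htt, Ne.symm huu]
  let lin : Fin 4 → (W →* ℂˣ) := fun k =>
    ((Units.map (Int.castRingHom ℂ).toMonoidHom).comp ((σ k).comp η)) * linTheta D i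
  have hlin : ∀ k w, (lin k w : ℂ) = ((σ k (η w) : ℤ) : ℂ) * (linTheta D i w : ℂ) := fun k w => by
    simp [lin]
  choose n hn using fun k => Char.classInner_natCast
    (Char.isCharacter_comp (W : Subgroup G).subtype (Char.irr_isCharacter χ.2)) (Char.isCharacter_linear (lin k))
  have key : ∀ s : (P : Subgroup G), cfW D (s : G) i χ = ((∑ k, (σ k s : ℤ) * (n k : ℤ) : ℤ) : ℂ) := by
    intro s
    have hsW : (s : G) ∈ W := Subgroup.mem_centralizer_iff.mpr fun x hx =>
      Char.comm_of_exp_two (P := (P : Subgroup G)) D.exp x hx s s.2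
    let sW : W := ⟨s, hsW⟩
    have hηs : η sW = s := hη sW s.2
    have e : ∑ w : W with ¬ 2 ∣ orderOf w, conj (linTheta D i w : ℂ) * (χ : G → ℂ) ((s : G) * (w : G)) =
        ∑ g : W with η g = s, conj (linTheta D i g : ℂ) * (χ : G → ℂ) (g : G) := by
      refine Finset.sum_equiv (Equiv.mulLeft sW) (fun w => ?_) fun w _ => ?_
      · simp [← hη1, hηs]
      · simp [linTheta_triv D i sW s.2, sW]
    simp only [cfW]
    rw [e]
    push_cast
    simp only [← hn, classInner, hlin, map_mul, map_intCast, Finset.mul_sum, Function.comp_apply]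
    rw [Finset.sum_filter, Finset.sum_comm]
    refine Finset.sum_congr rfl fun g _ => ?_
    have h := hind s (η g)
    have h' : ∑ k : Fin 4, ((σ k s : ℤ) : ℂ) * ((σ k (η g) : ℤ) : ℂ) = if η g = s then 4 else 0 := by
      rw [← Int.cast_inj (α := ℂ)] at h
      push_cast at h
      exact h
    calc (if η g = s then _ else (0 : ℂ))
        = (∑ k : Fin 4, ((σ k s : ℤ) : ℂ) * ((σ k (η g) : ℤ) : ℂ)) *
            ((Nat.card W : ℂ)⁻¹ * (conj (linTheta D i g : ℂ) * (χ : G → ℂ) (g : G))) := by
          rw [h']; split_ifs <;> ring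
      _ = _ := by
          rw [Finset.sum_mul]
          exact Finset.sum_congr rfl fun k _ => by simp only [Subgroup.coe_subtype]; ring
  refine ⟨_, _, key tt, key uu, ?_⟩
  rw [← Finset.sum_sub_distrib]
  refine Finset.dvd_sum fun k _ => ?_
  rw [← sub_mul]
  refine dvd_mul_of_dvd_left ?_ _
  rcases Int.units_eq_one_or (σ k tt) with h1 | h1 <;> rcases Int.units_eq_one_or (σ k uu) with h2 | h2 <;>
    simp [h1, h2]

/-- The coefficients are integers of constant parity. -/
theorem cf_int (hM : IsPModular 2 M) (D : LinData P t v π θ) {B : Set (IrrCharacter G)} {J : Finset ℕ}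
    (R : Reps M D B J) {χ : IrrCharacter G} (hχ : χ ∈ B) (i : ℕ) :
    ∃ a b : ℤ, cf D i χ = a ∧ cf D (i + 1) χ = b ∧ 2 ∣ a - b := by
  obtain ⟨a, b, ha, hb, h⟩ := cfW_parity D χ i
  exact ⟨a, b, by rw [← cfW_t hM D R hχ, ha], by rw [← cfW_t hM D R hχ, ← cfW_shift D χ i, hb], h⟩

end Cfsg.Agent.GW
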