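import Cfsg.Agent.Lib.GW.FourTwist
import Cfsg.Agent.Lib.Char.SubsectionOrbits
import Cfsg.Agent.Lib.Char.LocalPairs
import Cfsg.Agent.Lib.Char.FongReynolds
import Cfsg.Agent.Lib.Char.DihedralBlock.Convolve

/-!
# The blocks on the section of an involution above a linear character of the four group centralizer

With a Sylow four group `P`, a linear character `θ` of `C(P)` trivial on `P`
and a map `π` extending its conjugates to `C(t)`, the blocks of `C(t)` inducing the block of `θ` are those of the pullbacks of the conjugates of `θ` under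
the element `v` cycling the involutions of `P`.
-/

set_option autoImplicit false
set_option linter.unusedSectionVars false

open scoped ComplexConjugate
open Cfsg

namespace Cfsg.Agent.GW

universe u

variable {G : Type u} [Group G] [Fintype G] {M : Ideal AlgInt}

/-- The data of a four Sylow group, its cycling element, the extensions and the linear character. -/
structure LinData (P : Sylow 2 G) (t v : G)
    (π : (Subgroup.centralizer ((P : Subgroup G) : Set G) →* ℂˣ) → (Subgroup.centralizer ({t} : Set G) →* ℂˣ))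
    (θ : Subgroup.centralizer ((P : Subgroup G) : Set G) →* ℂˣ) : Prop where
  card : Nat.card P = 4
  exp : ∀ x : P, x * x = 1
  one : ∀ a b : G, orderOf a = 2 → orderOf b = 2 → IsConj a b
  tP : t ∈ (P : Subgroup G)
  t1 : t ≠ 1
  vN : v ∈ Subgroup.normalizer ((P : Subgroup G) : Set G)
  vne : v * t * v⁻¹ ≠ t
  cyc : v * (v * t * v⁻¹) * v⁻¹ = t * (v * t * v⁻¹)
  back : v * (t * (v * t * v⁻¹)) * v⁻¹ = t
  ret : ∀ (j : ℕ) (φ : Subgroup.centralizer ((P : Subgroup G) : Set G) →* ℂˣ),
    (∀ w w' : Subgroup.centralizer ((P : Subgroup G) : Set G), (w' : G) = v ^ j * w * (v ^ j)⁻¹ → φ w = θ w') →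
    ∀ (c : Subgroup.centralizer ({t} : Set G)) (w : Subgroup.centralizer ((P : Subgroup G) : Set G)),
      (c : G) = w → π φ c = φ w
  triv : ∀ w : Subgroup.centralizer ((P : Subgroup G) : Set G), (w : G) ∈ (P : Subgroup G) → θ w = 1

variable {P : Sylow 2 G} {t v : G}
  {π : (Subgroup.centralizer ((P : Subgroup G) : Set G) →* ℂˣ) → (Subgroup.centralizer ({t} : Set G) →* ℂˣ)}
  {θ : Subgroup.centralizer ((P : Subgroup G) : Set G) →* ℂˣ}

local notation "W" => Subgroup.centralizer ((P : Subgroup G) : Set G)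
set_option quotPrecheck false in
local notation "C" => Subgroup.centralizer ({t} : Set G)

theorem LinData.sq (D : LinData P t v π θ) {x : G} (hx : x ∈ (P : Subgroup G)) : x * x = 1 :=
  congrArg Subtype.val (D.exp ⟨x, hx⟩)

theorem LinData.order (D : LinData P t v π θ) {x : G} (hx : x ∈ (P : Subgroup G)) (h1 : x ≠ 1) : orderOf x = 2 :=
  orderOf_eq_prime (by rw [pow_two]; exact D.sq hx) h1

theorem LinData.uP (D : LinData P t v π θ) : v * t * v⁻¹ ∈ (P : Subgroup G) :=
  (Subgroup.mem_normalizer_iff.mp D.vN t).mp D.tP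

theorem LinData.u1 (D : LinData P t v π θ) : v * t * v⁻¹ ≠ 1 := fun h => D.t1 (conj_eq_one_iff.mp h)

/-- The elements of the four group. -/
theorem LinData.mem_cases (D : LinData P t v π θ) {x : G} (hx : x ∈ (P : Subgroup G)) :
    x = 1 ∨ x = t ∨ x = v * t * v⁻¹ ∨ x = t * (v * t * v⁻¹) := by
  classical
  set u := v * t * v⁻¹ with hu
  have hS : ({1, t, u, t * u} : Finset G) = ((P : Subgroup G) : Set G).toFinset := by
    refine Finset.eq_of_subset_of_card_le ?_ ?_
    · intro y hy
      simp only [Finset.mem_insert, Finset.mem_singleton] at hy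
      simp only [Set.mem_toFinset, SetLike.mem_coe]
      rcases hy with rfl | rfl | rfl | rfl
      · exact one_mem _
      · exact D.tP
      · exact D.uP
      · exact mul_mem D.tP D.uP
    · rw [Set.toFinset_card, ← Nat.card_eq_fintype_card]
      have h4 : Nat.card ((P : Subgroup G) : Set G) = 4 := D.card
      rw [h4]
      have e1 : t * u ≠ t := fun h => D.u1 (mul_eq_left.mp h)
      have e2 : t * u ≠ u := fun h => D.t1 (mul_eq_right.mp h)
      have e3 : t * u ≠ 1 := fun h => D.vne (by
        rw [← hu]; exact (eq_inv_of_mul_eq_one_right h).trans (inv_eq_of_mul_eq_one_left (D.sq D.tP)))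
      rw [Finset.card_insert_of_notMem (by
          simp only [Finset.mem_insert, Finset.mem_singleton, not_or]
          exact ⟨Ne.symm D.t1, Ne.symm D.u1, Ne.symm e3⟩),
        Finset.card_insert_of_notMem (by
          simp only [Finset.mem_insert, Finset.mem_singleton, not_or]
          exact ⟨Ne.symm D.vne, Ne.symm e1⟩),
        Finset.card_pair (Ne.symm e2)]
  have : x ∈ ({1, t, u, t * u} : Finset G) := by rw [hS, Set.mem_toFinset]; exact hx
  simpa [Finset.mem_insert, Finset.mem_singleton] using this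

theorem LinData.W_le (D : LinData P t v π θ) : W ≤ C :=
  Subgroup.centralizer_le (Set.singleton_subset_iff.mpr D.tP)

theorem LinData.mem_W (D : LinData P t v π θ) {c : G} (hc : c ∈ C) (hu : c * (v * t * v⁻¹) = v * t * v⁻¹ * c) :
    c ∈ W := by
  refine Subgroup.mem_centralizer_iff.mpr fun x hx => ?_
  have ht := Subgroup.mem_centralizer_singleton_iff.mp hc
  rcases D.mem_cases hx with rfl | rfl | rfl | rfl
  · simp
  · exact ht.symm
  · exact hu.symm
  · rw [mul_assoc, ← hu, ← mul_assoc, ← ht, mul_assoc]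

theorem LinData.normW (D : LinData P t v π θ) :
    v ∈ Subgroup.normalizer ((W : Subgroup G) : Set G) :=
  Subgroup.mem_normalizer_iff.mpr fun c => by
    constructor
    · exact fun hc => Char.conj_mem_centralizer D.vN hc
    · intro hc
      have := Char.conj_mem_centralizer (inv_mem D.vN) hc
      simpa [mul_assoc] using this

/-- Conjugation by `v` on the centralizer of the four group. -/
noncomputable def conjV (D : LinData P t v π θ) : MulAut W := Char.conjC (P : Subgroup G) ⟨v, D.vN⟩

theorem conjV_apply (D : LinData P t v π θ) (w : W) : (conjV D w : G) = v * w * v⁻¹ := rfl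

/-- The conjugates of `θ`. -/
noncomputable def linTheta (D : LinData P t v π θ) (j : ℕ) : W →* ℂˣ := θ.comp ((conjV D) ^ j).toMonoidHom

/-- Their extensions to `C(t)`. -/
noncomputable def linPull (D : LinData P t v π θ) (j : ℕ) : C →* ℂˣ := π (linTheta D j)

theorem linTheta_apply (D : LinData P t v π θ) (j : ℕ) (w : W) : linTheta D j w = θ ((conjV D ^ j) w) := rfl

theorem conjV_pow_apply (D : LinData P t v π θ) (j : ℕ) (w : W) :
    ((conjV D ^ j) w : G) = v ^ j * w * (v ^ j)⁻¹ := by
  induction j with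
  | zero => simp
  | succ j ih =>
    rw [pow_succ' (conjV D), MulAut.mul_apply, conjV_apply, ih, pow_succ' v]
    group

theorem linPull_W (D : LinData P t v π θ) (j : ℕ) (c : C) (w : W) (h : (c : G) = w) :
    linPull D j c = linTheta D j w := by
  refine D.ret j _ (fun x x' hx => ?_) c w h
  rw [linTheta_apply]
  exact congrArg θ (Subtype.ext (by rw [conjV_pow_apply, hx]))

theorem conjV_mem (D : LinData P t v π θ) (j : ℕ) {w : W} (hw : (w : G) ∈ (P : Subgroup G)) :
    ((conjV D ^ j) w : G) ∈ (P : Subgroup G) := by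
  induction j with
  | zero => simpa using hw
  | succ j ih =>
    rw [pow_succ', MulAut.mul_apply, conjV_apply]
    exact (Subgroup.mem_normalizer_iff.mp D.vN _).mp ih

theorem linTheta_triv (D : LinData P t v π θ) (j : ℕ) (w : W) (hw : (w : G) ∈ (P : Subgroup G)) :
    linTheta D j w = 1 := D.triv _ (conjV_mem D j hw)

theorem linPull_t (D : LinData P t v π θ) (j : ℕ) (a : C) (ha : (a : G) = t) : linPull D j a = 1 := by
  have htW : t ∈ W := Subgroup.mem_centralizer_iff.mpr fun x hx =>
    Char.comm_of_exp_two (P := (P : Subgroup G)) D.exp x hx t D.tP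
  rw [linPull_W D j a ⟨t, htW⟩ ha]
  exact linTheta_triv D j _ D.tP

theorem linTheta_conj (D : LinData P t v π θ) (j : ℕ) (w : W) :
    linTheta D (j + 1) w = linTheta D j (conjV D w) := by
  rw [linTheta_apply, linTheta_apply, pow_succ, MulAut.mul_apply]

/-- The block of a conjugate of `θ` on `C(P)`. -/
noncomputable def localBlock (M : Ideal AlgInt) (D : LinData P t v π θ) (j : ℕ) : Set (IrrCharacter W) :=
  blockOf M (linIrr (linTheta D j) : W → ℂ)

/-- The block of its pullback on `C(t)`. -/
noncomputable def sectionBlock (M : Ideal AlgInt) (D : LinData P t v π θ) (j : ℕ) : Set (IrrCharacter C) :=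
  blockOf M (linIrr (linPull D j) : C → ℂ)

theorem two_pow_order (D : LinData P t v π θ) : ∃ k : ℕ, orderOf t = 2 ^ k :=
  ⟨1, by rw [D.order D.tP D.t1, pow_one]⟩

open scoped Classical in
/-- The induced central characters from `C(t)` and from `C(P)` agree. -/
theorem induced_agree (hM : IsPModular 2 M) (D : LinData P t v π θ) (j : ℕ) (g : G) :
    MemLocalIdeal M (inducedCentralChar C (linIrr (linPull D j) : C → ℂ) g -
      inducedCentralChar W (linIrr (linTheta D j) : W → ℂ) g) := by
  have hP := Char.pmod_prime hM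
  set u := v * t * v⁻¹ with hu
  simp only [inducedCentralChar, linIrr_apply, map_one, Units.val_one, div_one]
  rw [finsum_mem_eq_finite_toFinset_sum _ (Set.toFinite _), finsum_mem_eq_finite_toFinset_sum _ (Set.toFinite _)]
  set S : Finset C := (Set.toFinite {h : C | IsConj g (h : G)}).toFinset with hS
  rw [← Finset.sum_filter_add_sum_filter_not S (fun h : C => (h : G) ∈ W)]
  have e : ∑ h ∈ S.filter (fun h : C => (h : G) ∈ W), (linPull D j h : ℂ) =
      ∑ w ∈ (Set.toFinite {w : W | IsConj g (w : G)}).toFinset, (linTheta D j w : ℂ) := by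
    refine Finset.sum_bij (fun h hh => (⟨(h : G), (Finset.mem_filter.mp hh).2⟩ : W)) ?_ ?_ ?_ ?_
    · intro h hh
      simpa [hS] using (Finset.mem_filter.mp hh).1
    · intro a _ b _ hab
      exact Subtype.ext (congrArg (fun x : W => (x : G)) hab)
    · intro w hw
      refine ⟨⟨(w : G), D.W_le w.2⟩, Finset.mem_filter.mpr ⟨?_, w.2⟩, rfl⟩
      simpa [hS] using hw
    · intro h hh
      rw [linPull_W D j h ⟨(h : G), (Finset.mem_filter.mp hh).2⟩ rfl]
  rw [e, add_sub_cancel_left]
  have huC : u ∈ C := Subgroup.mem_centralizer_singleton_iff.mpr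
    (Char.comm_of_exp_two (P := (P : Subgroup G)) D.exp u D.uP t D.tP)
  have huu : u * u = 1 := D.sq D.uP
  have hui : u⁻¹ = u := inv_eq_of_mul_eq_one_left huu
  refine Char.DihBlock.memLI_sum_pairs hM _ (fun h : C => ⟨u, huC⟩ * h * ⟨u, huC⟩⁻¹)
    (fun h : C => (linPull D j h : ℂ)) ?_ ?_ ?_ ?_ ?_
  · intro h hh
    obtain ⟨h1, h2⟩ := Finset.mem_filter.mp hh
    refine Finset.mem_filter.mpr ⟨?_, fun hW => h2 ?_⟩
    · simp only [hS, Set.Finite.mem_toFinset, Set.mem_setOf_eq] at h1 ⊢
      exact h1.trans (isConj_iff.mpr ⟨u, rfl⟩)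
    · have hWu : u ∈ W := Subgroup.mem_centralizer_iff.mpr fun x hx =>
        Char.comm_of_exp_two (P := (P : Subgroup G)) D.exp x hx u D.uP
      have := mul_mem (mul_mem (inv_mem hWu) hW) hWu
      simpa [mul_assoc] using this
  · intro h hh heq
    refine (Finset.mem_filter.mp hh).2 (D.mem_W h.2 ?_)
    have h' : u * (h : G) * u⁻¹ = h := congrArg Subtype.val heq
    exact (mul_inv_eq_iff_eq_mul.mp h').symm
  · intro h _
    refine Subtype.ext ?_
    show u * (u * (h : G) * u⁻¹) * u⁻¹ = h
    calc u * (u * (h : G) * u⁻¹) * u⁻¹ = (u * u) * h * (u * u)⁻¹ := by group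
      _ = h := by rw [huu]; simp
  · intro h _
    rw [map_mul, map_mul, map_inv, mul_right_comm, mul_inv_cancel, one_mul]
  · intro h _
    exact Char.memLocalRing_of_isIntegral hP.ne_top (linear_isIntegral _ h)

open scoped Classical in
/-- Conjugation by `v` fixes the induced central character. -/
theorem induced_conj (D : LinData P t v π θ) (j : ℕ) (g : G) :
    inducedCentralChar W (linIrr (linTheta D (j + 1)) : W → ℂ) g =
      inducedCentralChar W (linIrr (linTheta D j) : W → ℂ) g := by
  simp only [inducedCentralChar, linIrr_apply, map_one, Units.val_one, div_one]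
  rw [finsum_mem_eq_finite_toFinset_sum _ (Set.toFinite _), finsum_mem_eq_finite_toFinset_sum _ (Set.toFinite _)]
  refine Finset.sum_nbij' (fun w => conjV D w) (fun w => (conjV D)⁻¹ w) ?_ ?_ ?_ ?_ ?_
  · intro w hw
    simp only [Finset.mem_coe, Set.Finite.mem_toFinset, Set.mem_setOf_eq] at hw ⊢
    exact hw.trans (isConj_iff.mpr ⟨v, rfl⟩)
  · intro w hw
    simp only [Finset.mem_coe, Set.Finite.mem_toFinset, Set.mem_setOf_eq] at hw ⊢
    have e : (w : G) = v * ((conjV D)⁻¹ w : G) * v⁻¹ := by
      rw [← conjV_apply D ((conjV D)⁻¹ w), MulAut.apply_inv_self]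
    exact hw.trans (isConj_iff.mpr ⟨v⁻¹, by rw [e]; simp [mul_assoc]⟩)
  · exact fun w _ => MulAut.inv_apply_self _ _ _
  · exact fun w _ => MulAut.apply_inv_self _ _ _
  · intro w _
    rw [linTheta_conj]

/-- The block of `G` above `θ`. -/
theorem exists_common_block (hM : IsPModular 2 M) (D : LinData P t v π θ) :
    ∃ B : Set (IrrCharacter G), IsPBlock M B ∧
      (∀ j : ℕ, IsInducedBlock M C (sectionBlock M D j) B) ∧ IsInducedBlock M W (localBlock M D 0) B := by
  haveI : Fact (Nat.Prime 2) := ⟨Nat.prime_two⟩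
  letI : Fintype C := Fintype.ofFinite _
  letI : Fintype W := Fintype.ofFinite _
  have hP := Char.pmod_prime hM
  have hsec : ∀ j, ∃ B, IsInducedBlock M C (sectionBlock M D j) B := fun j =>
    Char.exists_induced_centralizer hM (two_pow_order D) ⟨_, rfl⟩
  choose B hB using hsec
  have hPW : (P : Subgroup G) ≤ W := fun a ha => Subgroup.mem_centralizer_iff.mpr fun x hx =>
    Char.comm_of_exp_two (P := (P : Subgroup G)) D.exp x hx a ha
  have hloc : ∀ j, ∃ B', IsInducedBlock M W (localBlock M D j) B' := fun j =>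
    Char.inducedBlockDefined_of_local hM P.isPGroup' hPW le_rfl (Subgroup.centralizer_le_normalizer _) ⟨_, rfl⟩
  choose B' hB' using hloc
  have heq : ∀ (b₁ b₂ : Set (IrrCharacter G)), IsPBlock M b₁ → IsPBlock M b₂ →
      (∀ χ ∈ b₁, ∀ ψ ∈ b₂, SameBlock M (χ : G → ℂ) (ψ : G → ℂ)) → b₁ = b₂ := by
    intro b₁ b₂ h1 h2 h
    obtain ⟨χ, hχ⟩ := Char.block_nonempty hP h1
    obtain ⟨ψ, hψ⟩ := Char.block_nonempty hP h2
    rw [Char.block_eq_blockOf hP h1 hχ, Char.block_eq_blockOf hP h2 hψ,
      Char.blockOf_eq_of_sameBlock hP (h χ hχ ψ hψ)]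
  have hBB' : ∀ j, B j = B' j := fun j => heq _ _ (hB j).2.1 (hB' j).2.1 fun χ hχ ψ hψ g => by
    have a := (hB j).2.2 (linIrr (linPull D j)) (Char.self_mem_blockOf hP _) χ hχ g
    have b := (hB' j).2.2 (linIrr (linTheta D j)) (Char.self_mem_blockOf hP _) ψ hψ g
    have c := induced_agree hM D j g
    have := Char.memLI_sub hP (Char.memLI_sub hP c a) (Char.memLI_symm hP b)
    convert this using 1
    ring
  have hB'B : ∀ j, B' (j + 1) = B' j := fun j => heq _ _ (hB' _).2.1 (hB' j).2.1 fun χ hχ ψ hψ g => by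
    have a := (hB' (j + 1)).2.2 (linIrr (linTheta D (j + 1))) (Char.self_mem_blockOf hP _) χ hχ g
    have b := (hB' j).2.2 (linIrr (linTheta D j)) (Char.self_mem_blockOf hP _) ψ hψ g
    rw [induced_conj D j g] at a
    have := Char.memLI_sub hP b a
    convert this using 1
    ring
  have hall : ∀ j, B' j = B' 0 := fun j => by
    induction j with
    | zero => rfl
    | succ j ih => rw [hB'B, ih]
  refine ⟨B' 0, (hB' 0).2.1, fun j => ?_, hB' 0⟩
  rw [← hall j, ← hBB' j]
  exact hB j

open scoped Classical in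
/-- The local blocks inducing `B` at `t`: at most three, and one when `θ` is fixed by `v`. -/
theorem induced_at_t (hM : IsPModular 2 M) (D : LinData P t v π θ) {B : Set (IrrCharacter G)}
    (hW : IsInducedBlock M W (localBlock M D 0) B) :
    ∃ f : G → Set (IrrCharacter C),
      (∀ b, IsInducedBlock M C b B → ∃ z ∈ (P : Subgroup G), z ≠ 1 ∧ f z = b) ∧
      (linTheta D 1 = θ → ∀ b b', IsInducedBlock M C b B → IsInducedBlock M C b' B → b = b') := by
  haveI : Fact (Nat.Prime 2) := ⟨Nat.prime_two⟩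
  have hP := Char.pmod_prime hM
  letI : Fintype W := Fintype.ofFinite _
  have hpair := Char.SubsectionOrbits.pair_of_induced hM P.isPGroup' hW
  have hmax : IsMaximalBrauerPair 2 M B (P : Subgroup G) (localBlock M D 0) :=
    ⟨hpair, fun R g hR hle => (P.is_maximal' hR.1.1 (Char.subpair_le hle))⟩
  have hab : ∀ x ∈ (P : Subgroup G), ∀ y ∈ (P : Subgroup G), x * y = y * x :=
    Char.comm_of_exp_two (P := (P : Subgroup G)) D.exp
  have hno : ∀ g : G, (∃ k : ℕ, orderOf g = 2 ^ k) → g = 1 ∨ orderOf g = 2 := by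
    intro g hg
    obtain ⟨k, hk⟩ := hg
    obtain ⟨Q, hQ⟩ := (IsPGroup.of_card (n := k) (by rw [Nat.card_zpowers, hk]) :
      IsPGroup 2 (Subgroup.zpowers g)).exists_le_sylow
    obtain ⟨c, hc⟩ := MulAction.exists_smul_eq G Q P
    have hm : c * g * c⁻¹ ∈ (P : Subgroup G) := by rw [← hc]; exact ⟨g, hQ (Subgroup.mem_zpowers g), rfl⟩
    by_cases h1 : g = 1
    · exact Or.inl h1
    · refine Or.inr ?_
      have := D.order hm (fun h => h1 (conj_eq_one_iff.mp h))
      rwa [← MulAut.conj_apply, MulEquiv.orderOf_eq] at this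
  have ht2 := D.order D.tP D.t1
  obtain ⟨Φ, -, hsur, hfib⟩ := Char.SubsectionOrbits.exists_orbitMap hM hmax hab ({1, t} : Finset G)
    (fun x hx => by
      rcases Finset.mem_insert.1 hx with rfl | hx
      · exact ⟨0, by simp⟩
      · rw [Finset.mem_singleton.1 hx]; exact two_pow_order D)
    (fun g hg => by
      rcases hno g hg with rfl | hg2
      · refine ⟨1, ⟨Finset.mem_insert_self _ _, IsConj.refl _⟩, fun x hx => ?_⟩
        exact isConj_one_right.1 hx.2
      · refine ⟨t, ⟨by simp, D.one g t hg2 ht2⟩, fun x hx => ?_⟩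
        rcases Finset.mem_insert.1 hx.1 with rfl | h
        · rw [isConj_one_left.1 hx.2, orderOf_one] at hg2; omega
        · exact Finset.mem_singleton.1 h)
  have hs : ∀ b, IsInducedBlock M C b B → ∃ z ∈ (P : Subgroup G), z ≠ 1 ∧ Φ z = ⟨t, b⟩ :=
    fun b hb => hsur t (by simp) D.t1 b hb
  refine ⟨fun z => if h : (Φ z).1 = t then h ▸ (Φ z).2 else ∅, fun b hb => ?_, fun hfix b b' hb hb' => ?_⟩
  · obtain ⟨z, hz, hz1, he⟩ := hs b hb
    refine ⟨z, hz, hz1, ?_⟩
    have key : ∀ (a : Σ x : G, Set (IrrCharacter (Subgroup.centralizer ({x} : Set G)))), a = ⟨t, b⟩ →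
        (if h : a.1 = t then h ▸ a.2 else ∅) = b := by rintro _ rfl; simp
    exact key _ he
  have hstab : v ∈ Char.pairStab hP hmax.1.1.2 := by
    refine (Char.mem_pairStab hP _).mpr ⟨D.vN, D.normW, fun χ hχ => ?_⟩
    refine ⟨Char.irrComp (conjV D)⁻¹ χ, ?_, ?_⟩
    · have hc : IsPBlock M (localBlock M D 0) := ⟨_, rfl⟩
      have himg := Char.isPBlock_image (M := M) (Q := (P : Subgroup G)) (conjV D)⁻¹ hc
      have hinv : Char.irrComp (conjV D)⁻¹ (linIrr (linTheta D 0)) = linIrr (linTheta D 0) := by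
        refine Subtype.ext (funext fun w => ?_)
        rw [Char.irrComp_apply, linIrr_apply, linIrr_apply]
        have h := DFunLike.congr_fun hfix ((conjV D)⁻¹ w)
        rw [linTheta_conj, MulAut.apply_inv_self] at h
        rw [h]
        simp [linTheta, MonoidHom.comp_apply]
      have hmem : linIrr (linTheta D 0) ∈ Char.irrComp (conjV D)⁻¹ '' localBlock M D 0 :=
        ⟨linIrr (linTheta D 0), Char.self_mem_blockOf hP _, hinv⟩
      have hEq : Char.irrComp (conjV D)⁻¹ '' localBlock M D 0 = localBlock M D 0 :=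
        Char.block_eq_blockOf hP himg hmem
      rw [← hEq]
      exact ⟨χ, hχ, rfl⟩
    · intro k k' hk
      rw [Char.irrComp_apply]
      have hkk : k' = conjV D k := Subtype.ext (by rw [conjV_apply, hk])
      rw [hkk, MulAut.inv_apply_self]
  obtain ⟨z, hz, hz1, he⟩ := hs b hb
  obtain ⟨z', hz', hz1', he'⟩ := hs b' hb'
  have hu : Φ t = Φ (v * t * v⁻¹) := (hfib t D.tP D.t1 _ D.uP D.u1).mpr ⟨v, hstab, rfl⟩
  have htu : Φ (v * t * v⁻¹) = Φ (t * (v * t * v⁻¹)) := by
    refine (hfib _ D.uP D.u1 _ (mul_mem D.tP D.uP) ?_).mpr ⟨v, hstab, D.cyc⟩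
    rw [← D.cyc]
    exact fun h => D.u1 (conj_eq_one_iff.mp h)
  have hall : ∀ x ∈ (P : Subgroup G), x ≠ 1 → Φ x = Φ t := by
    intro x hx hx1
    rcases D.mem_cases hx with rfl | rfl | rfl | rfl
    · exact absurd rfl hx1
    · rfl
    · exact hu.symm
    · rw [← htu, ← hu]
  have := (he.symm.trans ((hall z hz hz1).trans (hall z' hz' hz1').symm)).trans he'
  exact eq_of_heq (Sigma.mk.inj_iff.mp this).2

theorem linTheta_zero (D : LinData P t v π θ) : linTheta D 0 = θ := by
  ext w; simp [linTheta]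

end Cfsg.Agent.GW
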