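import Cfsg.Agent.Lib.Char.FourOrder
import Cfsg.Agent.Lib.Char.Coprime

/-!
# The section of an involution against a linear character of its centralizer

For an involution `t` whose centralizer `C` has an odd normal subgroup `K` of index four and a linear character
`L` of `C` with `L t = 1`, the block of `L` on the section of `t` sees the same pair count as the principal block.
-/

set_option autoImplicit false
set_option linter.unusedSectionVars false

open scoped ComplexConjugate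
open Cfsg

namespace Cfsg.Agent.GW

universe u

section Twist

variable {H : Type u} [Group H] [Fintype H] {M : Ideal AlgInt}

/-- A linear character as an irreducible character. -/
noncomputable def linIrr (L : H →* ℂˣ) : IrrCharacter H :=
  ⟨fun h => (L h : ℂ), Char.isIrrCharacter_linear L⟩

@[simp] theorem linIrr_apply (L : H →* ℂˣ) (h : H) : (linIrr L : H → ℂ) h = L h := rfl

/-- Multiplication by a linear character. -/
noncomputable def twist (L : H →* ℂˣ) (ξ : IrrCharacter H) : IrrCharacter H :=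
  ⟨fun h => (L h : ℂ) * (ξ : H → ℂ) h, Char.isIrr_linear_mul ξ.2 L⟩

@[simp] theorem twist_apply (L : H →* ℂˣ) (ξ : IrrCharacter H) (h : H) :
    (twist L ξ : H → ℂ) h = (L h : ℂ) * (ξ : H → ℂ) h := rfl

theorem twist_twist_inv (L : H →* ℂˣ) (ξ : IrrCharacter H) : twist L (twist L⁻¹ ξ) = ξ :=
  Subtype.ext (funext fun h => by simp)

theorem twist_inv_twist (L : H →* ℂˣ) (ξ : IrrCharacter H) : twist L⁻¹ (twist L ξ) = ξ :=
  Subtype.ext (funext fun h => by simp)

theorem linear_isIntegral (L : H →* ℂˣ) (h : H) : IsIntegral ℤ (L h : ℂ) := by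
  refine IsIntegral.of_pow (orderOf_pos h) ?_
  rw [← Units.val_pow_eq_pow_val, ← map_pow, pow_orderOf_eq_one, map_one, Units.val_one]
  exact isIntegral_one

theorem conj_linear (L : H →* ℂˣ) (h : H) : conj (L h : ℂ) = (L h⁻¹ : ℂ) := by
  rw [← linIrr_apply L h⁻¹, Char.char_inv (Char.irr_isCharacter (linIrr L).2), linIrr_apply]

theorem conj_linear_mul (L : H →* ℂˣ) (h : H) : conj (L h : ℂ) * (L h : ℂ) = 1 := by
  rw [conj_linear, ← Units.val_mul, ← map_mul, inv_mul_cancel, map_one, Units.val_one]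

theorem sameBlock_twist (hM : IsPModular 2 M) (L : H →* ℂˣ) {χ ψ : H → ℂ} (h : SameBlock M χ ψ) :
    SameBlock M (fun g => (L g : ℂ) * χ g) (fun g => (L g : ℂ) * ψ g) := by
  intro g
  have e : ∀ φ : H → ℂ, centralChar (fun g => (L g : ℂ) * φ g) g = (L g : ℂ) * centralChar φ g := fun φ => by
    simp only [centralChar, map_one, Units.val_one, one_mul]
    ring
  rw [e, e, ← mul_sub]
  exact Char.memLI_mul_left (Char.pmod_prime hM)
    (Char.memLocalRing_of_isIntegral (Char.pmod_prime hM).ne_top (linear_isIntegral L g)) (h g)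

theorem mem_blockOf_linear_iff (hM : IsPModular 2 M) (L : H →* ℂˣ) (ξ : IrrCharacter H) :
    ξ ∈ blockOf M (linIrr L : H → ℂ) ↔ twist L⁻¹ ξ ∈ principalBlock M H := by
  constructor
  · intro h
    have h' := sameBlock_twist hM L⁻¹ h
    show SameBlock M (fun _ => (1 : ℂ)) (twist L⁻¹ ξ : H → ℂ)
    convert h' using 1
    · funext g; simp
    · funext g; simp
  · intro h
    have h' := sameBlock_twist hM L (χ := fun _ => 1) h
    show SameBlock M (linIrr L : H → ℂ) (ξ : H → ℂ)
    convert h' using 1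
    · funext g; simp
    · funext g; simp

open scoped Classical in
theorem sum_linear_block (hM : IsPModular 2 M) (L : H →* ℂˣ) (F : IrrCharacter H → ℂ) :
    ∑ ξ : IrrCharacter H with ξ ∈ blockOf M (linIrr L : H → ℂ), F ξ =
      ∑ ξ : IrrCharacter H with ξ ∈ principalBlock M H, F (twist L ξ) := by
  refine Finset.sum_nbij' (fun ξ => twist L⁻¹ ξ) (fun ξ => twist L ξ) ?_ ?_ ?_ ?_ ?_
  · intro ξ hξ
    simpa [mem_blockOf_linear_iff hM] using hξ
  · intro ξ hξ
    simpa [mem_blockOf_linear_iff hM, twist_inv_twist] using hξ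
  · exact fun ξ _ => twist_twist_inv L ξ
  · exact fun ξ _ => twist_inv_twist L ξ
  · intro ξ _; rw [twist_twist_inv]

open scoped Classical in
/-- The principal part of a function at the identity when there is an odd normal subgroup of `2`-power index. -/
theorem blockPart_principal_one (hM : IsPModular 2 M) (K : Subgroup H) [K.Normal] (hK : ¬ 2 ∣ Nat.card K)
    (hreg : ∀ c, ¬ 2 ∣ orderOf c → c ∈ K) {k : ℕ} (hk : K.index = 2 ^ k) (f : H → ℂ) :
    blockPart (principalBlock M H) f 1 =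
      (K.index : ℂ) * (Nat.card H : ℂ)⁻¹ * ∑ y : H with ¬ 2 ∣ orderOf y, f y := by
  have hP := Char.pmod_prime hM
  have hbB : IsPBlock M (principalBlock M H) := Char.isPBlock_principalBlock M
  have hcol : ∀ y : H, ∑ ξ : IrrCharacter H with ξ ∈ principalBlock M H,
      conj ((ξ : H → ℂ) y) * (ξ : H → ℂ) 1 = if ¬ 2 ∣ orderOf y then (K.index : ℂ) else 0 := by
    intro y
    split_ifs with hy
    · rw [Finset.sum_congr rfl fun ξ _ => mul_comm _ _]
      have h := Char.weak_orthogonality hM hbB (x := (1 : H)) (by simp) hy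
      rwa [Char.finsum_mem_irr] at h
    · rw [← Char.sum_sq_trivial_on K hP]
      refine Finset.sum_congr ?_ fun ξ hξ => ?_
      · ext ξ
        simp only [Finset.mem_filter, Finset.mem_univ, true_and]
        exact Char.mem_principal_iff_of_index hM K hK hk ξ
      · obtain ⟨d, hd⟩ := Char.charOne_eq_natCast (Char.irr_isCharacter ξ.2)
        rw [(Finset.mem_filter.mp hξ).2 y (hreg y hy), hd, Complex.conj_natCast]
  rw [Char.blockPart_eq]
  simp only [classInner, mul_assoc, ← Finset.mul_sum, Finset.sum_mul]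
  rw [Finset.sum_comm]
  simp only [← Finset.mul_sum, hcol, mul_ite, mul_zero]
  rw [← Finset.sum_filter, mul_left_comm, Finset.mul_sum, Finset.mul_sum]
  congr 1
  rw [Finset.mul_sum]
  exact Finset.sum_congr rfl fun y _ => by ring

open scoped Classical in
/-- A linear block at a regular element. -/
theorem blockPart_linear (hM : IsPModular 2 M) (K : Subgroup H) [K.Normal] (hK : ¬ 2 ∣ Nat.card K)
    (hreg : ∀ c, ¬ 2 ∣ orderOf c → c ∈ K) {k : ℕ} (hk : K.index = 2 ^ k) (L : H →* ℂˣ) (f : H → ℂ)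
    (y : H) (hy : ¬ 2 ∣ orderOf y) :
    blockPart (blockOf M (linIrr L : H → ℂ)) f y =
      (L y : ℂ) * ((K.index : ℂ) * (Nat.card H : ℂ)⁻¹ *
        ∑ z : H with ¬ 2 ∣ orderOf z, conj (L z : ℂ) * f z) := by
  rw [← blockPart_principal_one hM K hK hreg hk (fun z => conj (L z : ℂ) * f z), Char.blockPart_eq,
    Char.blockPart_eq, sum_linear_block hM L, Finset.mul_sum]
  refine Finset.sum_congr rfl fun ξ hξ => ?_
  have hξ1 : (ξ : H → ℂ) y = (ξ : H → ℂ) 1 :=
    Char.principal_trivial_on hM K hK (Finset.mem_filter.mp hξ).2 y (hreg y hy)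
  have e : classInner f (twist L ξ : H → ℂ) = classInner (fun z => conj (L z : ℂ) * f z) (ξ : H → ℂ) := by
    simp only [classInner, twist_apply, map_mul]
    congr 1
    exact Finset.sum_congr rfl fun z _ => by ring
  rw [e, twist_apply, hξ1]
  ring

open scoped Classical in
/-- Orthogonality inside a linear block at regular elements. -/
theorem linear_block_orth (hM : IsPModular 2 M) (K : Subgroup H) [K.Normal] (hK : ¬ 2 ∣ Nat.card K)
    (hreg : ∀ c, ¬ 2 ∣ orderOf c → c ∈ K) {k : ℕ} (hk : K.index = 2 ^ k) (L : H →* ℂˣ)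
    (y y' : H) (hy : ¬ 2 ∣ orderOf y) (hy' : ¬ 2 ∣ orderOf y') :
    ∑ ξ : IrrCharacter H with ξ ∈ blockOf M (linIrr L : H → ℂ), conj ((ξ : H → ℂ) y) * (ξ : H → ℂ) y' =
      (K.index : ℂ) * (conj (L y : ℂ) * (L y' : ℂ)) := by
  rw [sum_linear_block hM L, ← Char.sum_sq_trivial_on K (Char.pmod_prime hM), Finset.sum_mul]
  refine Finset.sum_congr ?_ fun ξ hξ => ?_
  · ext ξ
    simp only [Finset.mem_filter, Finset.mem_univ, true_and]
    exact Char.mem_principal_iff_of_index hM K hK hk ξ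
  · have hmem := (Finset.mem_filter.mp hξ).2
    obtain ⟨d, hd⟩ := Char.charOne_eq_natCast (Char.irr_isCharacter ξ.2)
    rw [twist_apply, twist_apply, hmem y (hreg y hy), hmem y' (hreg y' hy'), map_mul, hd, Complex.conj_natCast]
    ring

end Twist

section Count

variable {G : Type u} [Group G] [Fintype G] {M : Ideal AlgInt} {t : G}

/-- The weighted column at `k`. -/
noncomputable def pairSum (t k : G) : ℂ :=
  ∑ χ : IrrCharacter G, (χ : G → ℂ) t ^ 2 / (χ : G → ℂ) 1 * (χ : G → ℂ) k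

open scoped Classical in
/-- The column vanishes off the inverses of products of two conjugates of `t`. -/
theorem exists_pair_of_pairSum_ne_zero {k : G} (h : pairSum t k ≠ 0) :
    ∃ z w : G, (z * t * z⁻¹) * (w * t * w⁻¹) = k⁻¹ := by
  by_contra hno
  push Not at hno
  apply h
  have hc : ∀ χ : IrrCharacter G, (χ : G → ℂ) t ^ 2 / (χ : G → ℂ) 1 * (χ : G → ℂ) k =
      (Nat.card G : ℂ)⁻¹ * ((Nat.card G : ℂ)⁻¹ * ∑ z : G, ∑ w : G,
        (χ : G → ℂ) ((z * t * z⁻¹) * (w * t * w⁻¹)) * (χ : G → ℂ) k) := by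
    intro χ
    have hz : ∀ z : G, ∑ w : G, (χ : G → ℂ) ((z * t * z⁻¹) * (w * t * w⁻¹)) =
        (Nat.card G : ℂ) * (χ : G → ℂ) t * (χ : G → ℂ) t / (χ : G → ℂ) 1 := by
      intro z
      rw [eq_div_iff (Char.irr_one_ne_zero χ.2), mul_comm, Char.sum_conj_mul χ.2,
        Char.isClassFunction_character (Char.irr_isCharacter χ.2)]
    simp only [← Finset.sum_mul, hz, Finset.sum_const, Finset.card_univ, ← Nat.card_eq_fintype_card, nsmul_eq_mul]
    have : (Nat.card G : ℂ) ≠ 0 := Nat.cast_ne_zero.mpr Nat.card_pos.ne'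
    field_simp
  simp only [pairSum, hc, ← Finset.mul_sum]
  refine mul_eq_zero_of_right _ (mul_eq_zero_of_right _ ?_)
  rw [Finset.sum_comm]
  refine Finset.sum_eq_zero fun z _ => ?_
  rw [Finset.sum_comm]
  refine Finset.sum_eq_zero fun w _ => ?_
  rw [Finset.sum_congr rfl (g := fun χ : IrrCharacter G =>
    (χ : G → ℂ) (z * t * z⁻¹ * (w * t * w⁻¹)) * conj ((χ : G → ℂ) k⁻¹)) (fun χ _ => by
      rw [← Char.char_inv (Char.irr_isCharacter χ.2), inv_inv]), Char.second_orth, if_neg]
  intro hconj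
  obtain ⟨g, hg⟩ := isConj_iff.mp hconj
  refine hno (g * z) (g * w) ?_
  calc g * z * t * (g * z)⁻¹ * (g * w * t * (g * w)⁻¹)
      = g * (z * t * z⁻¹ * (w * t * w⁻¹)) * g⁻¹ := by group
    _ = k⁻¹ := hg

/-- A linear character of the centralizer is trivial where the column does not vanish. -/
theorem linear_eq_one_of_pairSum (ht : orderOf t = 2) (L : Subgroup.centralizer ({t} : Set G) →* ℂˣ)
    (hL : ∀ a : Subgroup.centralizer ({t} : Set G), (a : G) = t → L a = 1)
    (y : Subgroup.centralizer ({t} : Set G)) (hy : ¬ 2 ∣ orderOf y) (h : pairSum t (t * (y : G)) ≠ 0) :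
    L y = 1 := by
  obtain ⟨z, w, hzw⟩ := exists_pair_of_pairSum_ne_zero h
  have htt : t * t = 1 := by rw [← sq, ← ht, pow_orderOf_eq_one]
  have hti : t⁻¹ = t := inv_eq_of_mul_eq_one_left htt
  set a := z * t * z⁻¹ with ha
  set b := w * t * w⁻¹ with hb
  have haa : a * a = 1 := by rw [ha, conj_mul, htt, mul_one, mul_inv_cancel]
  have hbb : b * b = 1 := by rw [hb, conj_mul, htt, mul_one, mul_inv_cancel]
  have hai : a⁻¹ = a := inv_eq_of_mul_eq_one_left haa
  have hty : Commute t (y : G) := (Subgroup.mem_centralizer_singleton_iff.mp y.2).symm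
  have hk : (t * (y : G))⁻¹ = t * (y : G)⁻¹ := by rw [mul_inv_rev, hti]; exact hty.inv_right.eq.symm
  rw [hk] at hzw
  have hinv : a * (t * (y : G)⁻¹) * a⁻¹ = t * (y : G) := by
    rw [← hzw, ← mul_assoc, haa, one_mul, hai]
    have hbi : b⁻¹ = b := inv_eq_of_mul_eq_one_left hbb
    calc b * a = (a * b)⁻¹ := by rw [mul_inv_rev, hai, hbi]
      _ = t * y := by rw [hzw, mul_inv_rev, inv_inv, hti]; exact hty.symm.eq
  have hpk : ∃ k : ℕ, orderOf t = 2 ^ k := ⟨1, by rw [ht, pow_one]⟩
  have h1 : IsPPart 2 (t * (y : G)) t :=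
    ⟨y, rfl, hty, hpk, by rwa [Subgroup.orderOf_coe]⟩
  have h2 : IsPPart 2 (t * (y : G)) (a * t * a⁻¹) := by
    refine ⟨a * (y : G)⁻¹ * a⁻¹, by rw [conj_mul, hinv], hty.inv_right.map (MulAut.conj a).toMonoidHom, ⟨1, ?_⟩, ?_⟩
    · rw [← MulAut.conj_apply, MulEquiv.orderOf_eq, ht, pow_one]
    · rwa [← MulAut.conj_apply, MulEquiv.orderOf_eq, orderOf_inv, Subgroup.orderOf_coe]
  have haC : a ∈ Subgroup.centralizer ({t} : Set G) :=
    Subgroup.mem_centralizer_singleton_iff.mpr (mul_inv_eq_iff_eq_mul.mp (Char.isPPart_unique Nat.prime_two h2 h1))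
  have htC : t ∈ Subgroup.centralizer ({t} : Set G) := Subgroup.mem_centralizer_singleton_iff.mpr rfl
  have hbC : b ∈ Subgroup.centralizer ({t} : Set G) := by
    rw [show b = a⁻¹ * (t * (y : G)⁻¹) by rw [← hzw, inv_mul_cancel_left]]
    exact mul_mem (inv_mem haC) (mul_mem htC (inv_mem y.2))
  have hsq : ∀ (c : Subgroup.centralizer ({t} : Set G)), (c : G) * c = 1 → (L c) * (L c) = 1 := fun c hc => by
    rw [← map_mul, show c * c = 1 from Subtype.ext hc, map_one]
  have hprod : (⟨a, haC⟩ : Subgroup.centralizer ({t} : Set G)) * ⟨b, hbC⟩ = ⟨t, htC⟩ * y⁻¹ :=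
    Subtype.ext hzw
  have hLy : (L y)⁻¹ = L ⟨a, haC⟩ * L ⟨b, hbC⟩ := by
    rw [← map_mul, hprod, map_mul, hL ⟨t, htC⟩ rfl, one_mul, map_inv]
  have h4 : (L y)⁻¹ * (L y)⁻¹ = 1 := by
    rw [hLy, mul_mul_mul_comm, hsq _ haa, hsq _ hbb, one_mul]
  have h5 : orderOf (L y) ∣ 2 := by
    rw [orderOf_dvd_iff_pow_eq_one, sq]
    rw [← mul_inv, inv_eq_one] at h4
    exact h4
  have h6 : orderOf (L y) ∣ orderOf y := orderOf_map_dvd L y
  rcases (Nat.dvd_prime Nat.prime_two).mp h5 with h7 | h7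
  · exact orderOf_eq_one_iff.mp h7
  · exact absurd (h7 ▸ h6) hy

/-- The coefficient of `L` in a character on the section of `t`. -/
noncomputable def secCoeff (t : G) [Fintype (Subgroup.centralizer ({t} : Set G))]
    (L : Subgroup.centralizer ({t} : Set G) →* ℂˣ) (χ : G → ℂ) : ℂ :=
  open scoped Classical in
  4 * (Nat.card (Subgroup.centralizer ({t} : Set G)) : ℂ)⁻¹ *
    ∑ y : Subgroup.centralizer ({t} : Set G) with ¬ 2 ∣ orderOf y, conj (L y : ℂ) * χ (t * (y : G))

variable [Fintype (Subgroup.centralizer ({t} : Set G))]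
  (K : Subgroup (Subgroup.centralizer ({t} : Set G))) [K.Normal]

open scoped Classical in
/-- The coefficient is the block part of the linear block. -/
theorem blockPart_secFun_linear (hM : IsPModular 2 M) (hK : ¬ 2 ∣ Nat.card K)
    (hreg : ∀ c, ¬ 2 ∣ orderOf c → c ∈ K) (hK4 : K.index = 4)
    (L : Subgroup.centralizer ({t} : Set G) →* ℂˣ) (χ : G → ℂ)
    (y : Subgroup.centralizer ({t} : Set G)) (hy : ¬ 2 ∣ orderOf y) :
    blockPart (blockOf M (linIrr L : Subgroup.centralizer ({t} : Set G) → ℂ)) (Char.secFun t χ) y =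
      (L y : ℂ) * secCoeff t L χ := by
  rw [blockPart_linear hM K hK hreg (k := 2) (by rw [hK4]; norm_num) L _ y hy, hK4, secCoeff]
  rfl

open scoped Classical in
/-- The pair count against any linear character fixing `t` is the principal one. -/
theorem twisted_count (hM : IsPModular 2 M) (ht : orderOf t = 2) (hK : ¬ 2 ∣ Nat.card K)
    (hreg : ∀ c, ¬ 2 ∣ orderOf c → c ∈ K) (hK4 : K.index = 4)
    (L : Subgroup.centralizer ({t} : Set G) →* ℂˣ)
    (hL : ∀ a : Subgroup.centralizer ({t} : Set G), (a : G) = t → L a = 1) :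
    ∑ χ : IrrCharacter G, (χ : G → ℂ) t ^ 2 / (χ : G → ℂ) 1 * secCoeff t L (χ : G → ℂ) =
      ∑ χ : IrrCharacter G with χ ∈ principalBlock M G, (χ : G → ℂ) t ^ 3 / (χ : G → ℂ) 1 := by
  have h := Char.section_principal_sum hM (x := t) ⟨1, by rw [ht, pow_one]⟩ K hK hreg (k := 2)
    (by rw [hK4]; norm_num) (fun χ => (χ : G → ℂ) t ^ 2 / (χ : G → ℂ) 1)
  have hr : ∑ χ : IrrCharacter G with χ ∈ principalBlock M G, (χ : G → ℂ) t ^ 3 / (χ : G → ℂ) 1 =
      ∑ χ : IrrCharacter G with χ ∈ principalBlock M G,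
        (χ : G → ℂ) t ^ 2 / (χ : G → ℂ) 1 * (χ : G → ℂ) t :=
    Finset.sum_congr rfl fun χ _ => by ring
  rw [hr, h, hK4, Nat.cast_ofNat]
  simp only [secCoeff, Finset.mul_sum]
  rw [Finset.sum_comm]
  refine Finset.sum_congr rfl fun y hy => ?_
  have e : ∑ χ : IrrCharacter G, (χ : G → ℂ) t ^ 2 / (χ : G → ℂ) 1 *
      (4 * (Nat.card (Subgroup.centralizer ({t} : Set G)) : ℂ)⁻¹ *
        (conj (L y : ℂ) * (χ : G → ℂ) (t * (y : G)))) =
      4 * (Nat.card (Subgroup.centralizer ({t} : Set G)) : ℂ)⁻¹ * (conj (L y : ℂ) * pairSum t (t * (y : G))) := by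
    rw [pairSum, Finset.mul_sum, Finset.mul_sum]
    exact Finset.sum_congr rfl fun χ _ => by ring
  rw [e, ← Finset.mul_sum]
  congr 1
  by_cases h0 : pairSum t (t * (y : G)) = 0
  · rw [h0, mul_zero]; exact h0.symm
  · rw [linear_eq_one_of_pairSum ht L hL y (Finset.mem_filter.mp hy).2 h0]
    simp [pairSum]

end Count

end Cfsg.Agent.GW
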