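import Cfsg.Agent.Lib.GW.LayerMeet
import Cfsg.Agent.Lib.GW.FourFused
import Cfsg.Agent.Lib.GW.MaxShape

/-!
# Solvability of maximal subgroups over the centraliser when a four group is a Sylow subgroup

`solv_four` is the field `solv` of the external facts for `k = 1`.
-/

set_option autoImplicit false
set_option linter.style.haveILetI false
set_option linter.unusedSectionVars false

namespace Cfsg.Agent.GW

open Cfsg Cfsg.Agent Cfsg.Agent.GW.Reduced DihedralGroup
open scoped Pointwise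

universe u

variable {G : Type u} [Group G] [Finite G]

/-- The field `solv` when `|S| = 4`. -/
theorem solv_four (hG : Minimal G) (Φ : Frame G) (hk : Φ.k = 1) (M : Subgroup G) (hM : IsCoatom M)
    (hC : Subgroup.centralizer ({Φ.t} : Set G) ≤ M) : Group.IsSolvable M := by
  classical
  haveI : Fact (Nat.Prime 2) := ⟨Nat.prime_two⟩
  haveI := hG.simple
  by_contra hns
  haveI : (Cfsg.oddCore M).Normal := Solv.pPrimeCore_normal 2
  have hSM : (Φ.S : Subgroup G) ≤ M := Φ.S_le.trans hC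
  have hodd : Odd (Nat.card (Cfsg.oddCore M)) := Nat.coprime_two_right.1 (Fusion.card_pPrimeCore_coprime 2 M)
  haveI : Group.IsSolvable ↥(Cfsg.oddCore M) := Solv.Partition.odd_solvable hodd
  let T : Sylow 2 M := Φ.S.subtype hSM
  let T' := T.mapSurjective (QuotientGroup.mk'_surjective (Cfsg.oddCore M))
  obtain ⟨sq⟩ := sylow_quotient (Cfsg.oddCore M) hodd T
  let eS : (T : Subgroup M) ≃* DihedralGroup (2 ^ Φ.k) := (Subgroup.subgroupOfEquivOfLe hSM).trans Φ.ι.symm
  let e' : (T' : Subgroup (M ⧸ Cfsg.oddCore M)) ≃* DihedralGroup (2 ^ Φ.k) := sq.symm.trans eS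
  have hlt : Nat.card M < Nat.card G :=
    lt_of_le_of_ne M.card_le_card_group fun h => hM.1 (Subgroup.card_eq_iff_eq_top M |>.1 h)
  obtain ⟨L, hLn, hmod, hCL⟩ := nonsolvable_model_of (X := M ⧸ Cfsg.oddCore M)
    (fun L _ SL j hj hd => hG.below L SL j (lt_of_le_of_lt (L.card_le_card_group.trans
      (Nat.card_le_card_of_surjective _ (QuotientGroup.mk'_surjective _))) hlt) hj hd)
    Fusion.pPrimeCore_quotient_eq_bot T' (by simp [hk]) e'
    (fun hs => hns (Group.isSolvable_of_ker_le_range (Cfsg.oddCore M).subtype (QuotientGroup.mk' (Cfsg.oddCore M))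
      (by rw [QuotientGroup.ker_mk', Subgroup.range_subtype])))
  haveI := hLn
  obtain ⟨hsimp, hnab⟩ := hmod.simple
  haveI := hsimp
  haveI : Group.IsPerfect L := perfect_of_simple hnab
  set π := QuotientGroup.mk' (Cfsg.oddCore M)
  have hT4 : Nat.card (T' : Subgroup (M ⧸ Cfsg.oddCore M)) = 4 := by
    rw [Nat.card_congr e'.toEquiv, DihedralGroup.nat_card, hk]; norm_num
  -- the Sylow subgroup lies in `L`
  have hT'L : (T' : Subgroup (M ⧸ Cfsg.oddCore M)) ≤ L := by
    obtain ⟨TL⟩ := (inferInstance : Nonempty (Sylow 2 L))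
    obtain ⟨R, hR⟩ := (TL.isPGroup'.map L.subtype).exists_le_sylow
    obtain ⟨g, hg⟩ := MulAction.exists_smul_eq (M ⧸ Cfsg.oddCore M) R T'
    have hR4 : Nat.card (R : Subgroup (M ⧸ Cfsg.oddCore M)) = 4 := by
      rw [← hT4]; exact Nat.card_congr (R.equiv T').toEquiv
    have hTL4 : Nat.card ((TL : Subgroup L).map L.subtype) = 4 := by
      obtain ⟨j, hj⟩ := IsPGroup.iff_card.1 (TL.isPGroup'.map L.subtype)
      have hd := Subgroup.card_dvd_of_le hR
      rw [hR4, hj, show (4 : ℕ) = 2 ^ 2 by norm_num, Nat.pow_dvd_pow_iff_le_right (by norm_num : 1 < 2)] at hd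
      rw [hj]
      by_contra hne
      have hj1 : j ≤ 1 := by
        by_contra h; exact hne (by rw [show j = 2 by omega]; norm_num)
      refine not_cyclic_of_perfect TL (even_of_simple hnab) ?_
      rw [Subgroup.card_map_of_injective L.subtype_injective] at hj
      rcases (show j = 0 ∨ j = 1 by omega) with rfl | rfl
      · haveI : Subsingleton (TL : Subgroup L) := (Nat.card_eq_one_iff_unique.1 hj).1
        infer_instance
      · exact isCyclic_of_prime_card hj
    have heq := Subgroup.eq_of_le_of_card_ge hR (by omega)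
    intro x hx
    rw [← hg, Sylow.coe_subgroup_smul] at hx
    obtain ⟨r, hr, rfl⟩ := hx
    exact hLn.conj_mem r (Subgroup.map_subtype_le _ (heq.ge hr)) g
  let SL : Sylow 2 L := T'.subtype hT'L
  let eL : (SL : Subgroup L) ≃* DihedralGroup (2 ^ 1) :=
    (Subgroup.subgroupOfEquivOfLe hT'L).trans (e'.trans (by rw [hk]))
  let i : ZMod (2 ^ Φ.k) := 0
  let t' : M := ⟨Φ.t, hSM Φ.t_mem⟩
  let u' : M := ⟨Φ.refl i, hSM (Φ.refl_mem i)⟩
  have hord : ∀ x ∈ (T : Subgroup M), orderOf x = 2 → orderOf (π x) = 2 := fun x hx h => by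
    let f : (T : Subgroup M) →* (T' : Subgroup (M ⧸ Cfsg.oddCore M)) := π.subgroupMap _
    have hf : Function.Injective f := by
      rw [injective_iff_map_eq_one]
      rintro ⟨y, hy⟩ h1
      have hm : y ∈ (T : Subgroup M) ⊓ Cfsg.oddCore M := ⟨hy, (QuotientGroup.eq_one_iff y).1 (congrArg Subtype.val h1)⟩
      obtain ⟨j, hj⟩ := IsPGroup.iff_card.1 T.isPGroup'
      rw [Subgroup.inf_eq_bot_of_coprime (hj ▸ hodd.coprime_two_left.pow_left j), Subgroup.mem_bot] at hm
      exact Subtype.ext hm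
    have := orderOf_injective f hf ⟨x, hx⟩
    rw [← Subgroup.orderOf_coe, Subgroup.orderOf_mk x hx, h] at this
    exact this
  have ht' : orderOf (π t') = 2 := hord t' Φ.t_mem (by rw [← Subgroup.orderOf_coe]; exact Φ.t_order)
  have hu' : orderOf (π u') = 2 := hord u' (Φ.refl_mem i) (by rw [← Subgroup.orderOf_coe]; exact Φ.refl_order i)
  have htL : π t' ∈ L := hT'L (Subgroup.mem_map_of_mem π Φ.t_mem)
  have huL : π u' ∈ L := hT'L (Subgroup.mem_map_of_mem π (Φ.refl_mem i))
  obtain ⟨y, hy⟩ := isConj_iff.1 (conj_of_four SL (by rw [Nat.card_congr eL.toEquiv, DihedralGroup.nat_card]; norm_num) eL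
    ⟨_, htL⟩ ⟨_, huL⟩ (by rw [Subgroup.orderOf_mk]; exact ht') (by rw [Subgroup.orderOf_mk]; exact hu'))
  obtain ⟨g, hg⟩ := QuotientGroup.mk'_surjective _ (y : M ⧸ Cfsg.oddCore M)
  have hgu : π (g * t' * g⁻¹) = π u' := by
    rw [map_mul, map_mul, map_inv, hg]
    exact congrArg Subtype.val hy
  have hcu : Nat.card (Subgroup.zpowers u') = 2 := by
    rw [Nat.card_zpowers, ← Subgroup.orderOf_coe]; exact Φ.refl_order i
  -- exact conjugation
  obtain ⟨d, hd, hdu⟩ := Solv.sz_conj_rel (Cfsg.oddCore M) (Subgroup.zpowers u') (Subgroup.zpowers (g * t' * g⁻¹))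
    (fun y _ => by rw [Subgroup.normalizer_eq_top_iff.2 inferInstance]; trivial)
    (by
      rw [Subgroup.zpowers_le]
      have h1 : u' * (g * t' * g⁻¹)⁻¹ ∈ Cfsg.oddCore M := (QuotientGroup.eq_one_iff _).1 (by
        show π (u' * (g * t' * g⁻¹)⁻¹) = 1
        rw [map_mul, map_inv π, hgu, mul_inv_cancel])
      have := mul_mem (Subgroup.mem_sup_left (inv_mem h1) : _ ∈ Cfsg.oddCore M ⊔ Subgroup.zpowers u')
        (Subgroup.mem_sup_right (Subgroup.mem_zpowers u'))
      rwa [mul_inv_rev, inv_inv, inv_mul_cancel_right] at this)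
    (by rw [hcu]; exact Nat.coprime_two_right.2 hodd)
    (by rw [hcu, Nat.card_zpowers,
      show orderOf (g * t' * g⁻¹) = orderOf t' from orderOf_injective (MulAut.conj g).toMonoidHom (MulAut.conj g).injective _,
      ← Subgroup.orderOf_coe]
        exact Φ.t_order)
    (Or.inl inferInstance)
  have hex : (d⁻¹ * g) * t' * (d⁻¹ * g)⁻¹ = u' := by
    have hm : g * t' * g⁻¹ ∈ MulAut.conj d • Subgroup.zpowers u' := hdu ▸ Subgroup.mem_zpowers _
    obtain ⟨z, hz, hze⟩ := hm
    obtain ⟨j, rfl⟩ := Subgroup.mem_zpowers_iff.1 hz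
    have hze : d * u' ^ j * d⁻¹ = g * t' * g⁻¹ := hze
    have huu : u' * u' = 1 := Subtype.ext (Φ.uu i)
    rw [show d⁻¹ * g * t' * (d⁻¹ * g)⁻¹ = d⁻¹ * (g * t' * g⁻¹) * d by group, ← hze,
      show d⁻¹ * (d * u' ^ j * d⁻¹) * d = u' ^ j by group]
    rcases Int.even_or_odd' j with ⟨l, rfl | rfl⟩
    · exfalso
      rw [zpow_mul, zpow_two, huu, one_zpow, mul_one, mul_inv_cancel, eq_comm, conj_eq_one_iff] at hze
      exact Φ.t_ne (congrArg Subtype.val hze)
    · rw [zpow_add_one, zpow_mul, zpow_two, huu, one_zpow, one_mul]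
  -- Burnside's argument moves it into the normaliser
  haveI : IsMulCommutative (T : Subgroup M) :=
    IsPGroup.isMulCommutative_of_card_eq_prime_sq (p := 2)
      (by rw [Nat.card_congr eS.toEquiv, DihedralGroup.nat_card, hk]; norm_num)
  obtain ⟨n, hn, hnu⟩ := T.conj_eq_normalizer_conj_of_mem t' (d⁻¹ * g)⁻¹ Φ.t_mem
    (by rw [inv_inv, hex]; exact Φ.refl_mem i)
  rw [inv_inv, hex] at hnu
  obtain ⟨m, hm⟩ : ∃ m, m = ((n⁻¹ : M) : G) := ⟨_, rfl⟩
  have hmN : m ∈ Subgroup.normalizer ((Φ.S : Subgroup G) : Set G) := by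
    refine mem_norm_of_conj fun x hx => ?_
    have h := (Subgroup.mem_normalizer_iff.1 (inv_mem hn) ⟨x, hSM hx⟩).1 hx
    rw [hm]; exact h
  have hm1 : m * Φ.t * m⁻¹ = Φ.refl i := by
    rw [hm]
    have := congrArg (fun q : M => (q : G)) hnu.symm
    simpa [mul_assoc] using this
  haveI : NeZero (2 ^ Φ.k) := ⟨by positivity⟩
  have hU : (Φ.U i : Subgroup G) = (Φ.S : Subgroup G) := Subgroup.eq_of_le_of_card_ge (by
      intro x hx
      rcases (Φ.mem_U_iff i).1 hx with rfl | rfl | rfl | rfl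
      exacts [one_mem _, Φ.t_mem, Φ.refl_mem i, mul_mem Φ.t_mem (Φ.refl_mem i)]) (by
      rw [Nat.card_congr Φ.ι.symm.toEquiv, DihedralGroup.nat_card, hk]
      haveI : IsKleinFour ↥(Subgroup.closure ({Φ.t, Φ.refl i} : Set G)) :=
        klein_pair Φ.tt (Φ.uu i) (Φ.commute i) Φ.t_ne (Φ.refl_ne_one i) (Φ.refl_ne i)
      have hle : Subgroup.closure ({Φ.t, Φ.refl i} : Set G) ≤ Φ.U i := by
        rw [Subgroup.closure_le]
        rintro x (rfl | rfl)
        · exact (Φ.mem_U_iff i).2 (Or.inr (Or.inl rfl))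
        · exact (Φ.mem_U_iff i).2 (Or.inr (Or.inr (Or.inl rfl)))
      have := Subgroup.card_le_of_le hle
      rw [IsKleinFour.card_four] at this
      norm_num; exact this)
  have hm2 : m * Φ.refl i * m⁻¹ ∈ (Φ.S : Subgroup G) :=
    (Subgroup.mem_normalizer_iff.1 hmN _).1 (Φ.refl_mem i)
  rw [← hU, Φ.mem_U_iff] at hm2
  rcases hm2 with h | h | h | h
  · exact Φ.refl_ne_one i (conj_eq_one_iff.1 h)
  · exact Φ.no_swap hk hmN Φ.t_mem (Φ.refl_ne i).symm hm1 h
  · exact Φ.refl_ne i ((MulAut.conj m).injective (h.trans hm1.symm))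
  · exact hG.fused_four Φ hk i M hM hC ⟨m, hm ▸ (n⁻¹).2, hm1, h⟩

end Cfsg.Agent.GW
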