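import Cfsg.Agent.Lib.GW.Assembly
import Cfsg.Agent.Lib.GW.FourFused
import Cfsg.Agent.Lib.GW.EightFour
import Cfsg.Agent.Lib.GW.LayerMeet
import Cfsg.Agent.Lib.GW.MaxInputs
import Cfsg.Agent.Lib.GW.MaxLayerProof
import Cfsg.Agent.Lib.GW.MaxFitting
import Cfsg.Agent.Lib.GW.MaxSolvable
import Cfsg.Agent.Lib.GW.SolvLarge

/-!
# Glue for the theorem of Gorenstein and Walter

`Remaining` lists what is not yet supplied; everything proved elsewhere is inserted here.
-/

set_option autoImplicit false
set_option linter.style.haveILetI false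
set_option linter.unusedSectionVars false

namespace Cfsg.Agent.GW

open Cfsg Cfsg.Agent Cfsg.Agent.GW.Reduced

universe u

variable {G : Type u} [Group G] [Finite G]

/-- What the maximal centraliser case delivers, the hypotheses of Brauer–Suzuki–Wall. -/
def BswData (Φ : Frame G) : Prop :=
  (Φ.O ≠ ⊥ → IsCyclic ((Φ.S : Subgroup G) ⊓ Subgroup.centralizer (Φ.O : Set G) : Subgroup G) ∧
      ((Φ.S : Subgroup G) ⊓ Subgroup.centralizer (Φ.O : Set G)).relIndex (Φ.S : Subgroup G) = 2) ∧
    (∀ s ∈ (Φ.S : Subgroup G), s ∉ Subgroup.centralizer (Φ.O : Set G) → ∀ y ∈ Φ.O, s * y * s⁻¹ = y⁻¹) ∧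
    (∀ Y : Subgroup G, Y ≤ Φ.O → Y ≠ ⊥ → Subgroup.normalizer (Y : Set G) ≤ Subgroup.centralizer ({Φ.t} : Set G))

/-- With a trivial core the hypotheses are empty. -/
theorem bswData_of_bot (Φ : Frame G) (h : Φ.O = ⊥) : BswData Φ := by
  refine ⟨fun h' => absurd h h', fun s _ hs => absurd ?_ hs, fun Y hY hne => absurd ?_ hne⟩
  · rw [h, Subgroup.mem_centralizer_iff]
    intro y hy
    rw [Subgroup.mem_bot.1 hy, one_mul, mul_one]
  · exact le_bot_iff.1 (h ▸ hY)

/-- What is still to be supplied for one frame. -/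
structure Remaining (Φ : Frame G) : Prop where
  maxCase : ∀ [IsSimpleGroup G], MaxCent Φ.t Φ.O → Rotates Φ.t → MaxLayer Φ.t Φ.O → BswData Φ

theorem solv_all (hG : Minimal G) (Φ : Frame G) (M : Subgroup G) (hM : IsCoatom M)
    (hC : Subgroup.centralizer ({Φ.t} : Set G) ≤ M) : Group.IsSolvable M := by
  rcases Nat.lt_or_ge Φ.k 2 with hk | hk
  · exact solv_four hG Φ (by have := Φ.hk; omega) M hM hC
  · exact solv_large hG Φ hk M hM hC

theorem external_of_remaining (hG : Minimal G) (Φ : Frame G) (h : Remaining Φ) : External Φ where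
  solv := solv_all hG Φ
  shape := fun M hM hC hne => shape_of_minimal hG Φ M hM hC hne
  unfused := fun i M hM hC hodd hnf => unfused_of_solvable Φ i M hC (solv_all hG Φ M hM hC) hodd hnf
  layer := layerCentralises hG
  meet := fun i N hN ht hu hE => layer_meet hG Φ i N hN ht hu hE
  eightFour := fun hk i M hM hC hN hf => hG.eight_four Φ hk i M hM hC hN hf
  fusedFour := fun hk i M hM hC hf => hG.fused_four Φ hk i M hM hC hf
  bsw := fun hmax => by
    haveI := hG.simple
    by_cases hO : Φ.O = ⊥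
    · exact bswData_of_bot Φ hO
    · exact h.maxCase (hG.maxCent Φ hmax (solv_all hG Φ _ hmax le_rfl) hO) (hG.rotates Φ) (hG.maxLayer Φ)

/-- The perfect case from what remains. -/
theorem perfectClass_of_remaining
    (h : ∀ (G : Type u) [Group G] [Finite G], Minimal G → ∀ Φ : Frame G, Remaining Φ) : PerfectClass.{u} :=
  perfectClass_of_external fun G _ _ hG Φ => external_of_remaining hG Φ (h G hG Φ)

end Cfsg.Agent.GW
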