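import Cfsg.Agent.Lib.GW.PslTorus
import Cfsg.Agent.Lib.GW.AlmostFour
import Cfsg.Agent.Lib.GW.LayerMeet
import Cfsg.Agent.Lib.GW.AltInvariant

/-!
# The torus of an involution centraliser in an almost simple group over a model

For an involution `a` of an almost simple group over `PSL₂(q)` or `A₇` with dihedral Sylow `2`-subgroups: a reflection
`v` and the group `R` of elements of odd order of the model centralising `a`.
-/

set_option autoImplicit false
set_option linter.unusedSectionVars false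
set_option linter.style.haveILetI false

namespace Cfsg.Agent.GW

open Cfsg Cfsg.Agent Cfsg.Agent.GW.Reduced Cfsg.Agent.Small

universe u

variable {X : Type u} [Group X] [Finite X]

/-- what the layer facts need about the quotient by the odd core -/
structure TorusFacts (L : Subgroup X) (a v : X) (R : Subgroup X) : Prop where
  v_mem : v ∈ L
  v_sq : v * v = 1
  v_ne : v ≠ 1
  v_ne_a : v ≠ a
  v_comm : Commute v a
  R_le : R ≤ L
  R_cyclic : IsCyclic R
  R_odd : Odd (Nat.card R)
  R_comm : ∀ x ∈ R, Commute x a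
  R_all : ∀ x ∈ L, Commute x a → Odd (orderOf x) → x ∈ R
  v_inv : ∀ x ∈ R, v * x * v⁻¹ = x⁻¹
  comm : ∀ x y : X, x * y * x⁻¹ * y⁻¹ ∈ L
  fixed : ∀ p : ℕ, p.Prime → p ≠ 2 → ∀ A : Subgroup X, IsPGroup p A → (∀ y ∈ A, Commute y a) →
    (∀ c : X, Commute c a → c ∈ Subgroup.normalizer (A : Set X)) → ∀ x ∈ A, Commute x v → x = 1
  torus : (∃ z ∈ L, z * z = 1 ∧ z ≠ 1 ∧ z ≠ a ∧ Commute z a ∧ ∀ x ∈ R, Commute z x) ∨
    ((∀ z : X, z * z = 1 → z ≠ 1 → z ≠ a → Commute z a → ∀ x ∈ R, z * x * z⁻¹ = x⁻¹) ∧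
      (∀ R' : Subgroup X, R' ≤ R → R' ≠ ⊥ → ∀ n ∈ Subgroup.normalizer (R' : Set X), Commute n a) ∧
      (∀ P : Sylow 2 X, (P : Subgroup X) ≤ Subgroup.centralizer ({a} : Set X) →
        (max (Nat.card (P : Subgroup X) / 2) 4 * Nat.card R - 1) *
            (max (Nat.card (P : Subgroup X) / 2) 4 * Nat.card R - 2) ≤
          2 * (Subgroup.centralizer ({a} : Set X) ⊓ L).relIndex L))

/-- commuting involutions of a dihedral group -/
theorem dihedral_three {m : ℕ} [NeZero m] {a b c : DihedralGroup m} (ha : a * a = 1) (hb : b * b = 1) (hc : c * c = 1)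
    (ha1 : a ≠ 1) (hb1 : b ≠ 1) (hc1 : c ≠ 1) (hab : a ≠ b) (hac : a ≠ c) (hbc : b ≠ c) (cab : Commute a b)
    (cac : Commute a c) (cbc : Commute b c) : c = a * b := by
  open DihedralGroup in
  have hr : ∀ i : ZMod m, (r i : DihedralGroup m) * r i = 1 → r i ≠ (1 : DihedralGroup m) →
      2 ∣ m ∧ i = ((m / 2 : ℕ) : ZMod m) := by
    intro i h h1
    rw [r_mul_r, DihedralGroup.one_def] at h
    have h' := DihedralGroup.r.inj h
    rcases Fusion.zmod_double_eq_zero h' with rfl | rfl
    · exact absurd DihedralGroup.one_def.symm h1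
    · refine ⟨?_, rfl⟩
      rw [← Nat.cast_add, ZMod.natCast_eq_zero_iff] at h'
      by_contra h2
      have hm : m / 2 + m / 2 + 1 = m := by omega
      rcases Nat.eq_zero_or_pos (m / 2) with h0 | h0
      · exact h1 (by rw [h0, Nat.cast_zero, DihedralGroup.one_def])
      · have := Nat.le_of_dvd (by omega) h'
        omega
  open DihedralGroup in
  have hs : ∀ i j : ZMod m, Commute (sr i : DihedralGroup m) (sr j) → j - i = 0 ∨ j - i = ((m / 2 : ℕ) : ZMod m) := by
    intro i j h
    have h' := h.eq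
    rw [sr_mul_sr, sr_mul_sr] at h'
    refine Fusion.zmod_double_eq_zero ?_
    linear_combination DihedralGroup.r.inj h'
  rcases a with i | i <;> rcases b with j | j <;> rcases c with l | l
  · exact absurd (by rw [(hr i ha ha1).2, (hr j hb hb1).2]) hab
  · exact absurd (by rw [(hr i ha ha1).2, (hr j hb hb1).2]) hab
  · exact absurd (by rw [(hr i ha ha1).2, (hr l hc hc1).2]) hac
  · obtain ⟨-, hi⟩ := hr i ha ha1
    rcases hs j l cbc with h | h
    · exact absurd (by rw [sub_eq_zero.1 h]) hbc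
    · rw [DihedralGroup.r_mul_sr, hi]
      congr 1
      have hd : ((m / 2 : ℕ) : ZMod m) + ((m / 2 : ℕ) : ZMod m) = 0 := by
        rw [DihedralGroup.r_mul_r, hi, DihedralGroup.one_def] at ha
        exact DihedralGroup.r.inj ha
      linear_combination h + hd
  · exact absurd (by rw [(hr j hb hb1).2, (hr l hc hc1).2]) hbc
  · obtain ⟨-, hj⟩ := hr j hb hb1
    rcases hs i l cac with h | h
    · exact absurd (by rw [sub_eq_zero.1 h]) hac
    · rw [DihedralGroup.sr_mul_r, hj]
      congr 1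
      linear_combination h
  · obtain ⟨-, hl⟩ := hr l hc hc1
    rcases hs i j cab with h | h
    · exact absurd (by rw [sub_eq_zero.1 h]) hab
    · rw [DihedralGroup.sr_mul_sr, h, hl]
  · exfalso
    rcases hs i j cab with h | h
    · exact hab (by rw [sub_eq_zero.1 h])
    rcases hs i l cac with h' | h'
    · exact hac (by rw [sub_eq_zero.1 h'])
    exact hbc (by rw [show j = l by linear_combination h - h'])

/-- three commuting involutions in a group with dihedral Sylow `2`-subgroups -/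
theorem three_involutions (hS : ∀ P : Sylow 2 X, ∃ m, 2 ≤ m ∧ Nonempty ((P : Subgroup X) ≃* DihedralGroup m))
    {a b c : X} (ha : a * a = 1) (hb : b * b = 1) (hc : c * c = 1) (ha1 : a ≠ 1) (hb1 : b ≠ 1) (hc1 : c ≠ 1)
    (hab : a ≠ b) (hac : a ≠ c) (hbc : b ≠ c) (cab : Commute a b) (cac : Commute a c) (cbc : Commute b c) :
    c = a * b := by
  haveI : Fact (Nat.Prime 2) := ⟨Nat.prime_two⟩
  have hp : ∀ x : X, x * x = 1 → IsPGroup 2 (Subgroup.zpowers x) := fun x hx => by
    obtain ⟨j, -, hj⟩ := (Nat.dvd_prime_pow Nat.prime_two).1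
      (orderOf_dvd_of_pow_eq_one (show x ^ 2 ^ 1 = 1 by rw [pow_one, pow_two, hx]))
    exact IsPGroup.of_card (n := j) (by rw [Nat.card_zpowers, hj])
  have hnorm : ∀ x y : X, Commute x y →
      Subgroup.zpowers x ≤ Subgroup.normalizer (Subgroup.zpowers y : Set X) := fun x y h => by
    refine le_trans ?_ (Subgroup.centralizer_le_normalizer _)
    rw [Subgroup.zpowers_le, Subgroup.mem_centralizer_iff]
    intro z hz
    obtain ⟨i, rfl⟩ := hz
    exact (h.symm.zpow_left i).eq
  have h1 : IsPGroup 2 (Subgroup.zpowers a ⊔ Subgroup.zpowers b : Subgroup X) :=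
    (hp a ha).to_sup_of_normal_right' (hp b hb) (hnorm a b cab)
  have h2 : IsPGroup 2 (Subgroup.zpowers c ⊔ (Subgroup.zpowers a ⊔ Subgroup.zpowers b) : Subgroup X) := by
    refine (hp c hc).to_sup_of_normal_right' h1 (le_trans ?_ (Subgroup.centralizer_le_normalizer _))
    rw [Subgroup.zpowers_le, Subgroup.mem_centralizer_iff]
    intro z hz
    have hle : Subgroup.zpowers a ⊔ Subgroup.zpowers b ≤ Subgroup.centralizer ({c} : Set X) :=
      sup_le (Subgroup.zpowers_le.2 (Subgroup.mem_centralizer_singleton_iff.2 cac.eq))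
        (Subgroup.zpowers_le.2 (Subgroup.mem_centralizer_singleton_iff.2 cbc.eq))
    exact Subgroup.mem_centralizer_singleton_iff.1 (hle hz)
  obtain ⟨P, hP⟩ := h2.exists_le_sylow
  obtain ⟨m, hm, ⟨e⟩⟩ := hS P
  haveI : NeZero m := ⟨by omega⟩
  have mc : c ∈ (P : Subgroup X) := hP (Subgroup.mem_sup_left (Subgroup.mem_zpowers c))
  have ma : a ∈ (P : Subgroup X) := hP (Subgroup.mem_sup_right (Subgroup.mem_sup_left (Subgroup.mem_zpowers a)))
  have mb : b ∈ (P : Subgroup X) := hP (Subgroup.mem_sup_right (Subgroup.mem_sup_right (Subgroup.mem_zpowers b)))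
  let f : ∀ {x : X}, x ∈ (P : Subgroup X) → DihedralGroup m := fun hx => e ⟨_, hx⟩
  have hne : ∀ {x y : X} (hx : x ∈ (P : Subgroup X)) (hy : y ∈ (P : Subgroup X)), x ≠ y → f hx ≠ f hy :=
    fun hx hy h h' => h (congrArg Subtype.val (e.injective h'))
  have hone : ∀ {x : X} (hx : x ∈ (P : Subgroup X)), x ≠ 1 → f hx ≠ 1 :=
    fun hx h h' => h (congrArg Subtype.val (e.injective (h'.trans (map_one e).symm)))
  have hsq : ∀ {x : X} (hx : x ∈ (P : Subgroup X)), x * x = 1 → f hx * f hx = 1 := fun hx h => by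
    rw [← map_mul]; exact (congrArg e (Subtype.ext h)).trans (map_one e)
  have hcm : ∀ {x y : X} (hx : x ∈ (P : Subgroup X)) (hy : y ∈ (P : Subgroup X)), Commute x y →
      Commute (f hx) (f hy) := fun hx hy h =>
    (show Commute (⟨_, hx⟩ : (P : Subgroup X)) ⟨_, hy⟩ from Subtype.ext h.eq).map e.toMonoidHom
  have h := dihedral_three (hsq ma ha) (hsq mb hb) (hsq mc hc) (hone ma ha1) (hone mb hb1) (hone mc hc1)
    (hne ma mb hab) (hne ma mc hac) (hne mb mc hbc) (hcm ma mb cab) (hcm ma mc cac) (hcm mb mc cbc)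
  rw [← map_mul] at h
  exact congrArg Subtype.val (e.injective h)

section Psl

variable {F : Type} [Field F] [Fintype F]

local notation "P2" => Matrix.ProjectiveSpecialLinearGroup (Fin 2) F

/-- an inner-diagonal automorphism of odd order is inner -/
theorem inner_of_odd (h2 : (2 : F) ≠ 0) {B : GL (Fin 2) F} (hodd : Odd (orderOf (PSL2.conjP B))) :
    ∃ m : P2, PSL2.conjP B = MulAut.conj m := by
  let d : Fˣ := Matrix.GeneralLinearGroup.det B
  have hdet : (((d⁻¹ : Fˣ) : F) • (B.val * B.val)).det = 1 := by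
    rw [Matrix.det_smul, Matrix.det_mul, Fintype.card_fin]
    show ((d⁻¹ : Fˣ) : F) ^ 2 * ((d : F) * (d : F)) = 1
    rw [Units.val_inv_eq_inv_val]
    field_simp
  obtain ⟨A, hA⟩ : ∃ A : Matrix.SpecialLinearGroup (Fin 2) F, A.1 = ((d⁻¹ : Fˣ) : F) • (B.val * B.val) :=
    ⟨⟨_, hdet⟩, rfl⟩
  have hsq : PSL2.conjP B * PSL2.conjP B = MulAut.conj (PSL2.pr A) := by
    rw [← map_mul, ← PSL2.conjP_toGL]
    have : Matrix.SpecialLinearGroup.toGL A = Matrix.GeneralLinearGroup.scalar (Fin 2) d⁻¹ * (B * B) := Units.ext (by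
      rw [Units.val_mul, Units.val_mul]
      show A.1 = Matrix.scalar (Fin 2) ((d⁻¹ : Fˣ) : F) * (B.val * B.val)
      rw [Matrix.scalar_apply, ← Matrix.smul_one_eq_diagonal, Matrix.smul_mul, Matrix.one_mul, hA])
    rw [this, map_mul (PSL2.conjP) (Matrix.GeneralLinearGroup.scalar (Fin 2) d⁻¹),
      show PSL2.conjP (Matrix.GeneralLinearGroup.scalar (Fin 2) d⁻¹) = 1 from
        MulEquiv.ext fun y => Classical.Dickson.conjP_scalar _ y, one_mul]
  obtain ⟨j, hj⟩ := hodd
  refine ⟨PSL2.pr A ^ (j + 1), ?_⟩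
  rw [map_pow, ← hsq, ← pow_two, ← pow_mul, show 2 * (j + 1) = (2 * j + 1) + 1 by ring, ← hj, pow_succ,
    pow_orderOf_eq_one, one_mul]

/-- the case of `PSL₂(q)` -/
theorem torus_psl (h2 : (2 : F) ≠ 0) (h5 : 5 ≤ Fintype.card F) {L : Subgroup X} [L.Normal] (i : L ≃* P2)
    (hC : Subgroup.centralizer (L : Set X) = ⊥)
    (hS : ∀ P : Sylow 2 X, ∃ m, 2 ≤ m ∧ Nonempty ((P : Subgroup X) ≃* DihedralGroup m))
    {a : X} (ha : a * a = 1) (ha1 : a ≠ 1) : ∃ v R, TorusFacts L a v R := by
  classical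
  haveI : Fact (Nat.Prime 2) := ⟨Nat.prime_two⟩
  haveI : Finite P2 := Finite.of_surjective _ PSL2.pr_surjective
  obtain ⟨p, hp⟩ := CharP.exists F
  obtain ⟨nf, hpp, hnf⟩ := FiniteField.card F p
  haveI : Fact p.Prime := ⟨hpp⟩
  let Θ : X →* MulAut P2 := (MulAut.congr i).toMonoidHom.comp (MulAut.conjNormal : X →* MulAut L)
  have hinjN : Function.Injective (MulAut.conjNormal : X →* MulAut L) := by
    rw [injective_iff_map_eq_one]
    intro x hx
    have : x ∈ Subgroup.centralizer (L : Set X) := Subgroup.mem_centralizer_iff.2 fun l hl => by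
      have h := congrArg Subtype.val (DFunLike.congr_fun hx (⟨l, hl⟩ : L))
      simp only [MulAut.conjNormal_apply, MulAut.one_apply] at h
      exact (mul_inv_eq_iff_eq_mul.1 h).symm
    rwa [hC, Subgroup.mem_bot] at this
  have hinj : Function.Injective Θ := (MulAut.congr i).injective.comp hinjN
  have hinner : ∀ y : L, Θ (y : X) = MulAut.conj (i y) := by
    intro y
    ext z
    obtain ⟨w, rfl⟩ := i.surjective z
    simp [Θ, MulAut.congr, ← map_inv, ← map_mul]
    rfl
  have hmemL : ∀ {x : X} {m : P2}, Θ x = MulAut.conj m → x ∈ L ∧ ∃ y : L, (y : X) = x ∧ i y = m := by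
    intro x m hm
    obtain ⟨y, rfl⟩ := i.surjective m
    have : (y : X) = x := hinj ((hinner y).trans hm.symm)
    exact ⟨this ▸ y.2, y, this, rfl⟩
  have hcommL : ∀ (y : L) (x : X), Θ x (i y) = i y → Commute (y : X) x := by
    intro y x h
    refine hinj ?_
    rw [map_mul, map_mul, hinner]
    ext z
    simp [MulAut.mul_apply, h]
  have hfixL : ∀ (y : L) (x : X), Commute (y : X) x → Θ x (i y) = i y := fun y x h =>
    Psl.fixed_of_commute h5 (hinner y ▸ (h.symm.map Θ))
  -- involutions are inner-diagonal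
  have hdiag : ∀ c : X, c * c = 1 → c ≠ 1 → ∃ h : GL (Fin 2) F, Θ c = PSL2.conjP h ∧
      PSL2.conjP h ≠ 1 ∧ PSL2.conjP h * PSL2.conjP h = 1 := by
    intro c hc hc1
    have hΘ : Θ c * Θ c = 1 := by rw [← map_mul, hc, map_one]
    have hne1 : Θ c ≠ 1 := fun e => hc1 (hinj (e.trans (map_one Θ).symm))
    suffices h : ∃ h : GL (Fin 2) F, Θ c = PSL2.conjP h by
      obtain ⟨h, hh⟩ := h
      exact ⟨h, hh, hh ▸ hne1, hh ▸ hΘ⟩
    rcases Psl.inndiag_or_four h2 hΘ with h | ⟨m₁, m₂, q₁, q₂, n₁, n₂, hne, hcm, f₁, f₂⟩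
    · exact h
    obtain ⟨y₁, rfl⟩ := i.surjective m₁
    obtain ⟨y₂, rfl⟩ := i.surjective m₂
    have hsq : ∀ y : L, i y * i y = 1 → (y : X) * y = 1 := fun y h => by
      rw [← map_mul, ← map_one i] at h
      exact congrArg Subtype.val (i.injective h)
    have hone : ∀ y : L, i y ≠ 1 → (y : X) ≠ 1 := fun y h e => h (by
      rw [show y = 1 from Subtype.ext e, map_one])
    have hcL : c ∈ L := by
      by_cases h1 : c = y₁
      · exact h1 ▸ y₁.2
      by_cases h2' : c = y₂
      · exact h2' ▸ y₂.2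
      have := three_involutions hS (hsq y₁ q₁) (hsq y₂ q₂) hc (hone y₁ n₁) (hone y₂ n₂) hc1
        (fun e => hne (congrArg i (Subtype.ext e))) (fun e => h1 e.symm) (fun e => h2' e.symm)
        (congrArg Subtype.val (i.injective (a₁ := y₁ * y₂) (a₂ := y₂ * y₁) (by rw [map_mul, map_mul]; exact hcm.eq)))
        (hcommL y₁ c f₁) (hcommL y₂ c f₂)
      exact this ▸ mul_mem y₁.2 y₂.2
    obtain ⟨A, hA⟩ := PSL2.pr_surjective (i ⟨c, hcL⟩)
    exact ⟨Matrix.SpecialLinearGroup.toGL A, by rw [PSL2.conjP_toGL, hA, ← hinner]⟩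
  obtain ⟨h, eh, hh, hhh⟩ := hdiag a ha ha1
  obtain ⟨D, k, hk2, hk, ⟨e⟩, hD⟩ := Psl.fix_group h2 h5 hh hhh
  haveI : NeZero k := ⟨by omega⟩
  have hDmem : ∀ y : L, Commute (y : X) a ↔ i y ∈ D := fun y =>
    ⟨fun hy => (hD _).1 (eh ▸ hfixL y a hy), fun hy => hcommL y a (eh ▸ (hD _).2 hy)⟩
  -- distinct involutions centralise no common element but involutions
  have huniq : ∀ c c' : X, c * c = 1 → c ≠ 1 → c' * c' = 1 → c' ≠ 1 → ∀ y : L, (y : X) * y ≠ 1 →
      Commute (y : X) c → Commute (y : X) c' → c = c' := by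
    intro c c' hc hc1 hc' hc1' y hy h1 h2'
    obtain ⟨g₁, e₁, n₁, q₁⟩ := hdiag c hc hc1
    obtain ⟨g₂, e₂, n₂, q₂⟩ := hdiag c' hc' hc1'
    refine hinj ?_
    rw [e₁, e₂]
    refine Psl.inndiag_unique h2 n₁ q₁ n₂ q₂ (x := i y) (fun e => hy ?_) (e₁ ▸ hfixL y c h1) (e₂ ▸ hfixL y c' h2')
    rw [← map_mul, ← map_one i] at e
    exact congrArg Subtype.val (i.injective e)
  have hsq_ne : ∀ {x : X}, Odd (orderOf x) → x ≠ 1 → x * x ≠ 1 := fun {x} ho h1 e => h1 (by
    refine orderOf_eq_one_iff.1 (Nat.eq_one_of_dvd_coprimes ho.coprime_two_left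
      (orderOf_dvd_of_pow_eq_one (by rw [pow_two, e])) dvd_rfl))
  -- the torus
  obtain ⟨s, k', hk', hks⟩ := Nat.exists_eq_pow_mul_and_not_dvd (NeZero.ne k) 2 (by norm_num)
  have hk'odd : Odd k' := Nat.odd_iff.2 (Nat.two_dvd_ne_zero.1 hk')
  let r₀ : DihedralGroup k := DihedralGroup.r 1 ^ 2 ^ s
  have hr₀ : orderOf r₀ = k' := by
    rw [orderOf_pow_of_dvd (by positivity) (by rw [DihedralGroup.orderOf_r_one, hks]; exact dvd_mul_right _ _),
      DihedralGroup.orderOf_r_one, hks, Nat.mul_div_cancel_left _ (by positivity)]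
  let f : DihedralGroup k →* X := L.subtype.comp (i.symm.toMonoidHom.comp (D.subtype.comp e.symm.toMonoidHom))
  have hf : Function.Injective f :=
    L.subtype_injective.comp (i.symm.injective.comp (D.subtype_injective.comp e.symm.injective))
  have hfL : ∀ d, f d ∈ L := fun d => Subtype.coe_prop _
  have hfa : ∀ d, Commute (f d) a := fun d => (hDmem _).2 (by
    show i (i.symm _) ∈ D
    rw [MulEquiv.apply_symm_apply]
    exact Subtype.coe_prop _)
  have hfsurj : ∀ x ∈ L, Commute x a → ∃ d, f d = x := fun x hx hxa =>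
    ⟨e ⟨i ⟨x, hx⟩, (hDmem ⟨x, hx⟩).1 hxa⟩, by simp [f]⟩
  let R : Subgroup X := (Subgroup.zpowers r₀).map f
  have hRcard : Nat.card R = k' := by
    rw [Subgroup.card_map_of_injective hf, Nat.card_zpowers, hr₀]
  have hRcomm : ∀ x ∈ R, Commute x a := by
    rintro _ ⟨d, -, rfl⟩; exact hfa d
  have hRall : ∀ x ∈ L, Commute x a → Odd (orderOf x) → x ∈ R := by
    intro x hx hxa hxo
    obtain ⟨d, rfl⟩ := hfsurj x hx hxa
    refine ⟨d, ?_, rfl⟩
    rw [orderOf_injective f hf] at hxo
    rcases d with j | j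
    · have hd : (DihedralGroup.r j : DihedralGroup k) = DihedralGroup.r 1 ^ j.val := by
        rw [DihedralGroup.r_one_pow, ZMod.natCast_rightInverse]
      have hdk : orderOf (DihedralGroup.r j : DihedralGroup k) ∣ k' := by
        refine Nat.Coprime.dvd_of_dvd_mul_left (Nat.Coprime.pow_right s (Nat.coprime_two_right.2 hxo)) ?_
        rw [← hks, hd]
        exact (orderOf_pow_dvd _).trans (DihedralGroup.orderOf_r_one).dvd
      rw [hd] at hdk ⊢
      generalize j.val = J at hdk ⊢
      rw [orderOf_dvd_iff_pow_eq_one, ← pow_mul, ← orderOf_dvd_iff_pow_eq_one, DihedralGroup.orderOf_r_one, hks,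
        Nat.mul_dvd_mul_iff_right (show 0 < k' from Nat.pos_of_ne_zero fun e => hk' (by rw [e]; exact dvd_zero 2))] at hdk
      obtain ⟨c, hc⟩ := hdk
      rw [hc, pow_mul]
      exact pow_mem (Subgroup.mem_zpowers _) c
    · rw [DihedralGroup.orderOf_sr] at hxo
      exact absurd hxo (by decide)
  -- the reflection
  obtain ⟨j, hj⟩ : ∃ j : ZMod k, f (DihedralGroup.sr j) ≠ a := by
    by_contra hno
    push Not at hno
    have h10 := DihedralGroup.sr.inj (hf ((hno 0).trans (hno 1).symm))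
    haveI : Fact (1 < k) := ⟨by omega⟩
    exact zero_ne_one h10
  refine ⟨f (DihedralGroup.sr j), R, ?_⟩
  set v := f (DihedralGroup.sr j) with hv
  have hvsq : v * v = 1 := by rw [hv, ← map_mul, DihedralGroup.sr_mul_sr, sub_self, ← DihedralGroup.one_def, map_one]
  have hv1 : v ≠ 1 := fun e => by
    have := hf (e.trans (map_one f).symm)
    rw [DihedralGroup.one_def] at this
    cases this
  haveI hRc : IsCyclic R :=
    isCyclic_of_surjective (f.subgroupMap (Subgroup.zpowers r₀)) (f.subgroupMap_surjective _)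
  have hRL : R ≤ L := by rintro _ ⟨d, -, rfl⟩; exact hfL d
  have hRodd : Odd (Nat.card R) := hRcard ▸ hk'odd
  refine ⟨hfL _, hvsq, hv1, hj, hfa _, hRL, hRc, hRodd, hRcomm, hRall, ?_, ?_, ?_, Or.inr ⟨?_, ?_, ?_⟩⟩
  · rintro _ ⟨d, ⟨l, rfl⟩, rfl⟩
    beta_reduce
    rw [hv, ← map_inv, ← map_inv, ← map_mul, ← map_mul]
    congr 1
    rw [show r₀ ^ l = DihedralGroup.r 1 ^ ((2 ^ s : ℕ) * l) by rw [zpow_mul, zpow_natCast],
      DihedralGroup.r_one_zpow, DihedralGroup.inv_r, DihedralGroup.inv_sr, DihedralGroup.sr_mul_r,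
      DihedralGroup.sr_mul_sr]
    congr 1
    ring
  · -- the outer group is abelian
    intro x y
    obtain ⟨φ, -, -, hφk⟩ := S2602.result (F := F) nf.pos hnf (by rw [← hnf]; omega)
    let ψ : X →* Cfsg.Out P2 := (QuotientGroup.mk' _).comp Θ
    have hcen : φ.ker ≤ Subgroup.center _ := by
      intro z hz
      refine Subgroup.mem_center_iff.2 fun w => ?_
      have hc2 : Nat.card φ.ker ≤ 2 := hφk.trans_le (Nat.le_of_dvd two_pos (Nat.gcd_dvd_left _ _))
      by_cases hz1 : z = 1
      · rw [hz1, one_mul, mul_one]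
      · by_contra hne
        have h3 : 3 ≤ Nat.card φ.ker := by
          let g : Fin 3 → φ.ker := ![1, ⟨z, hz⟩, ⟨w * z * w⁻¹, φ.normal_ker.conj_mem z hz w⟩]
          have hg : Function.Injective g := by
            intro a b hab
            fin_cases a <;> fin_cases b <;> first
              | rfl
              | exfalso
                simp [g, Subtype.ext_iff] at hab
                first
                  | exact hz1 hab | exact hz1 hab.symm
                  | exact hz1 (conj_eq_one_iff.1 hab) | exact hz1 (conj_eq_one_iff.1 hab.symm)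
                  | exact hne (mul_inv_eq_iff_eq_mul.1 hab) | exact hne (mul_inv_eq_iff_eq_mul.1 hab.symm)
          simpa using Nat.card_le_card_of_injective g hg
        omega
    have hcm : ∀ u w : Cfsg.Out P2, u * w = w * u := by
      haveI : IsCyclic φ.range := inferInstance
      exact (φ.rangeRestrict.isMulCommutative_of_isCyclic_of_ker_le_center (by rwa [MonoidHom.ker_rangeRestrict])).is_comm.comm
    have h1 : ψ (x * y * x⁻¹ * y⁻¹) = 1 := by
      rw [map_mul, map_mul, map_mul, map_inv, map_inv, hcm (ψ x) (ψ y), mul_inv_cancel_right, mul_inv_cancel]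
    obtain ⟨m, hm⟩ := (QuotientGroup.eq_one_iff _).1 h1
    exact (hmemL hm.symm).1
  · -- the fixed part
    intro l hl hl2 A hA hAa hAn x hxA hxv
    haveI := Fact.mk hl
    have key : ∀ y : L, Odd (orderOf (y : X)) → Commute (y : X) a → Commute (y : X) v → (y : X) = 1 := by
      intro y ho h1 h2'
      by_contra hne
      exact hj ((huniq a v ha ha1 hvsq hv1 y (hsq_ne ho hne) h1 h2').symm)
    by_contra hx1
    obtain ⟨n, hn⟩ := IsPGroup.iff_orderOf.1 hA ⟨x, hxA⟩
    rw [Subgroup.orderOf_mk] at hn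
    obtain ⟨n', rfl⟩ : ∃ n', n = n' + 1 := by
      rcases n with _ | n'
      · exact absurd (orderOf_eq_one_iff.1 (hn.trans (pow_zero l))) hx1
      · exact ⟨n', rfl⟩
    obtain ⟨y, hy⟩ : ∃ y, y = x ^ l ^ n' := ⟨_, rfl⟩
    have hyo : orderOf y = l := by
      rw [hy, orderOf_pow_of_dvd (pow_ne_zero _ hl.ne_zero) (hn ▸ pow_dvd_pow l (Nat.le_succ n')), hn, pow_succ,
        Nat.mul_div_cancel_left _ (pow_pos hl.pos _)]
    have hyA : y ∈ A := hy ▸ pow_mem hxA _
    obtain ⟨B, hB⟩ := Psl.no_field_fix h2 h5 (p := l) hl2 (α := Θ y)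
      (by rw [← map_pow, ← hyo, pow_orderOf_eq_one, map_one]) hh hhh (eh ▸ (hAa y hyA).map Θ) fun d hd => by
        obtain ⟨w, rfl⟩ := i.surjective d
        have hwn := hAn w (hcommL w a (eh ▸ hd))
        obtain ⟨c, hc⟩ : ∃ c, c = (w : X)⁻¹ * (y * w * y⁻¹) := ⟨_, rfl⟩
        have hcA : c ∈ A := by
          rw [hc, show (w : X)⁻¹ * (y * w * y⁻¹) = (w : X)⁻¹ * y * ((w : X)⁻¹)⁻¹ * y⁻¹ by group]
          exact mul_mem ((Subgroup.mem_normalizer_iff.1 (inv_mem hwn) y).1 hyA) (inv_mem hyA)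
        obtain ⟨N, hN⟩ := hA ⟨c, hcA⟩
        refine ⟨N, Psl.conj_injective h5 ?_⟩
        rw [map_pow, map_one]
        have e : MulAut.conj ((i w)⁻¹ * Θ y (i w)) = Θ c := by
          rw [hc, map_mul Θ, map_mul Θ, map_mul Θ, map_inv, map_inv, hinner, map_mul, map_inv]
          congr 1
          ext z
          simp [MulAut.mul_apply]
        rw [e, ← map_pow, show c ^ l ^ N = 1 from congrArg Subtype.val hN, map_one]
    obtain ⟨m, hm⟩ := inner_of_odd h2 (B := B) (by
      rw [← hB, orderOf_injective Θ hinj, hyo]; exact hl.odd_of_ne_two hl2)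
    obtain ⟨-, y', hy', -⟩ := hmemL (hB.trans hm)
    have := key y' (by rw [hy', hyo]; exact hl.odd_of_ne_two hl2) (hy' ▸ hAa y hyA) (hy' ▸ hy ▸ hxv.pow_left _)
    rw [hy'] at this
    rw [this, orderOf_one] at hyo
    exact hl.one_lt.ne hyo
  · -- the other involutions invert the torus
    intro z hz hz1 hza hzc x hx
    have hzi : z⁻¹ = z := inv_eq_of_mul_eq_one_right hz
    obtain ⟨w, hw⟩ : ∃ w, w = z * x * z⁻¹ := ⟨_, rfl⟩
    have hxo : Odd (orderOf x) := hRodd.of_dvd_nat (Subgroup.orderOf_dvd_natCard R hx)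
    have hwR : w ∈ R := by
      refine hw ▸ hRall _ ((inferInstance : L.Normal).conj_mem x (hRL hx) z) ?_ ?_
      · have := (Commute.conj_iff z).2 (hRcomm x hx)
        rwa [show z * a * z⁻¹ = a from mul_inv_eq_iff_eq_mul.2 hzc.eq] at this
      · rw [show orderOf (z * x * z⁻¹) = orderOf x from
          orderOf_injective (MulAut.conj z).toMonoidHom (MulAut.conj z).injective x]
        exact hxo
    have hcomm : w * x = x * w :=
      congrArg Subtype.val ((IsCyclic.commGroup (α := R)).mul_comm ⟨w, hwR⟩ ⟨x, hx⟩)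
    have hyR : w * x ∈ R := mul_mem hwR hx
    have hyz : Commute (w * x) z := by
      show w * x * z = z * (w * x)
      nth_rewrite 2 [hcomm]
      rw [hw]
      calc z * x * z⁻¹ * x * z = z * x * (z⁻¹ * x * z) := by group
        _ = z * x * (z * x * z⁻¹) := by rw [hzi]
        _ = z * (x * (z * x * z⁻¹)) := by group
    rw [← hw]
    by_contra hne
    have hy1 : w * x ≠ 1 := fun e => hne (eq_inv_of_mul_eq_one_left e)
    exact hza (huniq z a hz hz1 ha ha1 ⟨_, hRL hyR⟩
      (hsq_ne (hRodd.of_dvd_nat (Subgroup.orderOf_dvd_natCard R hyR)) hy1) hyz (hRcomm _ hyR))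
  · -- normalisers
    intro R' hR' hne n hn
    obtain ⟨⟨x, hx⟩, hx1⟩ := Subgroup.ne_bot_iff_exists_ne_one.1 hne
    have hxR := hR' hx
    have hx1' : x ≠ 1 := fun e => hx1 (Subtype.ext e)
    have h1 : Commute x (n⁻¹ * a * n) := by
      have := (Commute.conj_iff n⁻¹).2 (hRcomm _ (hR' ((Subgroup.mem_normalizer_iff.1 hn x).1 hx)))
      rwa [show n⁻¹ * (n * x * n⁻¹) * n⁻¹⁻¹ = x by group, inv_inv] at this
    have := huniq (n⁻¹ * a * n) a (by rw [show n⁻¹ * a * n * (n⁻¹ * a * n) = n⁻¹ * (a * a) * n by group, ha]; group)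
      (fun e => ha1 (by rw [show a = n * (n⁻¹ * a * n) * n⁻¹ by group, e]; group)) ha ha1 ⟨x, hRL hxR⟩
      (hsq_ne (hRodd.of_dvd_nat (Subgroup.orderOf_dvd_natCard R hxR)) hx1') h1 (hRcomm x hxR)
    show n * a = a * n
    nth_rewrite 1 [← this]
    group
  · -- the index
    intro P hP
    obtain ⟨hsimp, hnab⟩ := (show IsModel L from Or.inl ⟨F, inferInstance, inferInstance, Psl.card_odd h2,
      by omega, ⟨i⟩⟩).simple
    haveI := hsimp
    haveI : Group.IsPerfect L := perfect_of_simple hnab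
    obtain ⟨m, hm, ⟨d⟩⟩ := hS P
    haveI : NeZero m := ⟨by omega⟩
    obtain ⟨TL⟩ : Nonempty (Sylow 2 L) := inferInstance
    obtain ⟨P', hP'⟩ := (TL.isPGroup'.map L.subtype).exists_le_sylow
    obtain ⟨g, hg⟩ := MulAction.exists_smul_eq X P' P
    let Q : Subgroup (P : Subgroup X) := L.subgroupOf (P : Subgroup X)
    have hmem : ∀ x : L, x ∈ (TL : Subgroup L) → g * (x : X) * g⁻¹ ∈ (P : Subgroup X) ⊓ L := by
      intro x hx
      refine ⟨?_, (inferInstance : L.Normal).conj_mem _ x.2 g⟩
      rw [← hg, Sylow.coe_subgroup_smul]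
      exact ⟨_, hP' ⟨x, hx, rfl⟩, rfl⟩
    let ι : (TL : Subgroup L) →* Q :=
      { toFun := fun x => ⟨⟨g * ((x : L) : X) * g⁻¹, (hmem x x.2).1⟩, (hmem x x.2).2⟩
        map_one' := Subtype.ext (Subtype.ext (by simp))
        map_mul' := fun x y => Subtype.ext (Subtype.ext (by simp [mul_assoc])) }
    have hι : Function.Injective ι := fun x y h => by
      have h' := congrArg (fun q : Q => ((q : (P : Subgroup X)) : X)) h
      exact Subtype.ext (Subtype.ext (mul_left_cancel (mul_right_cancel h')))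
    have he : 2 ∣ Nat.card L := even_of_simple hnab
    have hQc : ¬ IsCyclic Q := fun h => not_cyclic_of_perfect TL he (isCyclic_of_injective ι hι)
    haveI : Q.Normal := inferInstance
    have hQc' : ¬ IsCyclic (Q.map d.toMonoidHom) := fun h => hQc ((Q.equivMapOfInjective _ d.injective).isCyclic.2 h)
    haveI : (Q.map d.toMonoidHom).Normal := (inferInstance : Q.Normal).map _ d.surjective
    have hidx : Q.index ≤ 2 := by
      have hcases : ∀ x y : (P : Subgroup X), x ∉ Q → y ∉ Q → x * y ∈ Q := fun x y hx hy => by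
        have hmem' : ∀ z, d z ∈ Q.map d.toMonoidHom ↔ z ∈ Q := fun z =>
          Subgroup.mem_map_iff_mem (f := d.toMonoidHom) d.injective
        have := dihedral_normal_index _ hQc' (d x) (d y) (fun h => hx ((hmem' x).1 h)) (fun h => hy ((hmem' y).1 h))
        rw [← map_mul] at this
        exact (hmem' _).1 this
      by_cases htop : Q = ⊤
      · rw [htop, Subgroup.index_top]; norm_num
      · obtain ⟨x, hx⟩ : ∃ x, x ∉ Q := by
          by_contra h
          push Not at h
          exact htop (eq_top_iff.2 fun z _ => h z)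
        refine (Subgroup.index_eq_two_iff.2 ⟨x, fun y => ?_⟩).le
        by_cases hy : y ∈ Q
        · exact Or.inr ⟨hy, fun h => hx (by simpa using mul_mem (inv_mem hy) h)⟩
        · exact Or.inl ⟨hcases y x hy hx, hy⟩
    -- `Q R` in `C_L(a)`
    let C : Subgroup X := Subgroup.centralizer ({a} : Set X) ⊓ L
    have hCcard : Nat.card C = 2 * k := by
      rw [← DihedralGroup.nat_card (n := k)]
      refine (Nat.card_congr (Equiv.ofBijective (fun d : DihedralGroup k =>
        (⟨f d, Subgroup.mem_centralizer_singleton_iff.2 (hfa d).eq, hfL d⟩ : C)) ⟨fun x y h => by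
          have h' : f x = f y := congrArg (fun z : C => (z : X)) h
          exact hf h', fun ⟨x, hx⟩ => ?_⟩)).symm
      obtain ⟨d, rfl⟩ := hfsurj x hx.2 (Subgroup.mem_centralizer_singleton_iff.1 hx.1)
      exact ⟨d, rfl⟩
    have hQC : Nat.card Q ∣ Nat.card C := by
      rw [← Subgroup.card_map_of_injective (K := Q) (P : Subgroup X).subtype_injective]
      refine Subgroup.card_dvd_of_le ?_
      rintro _ ⟨x, hx, rfl⟩
      exact ⟨hP x.2, hx⟩
    have hRC : Nat.card R ∣ Nat.card C := Subgroup.card_dvd_of_le fun x hx =>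
      ⟨Subgroup.mem_centralizer_singleton_iff.2 (hRcomm x hx).eq, hRL hx⟩
    obtain ⟨n, hn⟩ := IsPGroup.iff_card.1 (P.isPGroup'.to_subgroup Q)
    have hQR : Nat.card Q * Nat.card R ∣ Nat.card C :=
      Nat.Coprime.mul_dvd_of_dvd_of_dvd (hn ▸ hRodd.coprime_two_left.pow_left n) hQC hRC
    have hQ4 : 4 ≤ Nat.card Q := by
      by_contra h
      refine hQc ?_
      rw [hn] at h
      have hn1 : n ≤ 1 := by
        by_contra h1
        have := Nat.pow_le_pow_right two_pos (show 2 ≤ n by omega)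
        omega
      rcases (show n = 0 ∨ n = 1 by omega) with rfl | rfl
      · haveI : Subsingleton Q := (Nat.card_eq_one_iff_unique.1 (hn.trans (pow_zero 2))).1
        infer_instance
      · exact isCyclic_of_prime_card (p := 2) (hn.trans (pow_one 2))
    have hQ2 : Nat.card (P : Subgroup X) / 2 ≤ Nat.card Q := by
      have := Q.card_mul_index
      have h := Nat.mul_le_mul_left (Nat.card Q) hidx
      omega
    have hle : max (Nat.card (P : Subgroup X) / 2) 4 * Nat.card R ≤ 2 * k :=
      (Nat.mul_le_mul_right _ (max_le hQ2 hQ4)).trans (hCcard ▸ Nat.le_of_dvd Nat.card_pos hQR)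
    have hrel : C.relIndex L * (2 * k) = Nat.card L := by
      rw [← hCcard, Subgroup.relIndex, ← Nat.card_congr (Subgroup.subgroupOfEquivOfLe inf_le_right : C.subgroupOf L ≃* C).toEquiv,
        mul_comm]
      exact Subgroup.card_mul_index _
    have hL : Nat.card L * 2 = Fintype.card F * (Fintype.card F ^ 2 - 1) := by
      have hc := Classical.Dickson.card_psl F
      rw [Psl.gcd_two h2] at hc
      rw [Nat.card_congr i.toEquiv, hc]
    refine le_trans (Nat.mul_le_mul (Nat.sub_le_sub_right hle 1) (Nat.sub_le_sub_right hle 2)) ?_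
    obtain ⟨q, hq⟩ : ∃ q, Fintype.card F = q + 1 := ⟨Fintype.card F - 1, by omega⟩
    rw [hq] at hk hL
    have hsq : (q + 1) ^ 2 - 1 = q * (q + 2) := by
      have : (q + 1) ^ 2 = q * (q + 2) + 1 := by ring
      omega
    rw [hsq, ← hrel] at hL
    rcases hk with h' | h'
    · have h'' : 2 * k = q := by omega
      rw [h''] at hL ⊢
      have : 2 * C.relIndex L = (q + 1) * (q + 2) :=
        Nat.eq_of_mul_eq_mul_right (show 0 < q by omega) (by linarith)
      show _ ≤ 2 * C.relIndex L
      rw [this]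
      exact Nat.mul_le_mul (by omega) (by omega)
    · have h'' : 2 * k = q + 2 := by omega
      rw [h''] at hL ⊢
      have : 2 * C.relIndex L = (q + 1) * q :=
        Nat.eq_of_mul_eq_mul_right (show 0 < q + 2 by omega) (by linarith)
      show _ ≤ 2 * C.relIndex L
      rw [this]
      exact Nat.mul_le_mul (by omega) (by omega)

end Psl

section Seven

open AltSeven

/-- the double transposition -/
def dbl : Equiv.Perm (Fin 7) := AltSeven.ofList τ₂ (m := τ₂)

/-- the odd part of its centraliser -/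
def cyc : Equiv.Perm (Fin 7) := AltSeven.ofList [0, 1, 2, 3, 5, 6, 4] (m := [0, 1, 2, 3, 6, 4, 5])

theorem seven_all : ((perms 7 (List.range 7)).all fun l =>
    !(cm l τ₂) || !(pw l 3 == List.range 7) ||
      ([List.range 7, [0, 1, 2, 3, 5, 6, 4], [0, 1, 2, 3, 6, 4, 5]].contains l)) = true := by
  decide +kernel

/-- odd elements centralising the double transposition lie in the group of the three-cycle -/
theorem seven_odd {σ : Equiv.Perm (Fin 7)} (hc : Commute σ dbl) (ho : Odd (orderOf σ)) :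
    σ ∈ Subgroup.zpowers cyc := by
  have h3 : σ ^ 3 = 1 := by
    have hd : orderOf σ ∣ 3 := by
      have h := seven_centraliser (A := Subgroup.zpowers σ) (τ := dbl) (by rw [Nat.card_zpowers]; exact ho)
        (by decide +kernel) (by decide +kernel) (by decide +kernel)
        (Subgroup.zpowers_le.2 (Subgroup.mem_centralizer_singleton_iff.2 hc.eq))
      rwa [Nat.card_zpowers] at h
    exact orderOf_dvd_iff_pow_eq_one.1 hd
  have h := List.all_eq_true.1 seven_all _ (toList_mem σ)
  have h1 : cm (toList σ) τ₂ = true := by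
    rw [show τ₂ = toList dbl by decide +kernel]; exact (cm_iff _ _).2 hc.eq
  have h2 : pw (toList σ) 3 = List.range 7 := by rw [← toList_pow, h3, toList_one]
  simp only [h1, h2, beq_self_eq_true, Bool.not_true, Bool.false_or, List.contains_iff_mem,
    List.mem_cons, List.not_mem_nil, or_false] at h
  rcases h with h | h | h
  · rw [show σ = 1 from toList_injective (h.trans toList_one.symm)]
    exact Subgroup.one_mem _
  · rw [show σ = cyc from toList_injective (h.trans (by decide +kernel))]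
    exact Subgroup.mem_zpowers _
  · rw [show σ = cyc ^ 2 from toList_injective (h.trans (by decide +kernel))]
    exact Subgroup.pow_mem _ (Subgroup.mem_zpowers _) 2

/-- the case of `A₇` -/
theorem torus_seven {L : Subgroup X} [L.Normal] (i : L ≃* alternatingGroup (Fin 7))
    (hC : Subgroup.centralizer (L : Set X) = ⊥)
    (hS : ∀ P : Sylow 2 X, ∃ m, 2 ≤ m ∧ Nonempty ((P : Subgroup X) ≃* DihedralGroup m))
    {a : X} (ha : a * a = 1) (ha1 : a ≠ 1) : ∃ v R, TorusFacts L a v R := by
  have hinjN : Function.Injective (MulAut.conjNormal : X →* MulAut L) := by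
    rw [injective_iff_map_eq_one]
    intro x hx
    have : x ∈ Subgroup.centralizer (L : Set X) := Subgroup.mem_centralizer_iff.2 fun l hl => by
      have h := congrArg Subtype.val (DFunLike.congr_fun hx (⟨l, hl⟩ : L))
      simp only [MulAut.conjNormal_apply, MulAut.one_apply] at h
      exact (mul_inv_eq_iff_eq_mul.1 h).symm
    rwa [hC, Subgroup.mem_bot] at this
  let aut : Equiv.Perm (Fin 7) ≃* MulAut (alternatingGroup (Fin 7)) :=
    MulEquiv.ofBijective _ (S2119.result 7 (by norm_num) (by norm_num))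
  let τ : X →* Equiv.Perm (Fin 7) :=
    aut.symm.toMonoidHom.comp ((MulAut.congr i).toMonoidHom.comp MulAut.conjNormal)
  have hτ : Function.Injective τ := aut.symm.injective.comp ((MulAut.congr i).injective.comp hinjN)
  have hτL : ∀ y : L, τ (y : X) = (i y : Equiv.Perm (Fin 7)) := by
    intro y
    refine aut.injective ?_
    show aut (aut.symm _) = _
    rw [MulEquiv.apply_symm_apply]
    refine MulEquiv.ext fun z => ?_
    obtain ⟨w, rfl⟩ := i.surjective z
    simp [aut, MulAut.congr]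
    refine Subtype.ext ?_
    rw [MulAut.conjNormal_apply, ← MulMemClass.coe_mul, ← InvMemClass.coe_inv, ← MulMemClass.coe_mul,
      ← map_mul, ← map_inv, ← map_mul]
    congr 2
  -- `X = L`
  have htop : L = ⊤ := by
    by_contra hne
    obtain ⟨x, hx⟩ : ∃ x, x ∉ L := by
      by_contra h
      push Not at h
      exact hne (eq_top_iff.2 fun z _ => h z)
    have hodd : Equiv.Perm.sign (τ x) = -1 := by
      rcases Int.units_eq_one_or (Equiv.Perm.sign (τ x)) with h | h
      · refine absurd ?_ hx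
        obtain ⟨y, hy⟩ := i.surjective ⟨τ x, Equiv.Perm.mem_alternatingGroup.2 h⟩
        have : (y : X) = x := hτ (by rw [hτL, hy])
        exact this ▸ y.2
      · exact h
    have hsurj : ∀ σ : Equiv.Perm (Fin 7), ∃ y : X, τ y = σ := by
      intro σ
      rcases Int.units_eq_one_or (Equiv.Perm.sign σ) with h | h
      · obtain ⟨y, hy⟩ := i.surjective ⟨σ, Equiv.Perm.mem_alternatingGroup.2 h⟩
        exact ⟨y, by rw [hτL, hy]⟩
      · obtain ⟨y, hy⟩ := i.surjective ⟨(τ x)⁻¹ * σ, Equiv.Perm.mem_alternatingGroup.2 (by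
          rw [map_mul, map_inv, hodd, h]; rfl)⟩
        exact ⟨x * y, by rw [map_mul, hτL, hy, mul_inv_cancel_left]⟩
    obtain ⟨b, hb⟩ := hsurj (Equiv.swap 0 1)
    obtain ⟨c, hc⟩ := hsurj (Equiv.swap 2 3)
    obtain ⟨d, hd⟩ := hsurj (Equiv.swap 4 5)
    have e := congrArg τ (three_involutions hS (a := b) (b := c) (c := d) (hτ (by rw [map_mul, hb, map_one]; decide +kernel))
      (hτ (by rw [map_mul, hc, map_one]; decide +kernel)) (hτ (by rw [map_mul, hd, map_one]; decide +kernel))
      (fun e => by rw [e, map_one] at hb; exact absurd hb (by decide +kernel))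
      (fun e => by rw [e, map_one] at hc; exact absurd hc (by decide +kernel))
      (fun e => by rw [e, map_one] at hd; exact absurd hd (by decide +kernel))
      (fun e => by rw [e, hc] at hb; exact absurd hb (by decide +kernel))
      (fun e => by rw [e, hd] at hb; exact absurd hb (by decide +kernel))
      (fun e => by rw [e, hd] at hc; exact absurd hc (by decide +kernel))
      (hτ (by rw [map_mul, map_mul, hb, hc]; decide +kernel)) (hτ (by rw [map_mul, map_mul, hb, hd]; decide +kernel))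
      (hτ (by rw [map_mul, map_mul, hc, hd]; decide +kernel)))
    rw [map_mul, hb, hc, hd] at e
    exact absurd e (by decide +kernel)
  have haL : a ∈ L := htop ▸ Subgroup.mem_top a
  obtain ⟨τ', hconj, hl⟩ := representative (τ := τ a) (fun e => ha1 (hτ (e.trans (map_one τ).symm)))
    (by rw [← map_mul, ha, map_one])
  have hdbl : τ' = dbl := by
    have hs : Equiv.Perm.sign τ' = 1 := by
      obtain ⟨c, hc⟩ := isConj_iff.1 hconj
      have h1 : Equiv.Perm.sign (τ a) = 1 := by
        rw [show a = ((⟨a, haL⟩ : L) : X) from rfl, hτL]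
        exact Equiv.Perm.mem_alternatingGroup.1 (i ⟨a, haL⟩).2
      rw [← hc, map_mul, map_mul, map_inv, mul_comm (Equiv.Perm.sign c), mul_inv_cancel_right] at h1
      exact h1
    rcases hl with h | h | h
    · exfalso
      rw [show τ' = AltSeven.ofList τ₁ (m := τ₁) from toList_injective (h.trans (by decide +kernel))] at hs
      exact absurd hs (by decide +kernel)
    · exact toList_injective (h.trans (by decide +kernel))
    · exfalso
      rw [show τ' = AltSeven.ofList τ₃ (m := τ₃) from toList_injective (h.trans (by decide +kernel))] at hs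
      exact absurd hs (by decide +kernel)
  obtain ⟨c, hc⟩ := isConj_iff.1 hconj
  rw [hdbl] at hc
  -- coordinates in which `a` is the double transposition
  obtain ⟨χ, hχ⟩ : ∃ χ : X →* Equiv.Perm (Fin 7), ∀ x, χ x = c⁻¹ * τ x * c :=
    ⟨(MulAut.conj c⁻¹).toMonoidHom.comp τ, fun x => by simp⟩
  have hχinj : Function.Injective χ := fun x y h => hτ (mul_left_cancel (mul_right_cancel (by rwa [hχ, hχ] at h)))
  have hχa : χ a = dbl := by rw [hχ, ← hc]; group
  have hsurj : ∀ σ : Equiv.Perm (Fin 7), Equiv.Perm.sign σ = 1 → ∃ x : X, χ x = σ := by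
    intro σ hs
    obtain ⟨y, hy⟩ := i.surjective ⟨c * σ * c⁻¹, Equiv.Perm.mem_alternatingGroup.2 (by
      rw [map_mul, map_mul, map_inv, mul_comm (Equiv.Perm.sign c), mul_inv_cancel_right, hs])⟩
    exact ⟨y, by rw [hχ, hτL, hy]; group⟩
  obtain ⟨v, hv⟩ := hsurj (AltSeven.ofList [1, 0, 2, 3, 5, 4, 6] (m := [1, 0, 2, 3, 5, 4, 6])) (by decide +kernel)
  obtain ⟨z, hz⟩ := hsurj (AltSeven.ofList [2, 3, 0, 1, 4, 5, 6] (m := [2, 3, 0, 1, 4, 5, 6])) (by decide +kernel)
  obtain ⟨r, hr⟩ := hsurj cyc (by decide +kernel)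
  have hall : ∀ x : X, Commute x a → Odd (orderOf x) → x ∈ Subgroup.zpowers r := by
    intro x hxa hxo
    obtain ⟨l, hl⟩ := Subgroup.mem_zpowers_iff.1 (seven_odd (σ := χ x) (hχa ▸ hxa.map χ)
      (by rwa [orderOf_injective χ hχinj]))
    exact Subgroup.mem_zpowers_iff.2 ⟨l, hχinj (by rw [map_zpow, hr, hl])⟩
  have hra : Commute r a := hχinj (by rw [map_mul, map_mul, hr, hχa]; decide +kernel)
  have hrv : v * r * v⁻¹ = r⁻¹ := hχinj (by rw [map_mul, map_mul, map_inv, map_inv, hv, hr]; decide +kernel)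
  have hrz : Commute z r := hχinj (by rw [map_mul, map_mul, hz, hr]; decide +kernel)
  have hro : orderOf r = 3 := by
    rw [← orderOf_injective χ hχinj, hr]
    exact orderOf_eq_prime (by decide +kernel) (by decide +kernel)
  have hinv : ∀ x ∈ Subgroup.zpowers r, v * x * v⁻¹ = x⁻¹ := by
    rintro _ ⟨l, rfl⟩
    show v * r ^ l * v⁻¹ = (r ^ l)⁻¹
    rw [← conj_zpow, hrv, inv_zpow]
  refine ⟨v, Subgroup.zpowers r, ⟨htop ▸ Subgroup.mem_top _, hχinj (by rw [map_mul, hv, map_one]; decide +kernel),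
    fun e => by rw [e, map_one] at hv; exact absurd hv (by decide +kernel),
    fun e => by rw [e, hχa] at hv; exact absurd hv (by decide +kernel),
    hχinj (by rw [map_mul, map_mul, hv, hχa]; decide +kernel),
    htop ▸ le_top, inferInstance, by rw [Nat.card_zpowers, hro]; decide, ?_, fun x _ hxa hxo => hall x hxa hxo, hinv,
    fun x y => htop ▸ Subgroup.mem_top _, ?_, Or.inl ⟨z, htop ▸ Subgroup.mem_top _,
      hχinj (by rw [map_mul, hz, map_one]; decide +kernel),
      fun e => by rw [e, map_one] at hz; exact absurd hz (by decide +kernel),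
      fun e => by rw [e, hχa] at hz; exact absurd hz (by decide +kernel),
      hχinj (by rw [map_mul, map_mul, hz, hχa]; decide +kernel), ?_⟩⟩⟩
  · rintro _ ⟨l, rfl⟩
    exact hra.zpow_left l
  · intro p hp hp2 A hA hAa _ x hxA hxv
    haveI := Fact.mk hp
    obtain ⟨n, hn⟩ := IsPGroup.iff_orderOf.1 hA ⟨x, hxA⟩
    rw [Subgroup.orderOf_mk] at hn
    have hxo : Odd (orderOf x) := hn ▸ (hp.odd_of_ne_two hp2).pow
    have h := hinv x (hall x (hAa x hxA) hxo)
    rw [← hxv.eq, mul_inv_cancel_right] at h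
    refine orderOf_eq_one_iff.1 (Nat.eq_one_of_dvd_coprimes hxo.coprime_two_left (orderOf_dvd_of_pow_eq_one ?_) dvd_rfl)
    nth_rewrite 1 [pow_two, h]
    exact inv_mul_cancel x
  · rintro _ ⟨l, rfl⟩
    exact hrz.zpow_right l

end Seven

/-- the torus facts for a model -/
theorem torus_model {L : Subgroup X} [L.Normal] (hmod : IsModel L) (hC : Subgroup.centralizer (L : Set X) = ⊥)
    (hS : ∀ P : Sylow 2 X, ∃ m, 2 ≤ m ∧ Nonempty ((P : Subgroup X) ≃* DihedralGroup m))
    {a : X} (ha : a * a = 1) (ha1 : a ≠ 1) : ∃ v R, TorusFacts L a v R := by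
  rcases hmod with ⟨F, hF, hFt, ho, h3, ⟨i⟩⟩ | ⟨⟨i⟩⟩
  · have h2F : (2 : F) ≠ 0 := by
      obtain ⟨p, hp⟩ := CharP.exists F
      obtain ⟨d, hpp, hd⟩ := FiniteField.card F p
      intro h
      haveI : CharP F 2 := CharTwo.of_one_ne_zero_of_two_eq_zero one_ne_zero h
      have := CharP.eq F hp (inferInstance : CharP F 2)
      rw [hd, this] at ho
      exact Nat.not_even_iff_odd.2 ho (Nat.even_pow.2 ⟨even_two, d.ne_zero⟩)
    exact torus_psl h2F (by obtain ⟨j, hj⟩ := ho; omega) i hC hS ha ha1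
  · exact torus_seven i hC hS ha ha1

end Cfsg.Agent.GW
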