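import Cfsg.Agent.Lib.GW.OtherPart

/-!
# A maximal centraliser of an involution: the maximal subgroups it leads to

`C = C(t)` is a maximal subgroup and `N ≠ C` a maximal subgroup to which `C` leads, containing the four group
`⟨t, u⟩`. If a rotation of the four group carries the `u`-fixed parts of the cores of `C` into `N`, then the Fitting
subgroup of `N` lies in `C`; consequently `N` has a component.
-/

set_option autoImplicit false
set_option linter.unusedSectionVars false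
set_option linter.style.haveILetI false

namespace Cfsg.Agent.GW

open Cfsg Cfsg.Agent
open scoped commutatorElement

universe w

variable {G : Type w} [Group G] [Finite G] [IsSimpleGroup G]

/-- the centraliser `C(t)` is maximal, solvable and `O` is its `2'`-core, containing all its elements of odd order -/
structure MaxCent (t : G) (O : Subgroup G) : Prop where
  sq : t * t = 1
  ne : t ≠ 1
  max : IsCoatom (Subgroup.centralizer ({t} : Set G))
  solv : Group.IsSolvable ↥(Subgroup.centralizer ({t} : Set G))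
  core_le : O ≤ Subgroup.centralizer ({t} : Set G)
  core_odd : Odd (Nat.card ↥O)
  core_norm : Subgroup.centralizer ({t} : Set G) ≤ Subgroup.normalizer (O : Set G)
  core : ∀ x : G, Commute x t → Odd (orderOf x) → x ∈ O
  core_ne : O ≠ ⊥

variable {t : G} {O : Subgroup G}

theorem MaxCent.mem (_h : MaxCent t O) : t ∈ Subgroup.centralizer ({t} : Set G) :=
  Subgroup.mem_centralizer_singleton_iff.2 rfl

/-- `t` lies in the `2`-core of `C(t)` -/
theorem MaxCent.two_core_mem (h : MaxCent t O) :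
    (⟨t, h.mem⟩ : ↥(Subgroup.centralizer ({t} : Set G))) ∈
      Cfsg.pCore 2 ↥(Subgroup.centralizer ({t} : Set G)) := by
  haveI : Fact (Nat.Prime 2) := ⟨Nat.prime_two⟩
  haveI : (Subgroup.zpowers (⟨t, h.mem⟩ : ↥(Subgroup.centralizer ({t} : Set G)))).Normal := by
    refine ⟨fun x hx g => ?_⟩
    obtain ⟨n, rfl⟩ := Subgroup.mem_zpowers_iff.1 hx
    refine Subgroup.mem_zpowers_iff.2 ⟨n, ?_⟩
    rw [← conj_zpow]
    congr 1
    refine eq_mul_inv_iff_mul_eq.2 (Subtype.ext ?_)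
    exact (Subgroup.mem_centralizer_singleton_iff.1 g.2).symm
  refine Solv.normal_le_pCore (N := Subgroup.zpowers _) ?_ (Subgroup.mem_zpowers _)
  have h2 : orderOf (⟨t, h.mem⟩ : ↥(Subgroup.centralizer ({t} : Set G))) = 2 := by
    rw [Subgroup.orderOf_mk]
    exact orderOf_eq_prime (by rw [pow_two]; exact h.sq) h.ne
  exact IsPGroup.of_card (n := 1) (by rw [Nat.card_zpowers, h2, pow_one])

theorem MaxCent.two_core_ne (h : MaxCent t O) :
    Cfsg.pCore 2 ↥(Subgroup.centralizer ({t} : Set G)) ≠ ⊥ :=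
  fun h0 => by
    have hm := h.two_core_mem
    rw [h0, Subgroup.mem_bot, Subtype.ext_iff] at hm
    exact h.ne hm

/-- the `2`-core commutes with the elements of `O` -/
theorem MaxCent.commute_two (h : MaxCent t O) {a b : G} (ha : a ∈ O)
    (hb : b ∈ fq 2 (Subgroup.centralizer ({t} : Set G))) : Commute a b := by
  haveI : Fact (Nat.Prime 2) := ⟨Nat.prime_two⟩
  have hbC := fq_le 2 _ hb
  have h1 : a * b * a⁻¹ * b⁻¹ ∈ O := by
    rw [mul_assoc, mul_assoc]
    refine mul_mem ha ?_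
    have := (Subgroup.mem_normalizer_iff.1 (h.core_norm hbC) a⁻¹).1 (inv_mem ha)
    rwa [mul_assoc] at this
  have h2 : a * b * a⁻¹ * b⁻¹ ∈ fq 2 (Subgroup.centralizer ({t} : Set G)) :=
    mul_mem (conj_fq Nat.prime_two (h.core_le ha) hb) (inv_mem hb)
  rw [← commutatorElement_eq_one_iff_commute, commutatorElement_def]
  obtain ⟨k, hk⟩ := fq_isPGroup 2 (Subgroup.centralizer ({t} : Set G)) ⟨_, h2⟩
  refine orderOf_eq_one_iff.1 (Nat.eq_one_of_dvd_coprimes (h.core_odd.coprime_two_left.pow_left k)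
    (orderOf_dvd_of_pow_eq_one (congrArg Subtype.val hk)) ?_)
  rw [← Subgroup.orderOf_mk _ h1]
  exact orderOf_dvd_natCard _

/-- some odd prime has a nontrivial core in `C(t)` -/
theorem MaxCent.odd_core_ne (h : MaxCent t O) :
    ∃ q : ℕ, q.Prime ∧ q ≠ 2 ∧ Cfsg.pCore q ↥(Subgroup.centralizer ({t} : Set G)) ≠ ⊥ := by
  haveI : Fact (Nat.Prime 2) := ⟨Nat.prime_two⟩
  by_contra hcon
  push Not at hcon
  refine h.core_ne ((Subgroup.eq_bot_iff_forall O).2 fun a ha => ?_)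
  have hF : Cfsg.fittingSubgroup ↥(Subgroup.centralizer ({t} : Set G)) ≤
      Cfsg.pCore 2 ↥(Subgroup.centralizer ({t} : Set G)) := by
    rw [Solv.fitting_eq_iSup_pCore, iSup_le_iff]
    intro p
    by_cases hp : (p : ℕ) = 2
    · rw [hp]
    · rw [hcon p p.2 hp]; exact bot_le
  have hmem : (⟨a, h.core_le ha⟩ : ↥(Subgroup.centralizer ({t} : Set G))) ∈
      Cfsg.pCore 2 ↥(Subgroup.centralizer ({t} : Set G)) :=
    hF (Solv.centralizer_fitting_le h.solv (Subgroup.mem_centralizer_iff.2 fun y hy =>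
      Subtype.ext (h.commute_two ha ⟨y, hF hy, rfl⟩).symm.eq))
  obtain ⟨k, hk⟩ := (Solv.pCore_isPGroup (G := ↥(Subgroup.centralizer ({t} : Set G))) 2) ⟨_, hmem⟩
  refine orderOf_eq_one_iff.1 (Nat.eq_one_of_dvd_coprimes (h.core_odd.coprime_two_left.pow_left k)
    (orderOf_dvd_of_pow_eq_one (show a ^ 2 ^ k = 1 by simpa using congrArg (fun x => ((x.1 : ↥(Subgroup.centralizer ({t} : Set G))) : G)) hk)) ?_)
  rw [← Subgroup.orderOf_mk _ ha]
  exact orderOf_dvd_natCard _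

/-- A part of `F(N)` away from `π(F(C))` has no fixed point of `v = g t g⁻¹` besides the identity. -/
theorem MaxCent.fixed_trivial (hG : ¬ IsMulCommutative G) (h : MaxCent t O) {v v' g : G} (hv' : v' * v' = 1) (htv : Commute t v)
    (hgt : g * t * g⁻¹ = v) (hgv : g * v' * g⁻¹ = t) {N : Subgroup G} (htN : t ∈ N)
    (hCN : Cfsg.leadsTo (Subgroup.centralizer ({t} : Set G)) N)
    (hfix : ∀ s : ℕ, s.Prime → s ≠ 2 → ∀ x ∈ fq s (Subgroup.centralizer ({t} : Set G)),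
      Commute x v' → g * x * g⁻¹ ∈ N)
    {r : ℕ} (hr : r.Prime) (h0 : Cfsg.pCore r ↥(Subgroup.centralizer ({t} : Set G)) = ⊥)
    {w : G} (hw : w ∈ fq r N) (hwv : Commute w v) : w = 1 := by
  haveI := Fact.mk hr
  obtain ⟨C, hC⟩ : ∃ C, C = Subgroup.centralizer ({t} : Set G) := ⟨_, rfl⟩
  rw [← hC] at hCN hfix
  have hr2 : r ≠ 2 := fun e => h.two_core_ne (e ▸ h0)
  have hWn : N ≤ Subgroup.normalizer (fq r N : Set G) := fq_le_norm r hr N
  have hWC : fq r N ⊓ C = ⊥ := (BenderUniq.facts hG C N (hC ▸ h.max) hCN).2.2.1 r hr (by rw [hC]; exact h0)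
  have hinvt := inverts h.sq (hWn htN) fun y hy hyt =>
    Subgroup.mem_bot.1 (hWC ▸ ⟨hy, hC ▸ Subgroup.mem_centralizer_singleton_iff.2 hyt.eq⟩)
  obtain ⟨a, ha⟩ : ∃ a, a = g⁻¹ * w * g := ⟨_, rfl⟩
  have hwa : w = g * a * g⁻¹ := by rw [ha]; group
  have hat : Commute a t := by
    have := (Commute.conj_iff g⁻¹).2 hwv
    rw [inv_inv, show g⁻¹ * v * g = t by rw [← hgt]; group, ← ha] at this
    exact this
  obtain ⟨k, hk⟩ := fq_isPGroup r N ⟨w, hw⟩
  have haord : a ^ (r ^ k) = 1 := by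
    rw [ha, show g⁻¹ * w * g = g⁻¹ * w * g⁻¹⁻¹ by group, conj_pow,
      show w ^ r ^ k = 1 from congrArg Subtype.val hk]
    group
  have haodd : Odd (orderOf a) := ((hr.odd_of_ne_two hr2).pow).of_dvd_nat (orderOf_dvd_of_pow_eq_one haord)
  have haC : a ∈ C := hC ▸ Subgroup.mem_centralizer_singleton_iff.2 hat.eq
  have hainv : v' * a * v'⁻¹ = a⁻¹ := by
    have h1 := hinvt w hw
    calc v' * a * v'⁻¹ = g⁻¹ * ((g * v' * g⁻¹) * w * (g * v' * g⁻¹)⁻¹) * g := by rw [ha]; group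
      _ = g⁻¹ * w⁻¹ * g := by rw [hgv, h1]
      _ = _ := by rw [ha]; group
  have hv'C : v' ∈ C := by
    rw [hC]
    refine Subgroup.mem_centralizer_singleton_iff.2 ((Commute.conj_iff g).1 ?_).eq
    rw [hgv, hgt]
    exact htv
  have haF : (⟨a, haC⟩ : ↥C) ∈ Cfsg.fittingSubgroup ↥C := by
    refine Solv.centralizer_fitting_le (hC ▸ h.solv) (Subgroup.mem_centralizer_iff.2 fun y hy => ?_)
    refine (Subgroup.mem_centralizer_singleton_iff.1
      ((?_ : Cfsg.fittingSubgroup ↥C ≤ Subgroup.centralizer ({(⟨a, haC⟩ : ↥C)} : Set ↥C)) hy))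
    rw [Solv.fitting_eq_iSup_pCore, iSup_le_iff]
    intro p y hy
    refine Subgroup.mem_centralizer_singleton_iff.2 ?_
    haveI := Fact.mk p.2
    by_cases hp2 : (p : ℕ) = 2
    · refine Subtype.ext (h.commute_two (h.core a hat haodd) (b := (y : G)) ?_).symm.eq
      rw [← hC, ← hp2]
      exact ⟨y, hy, rfl⟩
    by_cases hpr : (p : ℕ) = r
    · have hy0 : y ∈ Cfsg.pCore r ↥C := hpr ▸ hy
      rw [show Cfsg.pCore r ↥C = ⊥ by rw [hC]; exact h0, Subgroup.mem_bot] at hy0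
      rw [hy0, one_mul, mul_one]
    have hfixp : ∀ z ∈ Cfsg.pCore (p : ℕ) ↥C, (⟨v', hv'C⟩ : ↥C) * z * (⟨v', hv'C⟩ : ↥C)⁻¹ = z →
        (⟨a, haC⟩ : ↥C) * z = z * ⟨a, haC⟩ := by
      intro z hz hzv
      have hzv' : Commute (z : G) v' := (mul_inv_eq_iff_eq_mul.1 (congrArg Subtype.val hzv)).symm
      have hzq : (z : G) ∈ fq (p : ℕ) C := ⟨z, hz, rfl⟩
      have hzN := hfix p p.2 hp2 (z : G) hzq hzv'
      obtain ⟨d, hd⟩ : ∃ d, d = ⁅a, (z : G)⁆ := ⟨_, rfl⟩
      have hd1 : d ∈ fq (p : ℕ) C := by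
        rw [hd, commutatorElement_def]
        exact mul_mem (conj_fq p.2 haC hzq) (inv_mem hzq)
      have hd2 : d ∈ (fq r N).map (MulAut.conj g⁻¹).toMonoidHom := by
        refine ⟨w * ((g * (z : G) * g⁻¹) * w⁻¹ * (g * (z : G) * g⁻¹)⁻¹),
          mul_mem hw (conj_fq hr hzN (inv_mem hw)), ?_⟩
        show g⁻¹ * (w * ((g * (z : G) * g⁻¹) * w⁻¹ * (g * (z : G) * g⁻¹)⁻¹)) * g⁻¹⁻¹ = d
        rw [hd, commutatorElement_def, ha]
        group
      exact Subtype.ext (commutatorElement_eq_one_iff_commute.1 (hd ▸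
        eq_one_of_two_primes hpr (fq_isPGroup (p : ℕ) C) ((fq_isPGroup r N).map _) hd1 hd2)).eq
    obtain ⟨j, -, hj⟩ := (Nat.dvd_prime_pow hr).1 (orderOf_dvd_of_pow_eq_one haord)
    have hcen := centralizes_core (q := r) hp2 hpr (w := (⟨v', hv'C⟩ : ↥C)) (x := ⟨a, haC⟩)
      (Subtype.ext hv') (Subtype.ext hainv) ⟨j, by rw [Subgroup.orderOf_mk]; exact hj⟩ hr2 hfixp
    exact Subgroup.mem_centralizer_iff.1 hcen y hy
  have ha1 : (⟨a, haC⟩ : ↥C) ∈ Cfsg.pCore r ↥C := by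
    refine Solv.pgroup_le_pCore_of_le_fitting ?_ (Subgroup.zpowers_le.2 haF) (Subgroup.mem_zpowers _)
    obtain ⟨j, -, hj⟩ := (Nat.dvd_prime_pow hr).1 (orderOf_dvd_of_pow_eq_one haord)
    exact IsPGroup.of_card (n := j) (by rw [Nat.card_zpowers, Subgroup.orderOf_mk, hj])
  rw [show Cfsg.pCore r ↥C = ⊥ by rw [hC]; exact h0, Subgroup.mem_bot] at ha1
  rw [hwa, show a = 1 from congrArg Subtype.val ha1]
  group

/-- A part without fixed points of `u` and `tu` is trivial. -/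
theorem MaxCent.bot_of_fixed (hG : ¬ IsMulCommutative G) (h : MaxCent t O) {u : G} (hu : u * u = 1)
    (htu : Commute t u) {N : Subgroup G} (htN : t ∈ N) (huN : u ∈ N)
    (hCN : Cfsg.leadsTo (Subgroup.centralizer ({t} : Set G)) N) {r : ℕ}
    (h1 : ∀ w ∈ fq r N, Commute w u → w = 1) (h2 : ∀ w ∈ fq r N, Commute w (t * u) → w = 1)
    (hr : r.Prime) (h0 : Cfsg.pCore r ↥(Subgroup.centralizer ({t} : Set G)) = ⊥) : fq r N = ⊥ := by
  haveI := Fact.mk hr
  have htu2 : t * u * (t * u) = 1 := by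
    rw [mul_assoc, ← mul_assoc u, ← htu.eq, mul_assoc t u, hu, mul_one, h.sq]
  have hn : N ≤ Subgroup.normalizer (fq r N : Set G) := fq_le_norm r hr N
  have hiu := inverts hu (hn huN) h1
  have hitu := inverts htu2 (hn (mul_mem htN huN)) h2
  refine (Subgroup.eq_bot_iff_forall _).2 fun w hw => ?_
  have hwt : Commute w t := by
    have e : t * w * t⁻¹ = w := by
      calc t * w * t⁻¹ = (t * u) * (u * w * u⁻¹) * (t * u)⁻¹ := by
            rw [show (t * u) * (u * w * u⁻¹) * (t * u)⁻¹ = t * (u * u) * w * (u * u)⁻¹ * t⁻¹ by group, hu]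
            group
        _ = w := by rw [hiu w hw, hitu _ (inv_mem hw), inv_inv]
    exact (mul_inv_eq_iff_eq_mul.1 e).symm
  have hWC : fq r N ⊓ Subgroup.centralizer ({t} : Set G) = ⊥ :=
    (BenderUniq.facts hG _ N h.max hCN).2.2.1 r hr h0
  exact Subgroup.mem_bot.1 (hWC ▸ ⟨hw, Subgroup.mem_centralizer_singleton_iff.2 hwt.eq⟩)

/-- The Fitting subgroup of `N` has no part away from `π(F(C))`. -/
theorem MaxCent.other_bot (hG : ¬ IsMulCommutative G) (h : MaxCent t O) {u ρ : G} (hu : u * u = 1)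
    (htu : Commute t u) (hρt : ρ * t * ρ⁻¹ = u) (hρu : ρ * u * ρ⁻¹ = t * u) {N : Subgroup G} (htN : t ∈ N)
    (huN : u ∈ N) (hCN : Cfsg.leadsTo (Subgroup.centralizer ({t} : Set G)) N)
    (hfix : ∀ s : ℕ, s.Prime → s ≠ 2 → ∀ x ∈ fq s (Subgroup.centralizer ({t} : Set G)),
      Commute x (t * u) → ρ * x * ρ⁻¹ ∈ N)
    (hfix' : ∀ s : ℕ, s.Prime → s ≠ 2 → ∀ x ∈ fq s (Subgroup.centralizer ({t} : Set G)),
      Commute x u → ρ * ρ * x * (ρ * ρ)⁻¹ ∈ N)
    {r : ℕ} (hr : r.Prime) (h0 : Cfsg.pCore r ↥(Subgroup.centralizer ({t} : Set G)) = ⊥) : fq r N = ⊥ := by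
  haveI := Fact.mk hr
  obtain ⟨hρtu, hσt, hσu, -⟩ := rho_sq hu htu hρt hρu
  have htu2 : t * u * (t * u) = 1 := by
    rw [mul_assoc, ← mul_assoc u, ← htu.eq, mul_assoc t u, hu, mul_one, h.sq]
  have h1 : ∀ w ∈ fq r N, Commute w u → w = 1 := fun w hw hwu =>
    h.fixed_trivial hG htu2 htu hρt hρtu htN hCN hfix hr h0 hw hwu
  have h2 : ∀ w ∈ fq r N, Commute w (t * u) → w = 1 := fun w hw hwu =>
    h.fixed_trivial hG hu ((Commute.refl t).mul_right htu) hσt hσu htN hCN hfix' hr h0 hw hwu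
  exact h.bot_of_fixed hG hu htu htN huN hCN h1 h2 hr h0

/-- The Fitting subgroup of `N` lies in `C(t)` once it has no part away from `π(F(C))`. -/
theorem MaxCent.fitting_le_of_bot (hG : ¬ IsMulCommutative G) (h : MaxCent t O) {N : Subgroup G}
    (hCN : Cfsg.leadsTo (Subgroup.centralizer ({t} : Set G)) N)
    (hbot : ∀ r : ℕ, r.Prime → Cfsg.pCore r ↥(Subgroup.centralizer ({t} : Set G)) = ⊥ → fq r N = ⊥) :
    (Cfsg.fittingSubgroup ↥N).map N.subtype ≤ Subgroup.centralizer ({t} : Set G) := by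
  obtain ⟨q, hq, hq2, hqne⟩ := h.odd_core_ne
  obtain ⟨-, -, -, hf4⟩ := BenderUniq.facts hG _ N h.max hCN
  rw [Solv.fitting_eq_iSup_pCore, Subgroup.map_iSup, iSup_le_iff]
  intro p
  by_cases hp : Cfsg.pCore (p : ℕ) ↥(Subgroup.centralizer ({t} : Set G)) = ⊥
  · show fq (p : ℕ) N ≤ _
    rw [hbot p p.2 hp]
    exact bot_le
  by_cases hp2 : (p : ℕ) = 2
  · exact (hf4 p p.2 hp _ (Or.inr ⟨q, hq, hp2 ▸ hq2, rfl⟩)).2 hqne
  · exact (hf4 p p.2 hp _ (Or.inr ⟨2, Nat.prime_two, Ne.symm hp2, rfl⟩)).2 h.two_core_ne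

/-- The Fitting subgroup of `N` lies in `C(t)`. -/
theorem MaxCent.fitting_le (hG : ¬ IsMulCommutative G) (h : MaxCent t O) {u ρ : G} (hu : u * u = 1)
    (htu : Commute t u) (hρt : ρ * t * ρ⁻¹ = u) (hρu : ρ * u * ρ⁻¹ = t * u) {N : Subgroup G} (htN : t ∈ N)
    (huN : u ∈ N) (hCN : Cfsg.leadsTo (Subgroup.centralizer ({t} : Set G)) N)
    (hfix : ∀ s : ℕ, s.Prime → s ≠ 2 → ∀ x ∈ fq s (Subgroup.centralizer ({t} : Set G)),
      Commute x (t * u) → ρ * x * ρ⁻¹ ∈ N)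
    (hfix' : ∀ s : ℕ, s.Prime → s ≠ 2 → ∀ x ∈ fq s (Subgroup.centralizer ({t} : Set G)),
      Commute x u → ρ * ρ * x * (ρ * ρ)⁻¹ ∈ N) :
    (Cfsg.fittingSubgroup ↥N).map N.subtype ≤ Subgroup.centralizer ({t} : Set G) := by
  exact h.fitting_le_of_bot hG hCN fun r hr h0 => h.other_bot hG hu htu hρt hρu htN huN hCN hfix hfix' hr h0

/-- `N` has a component. -/
theorem MaxCent.layer_ne (hG : ¬ IsMulCommutative G) (hK : Cfsg.IsKProper G) (h : MaxCent t O) {N : Subgroup G}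
    (hN : IsCoatom N) (hne : N ≠ Subgroup.centralizer ({t} : Set G))
    (hCN : Cfsg.leadsTo (Subgroup.centralizer ({t} : Set G)) N)
    (hFN : (Cfsg.fittingSubgroup ↥N).map N.subtype ≤ Subgroup.centralizer ({t} : Set G)) :
    Cfsg.layer ↥N ≠ ⊥ := by
  intro hl
  have hg : Cfsg.generalizedFittingSubgroup ↥N = Cfsg.fittingSubgroup ↥N := by
    rw [Cfsg.generalizedFittingSubgroup, hl, bot_sup_eq]
  have hN1 : Nontrivial ↥N := by
    rw [Subgroup.nontrivial_iff_ne_bot]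
    intro hb
    have htop : Subgroup.zpowers t = ⊤ := (hb ▸ hN).2 _ (bot_lt_iff_ne_bot.2
      fun e => h.ne (Subgroup.mem_bot.1 (e ▸ Subgroup.mem_zpowers t)))
    refine hG ⟨⟨fun a b => ?_⟩⟩
    obtain ⟨i, rfl⟩ := Subgroup.mem_zpowers_iff.1 (htop ▸ Subgroup.mem_top a)
    obtain ⟨j, rfl⟩ := Subgroup.mem_zpowers_iff.1 (htop ▸ Subgroup.mem_top b)
    exact ((Commute.refl t).zpow_zpow i j).eq
  have hF1 : Cfsg.fittingSubgroup ↥N ≠ ⊥ := by
    intro hb
    have hc := Solv.centralizer_gfit_le (G := ↥N)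
    rw [hg, hb] at hc
    obtain ⟨x, hx⟩ := exists_ne (1 : ↥N)
    exact hx (Subgroup.mem_bot.1 (hc (Subgroup.mem_centralizer_iff.2 fun y hy => by
      rw [show y = 1 from Subgroup.mem_bot.1 hy, one_mul, mul_one])))
  have hNC : Cfsg.leadsTo N (Subgroup.centralizer ({t} : Set G)) :=
    ⟨(Cfsg.fittingSubgroup ↥N).map N.subtype,
      fun e => hF1 ((Subgroup.map_eq_bot_iff_of_injective _ N.subtype_injective).1 e), le_rfl,
      inf_le_left.trans (hg ▸ hFN)⟩
  rcases S1857.result hG hK _ N h.max hN hCN hNC with heq | ⟨p, hp, hpC, -⟩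
  · exact hne heq.symm
  obtain ⟨q, hq, hq2, hqne⟩ := h.odd_core_ne
  haveI := Fact.mk hp
  obtain ⟨n, hn⟩ := IsPGroup.iff_card.1 hpC
  have hd : ∀ s : ℕ, s.Prime → Cfsg.pCore s ↥(Subgroup.centralizer ({t} : Set G)) ≠ ⊥ → s = p := by
    intro s hs hsne
    refine (Nat.prime_dvd_prime_iff_eq hs hp).1 (hs.dvd_of_dvd_pow (n := n) ?_)
    rw [← hn]
    exact ((BenderUniq.core_dvd hs).2 hsne).trans (Subgroup.card_dvd_of_le le_sup_right)
  exact hq2 ((hd q hq hqne).trans (hd 2 Nat.prime_two h.two_core_ne).symm)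

end Cfsg.Agent.GW
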