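import Cfsg.Agent.Lib.GW.MaxControlResidual

/-!
# A maximal centraliser of an involution: no central element of a core is fixed by a reflection
-/

set_option autoImplicit false
set_option linter.unusedSectionVars false
set_option linter.style.haveILetI false

namespace Cfsg.Agent.GW

open Cfsg Cfsg.Agent DihedralGroup

universe u

variable {G : Type u} [Group G] [Finite G] [IsSimpleGroup G] {Φ : Frame G}

/-- **no central element of `O_q(C(t))` is fixed by a reflection** -/
theorem MaxCent.caseP_false (hG : Minimal G) (h : MaxCent Φ.t Φ.O) (hrot : Rotates Φ.t) (hno : NoLayer Φ.t)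
    (i : ZMod (2 ^ Φ.k)) {q : ℕ} (hq : q.Prime) (hq2 : q ≠ 2) {y : G}
    (hy : y ∈ fq q (Subgroup.centralizer ({Φ.t} : Set G)))
    (hyc : ∀ z ∈ fq q (Subgroup.centralizer ({Φ.t} : Set G)), Commute y z) (hyu : Commute y (Φ.refl i))
    (hy1 : y ≠ 1) : False := by
  haveI := Fact.mk hq
  by_cases hk : 2 ≤ Φ.k
  · obtain ⟨Q, x, ρ, p, d⟩ := h.exists_pdata hG hrot hno hk i hq hq2 hy hyc hyu hy1
    exact d.false hG h hrot hno
  have hk1 : Φ.k = 1 := by have := Φ.hk; omega
  haveI : NeZero (2 ^ Φ.k) := ⟨by positivity⟩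
  obtain ⟨ρ, hρt, hρu⟩ := hrot _ (Φ.uu i) (Φ.refl_ne_one i) (Φ.refl_ne i) (Φ.commute i)
  refine h.four_false Φ.S ?_ (fun x => ?_) (fun a b ha hb => hG.oneClass a b ha hb) Φ.t_mem Φ.O_sup (Φ.refl_mem i)
    (Φ.refl_ne_one i) (Φ.refl_ne i) hρt hρu hq2 (h.fq_odd_le_core hq hq2 hy) hy1
    ((fq_isPGroup q _).to_le (Subgroup.zpowers_le.2 hy)) hyu fun g hg => ?_
  · rw [Nat.card_congr Φ.ι.symm.toEquiv, DihedralGroup.nat_card, hk1]
    norm_num
  · obtain ⟨d, rfl⟩ := Φ.ι.surjective x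
    rw [← map_mul, ← map_one Φ.ι]
    refine congrArg Φ.ι ?_
    rcases d with j | j
    · rw [r_mul_r, DihedralGroup.one_def]
      refine congrArg r ?_
      have h2 : ((2 : ℕ) : ZMod (2 ^ Φ.k)) = 0 := by
        rw [ZMod.natCast_eq_zero_iff, hk1]
        norm_num
      linear_combination j * h2
    · exact sr_mul_self j
  · refine h.center_good hG.nonab hG.kProper hno hrot hq hq2 (Φ.uu i) (Φ.refl_ne_one i) (Φ.refl_ne i)
      (Φ.commute i) hy hyc hyu hy1 (Subgroup.centralizer_le_normalizer _ ?_)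
    refine Subgroup.mem_centralizer_iff.2 fun a ha => ?_
    obtain ⟨j, rfl⟩ := ha
    exact ((show Commute g y from Subgroup.mem_centralizer_singleton_iff.1 hg).symm.zpow_left j).eq

/-- reflections fix no element of the centres of the odd cores -/
theorem MaxCent.regular_of_caseP (hG : Minimal G) (h : MaxCent Φ.t Φ.O) (hrot : Rotates Φ.t) (hno : NoLayer Φ.t)
    (i : ZMod (2 ^ Φ.k)) {q : ℕ} (hq : q.Prime) (hq2 : q ≠ 2) :
    fq q (Subgroup.centralizer ({Φ.t} : Set G)) ⊓ Subgroup.centralizer ({Φ.refl i} : Set G) ⊓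
      Subgroup.centralizer (fq q (Subgroup.centralizer ({Φ.t} : Set G)) : Set G) = ⊥ := by
  rw [Subgroup.eq_bot_iff_forall]
  intro y hy
  by_contra hy1
  exact h.caseP_false hG hrot hno i hq hq2 hy.1.1 (fun z hz => (Subgroup.mem_centralizer_iff.1 hy.2 z hz).symm)
    (Subgroup.mem_centralizer_singleton_iff.1 hy.1.2) hy1

end Cfsg.Agent.GW
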