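import Cfsg.Agent.Lib.GW.MaxQTwo
import Cfsg.Agent.Lib.GW.MaxInputs

/-!
# A reflection fixing a part of `O_q(C(t))`: counting the cosets of `N` and of `C(t)`

If an element `d` of order `q` of `D` lies in the second centre of `O_q(C(t))` then `N ∩ N^a ≤ C` for `a ∈ O ∖ N`, so
`|G : N| ≥ 1 + (m - 1) Δ`.  `O_q(C(t))` moves every coset of `C(t)` other than `C(t)` in orbits of size divisible by
`q²`, so `|G : C(t)| ≡ 1 (mod q²)`.
-/

set_option autoImplicit false
set_option linter.unusedSectionVars false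
set_option linter.style.haveILetI false

namespace Cfsg.Agent.GW

open Cfsg Cfsg.Agent
open scoped commutatorElement

universe w

/-- elements of the same order of a cyclic group generate the same subgroup -/
theorem mem_zpowers_of_orderOf_eq_cyclic {C : Type w} [Group C] [Finite C] [IsCyclic C] {a b : C}
    (h : orderOf a = orderOf b) : b ∈ Subgroup.zpowers a := by
  classical
  haveI : Fintype C := Fintype.ofFinite C
  have hsub : (Finset.univ.filter fun x : C => x ∈ Subgroup.zpowers a) ⊆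
      Finset.univ.filter fun x : C => x ^ orderOf a = 1 := fun x hx => by
    rw [Finset.mem_filter] at hx ⊢
    exact ⟨hx.1, orderOf_dvd_iff_pow_eq_one.1 (orderOf_dvd_of_mem_zpowers hx.2)⟩
  have heq := Finset.eq_of_subset_of_card_le hsub
    ((IsCyclic.card_pow_eq_one_le (orderOf_pos a)).trans (le_of_eq (by
      rw [← Nat.card_zpowers, Nat.card_eq_fintype_card, Fintype.card_subtype])))
  have hb : b ∈ Finset.univ.filter fun x : C => x ∈ Subgroup.zpowers a := by
    rw [heq, Finset.mem_filter]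
    exact ⟨Finset.mem_univ b, h ▸ pow_orderOf_eq_one b⟩
  exact (Finset.mem_filter.1 hb).2

variable {G : Type w} [Group G] [Finite G] [IsSimpleGroup G] {u v : G} {N T : Subgroup G} {q : ℕ}

/-- the centraliser of the layer lies in `O` -/
theorem QCfg.layCent_le_core {t : G} {O : Subgroup G} (c : QCfg t u O q N v T) : layCent N ≤ O := fun x hx =>
  c.hyp.mc.core x (Subgroup.mem_centralizer_singleton_iff.1 (c.cent_le hx)) (odd_orderOf c.facts.cent_odd hx)

/-- **`N ∩ N^a ≤ C`** for `a ∈ O ∖ N` -/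
theorem QCfg.inter_le {t : G} {O : Subgroup G} (c : QCfg t u O q N v T) {d : G}
    (hd : d ∈ fq q (Subgroup.centralizer ({t} : Set G)) ⊓ layCent N) (hdq : orderOf d = q)
    (hdz : d ∈ z2 (fq q (Subgroup.centralizer ({t} : Set G)))) {a : G} (ha : a ∈ O) (haN : a ∉ N) {x : G}
    (hx : x ∈ N) (hxa : a⁻¹ * x * a ∈ N) : x ∈ Subgroup.centralizer ({t} : Set G) := by
  haveI := Fact.mk c.prime
  obtain ⟨A, hA⟩ : ∃ A, A = layCent N ⊔ (layCent N).map (MulAut.conj a).toMonoidHom := ⟨_, rfl⟩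
  have hAO : A ≤ O := by
    rw [hA, sup_le_iff]
    refine ⟨c.layCent_le_core, ?_⟩
    rintro _ ⟨y, hy, rfl⟩
    exact mul_mem (mul_mem ha (c.layCent_le_core hy)) (inv_mem ha)
  have hAx : ∀ y ∈ A, x * y * x⁻¹ ∈ A := by
    have h1 : A.map (MulAut.conj x).toMonoidHom ≤ A := by
      rw [hA, Subgroup.map_sup, sup_le_iff]
      refine ⟨le_trans ?_ le_sup_left, le_trans ?_ le_sup_right⟩
      · rintro _ ⟨y, hy, rfl⟩
        exact (Subgroup.mem_normalizer_iff.1 (layCent_norm N hx) y).1 hy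
      · rintro _ ⟨_, ⟨y, hy, rfl⟩, rfl⟩
        refine ⟨(a⁻¹ * x * a) * y * (a⁻¹ * x * a)⁻¹,
          (Subgroup.mem_normalizer_iff.1 (layCent_norm N hxa) y).1 hy, ?_⟩
        show a * ((a⁻¹ * x * a) * y * (a⁻¹ * x * a)⁻¹) * a⁻¹ = x * (a * y * a⁻¹) * x⁻¹
        group
    exact fun y hy => h1 ⟨y, hy, rfl⟩
  obtain ⟨T', hT'⟩ : ∃ T', T' = A ⊓ lay N := ⟨_, rfl⟩
  have hT'T : T' ≤ lay N ⊓ O := by
    rw [hT']
    exact fun y hy => ⟨hy.2, hAO hy.1⟩
  have hd1 : d ≠ 1 := fun e => c.prime.ne_one (by rw [← hdq, e, orderOf_one])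
  obtain ⟨d', hd'⟩ : ∃ d', d' = a * d * a⁻¹ := ⟨_, rfl⟩
  have hd'F : d' ∈ fq q (Subgroup.centralizer ({t} : Set G)) :=
    hd' ▸ conj_fq c.prime (c.hyp.mc.core_le ha) hd.1
  have hd'A : d' ∈ A := hA ▸ Subgroup.mem_sup_right ⟨d, hd.2, hd'.symm⟩
  have hd'q : orderOf d' = q := by
    rw [hd', show a * d * a⁻¹ = MulAut.conj a d by simp, MulEquiv.orderOf_eq, hdq]
  have hT'1 : ¬ T' ≤ Subgroup.centralizer (lay N : Set G) := by
    intro h0
    have hone : ∀ r ∈ T, r ∈ A → r = 1 := fun r hr hrA => Subgroup.mem_bot.1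
      (c.facts.T_disj ▸ (⟨hr, h0 (hT'.symm ▸ ⟨hrA, (c.facts.T_le hr).1⟩)⟩ : r ∈ T ⊓ _))
    by_cases hd'N : d' ∈ N
    · obtain ⟨r, hr, -, -, e, heF, heN, he, hre⟩ := c.hyp.mc.decomp_part c.facts c.prime c.odd hd'F hd'N
      have heA : e ∈ A := hA ▸ Subgroup.mem_sup_left ⟨heN, he⟩
      have hr1 : r = 1 := hone r hr (by
        rw [show r = d' * e⁻¹ by rw [hre, mul_inv_cancel_right]]
        exact mul_mem hd'A (inv_mem heA))
      rw [hr1, one_mul] at hre
      have hd'1 : d' ≠ 1 := fun e => c.prime.ne_one (by rw [← hd'q, e, orderOf_one])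
      have hd'D : d' ∈ fq q (Subgroup.centralizer ({t} : Set G)) ⊓ layCent N := ⟨hd'F, hre ▸ ⟨heN, he⟩⟩
      obtain ⟨d0, -, hd0, hgen⟩ := c.exists_d1
      have h1 := Subgroup.eq_of_le_of_card_ge (Subgroup.zpowers_le.2 (hgen d hd hd1))
        (by rw [Nat.card_zpowers, Nat.card_zpowers, hd0, hdq])
      have h2 := Subgroup.eq_of_le_of_card_ge (Subgroup.zpowers_le.2 (hgen d' hd'D hd'1))
        (by rw [Nat.card_zpowers, Nat.card_zpowers, hd0, hd'q])
      refine haN (c.norm_le (X := Subgroup.zpowers d) (by simpa [Subgroup.zpowers_eq_bot] using hd1)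
        (Subgroup.zpowers_le.2 hd) (mem_norm_of_conj fun y hy => ?_))
      obtain ⟨i, rfl⟩ := Subgroup.mem_zpowers_iff.1 hy
      rw [← conj_zpow, ← hd', ← h1, h2]
      exact zpow_mem (Subgroup.mem_zpowers d') i
    · obtain ⟨w, hw⟩ : ∃ w, w = ⁅d, d'⁆ := ⟨_, rfl⟩
      have hwF : w ∈ fq q (Subgroup.centralizer ({t} : Set G)) := by
        rw [hw, commutatorElement_def]
        exact Subgroup.mul_mem _ (Subgroup.mul_mem _ (Subgroup.mul_mem _ hd.1 hd'F) (Subgroup.inv_mem _ hd.1))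
          (Subgroup.inv_mem _ hd'F)
      have hwT := (c.central_mem hwF fun g hg => hw ▸ hdz.2 d' hd'F g hg).1
      refine hd'N (c.cent_mem hd hd1 (commutatorElement_eq_one_iff_commute.1 (hw.symm.trans (hone w hwT ?_))).symm)
      have hdA : d ∈ A := hA ▸ Subgroup.mem_sup_left hd.2
      rw [hw, commutatorElement_def]
      exact mul_mem (mul_mem (mul_mem hdA hd'A) (inv_mem hdA)) (inv_mem hd'A)
  refine c.torus.2.2 T' hT'T hT'1 ⟨hx, mem_norm_of_conj fun y hy => ?_⟩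
  rw [hT'] at hy ⊢
  exact ⟨hAx y hy.1, (Subgroup.mem_normalizer_iff.1 (lay_norm N hx) y).1 hy.2⟩

/-- an element of `N` carrying one moved coset to another lies in `C` -/
theorem QCfg.coset_fix {t : G} {O : Subgroup G} (c : QCfg t u O q N v T) {d : G}
    (hd : d ∈ fq q (Subgroup.centralizer ({t} : Set G)) ⊓ layCent N) (hdq : orderOf d = q)
    (hdz : d ∈ z2 (fq q (Subgroup.centralizer ({t} : Set G)))) {z : G} (hz : z ∈ N) {a a' : G} (ha : a ∈ O)
    (haN : a ∉ N) (ha' : a' ∈ O) (ha'N : a' ∉ N) (he : a'⁻¹ * z * a ∈ N) :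
    z ∈ Subgroup.centralizer ({t} : Set G) := by
  haveI := Fact.mk c.prime
  have hfix : ∀ {z a a' : G}, z ∈ N → a' ∈ O → a' ∉ N → a'⁻¹ * z * a ∈ N → ∀ x ∈ N, a⁻¹ * x * a ∈ N →
      z * x * z⁻¹ ∈ Subgroup.centralizer ({t} : Set G) := by
    intro z a a' hz ha' ha'N he x hx hxa
    refine c.inter_le hd hdq hdz ha' ha'N (mul_mem (mul_mem hz hx) (inv_mem hz)) ?_
    rw [show a'⁻¹ * (z * x * z⁻¹) * a' = a'⁻¹ * z * a * (a⁻¹ * x * a) * (a'⁻¹ * z * a)⁻¹ by group]
    exact mul_mem (mul_mem he hxa) (inv_mem he)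
  have hcomm : ∀ {b : G}, b ∈ O → b⁻¹ * t * b = t := fun {b} hb => by
    rw [mul_assoc, ← Subgroup.mem_centralizer_singleton_iff.1 (c.hyp.mc.core_le hb), inv_mul_cancel_left]
  obtain ⟨t', ht'⟩ : ∃ t', t' = z⁻¹ * t * z := ⟨_, rfl⟩
  have ht'C : Commute t' t := by
    have h1 := hfix (z := z⁻¹) (a := a') (a' := a) (inv_mem hz) ha haN (by
      rw [show a⁻¹ * z⁻¹ * a' = (a'⁻¹ * z * a)⁻¹ by group]
      exact inv_mem he) t c.tN ((hcomm ha').symm ▸ c.tN)
    rw [inv_inv, ← ht'] at h1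
    exact Subgroup.mem_centralizer_singleton_iff.1 h1
  by_cases he' : t' = t
  · refine Subgroup.mem_centralizer_singleton_iff.2 ?_
    calc z * t = z * (z⁻¹ * t * z) := by rw [← ht', he']
      _ = _ := by group
  obtain ⟨F, hF⟩ : ∃ F, F = fq q (Subgroup.centralizer ({t} : Set G)) := ⟨_, rfl⟩
  obtain ⟨⟨x, hxF⟩, -, hx1, hxc⟩ := exists_central_mem (T := ↥F) (hF ▸ fq_isPGroup q _) ⊤ (by
    haveI : Nontrivial ↥F := (Subgroup.nontrivial_iff_ne_bot _).2 fun e => c.prime.ne_one (by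
      rw [← hdq, Subgroup.mem_bot.1 (e ▸ hF.symm ▸ hd.1 : d ∈ (⊥ : Subgroup G)), orderOf_one])
    exact top_ne_bot)
  have hxc' : ∀ w ∈ fq q (Subgroup.centralizer ({t} : Set G)), Commute x w := fun w hw =>
    (congrArg Subtype.val (hxc ⟨w, hF.symm ▸ hw⟩).eq).symm
  replace hxF : x ∈ fq q (Subgroup.centralizer ({t} : Set G)) := hF ▸ hxF
  have haC := inv_mem (c.hyp.mc.core_le ha)
  have hxa : a⁻¹ * x * a ∈ N := by
    have h1 := conj_fq c.prime haC hxF
    refine (c.central_mem (by rwa [inv_inv] at h1) fun w hw => ?_).2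
    have h2 := (Commute.conj_iff a⁻¹).2 (hxc' _ (conj_fq c.prime (c.hyp.mc.core_le ha) hw))
    rwa [inv_inv, show a⁻¹ * (a * w * a⁻¹) * a = w by group] at h2
  have h1 : Commute (z * x * z⁻¹) t := Subgroup.mem_centralizer_singleton_iff.1
    (hfix hz ha' ha'N he x (c.central_mem hxF hxc').2 hxa)
  have h2 := (Commute.conj_iff z⁻¹).2 h1
  rw [show z⁻¹ * (z * x * z⁻¹) * z⁻¹⁻¹ = x by group, inv_inv, ← ht'] at h2
  refine absurd (c.hyp.np q c.prime c.odd t' ?_ ?_ he' ht'C x hxF hxc' h2.symm) fun e => hx1 (Subtype.ext e)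
  · rw [ht', show z⁻¹ * t * z * (z⁻¹ * t * z) = z⁻¹ * (t * t) * z by group, c.hyp.mc.sq]
    group
  · intro h1
    refine c.hyp.mc.ne ?_
    calc t = z * (z⁻¹ * t * z) * z⁻¹ := by group
      _ = _ := by rw [← ht', h1]; group

/-- **`|G : N| ≥ 1 + (m - 1) |N : N ∩ C|`** -/
theorem QCfg.index_ge {t : G} {O : Subgroup G} (c : QCfg t u O q N v T) {d : G}
    (hd : d ∈ fq q (Subgroup.centralizer ({t} : Set G)) ⊓ layCent N) (hdq : orderOf d = q)
    (hdz : d ∈ z2 (fq q (Subgroup.centralizer ({t} : Set G)))) :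
    1 + ((N ⊓ O).relIndex O - 1) * (N ⊓ Subgroup.centralizer ({t} : Set G)).relIndex N ≤ N.index := by
  classical
  have hm : (N ⊓ O).relIndex O =
      Nat.card {B : ↥O ⧸ (N ⊓ O).subgroupOf O // B ≠ QuotientGroup.mk 1} + 1 := by
    rw [← Finite.card_option, Nat.card_congr (Equiv.optionSubtypeNe _), Subgroup.relIndex, Subgroup.index_eq_card]
  have hn : (N ⊓ Subgroup.centralizer ({t} : Set G)).relIndex N =
      Nat.card (↥N ⧸ (N ⊓ Subgroup.centralizer ({t} : Set G)).subgroupOf N) := by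
    rw [Subgroup.relIndex, Subgroup.index_eq_card]
  rw [hm, Nat.add_sub_cancel, hn, mul_comm, ← Nat.card_prod, add_comm, ← Finite.card_option,
    Subgroup.index_eq_card]
  have hout : ∀ B : {B : ↥O ⧸ (N ⊓ O).subgroupOf O // B ≠ QuotientGroup.mk 1}, (B.1.out : G) ∉ N := by
    intro B hB
    refine B.2 ?_
    rw [← QuotientGroup.out_eq' B.1]
    refine QuotientGroup.eq.2 (Subgroup.mem_subgroupOf.2 ?_)
    show (B.1.out : G)⁻¹ * 1 ∈ N ⊓ O
    rw [mul_one]
    exact ⟨N.inv_mem hB, O.inv_mem B.1.out.2⟩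
  refine Nat.card_le_card_of_injective (fun x => x.elim (QuotientGroup.mk (1 : G))
    fun p => QuotientGroup.mk ((p.1.out : G) * (p.2.1.out : G))) ?_
  intro x y e
  rcases x with _ | ⟨A, B⟩ <;> rcases y with _ | ⟨A', B'⟩
  · rfl
  · simp only [Option.elim] at e
    have h1 := QuotientGroup.eq.1 e
    rw [inv_one, one_mul] at h1
    exact (hout B' ((N.mul_mem_cancel_left A'.out.2).1 h1)).elim
  · simp only [Option.elim] at e
    have h1 := QuotientGroup.eq.1 e.symm
    rw [inv_one, one_mul] at h1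
    exact (hout B ((N.mul_mem_cancel_left A.out.2).1 h1)).elim
  · simp only [Option.elim] at e
    have h1 := QuotientGroup.eq.1 e.symm
    have h2 : (B'.1.out : G)⁻¹ * ((A'.out : G)⁻¹ * A.out) * B.1.out ∈ N := by
      rw [show (B'.1.out : G)⁻¹ * ((A'.out : G)⁻¹ * A.out) * B.1.out
        = ((A'.out : G) * B'.1.out)⁻¹ * ((A.out : G) * B.1.out) by group]
      exact h1
    have hzN : (A'.out : G)⁻¹ * A.out ∈ N := mul_mem (inv_mem A'.out.2) A.out.2
    have hzC := c.coset_fix hd hdq hdz hzN B.1.out.2 (hout B) B'.1.out.2 (hout B') h2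
    have hA : A' = A := by
      rw [← QuotientGroup.out_eq' A, ← QuotientGroup.out_eq' A']
      exact QuotientGroup.eq.2 (Subgroup.mem_subgroupOf.2 ⟨hzN, hzC⟩)
    subst hA
    rw [inv_mul_cancel, mul_one] at h2
    have hB : B' = B := Subtype.ext (by
      rw [← QuotientGroup.out_eq' B.1, ← QuotientGroup.out_eq' B'.1]
      exact QuotientGroup.eq.2 (Subgroup.mem_subgroupOf.2 ⟨h2, O.mul_mem (O.inv_mem B'.1.out.2) B.1.out.2⟩))
    rw [hB]

/-- **`|G : C(t)| ≡ 1 (mod q²)`** -/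
theorem QCfg.index_mod_sq {t : G} {O : Subgroup G} (c : QCfg t u O q N v T) :
    (Subgroup.centralizer ({t} : Set G)).index % q ^ 2 = 1 := by
  classical
  haveI := Fact.mk c.prime
  obtain ⟨C, hC⟩ : ∃ C, C = Subgroup.centralizer ({t} : Set G) := ⟨_, rfl⟩
  obtain ⟨F, hF⟩ : ∃ F, F = fq q C := ⟨_, rfl⟩
  have hFp : IsPGroup q ↥F := hF ▸ fq_isPGroup q C
  have hFC : F ≤ C := hF ▸ fq_le q C
  -- an orbit other than that of `C` has `q²` or more points
  have key : ∀ X : G ⧸ C, X ≠ QuotientGroup.mk 1 →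
      q ^ 2 ∣ Nat.card (MulAction.orbit ↥F X) := by
    intro X hX
    obtain ⟨n, hn⟩ := hFp.card_orbit X
    by_cases h2 : 2 ≤ n
    · exact hn ▸ pow_dvd_pow q h2
    exfalso
    obtain ⟨S, hS⟩ : ∃ S, S = MulAction.stabilizer ↥F X := ⟨_, rfl⟩
    have hind : S.index = q ^ n := by
      rw [hS, MulAction.index_stabilizer, ← Nat.card_coe_set_eq, hn]
    obtain ⟨k, hk⟩ := IsPGroup.iff_card.1 hFp
    obtain ⟨a, ha, b, hb, hab⟩ := c.not_comm
    rw [← hC, ← hF] at ha hb
    have hk2 : ¬ k ≤ 1 := fun hk1 => hab (by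
      haveI : IsCyclic ↥F := by
        rcases Nat.le_one_iff_eq_zero_or_eq_one.1 hk1 with rfl | rfl
        · haveI : Subsingleton ↥F := (Nat.card_eq_one_iff_unique.1 (hk.trans (pow_zero q))).1
          infer_instance
        · exact isCyclic_of_prime_card (p := q) (hk.trans (pow_one q))
      exact congrArg Subtype.val ((IsCyclic.commGroup (α := ↥F)).mul_comm ⟨a, ha⟩ ⟨b, hb⟩))
    have hS1 : S ≠ ⊥ := fun e => hk2 (by
      rw [e, Subgroup.index_bot, hk] at hind
      have := Nat.pow_right_injective c.prime.two_le hind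
      omega)
    haveI : S.Normal := by
      rcases (show n = 0 ∨ n = 1 by omega) with rfl | rfl
      · rw [Subgroup.index_eq_one.1 (hind.trans (pow_zero q))]
        infer_instance
      · refine Subgroup.normal_of_index_eq_minFac_card ?_
        rw [hind, hk, Nat.pow_minFac (by omega), c.prime.minFac_eq, pow_one]
    obtain ⟨⟨z, hzF⟩, hzS, hz1, hzc⟩ := exists_central_mem hFp S hS1
    obtain ⟨j, hj⟩ := IsPGroup.iff_orderOf.1 hFp ⟨z, hzF⟩
    rw [Subgroup.orderOf_mk] at hj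
    obtain ⟨i, rfl⟩ : ∃ i, j = i + 1 := by
      rcases j with _ | i
      · exact absurd (orderOf_eq_one_iff.1 (hj.trans (pow_zero q))) fun e => hz1 (Subtype.ext e)
      · exact ⟨i, rfl⟩
    obtain ⟨y, hy⟩ : ∃ y, y = z ^ q ^ i := ⟨_, rfl⟩
    have hyq : orderOf y = q := by
      rw [hy, orderOf_pow_of_dvd (pow_ne_zero _ c.prime.ne_zero) (hj ▸ pow_dvd_pow q (Nat.le_succ i)), hj, pow_succ,
        Nat.mul_div_cancel_left _ (pow_pos c.prime.pos _)]
    have hy1 : y ≠ 1 := fun e => c.prime.ne_one (by rw [← hyq, e, orderOf_one])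
    have hyF : y ∈ fq q (Subgroup.centralizer ({t} : Set G)) := by
      rw [← hC, ← hF, hy]
      exact pow_mem hzF _
    have hyS : (⟨z, hzF⟩ : ↥F) ^ q ^ i ∈ S := pow_mem hzS _
    have hyc : ∀ w ∈ fq q (Subgroup.centralizer ({t} : Set G)), Commute y w := by
      intro w hw
      rw [← hC, ← hF] at hw
      rw [hy]
      exact ((show Commute w z from congrArg Subtype.val (hzc ⟨w, hw⟩).eq).symm).pow_left _
    -- `C` normalises `⟨y⟩`
    have hnorm : C ≤ Subgroup.normalizer (Subgroup.zpowers y : Set G) := by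
      intro g hg
      rw [hC] at hg
      refine mem_norm_of_conj fun w hw => ?_
      obtain ⟨m, rfl⟩ := Subgroup.mem_zpowers_iff.1 hw
      rw [← conj_zpow]
      refine zpow_mem ?_ m
      have hc' : ∀ w ∈ fq q (Subgroup.centralizer ({t} : Set G)), Commute (g * y * g⁻¹) w := fun w hw => by
        have h1 := conj_fq c.prime (inv_mem hg) hw
        rw [inv_inv] at h1
        have h2 := (Commute.conj_iff g).2 (hyc _ h1)
        rwa [show g * (g⁻¹ * w * g) * g⁻¹ = w by group] at h2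
      haveI := c.facts.T_cyclic
      have h1 := mem_zpowers_of_orderOf_eq_cyclic (C := ↥T) (a := ⟨y, (c.central_mem hyF hyc).1⟩)
        (b := ⟨_, (c.central_mem (conj_fq c.prime hg hyF) hc').1⟩) (by
          rw [Subgroup.orderOf_mk, Subgroup.orderOf_mk, show g * y * g⁻¹ = MulAut.conj g y by simp,
            MulEquiv.orderOf_eq])
      obtain ⟨l, hl⟩ := Subgroup.mem_zpowers_iff.1 h1
      exact ⟨l, by simpa using congrArg Subtype.val hl⟩
    obtain ⟨g, rfl⟩ := QuotientGroup.mk_surjective X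
    have hgC : g ∉ C := fun h => hX (QuotientGroup.eq.2 (by rw [mul_one]; exact inv_mem h))
    have hfixy : g⁻¹ * y * g ∈ C := by
      have h1 : (⟨z, hzF⟩ : ↥F) ^ q ^ i • (QuotientGroup.mk g : G ⧸ C) = QuotientGroup.mk g :=
        MulAction.mem_stabilizer_iff.1 (hS ▸ hyS)
      have h2 := QuotientGroup.eq.1 (show (QuotientGroup.mk g : G ⧸ C) =
        QuotientGroup.mk ((((⟨z, hzF⟩ : ↥F) ^ q ^ i : ↥F) : G) * g) from h1.symm)
      rwa [SubgroupClass.coe_pow, ← mul_assoc, ← hy] at h2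
    rw [hC] at hfixy hgC
    obtain ⟨t', ht'⟩ : ∃ t', t' = g * t * g⁻¹ := ⟨_, rfl⟩
    have hcy : Commute t' y := by
      have h1 := (Commute.conj_iff g).2 (show Commute t (g⁻¹ * y * g) from
        (Subgroup.mem_centralizer_singleton_iff.1 hfixy).symm)
      rwa [← ht', show g * (g⁻¹ * y * g) * g⁻¹ = y by group] at h1
    have hle := c.hyp.mc.normalizer_eq (by simpa [Subgroup.zpowers_eq_bot] using hy1)
      (Subgroup.zpowers_le.2 (c.hyp.mc.fq_le_core c.prime c.odd hyF)) (hC ▸ hnorm)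
    have ht'C : t' ∈ Subgroup.centralizer ({t} : Set G) := hle.le (Subgroup.centralizer_le_normalizer _
      (Subgroup.mem_centralizer_iff.2 fun w hw => by
        obtain ⟨m, rfl⟩ := Subgroup.mem_zpowers_iff.1 hw
        exact (hcy.symm.zpow_left m).eq))
    refine hy1 (c.hyp.np q c.prime c.odd t' ?_ ?_ ?_ (Subgroup.mem_centralizer_singleton_iff.1 ht'C) y hyF hyc hcy)
    · rw [ht', show g * t * g⁻¹ * (g * t * g⁻¹) = g * (t * t) * g⁻¹ by group, c.hyp.mc.sq]
      group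
    · intro h1
      refine c.hyp.mc.ne ?_
      calc t = g⁻¹ * (g * t * g⁻¹) * g := by group
        _ = _ := by rw [← ht', h1]; group
    · intro h1
      refine hgC (Subgroup.mem_centralizer_singleton_iff.2 ?_)
      calc g * t = g * t * g⁻¹ * g := by group
        _ = _ := by rw [← ht', h1]
  rw [← hC]
  haveI : Fintype (MulAction.orbitRel.Quotient ↥F (G ⧸ C)) := Fintype.ofFinite _
  obtain ⟨o1, ho1⟩ : ∃ o : MulAction.orbitRel.Quotient ↥F (G ⧸ C), o = Quotient.mk'' (QuotientGroup.mk 1) := ⟨_, rfl⟩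
  have hfix1 : ∀ f : ↥F, f • (QuotientGroup.mk 1 : G ⧸ C) = QuotientGroup.mk 1 := fun f => by
    show (QuotientGroup.mk ((f : G) * 1) : G ⧸ C) = QuotientGroup.mk 1
    exact QuotientGroup.eq.2 (by simpa using inv_mem (hFC f.2))
  have hc1 : Nat.card (MulAction.orbitRel.Quotient.orbit o1) = 1 := by
    rw [ho1, MulAction.orbitRel.Quotient.orbit_mk]
    rw [show MulAction.orbit ↥F (QuotientGroup.mk 1 : G ⧸ C) = {QuotientGroup.mk 1} from
      Set.eq_singleton_iff_unique_mem.2 ⟨MulAction.mem_orbit_self _, fun x ⟨f, hf⟩ => hf ▸ hfix1 f⟩]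
    simp
  have hrest : q ^ 2 ∣ ∑ o ∈ Finset.univ.erase o1, Nat.card (MulAction.orbitRel.Quotient.orbit o) := by
    refine Finset.dvd_sum fun o ho => ?_
    obtain ⟨X, rfl⟩ := Quotient.mk''_surjective o
    rw [MulAction.orbitRel.Quotient.orbit_mk]
    refine key X fun e => (Finset.mem_erase.1 ho).1 ?_
    rw [e, ho1]
  have htot : C.index = 1 + ∑ o ∈ Finset.univ.erase o1, Nat.card (MulAction.orbitRel.Quotient.orbit o) := by
    rw [← hc1, Finset.add_sum_erase _ (fun o => Nat.card (MulAction.orbitRel.Quotient.orbit o)) (Finset.mem_univ o1),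
      ← Nat.card_sigma, Subgroup.index_eq_card]
    exact Nat.card_congr (MulAction.selfEquivSigmaOrbits' ↥F (G ⧸ C))
  obtain ⟨m, hm⟩ := hrest
  rw [htot, hm, Nat.add_mul_mod_self_left, Nat.mod_eq_of_lt]
  exact Nat.one_lt_pow two_ne_zero c.prime.one_lt

end Cfsg.Agent.GW
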