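import Cfsg.Agent.Lib.GW.MaxQFormula
import Cfsg.Agent.S0107

/-!
# An involution fixing a part of a core: the order equation and the final arithmetic

With equal indices `r` of the centralisers of all reflections in the core the order formula reads
`x - δ = 2^(k+1) d`, `2J = e² x (x + δ)`, `r = de`.  The bound on `|G : N|` then forces `e = 1`, and the
characteristic power of the layer of `N` would divide `x` or `x + δ`.
-/

set_option autoImplicit false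
set_option linter.unusedSectionVars false
set_option linter.style.haveILetI false

namespace Cfsg.Agent.GW

open Cfsg Cfsg.Agent DihedralGroup

universe u

variable {G : Type u} [Group G] [Finite G] [IsSimpleGroup G]

/-- the order equation with equal indices -/
theorem Frame.order_eq (Φ : Frame G) (hG : ¬ IsMulCommutative G) (hk : 2 ≤ Φ.k) (h : MaxCent Φ.t Φ.O) {r : ℕ}
    (hfix : ∀ i, Nat.card (Subgroup.centralizer ({Φ.t, Φ.refl i} : Set G)) * r = 4 * Nat.card ↥Φ.O) :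
    ∃ (x e d : ℕ) (δ : ℤ), (δ = 1 ∨ δ = -1) ∧ Odd d ∧ r = d * e ∧
      (x : ℤ) - δ = 2 * 2 ^ Φ.k * (d : ℤ) ∧
      2 * ((Subgroup.centralizer ({Φ.t} : Set G)).index : ℤ) = (e : ℤ) ^ 2 * x * ((x : ℤ) + δ) := by
  haveI := perfect_of_simple hG
  have hconj : ∀ i, IsConj Φ.t (Φ.refl i) := fun i => isConj_iff.2
    (S0107.result Φ.S Φ.k hk ⟨Φ.ι.symm⟩ pResidual_perfect Φ.t (Φ.refl i) Φ.t_order (Φ.refl_order i))
  have hidx : ∀ i, Nat.card ↥(Φ.O ⊓ Subgroup.centralizer ({Φ.refl i} : Set G)) * r = Nat.card ↥Φ.O := fun i => by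
    have h1 := hfix i
    rw [Φ.card_cent_refl i, mul_assoc] at h1
    exact Nat.eq_of_mul_eq_mul_left (by norm_num) h1
  have hrodd : Odd r := Φ.O_odd.of_dvd_nat ⟨_, (mul_comm r _).trans (hidx 0) |>.symm⟩
  obtain ⟨x, d₀, δ, hδ, -, -, hdo, hdiv, hd, hJ, -⟩ := Φ.order_two_indices_of_conj hk hconj (hidx 0) (hidx 1)
  have hdr : d₀ ∣ r + r := odd_dvd_of_formula hdo hd
  rw [← two_mul] at hdr
  obtain ⟨d, hd'⟩ := (Nat.coprime_two_right.2 hdo).dvd_of_dvd_mul_left hdr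
  subst hd'
  refine ⟨x, d₀, d, δ, hδ, hrodd.of_dvd_nat (dvd_mul_left d d₀), mul_comm _ _, ?_, hJ⟩
  refine mul_left_cancel₀ (show (d₀ : ℤ) ≠ 0 from Int.natCast_ne_zero.2 hdo.pos.ne') ?_
  rw [hd]
  push_cast
  ring

private theorem delta_bound {X r Δ ε : ℤ} (hX : 24 ≤ X) (hε : ε = 1 ∨ ε = -1) (hr : r = X + ε)
    (h : r * (r + ε) ≤ 2 * Δ) : 3 * X ^ 2 ≤ 8 * Δ := by
  have h0 : 24 * X ≤ X ^ 2 := by rw [pow_two]; exact mul_le_mul_of_nonneg_right hX (by linarith)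
  subst hr
  rcases hε with rfl | rfl <;> linarith

private theorem count_bound {m n Δ J : ℤ} (hm : 3 ≤ m) (hΔ : 0 < Δ) (hc : 1 + (m - 1) * Δ ≤ n)
    (hn : n * Δ = J * m) : 2 * Δ ^ 2 ≤ 3 * J := by
  have h3 : 2 * m * Δ ≤ 3 * n := by
    have := mul_le_mul_of_nonneg_right hm hΔ.le
    linarith
  have h4 : m * (2 * Δ ^ 2) ≤ m * (3 * J) := by
    have := mul_le_mul_of_nonneg_right h3 hΔ.le
    rw [mul_assoc 3 n Δ, hn] at this
    linarith
  exact le_of_mul_le_mul_left h4 (by linarith)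

private theorem order_bound {D x J e δ : ℤ} (hD : 72 ≤ D) (hδ : δ = 1 ∨ δ = -1) (hx : x = D + δ)
    (hJ : 2 * J = e ^ 2 * x * (x + δ)) : 20 * (2 * J) ≤ 21 * (e * D) ^ 2 := by
  have h4 : x * (x + δ) * 20 ≤ 21 * D ^ 2 := by
    have h0 : 72 * D ≤ D ^ 2 := by rw [pow_two]; exact mul_le_mul_of_nonneg_right hD (by linarith)
    subst hx
    rcases hδ with rfl | rfl <;> linarith
  have := mul_le_mul_of_nonneg_left h4 (sq_nonneg e)
  rw [hJ, mul_pow]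
  linarith

set_option maxHeartbeats 800000 in
-- many elementary bounds in one statement
/-- **the arithmetic contradiction** -/
theorem q_case_false {q k l T' J Δ n p f x e d : ℕ} {δ ε : ℤ} (hq : q.Prime) (hq2 : q ≠ 2) (hk : 2 ≤ k)
    (hl : Odd l) (hlq : l ≤ q) (hT : Odd T') (hJ : J % q ^ 2 = 1)
    (hδ : δ = 1 ∨ δ = -1) (hr : d * e = q * l * (q * T')) (hd : Odd d) (hx : (x : ℤ) - δ = 2 * 2 ^ k * (d : ℤ))
    (hJx : 2 * (J : ℤ) = (e : ℤ) ^ 2 * x * ((x : ℤ) + δ))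
    (hp : p.Prime) (hp2 : p ≠ 2) (hε : ε = 1 ∨ ε = -1)
    (hpf : ((p ^ f : ℕ) : ℤ) - ε = 2 * 2 ^ k * ((q * T' : ℕ) : ℤ))
    (hΔ : ((p ^ f : ℕ) : ℤ) * (((p ^ f : ℕ) : ℤ) + ε) ∣ 2 * (Δ : ℤ))
    (hn : n * Δ = J * (q * l)) (hcount : 1 + (q * l - 1) * Δ ≤ n) : False := by
  have hq3 : 3 ≤ q := by have := hq.two_le; omega
  have hqP : Prime (q : ℤ) := Nat.prime_iff_prime_int.1 hq
  have hpP : Prime (p : ℤ) := Nat.prime_iff_prime_int.1 hp
  have hδ2 : δ * δ = 1 := by rcases hδ with rfl | rfl <;> norm_num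
  have hε2 : ε * ε = 1 := by rcases hε with rfl | rfl <;> norm_num
  have hJ0 : 0 < J := Nat.pos_of_ne_zero fun h0 => by rw [h0, Nat.zero_mod] at hJ; omega
  have hq2J : ((q ^ 2 : ℕ) : ℤ) ∣ (J : ℤ) - 1 := by
    refine ⟨((J / q ^ 2 : ℕ) : ℤ), ?_⟩
    have h1 := Nat.div_add_mod J (q ^ 2)
    rw [hJ] at h1
    have h2 : ((q ^ 2 * (J / q ^ 2) + 1 : ℕ) : ℤ) = (J : ℤ) := by rw [h1]
    push_cast at h2 ⊢
    linarith
  -- `q` does not divide `e`
  have hqe : ¬ q ∣ e := by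
    intro hqe
    have h1 : (q : ℤ) ∣ 2 * (J : ℤ) := by
      rw [hJx, mul_assoc]
      exact dvd_mul_of_dvd_left (dvd_pow (Int.natCast_dvd_natCast.2 hqe) two_ne_zero) _
    rcases hqP.dvd_or_dvd h1 with h' | h'
    · exact hq2 ((Nat.prime_dvd_prime_iff_eq hq Nat.prime_two).1 (Int.natCast_dvd_natCast.1 h'))
    · have h2 : (q : ℤ) ∣ (J : ℤ) - 1 := dvd_trans (by push_cast; exact dvd_pow_self _ two_ne_zero) hq2J
      have h3 := dvd_sub h' h2
      rw [sub_sub_cancel] at h3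
      exact hqP.not_dvd_one h3
  have hqd : q ^ 2 ∣ d := (Nat.Coprime.pow_left 2 (hq.coprime_iff_not_dvd.2 hqe)).dvd_of_dvd_mul_right
    ⟨l * T', by rw [hr]; ring⟩
  -- `X`, `D`
  obtain ⟨X, hX⟩ : ∃ X : ℤ, X = 2 * 2 ^ k * ((q * T' : ℕ) : ℤ) := ⟨_, rfl⟩
  obtain ⟨r₀, hr₀⟩ : ∃ r₀ : ℤ, r₀ = ((p ^ f : ℕ) : ℤ) := ⟨_, rfl⟩
  rw [← hr₀, ← hX] at hpf
  rw [← hr₀] at hΔ
  have hr₀X : r₀ = X + ε := by linarith
  have h4k : (4 : ℤ) ≤ 2 ^ k := by
    calc (4 : ℤ) = 2 ^ 2 := by norm_num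
      _ ≤ 2 ^ k := pow_le_pow_right₀ (by norm_num) hk
  have hX8 : 8 * ((q : ℤ) * T') ≤ X := by
    rw [hX]
    push_cast
    have : (0 : ℤ) ≤ (q : ℤ) * T' := by positivity
    nlinarith
  have hT1 : (1 : ℤ) ≤ (T' : ℤ) := by exact_mod_cast hT.pos
  have hq3' : (3 : ℤ) ≤ (q : ℤ) := by exact_mod_cast hq3
  have hl1 : (1 : ℤ) ≤ (l : ℤ) := by exact_mod_cast hl.pos
  have hlq' : (l : ℤ) ≤ (q : ℤ) := by exact_mod_cast hlq
  have hX24 : 24 ≤ X := by nlinarith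
  obtain ⟨D, hD⟩ : ∃ D : ℤ, D = 2 * 2 ^ k * (d : ℤ) := ⟨_, rfl⟩
  rw [← hD] at hx
  have hD72 : 72 ≤ D := by
    have hd9 : (9 : ℤ) ≤ (d : ℤ) := by
      have := Nat.le_of_dvd hd.pos hqd
      have h9 : 9 ≤ q ^ 2 := by nlinarith
      exact_mod_cast h9.trans this
    rw [hD]
    nlinarith
  have hxD : (x : ℤ) = D + δ := by linarith
  -- the bounds
  have hΔ0 : 0 < Δ := Nat.pos_of_ne_zero fun h0 => by
    rw [h0, mul_zero] at hn
    rcases Nat.mul_eq_zero.1 hn.symm with h1 | h1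
    · omega
    · rcases Nat.mul_eq_zero.1 h1 with h2 | h2
      · exact hq.pos.ne' h2
      · exact hl.pos.ne' h2
  have h1 : 3 * X ^ 2 ≤ 8 * (Δ : ℤ) :=
    delta_bound hX24 hε hr₀X (Int.le_of_dvd (mul_pos two_pos (Int.natCast_pos.2 hΔ0)) hΔ)
  have h2 : 2 * (Δ : ℤ) ^ 2 ≤ 3 * (J : ℤ) := by
    have hql : 3 ≤ q * l := le_trans hq3 (Nat.le_mul_of_pos_right q hl.pos)
    have hc : (1 : ℤ) + (((q * l : ℕ) : ℤ) - 1) * (Δ : ℤ) ≤ (n : ℤ) := by
      rw [← Nat.cast_one, ← Nat.cast_sub (by omega)]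
      exact_mod_cast hcount
    have hn' : (n : ℤ) * (Δ : ℤ) = (J : ℤ) * ((q * l : ℕ) : ℤ) := by exact_mod_cast hn
    obtain ⟨m, hm⟩ : ∃ m : ℤ, m = ((q * l : ℕ) : ℤ) := ⟨_, rfl⟩
    rw [← hm] at hc hn'
    have hm3 : (3 : ℤ) ≤ m := by rw [hm]; exact_mod_cast hql
    have hΔ' : (0 : ℤ) < (Δ : ℤ) := by exact_mod_cast hΔ0
    exact count_bound hm3 hΔ' hc hn'
  have h3 : 10 * (J : ℤ) ≤ 21 * (2 ^ k) ^ 2 * ((q : ℤ) * l * ((q : ℤ) * T')) ^ 2 := by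
    have hr' : (d : ℤ) * (e : ℤ) = (q : ℤ) * l * ((q : ℤ) * T') := by exact_mod_cast hr
    have h5 := order_bound hD72 hδ hxD hJx
    rw [← hr']
    have h6 : ((e : ℤ) * D) ^ 2 = 4 * (2 ^ k) ^ 2 * ((d : ℤ) * e) ^ 2 := by rw [hD]; ring
    linarith
  have h5X : 5 * X ^ 2 ≤ 28 * ((q : ℤ) * l) ^ 2 := by
    have h4 : 4 * ((2 : ℤ) ^ k) ^ 2 * ((q : ℤ) * l * ((q : ℤ) * T')) ^ 2 = X ^ 2 * ((q : ℤ) * l) ^ 2 := by
      rw [hX]
      push_cast
      ring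
    have hA : 9 * (X ^ 2) ^ 2 ≤ 96 * (J : ℤ) := by
      have := pow_le_pow_left₀ (show (0 : ℤ) ≤ 3 * X ^ 2 from mul_nonneg (by norm_num) (sq_nonneg X)) h1 2
      rw [mul_pow, mul_pow] at this
      linarith
    have hB : 40 * (J : ℤ) ≤ 21 * (X ^ 2 * ((q : ℤ) * l) ^ 2) := by rw [← h4]; linarith
    have hX2 : 0 < X ^ 2 := pow_pos (by linarith) 2
    have hmul : X ^ 2 * (5 * X ^ 2) ≤ X ^ 2 * (28 * ((q : ℤ) * l) ^ 2) := by
      rw [show X ^ 2 * (5 * X ^ 2) = 5 * (X ^ 2) ^ 2 by ring,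
        show X ^ 2 * (28 * ((q : ℤ) * l) ^ 2) = 28 * (X ^ 2 * ((q : ℤ) * l) ^ 2) by ring]
      linarith
    exact le_of_mul_le_mul_left hmul hX2
  have h8T : 8 * (T' : ℤ) < 3 * (l : ℤ) := by
    by_contra hcon
    rw [not_lt] at hcon
    have h6 : 3 * ((q : ℤ) * l) ≤ X := by
      have := mul_le_mul_of_nonneg_left hcon (show (0 : ℤ) ≤ (q : ℤ) by linarith)
      linarith
    have hpos : (0 : ℤ) < (q : ℤ) * l := mul_pos (by linarith) (by linarith)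
    have h7 : (3 * ((q : ℤ) * l)) ^ 2 ≤ X ^ 2 := pow_le_pow_left₀ (by linarith) h6 2
    have h8 : 0 < ((q : ℤ) * l) ^ 2 := pow_pos hpos 2
    rw [mul_pow] at h7
    linarith
  -- `e = 1`
  have he1 : e = 1 := by
    have hele : (e : ℤ) ≤ (l : ℤ) * T' := by
      have hdvd : e ∣ l * T' :=
        (Nat.Coprime.pow_right 2 (hq.coprime_iff_not_dvd.2 hqe).symm).dvd_of_dvd_mul_left
          ⟨d, by rw [mul_comm e d, hr]; ring⟩
      exact_mod_cast Nat.le_of_dvd (mul_pos hl.pos hT.pos) hdvd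
    have hsmall : 8 * (e : ℤ) < 3 * (q : ℤ) ^ 2 := by
      have h11 := mul_lt_mul_of_pos_left h8T (show (0 : ℤ) < (l : ℤ) by linarith)
      have h12 := mul_le_mul hlq' hlq' (by linarith) (by linarith)
      rw [pow_two]
      linarith
    have hdvd : ((q : ℤ)) ^ 2 ∣ ((e : ℤ) - 1) * ((e : ℤ) + 1) := by
      obtain ⟨c, hc⟩ := hqd
      obtain ⟨a, ha⟩ := hq2J
      have hD' : D = (q : ℤ) ^ 2 * (2 * 2 ^ k * c) := by rw [hD, hc]; push_cast; ring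
      push_cast at ha
      refine IsCoprime.dvd_of_dvd_mul_left (y := (2 : ℤ)) ?_
        ⟨2 * a - (e : ℤ) ^ 2 * (2 * 2 ^ k * c) * (D + 3 * δ), ?_⟩
      · refine IsCoprime.pow_left (Int.isCoprime_iff_nat_coprime.2 ?_)
        exact (Nat.coprime_primes hq Nat.prime_two).2 hq2
      · have hJ' : 2 * (J : ℤ) = (e : ℤ) ^ 2 * (D + δ) * (D + δ + δ) := by rw [hJx, hxD]
        linear_combination (norm := ring_nf) 2 * ha - hJ' - 2 * (e : ℤ) ^ 2 * hδ2 - (e : ℤ) ^ 2 * (D + 3 * δ) * hD'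
    have he0 : 0 < e := Nat.pos_of_ne_zero fun h0 => hqe (h0 ▸ dvd_zero q)
    by_cases hm : (q : ℤ) ∣ (e : ℤ) - 1
    · have hne : ¬ (q : ℤ) ∣ (e : ℤ) + 1 := fun hp' => by
        have := dvd_sub hp' hm
        rw [show (e : ℤ) + 1 - ((e : ℤ) - 1) = ((2 : ℕ) : ℤ) by norm_num] at this
        exact hq2 ((Nat.prime_dvd_prime_iff_eq hq Nat.prime_two).1 (Int.natCast_dvd_natCast.1 this))
      have h9 := hqP.pow_dvd_of_dvd_mul_right 2 hne hdvd
      by_contra he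
      have he2 : (2 : ℤ) ≤ (e : ℤ) := by exact_mod_cast (show 2 ≤ e by omega)
      have := Int.le_of_dvd (by linarith) h9
      linarith [sq_nonneg (q : ℤ)]
    · have h9 := hqP.pow_dvd_of_dvd_mul_left 2 hm hdvd
      have := Int.le_of_dvd (by positivity) h9
      have h13 : (9 : ℤ) ≤ (q : ℤ) ^ 2 := by
        rw [pow_two]
        exact le_trans (by norm_num) (mul_le_mul hq3' hq3' (by norm_num) (by linarith))
      linarith
  subst he1
  rw [mul_one] at hr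
  rw [Nat.cast_one, one_pow, one_mul] at hJx
  -- `r₀` divides `x` or `x + δ`
  have hfpos : f ≠ 0 := fun h0 => by
    rw [h0, pow_zero, Nat.cast_one] at hr₀
    rcases hε with rfl | rfl <;> linarith
  have hpr : (p : ℤ) ∣ r₀ := by rw [hr₀]; push_cast; exact dvd_pow_self _ hfpos
  have hpq : p ≠ q := by
    rintro rfl
    have hpX : (p : ℤ) ∣ X := by rw [hX]; push_cast; exact dvd_mul_of_dvd_right (dvd_mul_right _ _) _
    have h4 := dvd_sub hpr hpX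
    rw [hr₀X, add_sub_cancel_left] at h4
    exact hpP.not_dvd_one (h4.trans ⟨ε, hε2.symm⟩)
  have hrΔ : r₀ ∣ (Δ : ℤ) := by
    refine IsCoprime.dvd_of_dvd_mul_left (y := (2 : ℤ)) ?_ (dvd_trans (dvd_mul_right _ _) hΔ)
    rw [hr₀]
    exact Int.isCoprime_iff_nat_coprime.2 (Nat.Coprime.pow_left f ((Nat.coprime_primes hp Nat.prime_two).2 hp2))
  have hrJ0 : p ^ f ∣ J * (q * l) := by
    rw [← hn]
    exact dvd_mul_of_dvd_right (Int.natCast_dvd_natCast.1 (hr₀ ▸ hrΔ)) n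
  have hrJl : p ^ f ∣ J * l := by
    refine (Nat.Coprime.pow_left f ((Nat.coprime_primes hp hq).2 hpq)).dvd_of_dvd_mul_left (m := q) ?_
    rwa [show q * (J * l) = J * (q * l) by ring]
  have hpl : ¬ p ∣ l := by
    intro hpl
    have hpd : p ∣ d := hr ▸ dvd_mul_of_dvd_left (dvd_mul_of_dvd_right hpl q) _
    have hpJ : ¬ p ∣ J := by
      intro hpJ
      have hD' : (p : ℤ) ∣ D := by rw [hD]; exact dvd_mul_of_dvd_right (Int.natCast_dvd_natCast.2 hpd) _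
      have h4 : (p : ℤ) ∣ 2 * (J : ℤ) - D * (D + 3 * δ) :=
        dvd_sub (dvd_mul_of_dvd_right (Int.natCast_dvd_natCast.2 hpJ) 2) (dvd_mul_of_dvd_left hD' _)
      rw [show 2 * (J : ℤ) - D * (D + 3 * δ) = ((2 : ℕ) : ℤ) by
        rw [hJx, hxD]; push_cast; linear_combination 2 * hδ2] at h4
      exact hp2 ((Nat.prime_dvd_prime_iff_eq hp Nat.prime_two).1 (Int.natCast_dvd_natCast.1 h4))
    have h5 := Nat.le_of_dvd hl.pos ((Nat.Coprime.pow_left f (hp.coprime_iff_not_dvd.2 hpJ)).dvd_of_dvd_mul_left hrJl)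
    have h6 : r₀ ≤ (l : ℤ) := by rw [hr₀]; exact_mod_cast h5
    have hqT : (q : ℤ) ≤ (q : ℤ) * T' := le_mul_of_one_le_right (by linarith) hT1
    rcases hε with rfl | rfl <;> linarith
  have hrxx : r₀ ∣ (x : ℤ) * ((x : ℤ) + δ) := by
    have h4 : p ^ f ∣ J := (Nat.Coprime.pow_left f (hp.coprime_iff_not_dvd.2 hpl)).dvd_of_dvd_mul_right hrJl
    rw [← hJx, hr₀]
    exact dvd_mul_of_dvd_right (Int.natCast_dvd_natCast.2 h4) 2
  obtain ⟨c, hc, hcd⟩ : ∃ c : ℤ, (c = 1 ∨ c = 2) ∧ r₀ ∣ D + c * δ := by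
    rw [hr₀] at hrxx ⊢
    push_cast at hrxx ⊢
    by_cases hpx : (p : ℤ) ∣ (x : ℤ)
    · refine ⟨1, Or.inl rfl, ?_⟩
      rw [one_mul, ← hxD]
      refine hpP.pow_dvd_of_dvd_mul_right f (fun hpy => ?_) hrxx
      have h4 := dvd_sub hpy hpx
      rw [add_sub_cancel_left] at h4
      exact hpP.not_dvd_one (h4.trans ⟨δ, hδ2.symm⟩)
    · refine ⟨2, Or.inr rfl, ?_⟩
      rw [show D + 2 * δ = (x : ℤ) + δ by rw [hxD]; ring]
      exact hpP.pow_dvd_of_dvd_mul_left f hpx hrxx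
  have hDX : D = (q : ℤ) * l * X := by rw [hD, hX, hr]; push_cast; ring
  obtain ⟨i, hi⟩ : r₀ ∣ c * δ - ε * ((q : ℤ) * l) := by
    have h4 := dvd_sub hcd (dvd_mul_right r₀ ((q : ℤ) * l))
    rwa [show D + c * δ - r₀ * ((q : ℤ) * l) = c * δ - ε * ((q : ℤ) * l) by rw [hDX, hr₀X]; ring] at h4
  have hqdi : (q : ℤ) ∣ i - ε * c * δ := by
    refine ⟨-(l : ℤ) - ε * (2 * 2 ^ k * (T' : ℤ)) * i, ?_⟩
    rw [hr₀X, hX] at hi
    push_cast at hi
    linear_combination -ε * hi - (i + (q : ℤ) * l) * hε2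
  have habs : -(q : ℤ) + 3 ≤ i ∧ i ≤ (q : ℤ) - 3 := by
    have hqT : (q : ℤ) ≤ (q : ℤ) * T' := le_mul_of_one_le_right (by linarith) hT1
    have hr0 : 8 * (q : ℤ) - 1 ≤ r₀ := by rw [hr₀X]; rcases hε with rfl | rfl <;> linarith
    have hql : (q : ℤ) * l ≤ (q : ℤ) * q := mul_le_mul_of_nonneg_left hlq' (by linarith)
    have hql0 : (0 : ℤ) ≤ (q : ℤ) * l := by positivity
    have hlo : (q : ℤ) * q + 3 ≤ (8 * (q : ℤ) - 1) * ((q : ℤ) - 2) := by nlinarith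
    have hup : c * δ - ε * ((q : ℤ) * l) ≤ (q : ℤ) * q + 2 ∧ -((q : ℤ) * q + 2) ≤ c * δ - ε * ((q : ℤ) * l) := by
      rcases hc with rfl | rfl <;> rcases hδ with rfl | rfl <;> rcases hε with rfl | rfl <;>
        constructor <;> linarith
    constructor <;> by_contra hcon <;> rw [not_le] at hcon
    · have := mul_le_mul hr0 (show (q : ℤ) - 2 ≤ -i by linarith) (by linarith) (by linarith)
      rw [mul_neg] at this
      linarith [hup.2]
    · have := mul_le_mul hr0 (show (q : ℤ) - 2 ≤ i by linarith) (by linarith) (by linarith)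
      linarith [hup.1]
  have hie : i = ε * c * δ := by
    refine sub_eq_zero.1 (Int.eq_zero_of_abs_lt_dvd hqdi ?_)
    rw [abs_lt]
    rcases hc with rfl | rfl <;> rcases hδ with rfl | rfl <;> rcases hε with rfl | rfl <;>
      exact ⟨by linarith [habs.1, habs.2], by linarith [habs.1, habs.2]⟩
  have hpar : c * δ * X = -((q : ℤ) * l) := by
    rw [hr₀X, hie] at hi
    linear_combination -ε * hi - ((q : ℤ) * l + c * δ * ε + c * δ * X) * hε2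
  have hev : (2 : ℤ) ∣ (q : ℤ) * l := by
    rw [← dvd_neg, ← hpar, hX]
    exact dvd_mul_of_dvd_right (dvd_mul_of_dvd_left (dvd_mul_right _ _) _) _
  exact Nat.not_even_iff_odd.2 ((hq.odd_of_ne_two hq2).mul hl)
    (even_iff_two_dvd.2 (Int.natCast_dvd_natCast.1 (by push_cast; exact hev)))

end Cfsg.Agent.GW
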