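import Cfsg.Agent.Lib.GW.MaxQShape
import Cfsg.Agent.Lib.GW.MaxQCount
import Cfsg.Agent.Lib.GW.MaxQOrder
import Cfsg.Agent.Lib.GW.MaxControl
import Cfsg.Agent.Lib.GW.MaxNoLayer

/-!
# A maximal centraliser, at least eight in the Sylow subgroup: the reflections fix nothing of the odd cores

If a reflection fixes a part of `O_q(C(t))`, either some reflection fixes an element of the second centre, and the order
formula contradicts the count of the cosets of `N`, or none does and `linear_case` applies.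
-/

set_option autoImplicit false
set_option linter.unusedSectionVars false
set_option linter.style.haveILetI false

namespace Cfsg.Agent.GW

open Cfsg Cfsg.Agent DihedralGroup

universe w

variable {G : Type w} [Group G] [Finite G]

/-- a noncentral involution of `C(t)` is conjugate in `C(t)` to a reflection -/
theorem Frame.exists_conj_refl (Φ : Frame G) {z : G} (hzz : z * z = 1) (hz1 : z ≠ 1) (hzt : z ≠ Φ.t)
    (hc : Commute z Φ.t) : ∃ c ∈ Subgroup.centralizer ({Φ.t} : Set G), ∃ i, c * z * c⁻¹ = Φ.refl i := by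
  haveI : Fact (Nat.Prime 2) := ⟨Nat.prime_two⟩
  haveI : NeZero (2 ^ Φ.k) := ⟨by positivity⟩
  set C := Subgroup.centralizer ({Φ.t} : Set G) with hC
  have hzC : z ∈ C := Subgroup.mem_centralizer_singleton_iff.2 hc.eq
  obtain ⟨Q, hQ⟩ := (IsPGroup.of_card (p := 2) (n := 1) (G := Subgroup.zpowers (⟨z, hzC⟩ : C))
    (by rw [Nat.card_zpowers, Subgroup.orderOf_mk, orderOf_eq_prime (by rw [pow_two, hzz]) hz1, pow_one])).exists_le_sylow
  obtain ⟨c, hcQ⟩ := MulAction.exists_smul_eq C Q (Φ.S.subtype Φ.S_le)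
  have hmem : c * ⟨z, hzC⟩ * c⁻¹ ∈ ((Φ.S.subtype Φ.S_le : Sylow 2 C) : Subgroup C) := by
    rw [← hcQ, Sylow.coe_subgroup_smul]
    exact ⟨_, hQ (Subgroup.mem_zpowers _), rfl⟩
  have hS : (c : G) * z * (c : G)⁻¹ ∈ (Φ.S : Subgroup G) := Subgroup.mem_subgroupOf.1 hmem
  rw [← Φ.hom_range] at hS
  obtain ⟨e, he⟩ := hS
  refine ⟨(c : G), c.2, ?_⟩
  have hct : (c : G)⁻¹ * Φ.t * (c : G) = Φ.t := by
    rw [mul_assoc, ← Subgroup.mem_centralizer_singleton_iff.1 c.2, inv_mul_cancel_left]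
  have he2 : e * e = 1 := Φ.hom_inj (by rw [map_mul, he, map_one, conj_mul, hzz, mul_one, mul_inv_cancel])
  rcases e with j | i
  · exfalso
    rw [r_mul_r, DihedralGroup.one_def] at he2
    have hz : z = (c : G)⁻¹ * Φ.hom (r j) * (c : G) := by rw [he]; group
    rcases Fusion.zmod_double_eq_zero (DihedralGroup.r.inj he2) with rfl | rfl
    · refine hz1 ?_
      rw [hz, ← DihedralGroup.one_def, map_one]
      group
    · exact hzt (by rw [hz, Φ.hom_half, hct])
  · exact ⟨i, he.symm⟩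

variable [IsSimpleGroup G] {Φ : Frame G}

/-- the hypotheses of the case of a fixed part hold -/
theorem MaxCent.qhyp (hG : Minimal G) (h : MaxCent Φ.t Φ.O) (hrot : Rotates Φ.t) (hlay : MaxLayer Φ.t Φ.O) :
    QHyp Φ.t Φ.O where
  nonab := hG.nonab
  kproper := hG.kProper
  mc := h
  rot := hrot
  layer := hlay
  noLayer := hG.noLayer Φ h hrot hlay
  np := fun s hs hs2 z hz hz1 hzt hzc y hy hyc hzy => by
    obtain ⟨c, hcC, i, hci⟩ := Φ.exists_conj_refl hz hz1 hzt hzc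
    by_contra hy1
    refine h.caseP_false hG hrot (hG.noLayer Φ h hrot hlay) i hs hs2 (conj_fq hs hcC hy) (fun x hx => ?_)
      (hci ▸ (Commute.conj_iff c).2 hzy.symm) fun e => hy1 (conj_eq_one_iff.1 e)
    have hx' := conj_fq hs (inv_mem hcC) hx
    have h1 := (Commute.conj_iff c).2 (hyc _ hx')
    rwa [show c * (c⁻¹ * x * c⁻¹⁻¹) * c⁻¹ = x by group] at h1

variable {q : ℕ} {u v : G} {N T : Subgroup G} {d : G}

set_option quotPrecheck false in
local notation "Fz" => fq q (Subgroup.centralizer ({Φ.t} : Set G))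

/-- **no reflection fixes an element of the second centre** -/
theorem QCfg.second_false (hG : Minimal G) (c : QCfg Φ.t u Φ.O q N v T) (hk : 2 ≤ Φ.k) (i : ZMod (2 ^ Φ.k))
    (hu : Φ.refl i = u) (hd : d ∈ Fz ⊓ layCent N) (hdq : orderOf d = q) (hdz : d ∈ z2 Fz) : False := by
  haveI := Fact.mk c.prime
  have hS := c.sylow_le_lay hG hk i hu hd hdq hdz
  obtain ⟨l, hl, hlq, hm⟩ := c.relIndex_core_eq hd hdq hdz
  -- the torus
  obtain ⟨T', hT'⟩ : q ∣ Nat.card ↥T := (c.exists_model hG hk).1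
  have hTodd : Odd T' := by
    have h1 : Odd (Nat.card ↥T) :=
      c.hyp.mc.core_odd.of_dvd_nat (Subgroup.card_dvd_of_le (c.facts.T_le.trans inf_le_right))
    rw [hT'] at h1
    exact (Nat.odd_mul.1 h1).2
  -- the order formula
  have hfix : ∀ j, Nat.card (Subgroup.centralizer ({Φ.t, Φ.refl j} : Set G)) * (q * l * (q * T')) =
      4 * Nat.card ↥Φ.O := fun j => by
    rw [← Φ.card_cent_pair_mul j, c.card_inverted_refl hS j, hm, hT']
    ring
  obtain ⟨x, e, d₁, δ, hδ, hd₁, hr, hx, hJx⟩ := Φ.order_eq hG.nonab hk c.hyp.mc hfix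
  obtain ⟨p, f, ε, hp, hp2, hε, hpf, hΔ⟩ := c.inner_case hG Φ hk hS
  rw [hT'] at hpf
  -- the cosets
  have hM : (N ⊓ Subgroup.centralizer ({Φ.t} : Set G)).relIndex (Subgroup.centralizer ({Φ.t} : Set G)) =
      (N ⊓ Φ.O).relIndex Φ.O := by
    rw [Subgroup.relIndex, Subgroup.relIndex, Subgroup.index_eq_card, Subgroup.index_eq_card]
    refine (Nat.card_congr (Equiv.ofBijective (Quotient.map'
      (fun a : ↥Φ.O => (⟨a, c.hyp.mc.core_le a.2⟩ : ↥(Subgroup.centralizer ({Φ.t} : Set G))))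
      fun a b hab => ?_) ⟨?_, ?_⟩)).symm
    · rw [QuotientGroup.leftRel_apply, Subgroup.mem_subgroupOf] at hab ⊢
      exact ⟨hab.1, c.hyp.mc.core_le hab.2⟩
    · intro A B h
      obtain ⟨a, rfl⟩ := QuotientGroup.mk_surjective A
      obtain ⟨b, rfl⟩ := QuotientGroup.mk_surjective B
      refine QuotientGroup.eq.2 (Subgroup.mem_subgroupOf.2 ⟨?_, (a⁻¹ * b : ↥Φ.O).2⟩)
      exact (Subgroup.mem_subgroupOf.1 (QuotientGroup.eq.1 h)).1
    · intro A
      obtain ⟨g, rfl⟩ := QuotientGroup.mk_surjective A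
      obtain ⟨a, ha, b, hb, e⟩ := Φ.decomp_exists g.2
      refine ⟨QuotientGroup.mk (⟨a, ha⟩ : ↥Φ.O), QuotientGroup.eq.2 (Subgroup.mem_subgroupOf.2 ?_)⟩
      show a⁻¹ * (g : G) ∈ N ⊓ Subgroup.centralizer ({Φ.t} : Set G)
      rw [e, inv_mul_cancel_left]
      exact ⟨lay_le N (hS hb), Φ.S_le hb⟩
  have h1 := Subgroup.relIndex_mul_index (H := N ⊓ Subgroup.centralizer ({Φ.t} : Set G)) inf_le_left
  have h2 := Subgroup.relIndex_mul_index (H := N ⊓ Subgroup.centralizer ({Φ.t} : Set G)) inf_le_right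
  rw [hM, hm] at h2
  refine q_case_false c.prime c.odd hk hl hlq hTodd c.index_mod_sq hδ hr.symm hd₁ hx hJx hp hp2 hε hpf hΔ
    (n := N.index) ?_ (hm ▸ c.index_ge hd hdq hdz)
  rw [mul_comm, h1, ← h2, mul_comm]

/-- **the reflections fix nothing of the odd cores** -/
theorem QHyp.regular_eight (hG : Minimal G) (h : QHyp Φ.t Φ.O) (hk : 2 ≤ Φ.k) (i : ZMod (2 ^ Φ.k)) (s : ℕ)
    (hs : s.Prime) (hs2 : s ≠ 2) :
    fq s (Subgroup.centralizer ({Φ.t} : Set G)) ⊓ Subgroup.centralizer ({Φ.refl i} : Set G) = ⊥ := by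
  haveI := Fact.mk hs
  by_contra hD
  by_cases hI : ∃ j, ∃ x ∈ z2 (fq s (Subgroup.centralizer ({Φ.t} : Set G))), Commute x (Φ.refl j) ∧ x ≠ 1
  · obtain ⟨j, x, hx, hxu, hx1⟩ := hI
    obtain ⟨N, v, T, c⟩ := h.exists_qcfg hs hs2 (Φ.uu j) (Φ.refl_ne_one j) (Φ.refl_ne j) (Φ.refl_comm j)
      fun e => hx1 (Subgroup.mem_bot.1 (e ▸ ⟨hx.1, Subgroup.mem_centralizer_singleton_iff.2 hxu.eq⟩))
    obtain ⟨d, hd, hdq, hdall⟩ := c.exists_d1
    exact c.second_false hG hk j rfl hd hdq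
      (Subgroup.zpowers_le.2 hx (hdall x (c.mem_D_of_commute hx.1 hxu) hx1))
  · exact h.linear_case hG Φ hk hs hs2 i hD fun j x hx hxu => by
      by_contra hx1
      exact hI ⟨j, x, hx, hxu, hx1⟩

end Cfsg.Agent.GW
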