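import Cfsg.Agent.Lib.GW.AltInvariant

/-!
# Two classes of four groups of the alternating group of degree seven

`τ`, `a`, `b` as the three involutions of a Sylow two-subgroup and `ξ` of order three centralised by `τ`, `a` and
inverted by `b`: the odd part of the centraliser of `τ` is `⟨ξ⟩`, and an element `n` permuting `τ, b, τ b` carries
`ξ` to elements generating, with their next conjugates, a group that contains `a` or `τ a`.
-/

set_option autoImplicit false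
set_option linter.unusedSectionVars false
set_option linter.style.haveILetI false

namespace Cfsg.Agent.GW.AltSeven

/-- the inverse list -/
def inv7 (l : List Nat) : List Nat := (List.range 7).map fun i => l.idxOf i

/-- the permutation of a list, `1` if there is none -/
def mk7 (l : List Nat) : Equiv.Perm (Fin 7) :=
  if h : (∀ i : Fin 7, Fin.ofNat 7 (l.idxOf (Fin.ofNat 7 (l.getD i.val 0)).val) = i) ∧
      ∀ i : Fin 7, Fin.ofNat 7 (l.getD (Fin.ofNat 7 (l.idxOf i.val)).val 0) = i then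
    ⟨fun i => Fin.ofNat 7 (l.getD i.val 0), fun i => Fin.ofNat 7 (l.idxOf i.val), h.1, h.2⟩
  else 1

/-- the even permutations commuting with `(01)(23)` -/
def evenCent : List (List Nat) := [
  [0, 1, 2, 3, 4, 5, 6], [0, 1, 2, 3, 5, 6, 4], [0, 1, 2, 3, 6, 4, 5], [0, 1, 3, 2, 4, 6, 5],
  [0, 1, 3, 2, 5, 4, 6], [0, 1, 3, 2, 6, 5, 4], [1, 0, 2, 3, 4, 6, 5], [1, 0, 2, 3, 5, 4, 6],
  [1, 0, 2, 3, 6, 5, 4], [1, 0, 3, 2, 4, 5, 6], [1, 0, 3, 2, 5, 6, 4], [1, 0, 3, 2, 6, 4, 5],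
  [2, 3, 0, 1, 4, 5, 6], [2, 3, 0, 1, 5, 6, 4], [2, 3, 0, 1, 6, 4, 5], [2, 3, 1, 0, 4, 6, 5],
  [2, 3, 1, 0, 5, 4, 6], [2, 3, 1, 0, 6, 5, 4], [3, 2, 0, 1, 4, 6, 5], [3, 2, 0, 1, 5, 4, 6],
  [3, 2, 0, 1, 6, 5, 4], [3, 2, 1, 0, 4, 5, 6], [3, 2, 1, 0, 5, 6, 4], [3, 2, 1, 0, 6, 4, 5]]

/-- the odd ones -/
def oddCent : List (List Nat) := [
  [0, 1, 2, 3, 4, 6, 5], [0, 1, 2, 3, 5, 4, 6], [0, 1, 2, 3, 6, 5, 4], [0, 1, 3, 2, 4, 5, 6],
  [0, 1, 3, 2, 5, 6, 4], [0, 1, 3, 2, 6, 4, 5], [1, 0, 2, 3, 4, 5, 6], [1, 0, 2, 3, 5, 6, 4],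
  [1, 0, 2, 3, 6, 4, 5], [1, 0, 3, 2, 4, 6, 5], [1, 0, 3, 2, 5, 4, 6], [1, 0, 3, 2, 6, 5, 4],
  [2, 3, 0, 1, 4, 6, 5], [2, 3, 0, 1, 5, 4, 6], [2, 3, 0, 1, 6, 5, 4], [2, 3, 1, 0, 4, 5, 6],
  [2, 3, 1, 0, 5, 6, 4], [2, 3, 1, 0, 6, 4, 5], [3, 2, 0, 1, 4, 5, 6], [3, 2, 0, 1, 5, 6, 4],
  [3, 2, 0, 1, 6, 4, 5], [3, 2, 1, 0, 4, 6, 5], [3, 2, 1, 0, 5, 4, 6], [3, 2, 1, 0, 6, 5, 4]]

/-- the candidates for the conjugating element -/
def cand : List (List Nat) := [
  [0, 2, 1, 3, 4, 6, 5], [0, 3, 2, 1, 4, 6, 5], [2, 3, 4, 5, 0, 1, 6], [2, 3, 4, 6, 0, 5, 1],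
  [2, 3, 5, 6, 4, 0, 1], [4, 5, 0, 1, 2, 3, 6], [4, 6, 0, 1, 2, 5, 3], [5, 6, 0, 1, 4, 2, 3]]

/-- conjugation of lists -/
def cj (n x : List Nat) : List Nat := comp (comp n x) (inv7 n)

def word (n ξ : List Nat) : List Nat :=
  comp (comp (comp (comp (cj n ξ) (cj n (cj n ξ))) (cj n ξ)) (cj n (cj n ξ))) (cj n ξ)

theorem cent_test : ((perms 7 (List.range 7)).all fun x =>
    !(cm x τ₂) || evenCent.contains x || oddCent.contains x) = true := by decide +kernel

theorem cent_exp : ((evenCent ++ oddCent).all fun y => pw y 48 == List.range 7) = true := by decide +kernel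

theorem odd_test : (oddCent.all fun l => toList (mk7 l) == l && decide (Equiv.Perm.sign (mk7 l) = -1)) = true := by
  decide +kernel

theorem cand_test : (cand.all fun l => toList (mk7 l) == l && toList (mk7 l)⁻¹ == inv7 l &&
    decide (Equiv.Perm.sign (mk7 l) = 1)) = true := by decide +kernel

theorem triple_test : (evenCent.all fun a => evenCent.all fun b => evenCent.all fun ξ =>
    a == List.range 7 || a == τ₂ || !(comp a a == List.range 7) ||
    b == List.range 7 || b == τ₂ || !(comp b b == List.range 7) || !(comp (comp a b) a == comp τ₂ b) ||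
    ξ == List.range 7 || !(pw ξ 3 == List.range 7) || !(cm ξ a) || !(comp (comp b ξ) b == comp ξ ξ) ||
    ((cand.any fun n => cj n τ₂ == a) &&
      (cand.any fun n => cj n τ₂ == b && cj n b == comp τ₂ b && (word n ξ == a || word n ξ == comp τ₂ a)) &&
      ((evenCent ++ oddCent).all fun y => !(pw y 3 == List.range 7) || y == List.range 7 || y == ξ ||
        y == comp ξ ξ))) = true := by
  decide +kernel

theorem ne_of_toList {σ : Equiv.Perm (Fin 7)} (h : σ ≠ 1) : (toList σ == List.range 7) = false := by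
  rw [beq_eq_false_iff_ne, ← toList_one]
  exact fun e => h (toList_injective e)

theorem mem_cent {τ : Equiv.Perm (Fin 7)} (hτ : toList τ = τ₂) {σ : Equiv.Perm (Fin 7)} (hc : Commute σ τ) :
    toList σ ∈ evenCent ++ oddCent ∧ (σ ∈ alternatingGroup (Fin 7) → toList σ ∈ evenCent) := by
  have h := List.all_eq_true.1 cent_test _ (toList_mem σ)
  have hcm : cm (toList σ) τ₂ = true := by rw [← hτ]; exact (cm_iff σ τ).2 hc.eq
  rw [hcm] at h
  simp only [Bool.not_true, Bool.false_or, Bool.or_eq_true, List.contains_iff_mem] at h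
  refine ⟨List.mem_append.2 h, fun hev => h.resolve_right fun ho => ?_⟩
  have h2 := List.all_eq_true.1 odd_test _ ho
  simp only [Bool.and_eq_true, beq_iff_eq, decide_eq_true_eq] at h2
  have he : mk7 (toList σ) = σ := toList_injective h2.1
  rw [he, Equiv.Perm.mem_alternatingGroup.1 hev] at h2
  exact absurd h2.2 (by decide)

/-- The facts, for the representative involution. -/
theorem facts_rep {τ a b ξ : Equiv.Perm (Fin 7)} (hτ : toList τ = τ₂) (haA : a ∈ alternatingGroup (Fin 7))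
    (hbA : b ∈ alternatingGroup (Fin 7)) (hξA : ξ ∈ alternatingGroup (Fin 7)) (ha : a * a = 1) (ha1 : a ≠ 1)
    (hat : a ≠ τ) (hac : Commute a τ) (hb : b * b = 1) (hb1 : b ≠ 1) (hbt : b ≠ τ) (hbc : Commute b τ)
    (hab : a * b * a = τ * b) (hξ1 : ξ ≠ 1) (hξodd : Odd (orderOf ξ)) (hξt : Commute ξ τ) (hξa : Commute ξ a)
    (hξb : b * ξ * b = ξ⁻¹) :
    (∀ y, Odd (orderOf y) → Commute y τ → y = 1 ∨ y = ξ ∨ y = ξ * ξ) ∧
      (∃ n ∈ alternatingGroup (Fin 7), n * τ * n⁻¹ = a) ∧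
      ∃ n ∈ alternatingGroup (Fin 7), n * τ * n⁻¹ = b ∧ n * b * n⁻¹ = τ * b ∧
        ∃ e, e = n * ξ * n⁻¹ * (n * (n * ξ * n⁻¹) * n⁻¹) * (n * ξ * n⁻¹) * (n * (n * ξ * n⁻¹) * n⁻¹) *
          (n * ξ * n⁻¹) ∧ (e = a ∨ e = τ * a) := by
  have cube : ∀ y, Odd (orderOf y) → Commute y τ → y ^ 3 = 1 := by
    intro y hy hc
    have h48 := List.all_eq_true.1 cent_exp _ (mem_cent hτ hc).1
    rw [beq_iff_eq, ← toList_pow, ← toList_one] at h48
    have hd : orderOf y ∣ 2 ^ 4 * 3 := orderOf_dvd_of_pow_eq_one (toList_injective h48)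
    exact orderOf_dvd_iff_pow_eq_one.1 ((Nat.Coprime.pow_right 4 hy.coprime_two_right).dvd_of_dvd_mul_left hd)
  have hξ3 := cube ξ hξodd hξt
  have hξi : ξ⁻¹ = ξ * ξ := inv_eq_of_mul_eq_one_right (by rw [← mul_assoc, ← pow_three', hξ3])
  have h := List.all_eq_true.1 (List.all_eq_true.1 (List.all_eq_true.1 triple_test _ ((mem_cent hτ hac).2 haA)) _
    ((mem_cent hτ hbc).2 hbA)) _ ((mem_cent hτ hξt).2 hξA)
  have hr : ∀ {σ ρ : Equiv.Perm (Fin 7)}, σ = ρ → (toList σ == toList ρ) = true := fun h => beq_iff_eq.2 (h ▸ rfl)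
  have hne : ∀ {σ : Equiv.Perm (Fin 7)}, σ ≠ τ → (toList σ == τ₂) = false := fun h => by
    rw [beq_eq_false_iff_ne, ← hτ]; exact fun e => h (toList_injective e)
  have e1 : (comp (toList a) (toList a) == List.range 7) = true := by rw [← toList_mul, ← toList_one]; exact hr ha
  have e2 : (comp (toList b) (toList b) == List.range 7) = true := by rw [← toList_mul, ← toList_one]; exact hr hb
  have e3 : (comp (comp (toList a) (toList b)) (toList a) == comp τ₂ (toList b)) = true := by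
    rw [← hτ, ← toList_mul, ← toList_mul, ← toList_mul]; exact hr hab
  have e4 : (pw (toList ξ) 3 == List.range 7) = true := by rw [← toList_pow, ← toList_one]; exact hr hξ3
  have e5 : (comp (comp (toList b) (toList ξ)) (toList b) == comp (toList ξ) (toList ξ)) = true := by
    rw [← toList_mul, ← toList_mul, ← toList_mul]; exact hr (hξb.trans hξi)
  rw [ne_of_toList ha1, ne_of_toList hb1, ne_of_toList hξ1, hne hat, hne hbt, e1, e2, e3, e4, e5,
    (cm_iff _ _).2 hξa.eq] at h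
  simp only [Bool.not_true, Bool.false_or, Bool.and_eq_true, List.any_eq_true, Bool.or_eq_true, beq_iff_eq] at h
  obtain ⟨⟨⟨m, hm, hma⟩, n, hn, ⟨hnb, hnb'⟩, hw⟩, hall⟩ := h
  have real : ∀ l ∈ cand, ∃ σ ∈ alternatingGroup (Fin 7), ∀ ρ, toList (σ * ρ * σ⁻¹) = cj l (toList ρ) := by
    intro l hl
    have h2 := List.all_eq_true.1 cand_test _ hl
    simp only [Bool.and_eq_true, beq_iff_eq, decide_eq_true_eq] at h2
    exact ⟨mk7 l, Equiv.Perm.mem_alternatingGroup.2 h2.2, fun ρ => by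
      rw [toList_mul, toList_mul, h2.1.1, h2.1.2]; rfl⟩
  refine ⟨fun y hy hc => ?_, ?_, ?_⟩
  · have h3 := List.all_eq_true.1 hall _ (mem_cent hτ hc).1
    have hy3 : (pw (toList y) 3 == List.range 7) = true := by rw [← toList_pow, ← toList_one]; exact hr (cube y hy hc)
    rw [hy3] at h3
    simp only [Bool.not_true, Bool.false_or, Bool.or_eq_true, beq_iff_eq] at h3
    rw [← toList_one, ← toList_mul] at h3
    rcases h3 with (h3 | h3) | h3
    · exact Or.inl (toList_injective h3)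
    · exact Or.inr (Or.inl (toList_injective h3))
    · exact Or.inr (Or.inr (toList_injective h3))
  · obtain ⟨σ, hσ, hcj⟩ := real m hm
    exact ⟨σ, hσ, toList_injective (by rw [hcj, hτ, hma])⟩
  · obtain ⟨σ, hσ, hcj⟩ := real n hn
    refine ⟨σ, hσ, toList_injective (by rw [hcj, hτ, hnb]), toList_injective (by rw [hcj, hnb', toList_mul, hτ]),
      _, rfl, ?_⟩
    have hw' : toList (σ * ξ * σ⁻¹ * (σ * (σ * ξ * σ⁻¹) * σ⁻¹) * (σ * ξ * σ⁻¹) * (σ * (σ * ξ * σ⁻¹) * σ⁻¹) *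
        (σ * ξ * σ⁻¹)) = word n (toList ξ) := by
      rw [toList_mul, toList_mul, toList_mul, toList_mul, hcj (σ * ξ * σ⁻¹), hcj ξ]
      rfl
    rcases hw with hw | hw
    · exact Or.inl (toList_injective (hw'.trans hw))
    · exact Or.inr (toList_injective (by rw [hw', hw, toList_mul, hτ]))

/-- The facts in a group isomorphic to the alternating group of degree seven. -/
theorem residual_facts {X : Type*} [Group X] (e : X ≃* alternatingGroup (Fin 7)) {τ a b ξ : X}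
    (hτ : τ * τ = 1) (hτ1 : τ ≠ 1) (ha : a * a = 1) (ha1 : a ≠ 1)
    (hat : a ≠ τ) (hac : Commute a τ) (hb : b * b = 1) (hb1 : b ≠ 1) (hbt : b ≠ τ) (hbc : Commute b τ)
    (hab : a * b * a = τ * b) (hξ1 : ξ ≠ 1) (hξodd : Odd (orderOf ξ)) (hξt : Commute ξ τ) (hξa : Commute ξ a)
    (hξb : b * ξ * b = ξ⁻¹) :
    (∀ y, Odd (orderOf y) → Commute y τ → y = 1 ∨ y = ξ ∨ y = ξ * ξ) ∧
      (∃ n, n * τ * n⁻¹ = a) ∧
      ∃ n, n * τ * n⁻¹ = b ∧ n * b * n⁻¹ = τ * b ∧
        ∃ w, w = n * ξ * n⁻¹ * (n * (n * ξ * n⁻¹) * n⁻¹) * (n * ξ * n⁻¹) * (n * (n * ξ * n⁻¹) * n⁻¹) *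
          (n * ξ * n⁻¹) ∧ (w = a ∨ w = τ * a) := by
  obtain ⟨ψ₀, hψ₀⟩ : ∃ ψ₀ : X →* Equiv.Perm (Fin 7),
      ψ₀ = (alternatingGroup (Fin 7)).subtype.comp e.toMonoidHom := ⟨_, rfl⟩
  have hi₀ : Function.Injective ψ₀ := by
    rw [hψ₀]; exact (alternatingGroup (Fin 7)).subtype_injective.comp e.injective
  have hA₀ : ∀ x, ψ₀ x ∈ alternatingGroup (Fin 7) := fun x => hψ₀ ▸ (e x).2
  obtain ⟨τ', hconj, hl⟩ := representative (τ := ψ₀ τ) (fun h => hτ1 (hi₀ (h.trans (map_one ψ₀).symm)))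
    (by rw [← map_mul, hτ, map_one])
  obtain ⟨c, hc⟩ := isConj_iff.1 hconj.symm
  -- the representative is even
  have hl2 : toList τ' = τ₂ := by
    have hs : Equiv.Perm.sign τ' = 1 := by
      rw [← hc, map_mul, map_mul, Equiv.Perm.mem_alternatingGroup.1 (hA₀ τ), mul_one, map_inv, mul_inv_cancel]
    rcases hl with h | h | h
    · refine absurd hs ?_
      rw [show τ' = mk7 τ₁ from toList_injective (h.trans (by decide +kernel))]
      decide +kernel
    · exact h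
    · refine absurd hs ?_
      rw [show τ' = mk7 τ₃ from toList_injective (h.trans (by decide +kernel))]
      decide +kernel
  obtain ⟨ψ, hψ⟩ : ∃ ψ : X →* Equiv.Perm (Fin 7), ψ = (MulAut.conj c).toMonoidHom.comp ψ₀ := ⟨_, rfl⟩
  have hψτ : ψ τ = τ' := by rw [hψ, ← hc]; rfl
  have hi : Function.Injective ψ := by rw [hψ]; exact (MulAut.conj c).injective.comp hi₀
  have hA : ∀ x, ψ x ∈ alternatingGroup (Fin 7) := fun x => by
    rw [hψ]
    exact (alternatingGroup.normal (α := Fin 7)).conj_mem _ (hA₀ x) c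
  have hsurj : ∀ g ∈ alternatingGroup (Fin 7), ∃ x, ψ x = g := fun g hg => by
    have hg' : c⁻¹ * g * c ∈ alternatingGroup (Fin 7) := by
      have := (alternatingGroup.normal (α := Fin 7)).conj_mem _ hg c⁻¹
      rwa [inv_inv] at this
    refine ⟨e.symm ⟨_, hg'⟩, ?_⟩
    rw [hψ, hψ₀]
    show c * ((e (e.symm ⟨_, hg'⟩) : alternatingGroup (Fin 7)) : Equiv.Perm (Fin 7)) * c⁻¹ = g
    rw [MulEquiv.apply_symm_apply]
    show c * (c⁻¹ * g * c) * c⁻¹ = g
    group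
  have hne : ∀ {x y : X}, x ≠ y → ψ x ≠ ψ y := fun h e => h (hi e)
  obtain ⟨h1, ⟨m, hm, hma⟩, n, hn, hnb, hnb', w, hw, hwa⟩ := facts_rep (τ := ψ τ) (hψτ ▸ hl2) (hA a) (hA b) (hA ξ)
    (by rw [← map_mul, ha, map_one]) (map_one ψ ▸ hne ha1) (hne hat) (hac.map ψ) (by rw [← map_mul, hb, map_one])
    (map_one ψ ▸ hne hb1) (hne hbt) (hbc.map ψ) (by rw [← map_mul, ← map_mul, ← map_mul, hab])
    (map_one ψ ▸ hne hξ1) (by rwa [orderOf_injective ψ hi]) (hξt.map ψ) (hξa.map ψ)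
    (by rw [← map_mul, ← map_mul, ← map_inv, hξb])
  refine ⟨fun y hy hyc => ?_, ?_, ?_⟩
  · have := h1 (ψ y) (by rwa [orderOf_injective ψ hi]) (hyc.map ψ)
    rw [← map_one ψ, ← map_mul] at this
    rcases this with h | h | h
    exacts [Or.inl (hi h), Or.inr (Or.inl (hi h)), Or.inr (Or.inr (hi h))]
  · obtain ⟨x, rfl⟩ := hsurj m hm
    exact ⟨x, hi (by rw [map_mul, map_mul, map_inv, hma])⟩
  · obtain ⟨x, rfl⟩ := hsurj n hn
    refine ⟨x, hi (by rw [map_mul, map_mul, map_inv, hnb]), hi (by rw [map_mul, map_mul, map_inv, hnb', map_mul]),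
      _, rfl, ?_⟩
    rw [hw] at hwa
    rcases hwa with h | h
    · exact Or.inl (hi (by simp only [map_mul, map_inv]; exact h))
    · exact Or.inr (hi (by simp only [map_mul, map_inv]; exact h))

end Cfsg.Agent.GW.AltSeven
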