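import Cfsg.Agent.Lib.GW.MaxFusion
import Cfsg.Agent.Lib.GW.NormalFour
import Cfsg.Agent.Lib.Fusion.DihedralFours

/-!
# A maximal centraliser: centralisers of `q`-elements of `C_O(S)` fuse the second class of four groups

When a reflection `u` centralises a Sylow `q`-subgroup of `O`, and `u'` is a reflection of the other class, the
centraliser of a `q`-element of `O` centralising the Sylow two-subgroup carries `t u'` to `t`.
-/

set_option autoImplicit false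
set_option linter.unusedSectionVars false
set_option linter.style.haveILetI false

namespace Cfsg.Agent.GW

open Cfsg Cfsg.Agent DihedralGroup

universe u

variable {G : Type u} [Group G] [Finite G]

namespace Frame

variable (Φ : Frame G)

theorem U_eq_map (i : ZMod (2 ^ Φ.k)) :
    Φ.U i = (Fusion.DihedralFours.four (2 ^ Φ.k) i).map Φ.hom := by
  haveI : NeZero (2 ^ Φ.k) := ⟨by positivity⟩
  have hsr : Φ.hom (sr (i + ((2 ^ Φ.k / 2 : ℕ) : ZMod (2 ^ Φ.k)))) = Φ.t * Φ.refl i := by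
    rw [← Φ.hom_half, ← Φ.hom_sr, ← map_mul, r_mul_sr]
    congr 2
    linear_combination Φ.half_add
  ext x
  rw [Φ.mem_U_iff]
  constructor
  · rintro (rfl | rfl | rfl | rfl)
    · exact one_mem _
    · exact ⟨_, (Fusion.DihedralFours.mem_four Φ.two_dvd i _).2 (Or.inr (Or.inl rfl)), rfl⟩
    · exact ⟨_, (Fusion.DihedralFours.mem_four Φ.two_dvd i _).2 (Or.inr (Or.inr (Or.inl rfl))), rfl⟩
    · exact ⟨_, (Fusion.DihedralFours.mem_four Φ.two_dvd i _).2 (Or.inr (Or.inr (Or.inr rfl))), hsr⟩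
  · rintro ⟨d, hd, rfl⟩
    rcases (Fusion.DihedralFours.mem_four Φ.two_dvd i d).1 hd with rfl | rfl | rfl | rfl
    · exact Or.inl (map_one _)
    · exact Or.inr (Or.inl rfl)
    · exact Or.inr (Or.inr (Or.inl rfl))
    · exact Or.inr (Or.inr (Or.inr hsr))

theorem U_card (i : ZMod (2 ^ Φ.k)) : Nat.card ↥(Φ.U i) = 4 := by
  haveI : NeZero (2 ^ Φ.k) := ⟨by positivity⟩
  rw [Φ.U_eq_map]
  exact (Fusion.DihedralFours.four_map_klein Φ.two_dvd Φ.hom Φ.hom_inj i).card_four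

theorem U_le (i : ZMod (2 ^ Φ.k)) : Φ.U i ≤ (Φ.S : Subgroup G) :=
  sup_le (Subgroup.zpowers_le.2 Φ.t_mem) (Subgroup.zpowers_le.2 (Φ.refl_mem i))

/-- an involution of `S` other than `t` is a reflection -/
theorem eq_refl_of_ne {x : G} (hx : x ∈ (Φ.S : Subgroup G)) (h2 : x * x = 1) (h1 : x ≠ 1) (ht : x ≠ Φ.t) :
    ∃ j, x = Φ.refl j := by
  rw [← Φ.hom_range] at hx
  obtain ⟨d, rfl⟩ := hx
  rcases d with l | j
  · exfalso
    have hd2 : (r l * r l : DihedralGroup (2 ^ Φ.k)) = 1 := Φ.hom_inj (by rw [map_mul, map_one]; exact h2)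
    rw [r_mul_r, DihedralGroup.one_def] at hd2
    haveI : NeZero (2 ^ Φ.k) := ⟨by positivity⟩
    rcases Fusion.zmod_double_eq_zero (DihedralGroup.r.inj hd2) with rfl | rfl
    · exact h1 (by rw [← DihedralGroup.one_def, map_one])
    · exact ht Φ.hom_half
  · exact ⟨j, rfl⟩

/-- the elements of `S` commuting with a reflection lie in its four group -/
theorem mem_U_of_commute {x : G} (hx : x ∈ (Φ.S : Subgroup G)) {j : ZMod (2 ^ Φ.k)}
    (hc : Commute x (Φ.refl j)) : x ∈ Φ.U j := by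
  rw [← Φ.hom_range] at hx
  obtain ⟨d, rfl⟩ := hx
  rw [Φ.U_eq_map]
  exact ⟨d, Subgroup.mem_centralizer_singleton_iff.2 (Φ.hom_inj (by rw [map_mul, map_mul]; exact hc.eq)), rfl⟩

end Frame

variable [IsSimpleGroup G] {Φ : Frame G}

/-- Neighbouring reflections are not fused in `C(t)`. -/
theorem MaxCent.refl_not_fused (h : MaxCent Φ.t Φ.O) (hk : 2 ≤ Φ.k) (i : ZMod (2 ^ Φ.k)) {c : G}
    (hc : Commute c Φ.t) :
    c * Φ.refl (i + 1) * c⁻¹ ≠ Φ.refl i ∧ c * Φ.refl (i + 1) * c⁻¹ ≠ Φ.t * Φ.refl i := by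
  haveI : NeZero (2 ^ Φ.k) := ⟨by positivity⟩
  have hn : (Φ.S : Subgroup G) ≤ Subgroup.normalizer (Φ.O : Set G) := fun s hs => h.core_norm (Φ.S_le hs)
  have hinf : ∀ x ∈ Φ.O, x ∈ (Φ.S : Subgroup G) → x = 1 := by
    intro x hx hxS
    obtain ⟨a, ha⟩ := Φ.S.isPGroup' ⟨x, hxS⟩
    exact orderOf_eq_one_iff.1 (Nat.eq_one_of_dvd_coprimes ((h.core_orderOf hx).coprime_two_right.pow_right a)
      dvd_rfl (orderOf_dvd_of_pow_eq_one (congrArg Subtype.val ha)))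
  have hcC : c ∈ Subgroup.centralizer ({Φ.t} : Set G) := Subgroup.mem_centralizer_singleton_iff.2 hc.eq
  rw [← Φ.O_sup, ← SetLike.mem_coe,
    Subgroup.coe_mul_of_right_le_normalizer_left Φ.O (Φ.S : Subgroup G) hn] at hcC
  obtain ⟨o, ho, s, hs, rfl⟩ := hcC
  -- the conjugate by `s` is the only candidate
  have key : ∀ a ∈ (Φ.S : Subgroup G), o * s * Φ.refl (i + 1) * (o * s)⁻¹ = a → s * Φ.refl (i + 1) * s⁻¹ = a := by
    intro a ha e
    obtain ⟨b, hb⟩ : ∃ b, b = s * Φ.refl (i + 1) * s⁻¹ := ⟨_, rfl⟩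
    rw [← hb]
    have hbS : b ∈ (Φ.S : Subgroup G) := hb ▸ mul_mem (mul_mem hs (Φ.refl_mem _)) (inv_mem hs)
    have e' : o * b * o⁻¹ = a := by rw [hb, ← e]; group
    have h1 : a * b⁻¹ = 1 := by
      refine hinf _ ?_ (mul_mem ha (inv_mem hbS))
      rw [← e', show o * b * o⁻¹ * b⁻¹ = o * (b * o⁻¹ * b⁻¹) by group]
      exact mul_mem ho ((Subgroup.mem_normalizer_iff.1 (hn hbS) _).1 (inv_mem ho))
    exact (mul_inv_eq_one.1 h1).symm
  rw [← Φ.hom_range] at hs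
  obtain ⟨d, rfl⟩ := hs
  have hpar : ∀ j : ZMod (2 ^ Φ.k), d * sr (i + 1) * d⁻¹ = sr j → ∃ l : ZMod (2 ^ Φ.k), j = i + 1 + (l + l) ∨ j + i + 1 = l + l := by
    intro j hj
    rcases d with l | l
    · rw [inv_r, r_mul_sr, sr_mul_r] at hj
      exact ⟨-l, Or.inl (by linear_combination -(DihedralGroup.sr.inj hj))⟩
    · rw [inv_sr, sr_mul_sr, r_mul_sr] at hj
      exact ⟨l, Or.inr (by linear_combination -(DihedralGroup.sr.inj hj))⟩
  have h4 : (4 : ℕ) ∣ 2 ^ Φ.k := (show (4 : ℕ) = 2 ^ 2 by norm_num) ▸ pow_dvd_pow 2 hk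
  let π := ZMod.castHom Φ.two_dvd (ZMod 2)
  have hππ : ∀ l : ZMod (2 ^ Φ.k), π (l + l) = 0 := fun l => by rw [map_add]; exact CharTwo.add_self_eq_zero _
  have hhalf : π ((2 ^ Φ.k / 2 : ℕ) : ZMod (2 ^ Φ.k)) = 0 := by
    rw [map_natCast, ZMod.natCast_eq_zero_iff]
    obtain ⟨l, hl⟩ := h4
    exact ⟨l, by omega⟩
  have hbad : ∀ j : ZMod (2 ^ Φ.k), π j = π i → d * sr (i + 1) * d⁻¹ ≠ sr j := by
    intro j hji hj
    obtain ⟨l, hl | hl⟩ := hpar j hj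
    · have := congrArg π hl
      rw [map_add, map_add, hππ, map_one, hji, add_zero] at this
      exact one_ne_zero (add_left_cancel (this.symm.trans (add_zero _).symm))
    · have := congrArg π hl
      rw [map_add, map_add, hππ, map_one, hji, CharTwo.add_self_eq_zero, zero_add] at this
      exact one_ne_zero this
  constructor
  · intro e
    have e' := key _ (Φ.refl_mem i) e
    rw [← Φ.hom_sr, ← Φ.hom_sr, ← map_inv, ← map_mul, ← map_mul] at e'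
    exact hbad i rfl (Φ.hom_inj e')
  · intro e
    have e' := key _ (mul_mem Φ.t_mem (Φ.refl_mem i)) e
    rw [← Φ.hom_sr, ← Φ.hom_half, ← Φ.hom_sr, ← map_inv, ← map_mul, ← map_mul, ← map_mul, r_mul_sr] at e'
    exact hbad _ (by rw [map_sub, hhalf, sub_zero]) (Φ.hom_inj e')

/-- The centraliser of a `q`-element of `O` centralising `S` carries `t u'` to `t`. -/
theorem MaxCent.exists_fusion (h : MaxCent Φ.t Φ.O) (hk : 2 ≤ Φ.k) (i : ZMod (2 ^ Φ.k)) {q : ℕ} [Fact q.Prime]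
    {Q : Subgroup G} (hQ : Solv.IsSylIn q Q Φ.O) (hQu : ∀ x ∈ Q, Commute x (Φ.refl i)) {ρ : G}
    (hρt : ρ * Φ.t * ρ⁻¹ = Φ.refl (i + 1)) (hρu : ρ * Φ.refl (i + 1) * ρ⁻¹ = Φ.t * Φ.refl (i + 1))
    {p : G} (hp : p ∈ Φ.O) (hpq : IsPGroup q ↥(Subgroup.zpowers p)) (hps : ∀ s ∈ (Φ.S : Subgroup G), Commute p s) :
    ∃ g : G, Commute g p ∧ g * (Φ.t * Φ.refl (i + 1)) * g⁻¹ = Φ.t := by
  haveI : Fact (Nat.Prime 2) := ⟨Nat.prime_two⟩
  obtain ⟨hρe, -, -, -⟩ := rho_sq (Φ.uu (i + 1)) (Φ.commute (i + 1)) hρt hρu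
  by_contra hcon
  push Not at hcon
  obtain ⟨e, he⟩ : ∃ e, e = Φ.t * Φ.refl (i + 1) := ⟨_, rfl⟩
  rw [← he] at hρe hcon
  have heS : e ∈ (Φ.S : Subgroup G) := he ▸ mul_mem Φ.t_mem (Φ.refl_mem _)
  have heU : e ∈ Φ.U (i + 1) := (Φ.mem_U_iff _).2 (Or.inr (Or.inr (Or.inr he)))
  -- a conjugate of `p` in `Q`
  obtain ⟨z, hz⟩ : ∃ z, z = ρ * p * ρ⁻¹ := ⟨_, rfl⟩
  have hzO : z ∈ Φ.O := by
    refine h.core z ?_ ?_
    · have := (Commute.conj_iff ρ).2 (hps e heS)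
      rwa [hρe, ← hz] at this
    · rw [hz, show ρ * p * ρ⁻¹ = MulAut.conj ρ p from rfl, MulEquiv.orderOf_eq]
      exact h.core_orderOf hp
  have hzq : IsPGroup q ↥(Subgroup.zpowers z) := by
    obtain ⟨a, ha⟩ := IsPGroup.iff_card.1 hpq
    refine IsPGroup.of_card (n := a) ?_
    rw [← ha, Nat.card_zpowers, Nat.card_zpowers, hz, show ρ * p * ρ⁻¹ = MulAut.conj ρ p from rfl,
      MulEquiv.orderOf_eq]
  obtain ⟨T, hT⟩ := (hzq.comap_subtype (K := Φ.O)).exists_le_sylow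
  obtain ⟨c, hc, hcQ⟩ := (Solv.IsSylIn.of_sylow T).exists_conj hQ
  have hczQ : c * z * c⁻¹ ∈ Q := by
    rw [← hcQ, Solv.mem_conj_smul, show c⁻¹ * (c * z * c⁻¹) * c = z by group]
    exact ⟨⟨z, hzO⟩, hT (Subgroup.mem_zpowers z), rfl⟩
  obtain ⟨y₀, hy₀⟩ : ∃ y₀, y₀ = c * ρ := ⟨_, rfl⟩
  obtain ⟨v, hv⟩ : ∃ v, v = y₀⁻¹ * Φ.refl i * y₀ := ⟨_, rfl⟩
  have hy₀e : y₀ * e * y₀⁻¹ = Φ.t := by
    rw [hy₀, show c * ρ * e * (c * ρ)⁻¹ = c * (ρ * e * ρ⁻¹) * c⁻¹ by group, hρe, (h.core_commute hc).eq,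
      mul_inv_cancel_right]
  -- the second four group lies in `C(p) ⊓ C(e)`
  obtain ⟨D, hD⟩ : ∃ D, D = Subgroup.centralizer ({p} : Set G) ⊓ Subgroup.centralizer ({e} : Set G) := ⟨_, rfl⟩
  have hmD : ∀ x, x ∈ D ↔ Commute x p ∧ Commute x e := fun x => by
    rw [hD, Subgroup.mem_inf, Subgroup.mem_centralizer_singleton_iff, Subgroup.mem_centralizer_singleton_iff]
    exact Iff.rfl
  have hvD : v ∈ D := by
    refine (hmD v).2 ⟨?_, ?_⟩
    · have h1 : Commute (Φ.refl i) (c * z * c⁻¹) := (hQu _ hczQ).symm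
      have := (Commute.conj_iff y₀⁻¹).2 h1
      rwa [inv_inv, ← hv, show y₀⁻¹ * (c * z * c⁻¹) * y₀ = p by rw [hy₀, hz]; group] at this
    · have := (Commute.conj_iff y₀⁻¹).2 (Φ.commute i).symm
      rwa [inv_inv, ← hv, show y₀⁻¹ * Φ.t * y₀ = e by rw [← hy₀e]; group] at this
  have hU'D : Φ.U (i + 1) ≤ D := fun x hx => (hmD x).2 ⟨(hps x (Φ.U_le _ hx)).symm, by
    rcases (Φ.mem_U_iff _).1 hx with rfl | rfl | rfl | rfl
    · exact Commute.one_left e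
    · exact (Φ.t_central e heS).symm
    · rw [he]; exact (Φ.commute _).symm.mul_right (Commute.refl _)
    · rw [he]⟩
  -- `U'` is a Sylow subgroup of `D`
  obtain ⟨P, hP⟩ := ((IsPGroup.of_card (p := 2) (n := 2) (Φ.U_card (i + 1))).comap_subtype (K := D)).exists_le_sylow
  have hUP : ∀ x ∈ (P : Subgroup D), (x : G) ∈ Φ.U (i + 1) := by
    obtain ⟨P', hP'⟩ : ∃ P', P' = (P : Subgroup D).map D.subtype := ⟨_, rfl⟩
    have hle : Φ.U (i + 1) ≤ P' := fun x hx => hP' ▸ ⟨⟨x, hU'D hx⟩, hP hx, rfl⟩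
    have hP'p : IsPGroup 2 ↥P' := hP' ▸ P.isPGroup'.map _
    have hP'D : P' ≤ D := hP' ▸ Subgroup.map_subtype_le _
    have hP'C : P' ≤ Subgroup.centralizer ({p} : Set G) := fun x hx =>
      Subgroup.mem_centralizer_singleton_iff.2 ((hmD x).1 (hP'D hx)).1.eq
    obtain ⟨R, hR⟩ := (hP'p.comap_subtype (K := Subgroup.centralizer ({p} : Set G))).exists_le_sylow
    have hSC : (Φ.S : Subgroup G) ≤ Subgroup.centralizer ({p} : Set G) := fun s hs =>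
      Subgroup.mem_centralizer_singleton_iff.2 (hps s hs).symm.eq
    obtain ⟨a, ha⟩ := MulAction.exists_smul_eq (Subgroup.centralizer ({p} : Set G)) R (Φ.S.subtype hSC)
    have hmv : ∀ x ∈ P', (a : G) * x * (a : G)⁻¹ ∈ (Φ.S : Subgroup G) := by
      intro x hx
      have : a * ⟨x, hP'C hx⟩ * a⁻¹ ∈ ((Φ.S.subtype hSC : Sylow 2 _) : Subgroup _) := by
        rw [← ha, Sylow.coe_subgroup_smul]
        exact ⟨_, hR hx, rfl⟩
      exact Subgroup.mem_subgroupOf.1 this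
    have heP : e ∈ P' := hle heU
    obtain ⟨j, hj⟩ := Φ.eq_refl_of_ne (hmv e heP) (by
        rw [show (a : G) * e * (a : G)⁻¹ * ((a : G) * e * (a : G)⁻¹) = (a : G) * (e * e) * (a : G)⁻¹ by group, he,
          show Φ.t * Φ.refl (i + 1) * (Φ.t * Φ.refl (i + 1)) = 1 by
            rw [mul_assoc, ← mul_assoc (Φ.refl (i + 1)) Φ.t, ← (Φ.commute (i + 1)).eq, mul_assoc Φ.t (Φ.refl (i + 1)), Φ.uu,
              mul_one, Φ.tt]]
        group)
      (fun h1 => Φ.refl_ne (i + 1) (by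
        rw [conj_eq_one_iff, he] at h1
        rw [← inv_eq_of_mul_eq_one_right h1, inv_eq_of_mul_eq_one_right Φ.tt]))
      (hcon _ (Subgroup.mem_centralizer_singleton_iff.1 a.2))
    have hcard : Nat.card ↥P' ≤ 4 := by
      rw [← Φ.U_card j]
      refine Nat.card_le_card_of_injective (fun x => (⟨(a : G) * x * (a : G)⁻¹,
        Φ.mem_U_of_commute (hmv x x.2) (hj ▸ (Commute.conj_iff (a : G)).2 ((hmD x).1 (hP'D x.2)).2)⟩ : ↥(Φ.U j)))
        fun x y hxy => Subtype.ext (mul_left_cancel (mul_right_cancel (congrArg Subtype.val hxy)))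
    have heq := Subgroup.eq_of_le_of_card_ge hle (by rw [Φ.U_card]; exact hcard)
    intro x hx
    rw [heq, hP']
    exact ⟨x, hx, rfl⟩
  obtain ⟨R, hR⟩ := (IsPGroup.of_card (p := 2) (n := 1) (G := Subgroup.zpowers (⟨v, hvD⟩ : D)) (by
    rw [Nat.card_zpowers, Subgroup.orderOf_mk, hv,
      show y₀⁻¹ * Φ.refl i * y₀ = MulAut.conj y₀⁻¹ (Φ.refl i) by simp, MulEquiv.orderOf_eq, Φ.refl_order,
      pow_one])).exists_le_sylow
  obtain ⟨d, hd⟩ := MulAction.exists_smul_eq D R P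
  have hwU : (d : G) * v * (d : G)⁻¹ ∈ Φ.U (i + 1) := by
    refine hUP (d * ⟨v, hvD⟩ * d⁻¹) ?_
    rw [← hd, Sylow.coe_subgroup_smul]
    exact ⟨_, hR (Subgroup.mem_zpowers _), rfl⟩
  obtain ⟨m, hm⟩ : ∃ m, m = y₀ * (d : G)⁻¹ * ρ⁻¹ := ⟨_, rfl⟩
  have hde : (d : G)⁻¹ * e * (d : G) = e := by
    rw [mul_assoc, ← ((hmD d).1 d.2).2.eq, inv_mul_cancel_left]
  have hmt : Commute m Φ.t := by
    have h1 : m * Φ.t * m⁻¹ = Φ.t := by
      calc m * Φ.t * m⁻¹ = y₀ * ((d : G)⁻¹ * (ρ⁻¹ * Φ.t * ρ) * (d : G)) * y₀⁻¹ := by rw [hm]; group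
        _ = y₀ * ((d : G)⁻¹ * e * (d : G)) * y₀⁻¹ := by
          rw [show ρ⁻¹ * Φ.t * ρ = e by rw [← hρe]; group]
        _ = _ := by rw [hde, hy₀e]
    exact mul_inv_eq_iff_eq_mul.1 h1
  have hmw : m * (ρ * ((d : G) * v * (d : G)⁻¹) * ρ⁻¹) * m⁻¹ = Φ.refl i := by rw [hm, hv]; group
  rcases (Φ.mem_U_iff _).1 hwU with hw | hw | hw | hw
  · rw [hw] at hmw
    exact Φ.refl_ne_one i (by rw [← hmw]; group)
  · rw [hw, hρt] at hmw
    exact (h.refl_not_fused hk i hmt).1 hmw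
  · rw [hw, hρu] at hmw
    refine (h.refl_not_fused hk i hmt).2 ?_
    calc m * Φ.refl (i + 1) * m⁻¹ = (m * Φ.t * m⁻¹) * (m * (Φ.t * Φ.refl (i + 1)) * m⁻¹) := by
          rw [show (m * Φ.t * m⁻¹) * (m * (Φ.t * Φ.refl (i + 1)) * m⁻¹) =
            m * (Φ.t * Φ.t * Φ.refl (i + 1)) * m⁻¹ by group, Φ.tt, one_mul]
      _ = _ := by rw [hmw, hmt.eq, mul_inv_cancel_right]
  · rw [← he] at hw
    rw [hw, hρe, hmt.eq, mul_inv_cancel_right] at hmw
    exact Φ.refl_ne i hmw.symm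

end Cfsg.Agent.GW
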