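import Cfsg.Agent.Lib.GW.MaxGood
import Cfsg.Agent.Lib.GW.MaxSwitch
import Cfsg.Agent.Lib.GW.MaxTrick

/-!
# A maximal centraliser: tools for the case of a central element of a core fixed by a reflection
-/

set_option autoImplicit false
set_option linter.unusedSectionVars false
set_option linter.style.haveILetI false

namespace Cfsg.Agent.GW

open Cfsg Cfsg.Agent DihedralGroup

universe u

variable {G : Type u} [Group G] [Finite G]

/-- involutions with product of odd order are conjugate under a power of the product -/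
theorem conj_of_odd_prod {s v : G} (hs : s * s = 1) (hv : v * v = 1) (hodd : Odd (orderOf (s * v))) :
    ∃ m : ℕ, (s * v) ^ m * s * ((s * v) ^ m)⁻¹ = v := by
  obtain ⟨m, hm⟩ := hodd
  refine ⟨m, ?_⟩
  have h1 : s * (s * v) * s⁻¹ = (s * v)⁻¹ := by
    rw [← mul_assoc, hs, one_mul, mul_inv_rev, inv_eq_of_mul_eq_one_right hv]
  have h2 : s * ((s * v) ^ m)⁻¹ = (s * v) ^ m * s := by
    have : s * (s * v) ^ m * s⁻¹ = ((s * v) ^ m)⁻¹ := by rw [← conj_pow, h1, inv_pow]
    rw [← this, inv_eq_of_mul_eq_one_right hs, ← mul_assoc, ← mul_assoc, hs, one_mul]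
  have h3 : (s * v) ^ (2 * m) = (s * v)⁻¹ :=
    eq_inv_of_mul_eq_one_left (by rw [← pow_succ, ← hm, pow_orderOf_eq_one])
  rw [mul_assoc, h2, ← mul_assoc, ← pow_add, ← two_mul, h3, mul_inv_rev, inv_mul_cancel_right,
    inv_eq_of_mul_eq_one_right hv]

/-- a Sylow subgroup of a group is one of each intermediate subgroup -/
theorem isSylIn_of_le {q : ℕ} [hq : Fact q.Prime] {Q D K : Subgroup G} (hQ : Solv.IsSylIn q Q K) (hDK : D ≤ K)
    (hQD : Q ≤ D) : Solv.IsSylIn q Q D := by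
  refine ⟨hQD, hQ.2.trans (congrArg (q ^ ·) (le_antisymm ?_ ?_))⟩
  · refine (hq.out.pow_dvd_iff_le_factorization Nat.card_pos.ne').1 ?_
    rw [← hQ.2]
    exact Subgroup.card_dvd_of_le hQD
  · exact (Nat.factorization_le_iff_dvd Nat.card_pos.ne' Nat.card_pos.ne').2 (Subgroup.card_dvd_of_le hDK) q

/-- `P × Q`: an involution centralises every invariant `q`-subgroup of a group of odd order holding a fixed
`q`-element `x` with `C(x) ≤ C(t)`. -/
theorem invariant_centralised {t : G} (ht : t * t = 1) {X : Subgroup G} (hX : Odd (Nat.card ↥X))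
    (htX : t ∈ Subgroup.normalizer (X : Set G)) {q : ℕ} [Fact q.Prime] {x : G} (hx : x ∈ X)
    (hxq : IsPGroup q ↥(Subgroup.zpowers x)) (hxt : Commute x t)
    (hxC : Subgroup.centralizer ({x} : Set G) ≤ Subgroup.centralizer ({t} : Set G)) {T : Subgroup G} (hTX : T ≤ X)
    (hT : IsPGroup q ↥T) (htT : t ∈ Subgroup.normalizer (T : Set G)) : ∀ a ∈ T, Commute a t := by
  have hA : Subgroup.zpowers t ≤ Subgroup.normalizer (X : Set G) := Subgroup.zpowers_le.2 htX
  have hco : (Nat.card ↥(Subgroup.zpowers t)).Coprime (Nat.card ↥X) := by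
    rw [Nat.card_zpowers]
    exact Nat.Coprime.coprime_dvd_left (orderOf_dvd_of_pow_eq_one (by rw [pow_two, ht])) hX.coprime_two_left
  have hsol : Group.IsSolvable ↥(Subgroup.zpowers t) :=
    Group.isSolvable_of_comm fun a b => Subtype.ext (by
      obtain ⟨_, i, rfl⟩ := a
      obtain ⟨_, j, rfl⟩ := b
      exact ((Commute.refl t).zpow_zpow i j).eq)
  have hAx : Subgroup.zpowers t ≤ Subgroup.normalizer ((Subgroup.zpowers x : Subgroup G) : Set G) :=
    Subgroup.zpowers_le.2 (Subgroup.centralizer_le_normalizer _ (Subgroup.mem_centralizer_iff.2 fun a ha => by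
      obtain ⟨i, rfl⟩ := ha
      exact (hxt.zpow_left i).eq))
  obtain ⟨T₀, hT₀, hxT₀, htT₀⟩ :=
    Solv.exists_invariant_sylow_ge hA hco (Or.inl hsol) _ (Subgroup.zpowers_le.2 hx) hxq hAx
  have hc : Subgroup.zpowers t ≤ Subgroup.centralizer (T₀ : Set G) := by
    refine CentTrick.centralizes_of_self_centralizing hT₀.isPGroup.isNilpotent htT₀
      (hco.coprime_dvd_right (Subgroup.card_dvd_of_le hT₀.1)) fun a ha => ⟨ha.1, ?_⟩
    refine Subgroup.mem_centralizer_iff.2 fun b hb => ?_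
    obtain ⟨i, rfl⟩ := hb
    have hax : Commute a x := (Subgroup.mem_centralizer_iff.1 ha.2 x ⟨hxT₀ (Subgroup.mem_zpowers x), by
      refine Subgroup.mem_centralizer_iff.2 fun c hc => ?_
      obtain ⟨j, rfl⟩ := hc
      exact (hxt.symm.zpow_left j).eq⟩).symm
    have hat : Commute a t := Subgroup.mem_centralizer_singleton_iff.1 (hxC (Subgroup.mem_centralizer_singleton_iff.2 hax.eq))
    exact (hat.symm.zpow_left i).eq
  obtain ⟨T₁, hT₁, hTT₁, htT₁⟩ :=
    Solv.exists_invariant_sylow_ge hA hco (Or.inl hsol) T hTX hT (Subgroup.zpowers_le.2 htT)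
  obtain ⟨c, hc', hcT⟩ := Solv.invariant_sylow_conj hA hco (Or.inl hsol) hT₀ hT₁ htT₀ htT₁
  intro a ha
  have ha1 := hTT₁ ha
  rw [← hcT, Solv.mem_conj_smul] at ha1
  have hct : Commute c t := (Subgroup.mem_centralizer_iff.1 hc'.2 t (Subgroup.mem_zpowers t)).symm
  have h0 : Commute (c⁻¹ * a * c) t :=
    (Subgroup.mem_centralizer_iff.1 (hc (Subgroup.mem_zpowers t)) _ ha1)
  have := (hct.mul_left h0).mul_left hct.inv_left
  rwa [show c * (c⁻¹ * a * c) * c⁻¹ = a by group] at this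

/-- transport of the previous property by a normalising element -/
theorem invariant_centralised_conj {t e g : G} {W : Subgroup G} (hgW : g ∈ Subgroup.normalizer (W : Set G))
    (hge : g * e * g⁻¹ = t) {q : ℕ}
    (h : ∀ T : Subgroup G, T ≤ W → IsPGroup q ↥T → t ∈ Subgroup.normalizer (T : Set G) → ∀ a ∈ T, Commute a t)
    {T : Subgroup G} (hTW : T ≤ W) (hT : IsPGroup q ↥T) (heT : e ∈ Subgroup.normalizer (T : Set G)) :
    ∀ a ∈ T, Commute a e := by
  obtain ⟨T', hT'⟩ : ∃ T', T' = T.map (MulAut.conj g).toMonoidHom := ⟨_, rfl⟩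
  have hle : T' ≤ W := by
    rintro _ hy
    rw [hT'] at hy
    obtain ⟨b, hb, rfl⟩ := hy
    exact (Subgroup.mem_normalizer_iff.1 hgW b).1 (hTW hb)
  have hn : t ∈ Subgroup.normalizer (T' : Set G) := by
    rw [hT', ← hge]
    exact Subgroup.le_normalizer_map _ ⟨e, heT, rfl⟩
  intro a ha
  have h1 := h T' hle (hT' ▸ hT.map _) hn (g * a * g⁻¹) (hT' ▸ ⟨a, ha, rfl⟩)
  rw [← hge] at h1
  exact (Commute.conj_iff g).1 h1

theorem mem_normalizer_of_conj {H : Subgroup G} {g : G} (h : ∀ x ∈ H, g * x * g⁻¹ ∈ H) :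
    g ∈ Subgroup.normalizer (H : Set G) := by
  refine Solv.mem_normalizer_of_conj_smul ?_
  refine (Subgroup.eq_of_le_of_card_ge (fun x hx => ?_) (by rw [Solv.card_conj_smul])).trans rfl
  rw [Solv.mem_conj_smul] at hx
  have := h _ hx
  rwa [show g * (g⁻¹ * x * g) * g⁻¹ = x by group] at this

/-- the normaliser of a `q`-subgroup generated by an inverted element -/
theorem mem_norm_zpowers_inv {e a : G} (h : e * a * e⁻¹ = a⁻¹) :
    e ∈ Subgroup.normalizer ((Subgroup.zpowers a : Subgroup G) : Set G) := by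
  refine mem_normalizer_of_conj fun x hx => ?_
  obtain ⟨i, rfl⟩ := hx
  rw [← conj_zpow, h, inv_zpow]
  exact inv_mem ⟨i, rfl⟩

namespace Frame

variable (Φ : Frame G)

theorem refl_mul_refl (i j : ZMod (2 ^ Φ.k)) : Φ.refl i * Φ.refl j = Φ.hom (r (j - i)) := by
  rw [← Φ.hom_sr, ← Φ.hom_sr, ← map_mul, sr_mul_sr]

/-- two neighbouring reflections generate `S` -/
theorem commute_S {p : G} (i : ZMod (2 ^ Φ.k)) (h0 : Commute p (Φ.refl i)) (h1 : Commute p (Φ.refl (i + 1))) :
    ∀ s ∈ (Φ.S : Subgroup G), Commute p s := by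
  haveI : NeZero (2 ^ Φ.k) := ⟨by positivity⟩
  have hr : ∀ l : ZMod (2 ^ Φ.k), Commute p (Φ.hom (r l)) := fun l => by
    have h := h0.mul_right h1
    rw [Φ.refl_mul_refl, add_sub_cancel_left] at h
    rw [show (r l : DihedralGroup (2 ^ Φ.k)) = r 1 ^ l.val by rw [r_one_pow, ZMod.natCast_rightInverse], map_pow]
    exact h.pow_right _
  intro s hs
  rw [← Φ.hom_range] at hs
  obtain ⟨d, rfl⟩ := hs
  rcases d with l | j
  · exact hr l
  · rw [show (sr j : DihedralGroup (2 ^ Φ.k)) = sr i * r (j - i) by rw [sr_mul_r, add_sub_cancel], map_mul]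
    exact h0.mul_right (hr _)

/-- two reflections two steps apart have their common centraliser in `C(t)` -/
theorem commute_t_of_two {z : G} (hk : 2 ≤ Φ.k) (i : ZMod (2 ^ Φ.k)) (h0 : Commute z (Φ.refl i))
    (h1 : Commute z (Φ.refl (i + 2))) : Commute z Φ.t := by
  haveI : NeZero (2 ^ Φ.k) := ⟨by positivity⟩
  have h := (h0.mul_right h1).pow_right (2 ^ (Φ.k - 2))
  rw [Φ.refl_mul_refl, add_sub_cancel_left, ← map_pow, r_pow] at h
  rw [← Φ.hom_half]
  have h2 : (2 : ℕ) ^ Φ.k / 2 = 2 * 2 ^ (Φ.k - 2) := by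
    obtain ⟨l, hl⟩ : ∃ l, Φ.k = l + 2 := ⟨Φ.k - 2, by omega⟩
    rw [hl, show l + 2 - 2 = l by omega, pow_succ, Nat.mul_div_cancel _ two_pos, pow_succ, mul_comm]
  rw [h2, Nat.cast_mul, Nat.cast_ofNat]
  exact h

/-- conjugating a reflection by its neighbour -/
theorem refl_conj (i : ZMod (2 ^ Φ.k)) :
    Φ.refl (i + 1) * Φ.refl i * (Φ.refl (i + 1))⁻¹ = Φ.refl (i + 2) := by
  rw [← Φ.hom_sr, ← Φ.hom_sr, ← Φ.hom_sr, ← map_inv, ← map_mul, ← map_mul, inv_sr, sr_mul_sr, r_mul_sr]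
  congr 2
  ring

/-- neighbouring reflections do not commute -/
theorem refl_not_commute (hk : 2 ≤ Φ.k) (i : ZMod (2 ^ Φ.k)) : ¬ Commute (Φ.refl i) (Φ.refl (i + 1)) := by
  intro h
  have h' : Φ.hom (sr i * sr (i + 1)) = Φ.hom (sr (i + 1) * sr i) := by rw [map_mul, map_mul]; exact h.eq
  have h2 := Φ.hom_inj h'
  rw [sr_mul_sr, sr_mul_sr] at h2
  have e := DihedralGroup.r.inj h2
  have h4 : ((2 : ℕ) : ZMod (2 ^ Φ.k)) = 0 := by push_cast; linear_combination e
  rw [ZMod.natCast_eq_zero_iff] at h4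
  have := Nat.le_of_dvd two_pos h4
  have := Nat.pow_le_pow_right two_pos hk
  omega

end Frame

end Cfsg.Agent.GW
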