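import Cfsg.Agent.Lib.Char.DihedralPairs

/-!
# Pairs of involutions weighted by a section constant function

Dihedral Sylow two-subgroups, one class of involutions: the weighted number of pairs of conjugates of the central
involution in terms of the numbers of inverted elements of the core at the reflections.
-/

set_option autoImplicit false
set_option linter.unusedSectionVars false
set_option linter.unusedVariables false
set_option linter.style.haveILetI false

namespace Cfsg.Agent.GW.Uneven

open Cfsg DihedralGroup Cfsg.Agent.Char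
open Cfsg.Agent.Fusion (SylIn sylIn_top)

universe u

variable {G : Type u} [Group G] [Fintype G]
variable {P : Sylow 2 G} {N : ℕ} [NeZero N] {ι : DihedralGroup N →* G}

/-- A weight on the rotations as a function on the dihedral group. -/
def muD (μ : ZMod N → ℂ) : DihedralGroup N → ℂ
  | .r i => μ i
  | .sr _ => 0

open scoped Classical in
/-- The weighted pair count. -/
theorem pair_count (h : DihSyl P ι)
    (hconj : ∀ u : G, orderOf u = 2 → IsConj (dihJ ι) u)
    (Θ : G → ℂ) (hcl : IsClassFunction G Θ) (hΘ0 : ∀ g, ¬ 2 ∣ orderOf g → Θ g = 0)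
    (μ : ZMod N → ℂ) (hμ0 : μ 0 = 0) (hμneg : ∀ i, μ (-i) = μ i)
    (hΘ : ∀ i : ZMod N, i ≠ 0 → ∀ y, Commute (ι (r i)) y → ¬ 2 ∣ orderOf y → Θ (ι (r i) * y) = μ i)
    {L : Subgroup G} (hLC : L ≤ Subgroup.centralizer ({dihJ ι} : Set G)) (hLodd : ¬ 2 ∣ Nat.card L)
    (hLnorm : ∀ c ∈ Subgroup.centralizer ({dihJ ι} : Set G), ∀ w ∈ L, c * w * c⁻¹ ∈ L)
    (hLreg : ∀ y ∈ Subgroup.centralizer ({dihJ ι} : Set G), ¬ 2 ∣ orderOf y → y ∈ L)
    (hLcard : Nat.card (Subgroup.centralizer ({dihJ ι} : Set G)) = 2 * N * Nat.card L)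
    (m : ZMod N → ℕ)
    (hm : ∀ i : ZMod N, Nat.card {w : L // ι (sr i) * (w : G) * (ι (sr i))⁻¹ = (w : G)⁻¹} = m i) :
    ∑ a : G, ∑ b : G, Θ (a * dihJ ι * a⁻¹ * (b * dihJ ι * b⁻¹)) =
      (Nat.card G : ℂ) * (Nat.card (Subgroup.centralizer ({dihJ ι} : Set G)) : ℂ) *
        ∑ i : ZMod N, ∑ j : ZMod N, (m i : ℂ) * (m j : ℂ) * μ (j - i) := by
  classical
  haveI : Fact (Nat.Prime 2) := ⟨Nat.prime_two⟩
  have h2 := h.two_dvd
  set J := dihJ ι with hJdef
  set C := Subgroup.centralizer ({J} : Set G) with hCdef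
  have hJ2 : orderOf J = 2 := by
    refine orderOf_eq_prime ?_ fun e => h.half_ne (h.rot_eq_one e)
    rw [pow_two, hJdef, dihJ, ← map_mul, r_mul_r, h.half_add, ← DihedralGroup.one_def, map_one]
  set W : G → ℂ := fun g => if HasTwoInv g J then Θ g else 0 with hW
  -- only pairs centralizing the involution count
  have stepB : ∀ g : G, ∑ t : G, W (t⁻¹ * g * t) = (Nat.card C : ℂ) * Θ g := by
    intro g
    have hiff : ∀ t : G, W (t⁻¹ * g * t) = if HasTwoInv g (t * J * t⁻¹) then Θ g else 0 := by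
      intro t
      have e : Θ (t⁻¹ * g * t) = Θ g := by simpa using hcl g t⁻¹
      have e2 : HasTwoInv (t⁻¹ * g * t) J ↔ HasTwoInv g (t * J * t⁻¹) :=
        ⟨fun h' => by simpa [mul_assoc] using h'.conj t,
         fun h' => by simpa [mul_assoc] using h'.conj t⁻¹⟩
      simp only [hW, e, e2]
    rw [Finset.sum_congr rfl fun t _ => hiff t]
    by_cases hg : 2 ∣ orderOf g
    · obtain ⟨z, hz⟩ := exists_hasTwoInv hg
      obtain ⟨s, hs⟩ := isConj_iff.1 (hconj z hz.orderOf_eq)
      rw [← Finset.sum_filter, Finset.sum_const, nsmul_eq_mul]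
      congr 1
      rw [show Nat.card C = _ from (card_filter_conj_eq hs).symm]
      congr 1
      refine congrArg Finset.card (Finset.filter_congr fun t _ => ⟨fun h' => h'.unique hz, fun e => by rw [e]; exact hz⟩)
    · simp [hΘ0 g hg]
  have stepC : (Nat.card C : ℂ) * ∑ a : G, ∑ b : G, Θ (a * J * a⁻¹ * (b * J * b⁻¹)) =
      (Nat.card G : ℂ) * ∑ a : G, ∑ b : G, W (a * J * a⁻¹ * (b * J * b⁻¹)) := by
    rw [Finset.mul_sum, Finset.sum_congr rfl fun a _ => Finset.mul_sum _ _ _]
    simp only [← stepB]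
    rw [Finset.sum_congr rfl fun a _ => Finset.sum_comm, Finset.sum_comm,
      Finset.sum_congr rfl fun t _ => show ∑ a : G, ∑ b : G, W (t⁻¹ * (a * J * a⁻¹ * (b * J * b⁻¹)) * t) =
        ∑ a : G, ∑ b : G, W (a * J * a⁻¹ * (b * J * b⁻¹)) from
        Fintype.sum_equiv (Equiv.mulLeft t⁻¹) _ _ fun a =>
          Fintype.sum_equiv (Equiv.mulLeft t⁻¹) _ _ fun b => by
            simp only [Equiv.coe_mulLeft]; congr 1; group,
      Finset.sum_const, Finset.card_univ, nsmul_eq_mul, Nat.card_eq_fintype_card]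
  -- conjugates of the involution are all involutions
  have stepD : ∀ F : G → ℂ, ∑ a : G, F (a * J * a⁻¹) =
      (Nat.card C : ℂ) * ∑ u : G with orderOf u = 2, F u := by
    intro F
    rw [← Finset.sum_fiberwise_of_maps_to (g := fun a => a * J * a⁻¹)
      (t := Finset.univ.filter fun u : G => orderOf u = 2) (fun a _ => by
        simp only [Finset.mem_filter, Finset.mem_univ, true_and]
        rw [show a * J * a⁻¹ = MulAut.conj a J from rfl, MulEquiv.orderOf_eq, hJ2]), Finset.mul_sum]
    refine Finset.sum_congr rfl fun u hu => ?_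
    obtain ⟨s, hs⟩ := isConj_iff.1 (hconj u (Finset.mem_filter.1 hu).2)
    rw [Finset.sum_congr rfl fun a ha => congrArg F (Finset.mem_filter.1 ha).2, Finset.sum_const,
      nsmul_eq_mul, card_filter_conj_eq hs]
  set k := Nat.card L with hk
  set Φ := Equiv.ofBijective _ (h.core_surj hLC hLodd hLcard) with hΦ
  have hΦv : ∀ p : DihedralGroup N × L, ((Φ p : C) : G) = ι p.1 * p.2 := fun p => rfl
  have hsurj : ∀ c ∈ C, ∃ d, ∃ w ∈ L, c = ι d * w := fun c hc => by
    obtain ⟨p, hp⟩ := Φ.surjective ⟨c, hc⟩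
    exact ⟨p.1, p.2, p.2.2, by rw [← hΦv p, hp]⟩
  -- the weight on the centralizer
  have stepF : ∀ d, ∀ w ∈ L, W (ι d * w) = muD μ d := by
    intro d w hw
    by_cases hg : 2 ∣ orderOf (ι d * w)
    swap
    · have hm := hLreg _ (mul_mem (h.mem_cent d) (hLC hw)) hg
      have hd : d = 1 :=
        (h.core_unique (w := w) (v := ι d * w) hLodd hw hm (e := 1)
          (by rw [map_one, one_mul])).1
      subst hd
      simp only [hW, hΘ0 _ hg, ite_self]
      exact hμ0.symm
    obtain ⟨x, hx⟩ := exists_isPPart Nat.prime_two (ι d * w)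
    have hxC : x ∈ C := by
      refine Subgroup.mem_centralizer_singleton_iff.2 ?_
      have hgJ : J * (ι d * w) * J⁻¹ = ι d * w := by
        rw [mul_inv_eq_iff_eq_mul]
        exact (Subgroup.mem_centralizer_singleton_iff.1 (mul_mem (h.mem_cent d) (hLC hw))).symm
      have h' : IsPPart 2 (ι d * w) (J * x * J⁻¹) := by
        obtain ⟨y, hxy, hc, ⟨m, hm⟩, hy⟩ := hx
        refine ⟨J * y * J⁻¹, by rw [← hgJ, ← hxy]; group,
          by simpa [MulAut.conj_apply] using hc.map (MulAut.conj J), ⟨m, ?_⟩, ?_⟩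
        · rw [show J * x * J⁻¹ = MulAut.conj J x from rfl, MulEquiv.orderOf_eq, hm]
        · rwa [show J * y * J⁻¹ = MulAut.conj J y from rfl, MulEquiv.orderOf_eq]
      exact (mul_inv_eq_iff_eq_mul.1 (isPPart_unique Nat.prime_two h' hx)).symm
    obtain ⟨y, hxy, hc, ⟨m, hm⟩, hy⟩ := hx
    have hyL : y ∈ L := hLreg y (by
      rw [show y = x⁻¹ * (ι d * w) by rw [← hxy]; group]
      exact mul_mem (inv_mem hxC) (mul_mem (h.mem_cent d) (hLC hw))) hy
    have hPC : (P : Subgroup G) ≤ C := h.range ▸ (by rintro _ ⟨e, rfl⟩; exact h.mem_cent e)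
    obtain ⟨c, hcC, hc'⟩ := ((sylIn_top P).mono hPC le_top).conj_le
      (IsPGroup.of_card (p := 2) (n := m) (by rw [Nat.card_zpowers, hm]) :
        IsPGroup 2 (Subgroup.zpowers x)) (Subgroup.zpowers_le.2 hxC)
    obtain ⟨d', hd'⟩ := h.range ▸ hc' (Fusion.conj_mem_cj (Subgroup.mem_zpowers x))
    obtain ⟨e, l, hl, rfl⟩ := hsurj c hcC
    have hed : e * d = d' * e := by
      obtain ⟨u1, hu1, he1⟩ := core_mul hLnorm h (d := e) (e := d) hl (L.mul_mem hw (L.inv_mem hyL))
      refine (h.core_unique hLodd hu1 hl ?_).1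
      rw [← he1, map_mul, mul_assoc (ι d'), hd']
      rw [show ι d * (w * y⁻¹) = x by rw [← mul_assoc, ← hxy]; group]
      group
    set c := ι e * l with hcdef
    have hcJ : ∀ n : ℕ, x ^ n = J ↔ (ι d') ^ n = J := by
      intro n
      rw [hd', conj_pow, mul_inv_eq_iff_eq_mul, ← Subgroup.mem_centralizer_singleton_iff.1 hcC]
      exact ⟨fun e => by rw [e], fun e => mul_left_cancel e⟩
    have hx' : IsPPart 2 (ι d * w) x := ⟨y, hxy, hc, ⟨m, hm⟩, hy⟩
    have hx1 : x ≠ 1 := fun e => hy (by rw [← one_mul y, ← e, hxy]; exact hg)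
    have hord : orderOf x = orderOf (ι d') := by
      rw [hd', show c * x * c⁻¹ = MulAut.conj c x from rfl, MulEquiv.orderOf_eq]
    have hWiff : HasTwoInv (ι d * w) J ↔ (ι d') ^ (orderOf (ι d') / 2) = J := by
      rw [← hcJ, ← hord]
      exact ⟨fun ⟨x', hp, _, hz⟩ => by rwa [isPPart_unique Nat.prime_two hx' hp],
        fun hz => ⟨x, hx', hx1, hz⟩⟩
    have hΘc : Θ (ι d * w) = Θ (ι d' * (c * y * c⁻¹)) := by
      rw [hd', ← hcl (ι d * w) c, ← hxy]
      congr 1; group
    cases d' with
    | sr j =>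
      have hord2 : orderOf (ι (sr j)) = 2 := by rw [orderOf_injective ι h.inj, orderOf_sr]
      simp only [hW]
      rw [if_neg fun hh => by
        have := hWiff.1 hh
        rw [hord2, Nat.div_self two_pos, pow_one] at this
        cases h.inj this]
      cases d with
      | r i => cases e <;> simp at hed
      | sr i => rfl
    | r j =>
      have hj : j ≠ 0 := fun e0 => hx1 (orderOf_eq_one_iff.1 (by
        rw [hord, e0, ← DihedralGroup.one_def, map_one, orderOf_one]))
      simp only [hW]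
      rw [if_pos (hWiff.2 (h.rot_sq_power hj)), hΘc, hΘ j hj]
      · cases d with
        | r i =>
          cases e with
          | r b =>
            rw [r_mul_r, r_mul_r, r.injEq] at hed
            have : j = i := by linear_combination -hed
            rw [this]; rfl
          | sr b =>
            rw [sr_mul_r, r_mul_sr, sr.injEq] at hed
            have : j = -i := by linear_combination hed
            rw [this, hμneg]; rfl
        | sr i => cases e <;> simp at hed
      · rw [hd']; simpa [MulAut.conj_apply] using hc.map (MulAut.conj c)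
      · rwa [show c * y * c⁻¹ = MulAut.conj c y from rfl, MulEquiv.orderOf_eq]
  -- the numbers of involutions in the cosets
  set n : DihedralGroup N → ℕ := fun d =>
    (Finset.univ.filter fun w : L => orderOf (ι d * (w : G)) = 2).card with hn
  have stepG : ∀ F : G → ℂ, ∑ u : G with (orderOf u = 2 ∧ u ∈ C), F u =
      ∑ d : DihedralGroup N, ∑ w : L, if orderOf (ι d * (w : G)) = 2 then F (ι d * w) else 0 := by
    intro F
    rw [← Fintype.sum_prod_type (f := fun p : DihedralGroup N × L =>
      if orderOf (ι p.1 * (p.2 : G)) = 2 then F (ι p.1 * p.2) else 0), ← Finset.sum_filter]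
    refine (Finset.sum_bij (fun p _ => ι p.1 * (p.2 : G)) ?_ ?_ ?_ (fun p _ => rfl)).symm
    · intro p hp
      simp only [Finset.mem_filter, Finset.mem_univ, true_and] at hp ⊢
      exact ⟨hp, mul_mem (h.mem_cent _) (hLC p.2.2)⟩
    · intro p _ q _ he
      obtain ⟨e1, e2⟩ := h.core_unique hLodd p.2.2 q.2.2 he
      exact Prod.ext e1 (Subtype.ext e2)
    · intro u hu
      simp only [Finset.mem_filter, Finset.mem_univ, true_and] at hu
      obtain ⟨d, w, hw, rfl⟩ := hsurj u hu.2
      exact ⟨(d, ⟨w, hw⟩), Finset.mem_filter.2 ⟨Finset.mem_univ _, hu.1⟩, rfl⟩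
  have stepT : ∑ a : G, ∑ b : G, W (a * J * a⁻¹ * (b * J * b⁻¹)) =
      (Nat.card C : ℂ) ^ 2 * ∑ d : DihedralGroup N, ∑ e : DihedralGroup N,
        (n d : ℂ) * (n e : ℂ) * muD μ (d * e) := by
    rw [stepD fun u => ∑ b : G, W (u * (b * J * b⁻¹)), Finset.sum_congr rfl fun u _ =>
      stepD fun v => W (u * v), ← Finset.mul_sum, ← mul_assoc, ← pow_two]
    congr 1
    have hcent : ∀ u v : G, orderOf u = 2 → orderOf v = 2 → W (u * v) ≠ 0 → u ∈ C ∧ v ∈ C := by
      intro u v hu hv hne
      simp only [hW] at hne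
      have hti : HasTwoInv (u * v) J := by
        by_contra h'; exact hne (if_neg h')
      have := hti.commute_factor (by rw [← pow_two, ← hu, pow_orderOf_eq_one])
        (by rw [← pow_two, ← hv, pow_orderOf_eq_one])
      exact ⟨Subgroup.mem_centralizer_singleton_iff.2 this.1,
        Subgroup.mem_centralizer_singleton_iff.2 this.2⟩
    rw [← Finset.sum_subset (s₁ := Finset.univ.filter fun u : G => orderOf u = 2 ∧ u ∈ C)
      (fun u hu => Finset.mem_filter.2 ⟨Finset.mem_univ _, (Finset.mem_filter.1 hu).2.1⟩)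
      (fun u hu hnu => Finset.sum_eq_zero fun v hv => by
        by_contra hne
        exact hnu (Finset.mem_filter.2 ⟨Finset.mem_univ _, (Finset.mem_filter.1 hu).2,
          (hcent u v (Finset.mem_filter.1 hu).2 (Finset.mem_filter.1 hv).2 hne).1⟩))]
    rw [Finset.sum_congr rfl fun u hu => (Finset.sum_subset
      (s₁ := Finset.univ.filter fun v : G => orderOf v = 2 ∧ v ∈ C)
      (fun v hv => Finset.mem_filter.2 ⟨Finset.mem_univ _, (Finset.mem_filter.1 hv).2.1⟩)
      (fun v hv hnv => by
        by_contra hne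
        exact hnv (Finset.mem_filter.2 ⟨Finset.mem_univ _, (Finset.mem_filter.1 hv).2,
          (hcent u v (Finset.mem_filter.1 hu).2.1 (Finset.mem_filter.1 hv).2 hne).2⟩))).symm,
      stepG]
    refine Finset.sum_congr rfl fun d _ => ?_
    simp only [stepG, hn]
    rw [← Finset.sum_filter, Finset.sum_congr rfl fun (w : L) _ => Finset.sum_congr rfl fun e _ =>
      show (∑ v : L, if orderOf (ι e * (v : G)) = 2 then W (ι d * w * (ι e * v)) else 0) =
        ((Finset.univ.filter fun v : L => orderOf (ι e * (v : G)) = 2).card : ℂ) * muD μ (d * e) by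
      rw [← Finset.sum_filter, Finset.sum_congr rfl fun (v : L) _ => by
        obtain ⟨u, hu, he⟩ := core_mul hLnorm h (d := d) (e := e) w.2 v.2
        rw [he, stepF _ u hu], Finset.sum_const, nsmul_eq_mul],
      Finset.sum_const, nsmul_eq_mul, Finset.mul_sum]
    exact Finset.sum_congr rfl fun e _ => (mul_assoc _ _ _).symm
  -- rotations contribute nothing
  have hnrot : ∀ i : ZMod N, i ≠ ((N / 2 : ℕ) : ZMod N) → n (r i) = 0 := by
    intro i hi
    refine Finset.card_eq_zero.2 (Finset.filter_eq_empty_iff.2 fun w _ ho => ?_)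
    have hsq : ι (r i) * (w : G) * (ι (r i) * w) = 1 := by
      rw [← pow_two, ← ho, pow_orderOf_eq_one]
    obtain ⟨u, hu, he⟩ := core_mul hLnorm h (d := r i) (e := r i) w.2 w.2
    rw [he] at hsq
    have h0 := (h.core_unique hLodd hu L.one_mem (e := 1) (by rw [hsq, map_one, one_mul])).1
    rw [r_mul_r, DihedralGroup.one_def, r.injEq] at h0
    rcases Fusion.zmod_double_eq_zero h0 with e | e
    · subst e
      rw [← DihedralGroup.one_def, map_one, one_mul] at ho
      refine hLodd ?_
      rw [← ho, Subgroup.orderOf_coe]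
      exact orderOf_dvd_natCard _
    · exact hi e
  -- the reflections
  have hnm : ∀ a : ZMod N, n (sr a) = m a := by
    intro a
    rw [← hm a]
    show (Finset.univ.filter fun w : L => orderOf (ι (sr a) * (w : G)) = 2).card = _
    rw [Nat.card_eq_fintype_card, Fintype.card_subtype]
    refine congrArg Finset.card (Finset.filter_congr fun w _ => ?_)
    have hs2 : ι (sr a) * ι (sr a) = 1 := by rw [← map_mul, sr_mul_self, map_one]
    rw [inv_eq_of_mul_eq_one_left hs2, eq_inv_iff_mul_eq_one]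
    constructor
    · intro ho
      rw [mul_assoc _ (ι (sr a)) (w : G), ← pow_two, ← ho, pow_orderOf_eq_one]
    · intro he
      refine orderOf_eq_prime (by rw [pow_two, ← mul_assoc]; exact he) fun e => ?_
      have := (h.core_unique hLodd w.2 L.one_mem (d := sr a) (e := 1)
        (by rw [map_one, one_mul]; exact e)).1
      cases this
  have hsplit : ∀ F : DihedralGroup N → ℂ, ∑ d, F d = (∑ i, F (r i)) + ∑ i, F (sr i) := by
    intro F
    rw [← Fintype.sum_equiv DihedralGroup.equivSum.symm (fun x => F (DihedralGroup.equivSum.symm x)) F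
      (fun x => rfl), Fintype.sum_sum_type]
    rfl
  have hrr : ∀ i j : ZMod N, (n (r i) : ℂ) * (n (r j) : ℂ) * muD μ (r i * r j) = 0 := by
    intro i j
    by_cases hi : i = ((N / 2 : ℕ) : ZMod N)
    · by_cases hj : j = ((N / 2 : ℕ) : ZMod N)
      · rw [r_mul_r, hi, hj, h.half_add, show muD μ (r 0) = μ 0 from rfl, hμ0, mul_zero]
      · rw [hnrot j hj, Nat.cast_zero, mul_zero, zero_mul]
    · rw [hnrot i hi, Nat.cast_zero, zero_mul, zero_mul]
  have stepS : ∑ d : DihedralGroup N, ∑ e : DihedralGroup N, (n d : ℂ) * (n e : ℂ) * muD μ (d * e) =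
      ∑ i : ZMod N, ∑ j : ZMod N, (m i : ℂ) * (m j : ℂ) * μ (j - i) := by
    simp only [hsplit, hrr, r_mul_sr, sr_mul_r, sr_mul_sr, show ∀ i, muD μ (sr i) = 0 from fun i => rfl,
      mul_zero, Finset.sum_const_zero, zero_add, add_zero, show ∀ i, muD μ (r i) = μ i from fun i => rfl, hnm]
  have hCne : (Nat.card C : ℂ) ≠ 0 := Nat.cast_ne_zero.2 Nat.card_pos.ne'
  refine mul_left_cancel₀ hCne ?_
  rw [stepC, stepT, stepS]
  ring

end Cfsg.Agent.GW.Uneven
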