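import Cfsg.Agent.Lib.GW.MaxFusion
import Cfsg.Agent.Lib.GW.FourLinear
import Cfsg.Agent.Lib.Char.UniqueDivDegree

/-!
# A maximal centraliser with a Sylow four group: no central element of a core is centralised by a reflection

With `u` centralising a Sylow `q`-subgroup of `O`, the part `R` of `O` moved by `u` is a `q'`-group and
`C(t) = R·C(P)`; a character of `C(P)` killing `O_{q'}(C(P))` then contradicts the linear character lemma.
-/

set_option autoImplicit false
set_option linter.unusedSectionVars false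
set_option linter.style.haveILetI false

namespace Cfsg.Agent.GW

open Cfsg Cfsg.Agent

universe w

variable {G : Type w} [Group G] [Finite G] [IsSimpleGroup G] {t : G} {O : Subgroup G}

/-- With a Sylow four group no element `y ≠ 1` of `O` of prime power order, centralised by `u`, has `C(y) ≤ C(t)`. -/
theorem MaxCent.four_false (h : MaxCent t O) (P : Sylow 2 G) (hP : Nat.card P = 4) (hexp : ∀ x : P, x * x = 1)
    (hone : ∀ a b : G, orderOf a = 2 → orderOf b = 2 → IsConj a b) (htP : t ∈ (P : Subgroup G))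
    (hOP : O ⊔ (P : Subgroup G) = Subgroup.centralizer ({t} : Set G)) {u ρ : G} (huP : u ∈ (P : Subgroup G))
    (hu1 : u ≠ 1) (hut : u ≠ t) (hρt : ρ * t * ρ⁻¹ = u) (hρu : ρ * u * ρ⁻¹ = t * u) {q : ℕ} [hq : Fact q.Prime]
    (hq2 : q ≠ 2) {y : G} (hy : y ∈ O) (hy1 : y ≠ 1) (hyq : IsPGroup q ↥(Subgroup.zpowers y)) (hyu : Commute y u)
    (hyC : Subgroup.centralizer ({y} : Set G) ≤ Subgroup.centralizer ({t} : Set G)) : False := by
  have hu : u * u = 1 := congrArg Subtype.val (hexp ⟨u, huP⟩)
  haveI : IsMulCommutative (P : Subgroup G) :=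
    IsPGroup.isMulCommutative_of_card_eq_prime_sq (p := 2) (by rw [show Nat.card (P : Subgroup G) = 4 from hP]; norm_num)
  have hPcomm : ∀ a ∈ (P : Subgroup G), ∀ b ∈ (P : Subgroup G), a * b = b * a := fun a ha b hb =>
    congrArg Subtype.val ((inferInstance : IsMulCommutative (P : Subgroup G)).is_comm.comm
      (⟨a, ha⟩ : (P : Subgroup G)) ⟨b, hb⟩)
  have htu : Commute t u := hPcomm t htP u huP
  -- the elements of `P`
  have hmem : ∀ x ∈ (P : Subgroup G), x = 1 ∨ x = t ∨ x = u ∨ x = t * u := by
    classical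
    haveI : Fintype G := Fintype.ofFinite G
    have htu1 : t * u ≠ 1 := fun e => hut (by
      rw [← inv_eq_of_mul_eq_one_right e, inv_eq_of_mul_eq_one_right h.sq])
    have htut : t * u ≠ t := fun e => hu1 (mul_left_cancel (e.trans (mul_one t).symm))
    have htuu : t * u ≠ u := fun e => h.ne (mul_right_cancel (e.trans (one_mul u).symm))
    have hc : ({1, t, u, t * u} : Finset G).card = 4 := by
      rw [Finset.card_insert_of_notMem (by simp [h.ne.symm, hu1.symm, htu1.symm]),
        Finset.card_insert_of_notMem (by simp [hut.symm, htut.symm]),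
        Finset.card_insert_of_notMem (by simp [htuu.symm]), Finset.card_singleton]
    have hsub : ({1, t, u, t * u} : Finset G) ⊆ (((P : Subgroup G) : Set G).toFinset) := by
      intro a ha
      simp only [Finset.mem_insert, Finset.mem_singleton] at ha
      rw [Set.mem_toFinset]
      rcases ha with rfl | rfl | rfl | rfl
      · exact one_mem _
      · exact htP
      · exact huP
      · exact mul_mem htP huP
    have heq := Finset.eq_of_subset_of_card_le hsub (by
      rw [hc, ← Nat.card_eq_card_toFinset]; exact hP.le)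
    intro x hx
    have : x ∈ ({1, t, u, t * u} : Finset G) := heq ▸ Set.mem_toFinset.2 hx
    simpa only [Finset.mem_insert, Finset.mem_singleton] using this
  have hcentP : ∀ f, Commute f t → Commute f u → f ∈ Subgroup.centralizer ((P : Subgroup G) : Set G) := by
    intro f hft hfu
    refine Subgroup.mem_centralizer_iff.2 fun x hx => ?_
    rcases hmem x hx with rfl | rfl | rfl | rfl
    · rw [one_mul, mul_one]
    · exact hft.symm.eq
    · exact hfu.symm.eq
    · exact (hft.mul_right hfu).symm.eq
  have hWC : Subgroup.centralizer ((P : Subgroup G) : Set G) ≤ Subgroup.centralizer ({t} : Set G) :=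
    Subgroup.centralizer_le (Set.singleton_subset_iff.2 htP)
  -- the invariant Sylow subgroup of `O` and the moved part
  obtain ⟨Q, hQ, huQ⟩ := Solv.exists_invariant_sylow (h.zpowers_norm htu) (h.coprime_zpowers hu)
    (Or.inr h.core_solvable) q
  have hQu := h.commutes_sylow hu htu hρt hρu hy hyq hyu hyC hQ (huQ (Subgroup.mem_zpowers u))
  obtain ⟨R, hRO, hRn, hRq, hRdec⟩ := h.exists_moved_part hq2 hu htu hQ hQu
  -- the character
  have hyW : y ∈ Subgroup.centralizer ((P : Subgroup G) : Set G) := hcentP y (h.core_commute hy) hyu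
  haveI : Group.IsSolvable ↥(Subgroup.centralizer ((P : Subgroup G) : Set G)) := Solv.isSolvable_of_le hWC h.solv
  let N := Cfsg.pPrimeCore q ↥(Subgroup.centralizer ((P : Subgroup G) : Set G))
  haveI : N.Normal := Solv.pPrimeCore_normal q
  have hyN : (⟨y, hyW⟩ : ↥(Subgroup.centralizer ((P : Subgroup G) : Set G))) ∉ N := by
    intro hm
    obtain ⟨i, hi⟩ := hyq ⟨y, Subgroup.mem_zpowers y⟩
    refine hy1 (orderOf_eq_one_iff.1 (Nat.eq_one_of_dvd_coprimes
      ((Fusion.card_pPrimeCore_coprime q ↥(Subgroup.centralizer ((P : Subgroup G) : Set G))).pow_right i)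
      ?_ (orderOf_dvd_of_pow_eq_one (congrArg Subtype.val hi))))
    have := orderOf_dvd_natCard (⟨⟨y, hyW⟩, hm⟩ : ↥N)
    rwa [Subgroup.orderOf_mk, Subgroup.orderOf_mk] at this
  haveI : Nontrivial (↥(Subgroup.centralizer ((P : Subgroup G) : Set G)) ⧸ N) :=
    ⟨QuotientGroup.mk' N ⟨y, hyW⟩, 1, fun e => hyN ((QuotientGroup.eq_one_iff _).1 e)⟩
  haveI : Group.IsSolvable (↥(Subgroup.centralizer ((P : Subgroup G) : Set G)) ⧸ N) :=
    Group.isSolvable_of_surjective (QuotientGroup.mk'_surjective N)
  haveI : Fintype (↥(Subgroup.centralizer ((P : Subgroup G) : Set G)) ⧸ N) := Fintype.ofFinite _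
  obtain ⟨g, -, hg⟩ := SetLike.exists_of_lt
    (Group.IsSolvable.commutator_lt_top_of_nontrivial (↥(Subgroup.centralizer ((P : Subgroup G) : Set G)) ⧸ N))
  obtain ⟨l, hl⟩ := Char.exists_linear_ne_one hg
  let θ : ↥(Subgroup.centralizer ((P : Subgroup G) : Set G)) →* ℂˣ := l.comp (QuotientGroup.mk' N)
  have hθN : ∀ w ∈ N, θ w = 1 := fun w hw => by
    show l (QuotientGroup.mk' N w) = 1
    rw [show QuotientGroup.mk' N w = 1 from (QuotientGroup.eq_one_iff w).2 hw, map_one]
  have hne : θ ≠ 1 := by
    intro e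
    obtain ⟨w, hw⟩ := QuotientGroup.mk'_surjective N g
    exact hl (hw ▸ DFunLike.congr_fun e w)
  -- `P` and `R ⊓ C(P)` lie in the core
  have hPn : ((P : Subgroup G).subgroupOf (Subgroup.centralizer ((P : Subgroup G) : Set G))).Normal := by
    refine ⟨fun a ha c => ?_⟩
    rw [Subgroup.mem_subgroupOf] at ha ⊢
    rw [Subgroup.coe_mul, Subgroup.coe_mul, Subgroup.coe_inv, ← Subgroup.mem_centralizer_iff.1 c.2 _ ha,
      mul_inv_cancel_right]
    exact ha
  have hPN : ((P : Subgroup G).subgroupOf (Subgroup.centralizer ((P : Subgroup G) : Set G))) ≤ N :=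
    Fusion.le_pPrimeCore (hn := hPn) (Nat.Coprime.coprime_dvd_left
      (Subgroup.card_comap_dvd_of_injective _ _ (Subgroup.subtype_injective _))
      (by rw [show Nat.card (P : Subgroup G) = 2 ^ 2 from hP]
          exact ((Nat.coprime_primes Nat.prime_two hq.out).2 (Ne.symm hq2)).pow_left 2))
  have hRW : (R.subgroupOf (Subgroup.centralizer ((P : Subgroup G) : Set G))).Normal :=
    ⟨fun a ha c => by
      rw [Subgroup.mem_subgroupOf] at ha ⊢
      exact (Subgroup.mem_normalizer_iff.1 (hRn (hWC c.2)) _).1 ha⟩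
  have hRN : R.subgroupOf (Subgroup.centralizer ((P : Subgroup G) : Set G)) ≤ N :=
    Fusion.le_pPrimeCore (hn := hRW) (hRq.coprime_dvd_left
      (Subgroup.card_comap_dvd_of_injective _ _ (Subgroup.subtype_injective _)))
  refine four_linear_false_simple_sup P hP hexp hone htP h.ne θ hne (fun w hw => hθN w (hPN hw)) R
    (hRO.trans h.core_le) (fun w hw r hr => (Subgroup.mem_normalizer_iff.1 (hRn (hWC hw)) r).1 hr)
    (fun c hc => ?_) fun g hg w w' hw he => ?_
  · rw [← hOP, ← SetLike.mem_coe,
      Subgroup.coe_mul_of_right_le_normalizer_left O (P : Subgroup G) (fun s hs => h.core_norm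
        (Subgroup.mem_centralizer_singleton_iff.2 (hPcomm s hs t htP)))] at hc
    obtain ⟨o, ho, s, hs, rfl⟩ := hc
    obtain ⟨r, hr, f, hf, hfu, rfl⟩ := hRdec o ho
    refine ⟨r, hr, f * s, mul_mem (hcentP f (h.core_commute hf) hfu) ?_, mul_assoc r f s⟩
    exact Subgroup.mem_centralizer_iff.2 fun x hx => hPcomm x hx s hs
  · -- conjugation by `g` is an automorphism of `C(P)`
    let α : MulAut ↥(Subgroup.centralizer ((P : Subgroup G) : Set G)) := Char.conjC (P : Subgroup G) ⟨g, hg⟩
    refine hθN w' ?_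
    have hw' : w' = α w := Subtype.ext he
    rw [hw']
    have := Subgroup.characteristic_iff_map_eq.1 (Fusion.pPrimeCore_characteristic (p := q)
      (G := ↥(Subgroup.centralizer ((P : Subgroup G) : Set G)))) α
    show α w ∈ Cfsg.pPrimeCore q _
    rw [← this]
    exact Subgroup.mem_map_of_mem _ (hRN hw)

end Cfsg.Agent.GW
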