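import Cfsg.Agent.Lib.GW.PslFour
import Cfsg.Agent.Lib.GW.EightFour
import Cfsg.Agent.Lib.GW.Assembly
import Cfsg.Agent.S2119
import Cfsg.Agent.S2602

/-!
# An element of odd order centralised by a four group and inverted by the other class

In a group without odd core whose Sylow two-subgroup is dihedral of order at least eight, an element `x ≠ 1` of odd
order centralised by `t` and `u` and inverted by the neighbouring reflection occurs only in `A₇`.
-/

set_option autoImplicit false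
set_option linter.unusedSectionVars false
set_option linter.style.haveILetI false

namespace Cfsg.Agent.GW

open Cfsg Cfsg.Agent DihedralGroup Cfsg.Agent.GW.Reduced

universe u

section Rank

variable {X : Type u} [Group X] [Finite X]

theorem dihedral_involution {m : ℕ} [NeZero m] {x : DihedralGroup m} (hx : x * x = 1) :
    (∃ j : ZMod m, x = r j ∧ j + j = 0) ∨ ∃ i, x = sr i := by
  rcases x with j | i
  · rw [r_mul_r, DihedralGroup.one_def] at hx
    exact Or.inl ⟨j, rfl, DihedralGroup.r.inj hx⟩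
  · exact Or.inr ⟨i, rfl⟩

theorem dihedral_three_invol {m : ℕ} [NeZero m] {A B C : DihedralGroup m} (hA : A * A = 1) (hB : B * B = 1) (hC : C * C = 1)
    (hAB : A * B = B * A) (hAC : A * C = C * A) (hBC : B * C = C * B) (hA1 : A ≠ 1) (hB1 : B ≠ 1) (hne : A ≠ B) :
    C = 1 ∨ C = A ∨ C = B ∨ C = A * B := by
  have hpm : ∀ {j l : ZMod m}, j + j = 0 → l + l = 0 → j ≠ 0 → l ≠ 0 → j = l := by
    intro j l hj hl hj0 hl0
    rcases Fusion.zmod_double_eq_zero hj with e | e
    · exact absurd e hj0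
    rcases Fusion.zmod_double_eq_zero hl with e' | e'
    · exact absurd e' hl0
    rw [e, e']
  have hss : ∀ {i l : ZMod m}, sr i * sr l = sr l * sr i → (l - i) + (l - i) = 0 := by
    intro i l h
    rw [sr_mul_sr, sr_mul_sr] at h
    linear_combination DihedralGroup.r.inj h
  have key : ∀ {i : ZMod m} {x : DihedralGroup m}, x * x = 1 → sr i * x = x * sr i → x ≠ 1 → x ≠ sr i →
      ∃ z : ZMod m, z + z = 0 ∧ z ≠ 0 ∧ (x = r z ∨ x = sr (i + z)) := by
    intro i x hx hc h1 hne'
    rcases dihedral_involution hx with ⟨j, rfl, hj⟩ | ⟨l, rfl⟩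
    · exact ⟨j, hj, fun e => h1 (by rw [e, DihedralGroup.one_def]), Or.inl rfl⟩
    · exact ⟨l - i, hss hc, fun e => hne' (by rw [sub_eq_zero.1 e]), Or.inr (by rw [add_sub_cancel])⟩
  -- one of `A`, `B` is a reflection
  have main : ∀ {i : ZMod m} {Y : DihedralGroup m}, Y * Y = 1 → sr i * Y = Y * sr i → Y ≠ 1 → Y ≠ sr i →
      sr i * C = C * sr i → C = 1 ∨ C = sr i ∨ C = Y ∨ C = sr i * Y := by
    intro i Y hY hc hY1 hYne hcC
    by_cases hC1 : C = 1
    · exact Or.inl hC1
    by_cases hCi : C = sr i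
    · exact Or.inr (Or.inl hCi)
    obtain ⟨z, hz, hz0, hYz⟩ := key hY hc hY1 hYne
    obtain ⟨z', hz', hz0', hCz⟩ := key hC hcC hC1 hCi
    obtain rfl := hpm hz hz' hz0 hz0'
    have hi2 : sr i * r z = sr (i + z) := sr_mul_r i z
    have hi3 : sr i * sr (i + z) = r z := by rw [sr_mul_sr, add_sub_cancel_left]
    rcases hYz with rfl | rfl <;> rcases hCz with rfl | rfl
    · exact Or.inr (Or.inr (Or.inl rfl))
    · exact Or.inr (Or.inr (Or.inr hi2.symm))
    · exact Or.inr (Or.inr (Or.inr hi3.symm))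
    · exact Or.inr (Or.inr (Or.inl rfl))
  rcases dihedral_involution hA with ⟨j, rfl, hj⟩ | ⟨i, rfl⟩
  · rcases dihedral_involution hB with ⟨l, rfl, hl⟩ | ⟨i, rfl⟩
    · refine absurd (congrArg r (hpm hj hl (fun e => hA1 ?_) fun e => hB1 ?_)) hne
      · rw [e, DihedralGroup.one_def]
      · rw [e, DihedralGroup.one_def]
    · rcases main hA hAB.symm hA1 hne hBC with h | h | h | h
      · exact Or.inl h
      · exact Or.inr (Or.inr (Or.inl h))
      · exact Or.inr (Or.inl h)
      · exact Or.inr (Or.inr (Or.inr (h.trans hAB.symm)))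
  · exact main hB hAB hB1 (Ne.symm hne) hAC

/-- Three commuting involutions generate no group of order eight. -/
theorem sylow_three_involutions (S : Sylow 2 X) {n : ℕ} (e : (S : Subgroup X) ≃* DihedralGroup n) {a b c : X}
    (ha : a * a = 1) (hb : b * b = 1) (hc : c * c = 1) (hab : Commute a b) (hac : Commute a c) (hbc : Commute b c)
    (ha1 : a ≠ 1) (hb1 : b ≠ 1) (hne : a ≠ b) : c = 1 ∨ c = a ∨ c = b ∨ c = a * b := by
  haveI : Fact (Nat.Prime 2) := ⟨Nat.prime_two⟩
  haveI := dihedral_neZero e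
  have hz : ∀ x : X, x * x = 1 → IsPGroup 2 (Subgroup.zpowers x) := fun x hx => by
    obtain ⟨j, -, hj⟩ := (Nat.dvd_prime_pow Nat.prime_two).1
      (orderOf_dvd_of_pow_eq_one (show x ^ 2 ^ 1 = 1 by rw [pow_one, pow_two, hx]))
    exact IsPGroup.of_card (n := j) (by rw [Nat.card_zpowers, hj])
  have hcz : ∀ {x y : X}, Commute x y → x ∈ Subgroup.normalizer ((Subgroup.zpowers y : Subgroup X) : Set X) := by
    intro x y h
    refine Subgroup.centralizer_le_normalizer _ (Subgroup.mem_centralizer_iff.2 fun w hw => ?_)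
    obtain ⟨j, rfl⟩ := hw
    exact (h.symm.zpow_left j).eq
  have h2 : IsPGroup 2 ↥(Subgroup.zpowers a ⊔ Subgroup.zpowers b) :=
    (hz a ha).to_sup_of_normal_right' (hz b hb) (Subgroup.zpowers_le.2 (hcz hab))
  have h3 : IsPGroup 2 ↥(Subgroup.zpowers a ⊔ Subgroup.zpowers b ⊔ Subgroup.zpowers c) :=
    h2.to_sup_of_normal_right' (hz c hc)
      (sup_le (Subgroup.zpowers_le.2 (hcz hac)) (Subgroup.zpowers_le.2 (hcz hbc)))
  obtain ⟨U, hU⟩ := h3.exists_le_sylow
  let φ : (U : Subgroup X) ≃* DihedralGroup n := (U.equiv S).trans e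
  have haU : a ∈ (U : Subgroup X) := hU (Subgroup.mem_sup_left (Subgroup.mem_sup_left (Subgroup.mem_zpowers a)))
  have hbU : b ∈ (U : Subgroup X) := hU (Subgroup.mem_sup_left (Subgroup.mem_sup_right (Subgroup.mem_zpowers b)))
  have hcU : c ∈ (U : Subgroup X) := hU (Subgroup.mem_sup_right (Subgroup.mem_zpowers c))
  have tr : ∀ x y : (U : Subgroup X), Commute (x : X) y → φ x * φ y = φ y * φ x := fun x y h => by
    rw [← map_mul, ← map_mul]; exact congrArg φ (Subtype.ext h)
  have sq : ∀ x : (U : Subgroup X), (x : X) * x = 1 → φ x * φ x = 1 := fun x h => by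
    rw [← map_mul, show x * x = 1 from Subtype.ext h, map_one]
  have h := dihedral_three_invol (sq ⟨a, haU⟩ ha) (sq ⟨b, hbU⟩ hb) (sq ⟨c, hcU⟩ hc) (tr _ _ hab) (tr ⟨a, haU⟩ ⟨c, hcU⟩ hac)
    (tr ⟨b, hbU⟩ ⟨c, hcU⟩ hbc) (fun h => ha1 (congrArg Subtype.val (φ.injective (h.trans (map_one φ).symm))))
    (fun h => hb1 (congrArg Subtype.val (φ.injective (h.trans (map_one φ).symm))))
    (fun h => hne (congrArg Subtype.val (φ.injective h)))
  rw [← map_one φ, ← map_mul] at h
  rcases h with h | h | h | h <;> have h' := congrArg Subtype.val (φ.injective h)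
  · exact Or.inl h'
  · exact Or.inr (Or.inl h')
  · exact Or.inr (Or.inr (Or.inl h'))
  · exact Or.inr (Or.inr (Or.inr h'))

end Rank

namespace Psl

open Cfsg.Agent.Small Cfsg.Agent.Small.SL2C

variable {F : Type} [Field F] [Fintype F]

local notation "P2" => Matrix.ProjectiveSpecialLinearGroup (Fin 2) F

/-- A field automorphism fixes a four group pointwise. -/
theorem exists_fixed_four (h2 : (2 : F) ≠ 0) (σ : F ≃+* F) :
    ∃ e₁ e₂ : P2, e₁ * e₁ = 1 ∧ e₂ * e₂ = 1 ∧ Commute e₁ e₂ ∧ e₁ ≠ 1 ∧ e₂ ≠ 1 ∧ e₁ ≠ e₂ ∧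
      PSL2.fieldP σ e₁ = e₁ ∧ PSL2.fieldP σ e₂ = e₂ := by
  obtain ⟨p, hp⟩ := CharP.exists F
  obtain ⟨n, hpp, -⟩ := FiniteField.card F p
  haveI := Fact.mk hpp
  obtain ⟨a₀, b₀, hab₀⟩ := ZMod.sq_add_sq p (-1)
  let f : ZMod p →+* F := ZMod.castHom dvd_rfl F
  obtain ⟨a, hadef⟩ : ∃ a, a = f a₀ := ⟨_, rfl⟩
  obtain ⟨b, hbdef⟩ : ∃ b, b = f b₀ := ⟨_, rfl⟩
  have hab : a ^ 2 + b ^ 2 = -1 := by
    rw [hadef, hbdef, ← map_pow, ← map_pow, ← map_add, hab₀, map_neg, map_one]
  have hσf : ∀ z, σ (f z) = f z := fun z =>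
    RingHom.congr_fun (Subsingleton.elim ((σ : F →+* F).comp f) f) z
  have hσa : σ a = a := hadef ▸ hσf _
  have hσb : σ b = b := hbdef ▸ hσf _
  obtain ⟨M, hM⟩ : ∃ M : Matrix.SpecialLinearGroup (Fin 2) F, M.1 = !![a, b; b, -a] :=
    ⟨⟨!![a, b; b, -a], by rw [Matrix.det_fin_two_of]; linear_combination -hab⟩, rfl⟩
  have hneg : ((-1 : F) * -1 = 1) := by ring
  refine ⟨PSL2.pr PSL2.wS, PSL2.pr M, ?_, ?_, ?_, ?_, ?_, ?_, ?_, ?_⟩
  · rw [← map_mul, ← map_one (PSL2.pr (F := F)), PSL2.pr_eq_iff]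
    refine ⟨-1, hneg, ?_⟩
    rw [PSL2.val_mul, PSL2.wS_val]
    ext i j
    fin_cases i <;> fin_cases j <;> simp [Matrix.mul_apply, Fin.sum_univ_two]
  · rw [← map_mul, ← map_one (PSL2.pr (F := F)), PSL2.pr_eq_iff]
    refine ⟨-1, hneg, ?_⟩
    rw [PSL2.val_mul, hM]
    ext i j
    fin_cases i <;> fin_cases j <;> simp [Matrix.mul_apply, Fin.sum_univ_two] <;>
      first
      | linear_combination hab
      | ring
  · show _ * _ = _ * _
    rw [← map_mul, ← map_mul, PSL2.pr_eq_iff]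
    refine ⟨-1, hneg, ?_⟩
    rw [PSL2.val_mul, PSL2.val_mul, hM, PSL2.wS_val]
    ext i j
    fin_cases i <;> fin_cases j <;> simp [Matrix.mul_apply, Fin.sum_univ_two]
  · intro h
    rw [← map_one (PSL2.pr (F := F)), PSL2.pr_eq_iff] at h
    obtain ⟨ε, -, h⟩ := h
    have := congrFun (congrFun h 0) 1
    simp at this
  · intro h
    rw [← map_one (PSL2.pr (F := F)), PSL2.pr_eq_iff] at h
    obtain ⟨ε, -, h⟩ := h
    have h00 := congrFun (congrFun h 0) 0
    have h01 := congrFun (congrFun h 0) 1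
    have h11 := congrFun (congrFun h 1) 1
    simp [hM] at h00 h01 h11
    have ha0 : 2 * a = 0 := by linear_combination h00 - h11
    have ha : a = 0 := (mul_eq_zero.1 ha0).resolve_left h2
    rw [ha, h01] at hab
    exact one_ne_zero (α := F) (by linear_combination hab)
  · intro h
    rw [PSL2.pr_eq_iff] at h
    obtain ⟨ε, -, h⟩ := h
    have h01 := congrFun (congrFun h 0) 1
    have h10 := congrFun (congrFun h 1) 0
    simp [hM] at h01 h10
    exact h2 (by linear_combination h01 - h10)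
  · rw [PSL2.fieldP_apply]
    congr 1
    ext i j
    rw [PSL2.fieldSL_apply, PSL2.wS_val]
    fin_cases i <;> fin_cases j <;> simp
  · rw [PSL2.fieldP_apply]
    congr 1
    ext i j
    rw [PSL2.fieldSL_apply, hM]
    fin_cases i <;> fin_cases j <;> simp [hσa, hσb]

end Psl

open Cfsg.Agent.Small in
/-- An element of odd order centralised by `t`, `u` and inverted by the next reflection: the group is `A₇`. -/
theorem model_residual {X : Type u} [Group X] [Finite X] (hO : Cfsg.oddCore X = ⊥) (Φ : Frame X) (hk : 2 ≤ Φ.k)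
    (gw : ∀ (L : Subgroup X) [Group.IsPerfect L] (SL : Sylow 2 L) (j : ℕ), 2 ≤ j →
      Nonempty ((SL : Subgroup L) ≃* DihedralGroup j) →
        (∃ (F : Type) (_ : Field F) (_ : Fintype F), Odd (Fintype.card F) ∧ 3 < Fintype.card F ∧
            Nonempty (L ⧸ Cfsg.oddCore L ≃* Matrix.ProjectiveSpecialLinearGroup (Fin 2) F)) ∨
          Nonempty (L ⧸ Cfsg.oddCore L ≃* alternatingGroup (Fin 7)))
    (i : ZMod (2 ^ Φ.k)) {x : X} (hx1 : x ≠ 1) (hodd : Odd (orderOf x)) (hxt : Commute x Φ.t)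
    (hxu : Commute x (Φ.refl i)) (hxv : Φ.refl (i + 1) * x * (Φ.refl (i + 1))⁻¹ = x⁻¹) :
    Φ.k = 2 ∧ Nonempty (X ≃* alternatingGroup (Fin 7)) := by
  classical
  haveI : Fact (Nat.Prime 2) := ⟨Nat.prime_two⟩
  haveI : NeZero (2 ^ Φ.k) := ⟨by positivity⟩
  have h2k : 2 ≤ 2 ^ Φ.k := le_self_pow₀ (by norm_num) (by omega)
  by_cases hsol : Group.IsSolvable X
  · exfalso
    rcases solvable_cases hsol hO Φ.S Φ.ι.symm with h | ⟨V, hV, hK, hC⟩
    · obtain ⟨j, hj⟩ := IsPGroup.iff_orderOf.1 h x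
      exact hx1 (orderOf_eq_one_iff.1 (Nat.eq_one_of_dvd_coprimes
        ((Nat.coprime_two_right.2 hodd).pow_right j) dvd_rfl (dvd_of_eq hj)))
    · exact hx1 (solvable_four hV hK hC Φ.tt Φ.t_ne hodd hxt)
  obtain ⟨L, hLn, hmod, hCL⟩ := nonsolvable_model_of gw hO Φ.S h2k Φ.ι.symm hsol
  haveI := hLn
  -- the kernel of the action on `L`
  have hker : ∀ y : X, MulAut.conjNormal (H := L) y = 1 → y = 1 := by
    intro y hy
    rw [← Subgroup.mem_bot, ← hCL]
    refine Subgroup.mem_centralizer_iff.2 fun b hb => ?_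
    have h := congrArg Subtype.val (DFunLike.congr_fun hy ⟨b, hb⟩)
    rw [MulAut.conjNormal_apply, MulAut.one_apply] at h
    exact (mul_inv_eq_iff_eq_mul.1 h).symm
  -- the characters kill `x`
  have hcomm : ∀ {A : Type} [CommGroup A] (χ : X →* A), χ x = 1 := by
    intro A _ χ
    have h := congrArg χ hxv
    rw [map_mul, map_mul, map_inv, map_inv, mul_comm (χ (Φ.refl (i + 1))), mul_assoc, mul_inv_cancel, mul_one] at h
    refine orderOf_eq_one_iff.1 (Nat.eq_one_of_dvd_coprimes hodd.coprime_two_left ?_ (orderOf_map_dvd χ x))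
    refine orderOf_dvd_of_pow_eq_one ?_
    rw [pow_two]; nth_rewrite 2 [h]; exact mul_inv_cancel _
  rcases hmod with ⟨F, hF, hFt, ho, h3, ⟨ε⟩⟩ | ⟨⟨ε⟩⟩
  · exfalso
    have h5 : 5 ≤ Fintype.card F := by obtain ⟨j, hj⟩ := ho; omega
    obtain ⟨p, hp⟩ := CharP.exists F
    obtain ⟨d, hpp, hd⟩ := FiniteField.card F p
    haveI : Fact p.Prime := ⟨hpp⟩
    have h2F : (2 : F) ≠ 0 := by
      intro h
      haveI : CharP F 2 := CharTwo.of_one_ne_zero_of_two_eq_zero one_ne_zero h
      have := CharP.eq F hp (inferInstance : CharP F 2)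
      subst this
      rw [hd] at ho
      exact Nat.not_even_iff_odd.2 ho (Nat.even_pow.2 ⟨even_two, d.ne_zero⟩)
    let Θ : X →* MulAut (Matrix.ProjectiveSpecialLinearGroup (Fin 2) F) :=
      (MulAut.congr ε).toMonoidHom.comp MulAut.conjNormal
    have hΘ : Function.Injective Θ := (injective_iff_map_eq_one Θ).2 fun y hy =>
      hker y ((MulAut.congr ε).injective (hy.trans (map_one _).symm))
    have hΘε : ∀ (y : X) (z : L), Θ y (ε z) = ε (MulAut.conjNormal y z) := fun y z => by simp [Θ, MulAut.congr]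
    have hΘL : ∀ y : L, Θ (y : X) = MulAut.conj (ε y) := fun y => MulEquiv.ext fun z => by
      obtain ⟨z, rfl⟩ := ε.surjective z
      rw [hΘε, MulAut.conj_apply, ← map_inv, ← map_mul, ← map_mul]
      exact congrArg ε (Subtype.ext (MulAut.conjNormal_apply _ _))
    -- `x` is inner
    obtain ⟨φ, -, -, hφk⟩ := S2602.result (F := F) d.pos hd (by rw [← hd]; omega)
    let ψ : X →* Cfsg.Out (Matrix.ProjectiveSpecialLinearGroup (Fin 2) F) := (QuotientGroup.mk' _).comp Θ
    have hk' : ψ x ∈ φ.ker := hcomm (φ.comp ψ)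
    have hψ : ψ x = 1 := by
      have h1 : orderOf (ψ x) ∣ 2 := by
        rw [← Subgroup.orderOf_mk _ hk']
        refine (orderOf_dvd_natCard _).trans ?_
        rw [hφk]
        exact Nat.gcd_dvd_left _ _
      exact orderOf_eq_one_iff.1 (Nat.eq_one_of_dvd_coprimes hodd.coprime_two_left h1 (orderOf_map_dvd ψ x))
    obtain ⟨m, hm⟩ := (QuotientGroup.eq_one_iff _).1 hψ
    obtain ⟨x', rfl⟩ := ε.surjective m
    have hxL : x = x' := hΘ (hm.symm.trans (hΘL x').symm)
    -- `t` is inner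
    have htL : Φ.t ∈ L := by
      refine half_mem_of_normal hk (L.comap Φ.hom) inferInstance fun hb => ?_
      obtain ⟨w, hw⟩ : ∃ w : Matrix.ProjectiveSpecialLinearGroup (Fin 2) F, orderOf w = 2 := by
        obtain ⟨e₁, -, h1, -, -, hne, -⟩ := Psl.exists_fixed_four h2F (1 : F ≃+* F)
        exact ⟨e₁, orderOf_eq_prime (by rw [pow_two, h1]) hne⟩
      obtain ⟨c, hc⟩ : ∃ c : L, orderOf c = 2 := ⟨ε.symm w, by rw [MulEquiv.orderOf_eq, hw]⟩
      rw [← Subgroup.orderOf_coe] at hc
      obtain ⟨P, hP⟩ := (IsPGroup.of_card (p := 2) (n := 1) (G := Subgroup.zpowers (c : X))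
        (by rw [Nat.card_zpowers, hc, pow_one])).exists_le_sylow
      obtain ⟨g, hg⟩ := MulAction.exists_smul_eq X P Φ.S
      have hgS : g * c * g⁻¹ ∈ (Φ.S : Subgroup X) := by
        rw [← hg, Sylow.coe_subgroup_smul]
        exact ⟨_, hP (Subgroup.mem_zpowers _), rfl⟩
      rw [← Φ.hom_range] at hgS
      obtain ⟨e, he⟩ := hgS
      have : e ∈ L.comap Φ.hom := by
        rw [Subgroup.mem_comap, he]; exact hLn.conj_mem _ c.2 g
      rw [hb, Subgroup.mem_bot] at this
      rw [this, map_one] at he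
      rw [conj_eq_one_iff.1 he.symm, orderOf_one] at hc
      exact absurd hc (by norm_num)
    have ht1 : Θ Φ.t = MulAut.conj (ε ⟨Φ.t, htL⟩) := hΘL ⟨Φ.t, htL⟩
    obtain ⟨A, hA⟩ := PSL2.pr_surjective (ε ⟨Φ.t, htL⟩)
    have hu1 : Θ (Φ.refl i) ≠ 1 := fun e => Φ.refl_ne_one i (hΘ (e.trans (map_one Θ).symm))
    have hu2 : Θ (Φ.refl i) * Θ (Φ.refl i) = 1 := by rw [← map_mul, Φ.uu, map_one]
    have fixes : ∀ y : X, Commute x y → Θ y (ε x') = ε x' := fun y hy =>
      Psl.fixed_of_commute h5 (by rw [← hΘL, ← hxL]; exact (hy.symm.map Θ))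
    rcases Psl.aut_cases hu2 with ⟨h, hh⟩ | ⟨σ, B, hσ⟩
    · -- two inner-diagonal involutions fixing `x`
      have hmm : ε x' * ε x' ≠ 1 := fun e => hx1 (by
        rw [← map_mul, ← map_one ε] at e
        have := congrArg Subtype.val (ε.injective e)
        rw [Subgroup.coe_mul, ← hxL] at this
        exact orderOf_eq_one_iff.1 (Nat.eq_one_of_dvd_coprimes hodd.coprime_two_left
          (orderOf_dvd_of_pow_eq_one (show x ^ 2 = 1 by rw [pow_two, this]; rfl)) dvd_rfl))
      have hA' : Θ Φ.t = PSL2.conjP (Matrix.SpecialLinearGroup.toGL A) := by rw [PSL2.conjP_toGL, hA, ht1]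
      have hn2 : Θ Φ.t ≠ 1 := fun e => Φ.t_ne (hΘ (e.trans (map_one Θ).symm))
      have hq2 : Θ Φ.t * Θ Φ.t = 1 := by rw [← map_mul, Φ.tt, map_one]
      refine Φ.refl_ne i (hΘ (hh.trans ?_))
      rw [hA']
      exact Psl.inndiag_unique h2F (hh ▸ hu1) (hh ▸ hu2) (hA' ▸ hn2) (hA' ▸ hq2) hmm
        (hh ▸ fixes _ hxu) (hA' ▸ fixes _ hxt)
    · -- a field automorphism fixes a four group
      obtain ⟨e₁, e₂, h1, h2, h12, hn1, hn2, hn12, hf1, hf2⟩ := Psl.exists_fixed_four h2F σ
      obtain ⟨β, hβ⟩ : ∃ β, β = PSL2.conjP B := ⟨_, rfl⟩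
      obtain ⟨y₁, hy₁⟩ := ε.surjective (β e₁)
      obtain ⟨y₂, hy₂⟩ := ε.surjective (β e₂)
      have hcu : ∀ (y : L) (e), ε y = β e → PSL2.fieldP σ e = e → Commute (Φ.refl i) (y : X) := by
        intro y e hy he
        have h := hΘε (Φ.refl i) y
        rw [hσ, hy, MulAut.mul_apply, MulAut.mul_apply, ← hβ, MulAut.inv_apply_self, he, ← hy] at h
        have h' := congrArg Subtype.val (ε.injective h).symm
        rw [MulAut.conjNormal_apply] at h'
        exact mul_inv_eq_iff_eq_mul.1 h'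
      have hsq : ∀ (y : L) (e), ε y = β e → e * e = 1 → (y : X) * y = 1 := fun y e hy he => by
        rw [← Subgroup.coe_mul, ← OneMemClass.coe_one L]
        exact congrArg Subtype.val (ε.injective (by rw [map_mul, hy, ← map_mul, he, map_one, map_one]))
      have hone : ∀ (y : L) (e), ε y = β e → e ≠ 1 → (y : X) ≠ 1 := fun y e hy he h0 => he (β.injective (by
        rw [← hy, map_one, show y = 1 from Subtype.ext h0, map_one]))
      have hy12 : Commute (y₁ : X) y₂ := by
        have : ε (y₁ * y₂) = ε (y₂ * y₁) := by rw [map_mul, map_mul, hy₁, hy₂, ← map_mul, ← map_mul, h12.eq]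
        exact congrArg Subtype.val (ε.injective this)
      have huL : Φ.refl i ∈ L := by
        rcases sylow_three_involutions Φ.S Φ.ι.symm (hsq y₁ e₁ hy₁ h1) (hsq y₂ e₂ hy₂ h2) (Φ.uu i) hy12
          (hcu y₁ e₁ hy₁ hf1).symm (hcu y₂ e₂ hy₂ hf2).symm (hone y₁ e₁ hy₁ hn1) (hone y₂ e₂ hy₂ hn2)
          (fun e => hn12 (β.injective (by rw [← hy₁, ← hy₂, show y₁ = y₂ from Subtype.ext e]))) with h | h | h | h
        all_goals rw [h]
        · exact one_mem L
        · exact y₁.2
        · exact y₂.2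
        · exact mul_mem y₁.2 y₂.2
      obtain ⟨A', hA'⟩ := PSL2.pr_surjective (ε ⟨Φ.refl i, huL⟩)
      have hu' : Θ (Φ.refl i) = PSL2.conjP (Matrix.SpecialLinearGroup.toGL A') := by
        rw [PSL2.conjP_toGL, hA']; exact hΘL ⟨_, huL⟩
      have hmm : ε x' * ε x' ≠ 1 := fun e => hx1 (by
        rw [← map_mul, ← map_one ε] at e
        have := congrArg Subtype.val (ε.injective e)
        rw [Subgroup.coe_mul, ← hxL] at this
        exact orderOf_eq_one_iff.1 (Nat.eq_one_of_dvd_coprimes hodd.coprime_two_left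
          (orderOf_dvd_of_pow_eq_one (show x ^ 2 = 1 by rw [pow_two, this]; rfl)) dvd_rfl))
      have hA'' : Θ Φ.t = PSL2.conjP (Matrix.SpecialLinearGroup.toGL A) := by rw [PSL2.conjP_toGL, hA, ht1]
      have hn : Θ Φ.t ≠ 1 := fun e => Φ.t_ne (hΘ (e.trans (map_one Θ).symm))
      have hq : Θ Φ.t * Θ Φ.t = 1 := by rw [← map_mul, Φ.tt, map_one]
      refine Φ.refl_ne i (hΘ (hu'.trans ?_))
      rw [hA'']
      exact Psl.inndiag_unique h2F (hu' ▸ hu1) (hu' ▸ hu2) (hA'' ▸ hn) (hA'' ▸ hq) hmm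
        (hu' ▸ fixes _ hxu) (hA'' ▸ fixes _ hxt)
  · -- `A₇`: the image in the symmetric group consists of even permutations
    let aut : Equiv.Perm (Fin 7) ≃* MulAut (alternatingGroup (Fin 7)) :=
      MulEquiv.ofBijective _ (S2119.result 7 (by norm_num) (by norm_num))
    let τ : X →* Equiv.Perm (Fin 7) :=
      aut.symm.toMonoidHom.comp ((MulAut.congr ε).toMonoidHom.comp MulAut.conjNormal)
    have hτ : Function.Injective τ := (injective_iff_map_eq_one τ).2 fun y hy =>
      hker y ((MulAut.congr ε).injective (aut.symm.injective (by rw [map_one, map_one]; exact hy)))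
    have hτL : ∀ y : L, τ y = (ε y : Equiv.Perm (Fin 7)) := fun y => by
      refine aut.injective ?_
      show aut (aut.symm (MulAut.congr ε (MulAut.conjNormal (y : X)))) = aut _
      rw [MulEquiv.apply_symm_apply]
      refine MulEquiv.ext fun z => Subtype.ext ?_
      obtain ⟨z, rfl⟩ := ε.surjective z
      simp [aut, MulAut.congr, MulAut.conjNormal_apply]
      have : MulAut.conjNormal (y : X) z = y * z * y⁻¹ := Subtype.ext (MulAut.conjNormal_apply _ _)
      rw [this]
      simp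
    have hA7 : alternatingGroup (Fin 7) ≤ τ.range := fun g hg => ⟨ε.symm ⟨g, hg⟩, by rw [hτL, MulEquiv.apply_symm_apply]⟩
    have hle : τ.range ≤ alternatingGroup (Fin 7) := by
      rintro _ ⟨y, rfl⟩
      by_contra hy
      rw [Equiv.Perm.mem_alternatingGroup] at hy
      have hy' : Equiv.Perm.sign (τ y) = -1 := (Int.units_eq_one_or _).resolve_left hy
      have hall : ∀ g : Equiv.Perm (Fin 7), g ∈ τ.range := by
        intro g
        rcases Int.units_eq_one_or (Equiv.Perm.sign g) with hg | hg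
        · exact hA7 (Equiv.Perm.mem_alternatingGroup.2 hg)
        · have h : g * τ y ∈ τ.range := hA7 (Equiv.Perm.mem_alternatingGroup.2 (by
            rw [map_mul, hg, hy']; rfl))
          have := mul_mem h (inv_mem (⟨y, rfl⟩ : τ y ∈ τ.range))
          rwa [mul_inv_cancel_right] at this
      obtain ⟨a, ha⟩ := hall (Equiv.swap 0 1)
      obtain ⟨b, hb⟩ := hall (Equiv.swap 2 3)
      obtain ⟨c, hc⟩ := hall (Equiv.swap 4 5)
      rcases sylow_three_involutions Φ.S Φ.ι.symm (a := a) (b := b) (c := c)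
          (hτ (by rw [map_mul, ha, map_one]; decide +kernel))
          (hτ (by rw [map_mul, hb, map_one]; decide +kernel))
          (hτ (by rw [map_mul, hc, map_one]; decide +kernel))
          (hτ (by rw [map_mul, map_mul, ha, hb]; decide +kernel))
          (hτ (by rw [map_mul, map_mul, ha, hc]; decide +kernel))
          (hτ (by rw [map_mul, map_mul, hb, hc]; decide +kernel))
          (fun e => by rw [e, map_one] at ha; exact absurd ha (by decide +kernel))
          (fun e => by rw [e, map_one] at hb; exact absurd hb (by decide +kernel))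
          (fun e => by rw [e, hb] at ha; exact absurd ha (by decide +kernel)) with e | e | e | e <;>
        rw [e] at hc <;> simp only [map_one, map_mul, ha, hb] at hc <;> exact absurd hc (by decide +kernel)
    have e7 : X ≃* alternatingGroup (Fin 7) :=
      (MonoidHom.ofInjective hτ).trans (MulEquiv.subgroupCongr (le_antisymm hle hA7))
    refine ⟨?_, ⟨e7⟩⟩
    have hd := (Φ.S : Subgroup X).card_subgroup_dvd_card
    rw [Nat.card_congr Φ.ι.symm.toEquiv, DihedralGroup.nat_card, Nat.card_congr e7.toEquiv,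
      nat_card_alternatingGroup, Nat.card_fin] at hd
    by_contra hne
    have h16 : 16 ∣ 2 * 2 ^ Φ.k := by
      rw [← pow_succ']; exact (show (16 : ℕ) = 2 ^ 4 by norm_num) ▸ pow_dvd_pow 2 (by omega)
    exact absurd (h16.trans hd) (by decide)

end Cfsg.Agent.GW
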