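import Cfsg.Agent.Lib.GW.MaxControlSetup
import Cfsg.Agent.Lib.GW.MaxControlModel
import Cfsg.Agent.Lib.GW.MaxControlAlt

/-!
# A central element of a core fixed by a reflection: the section `C(p)/O(C(p))`

It is `A₇`; so the Sylow two-subgroups have order eight and the centre of `O_q(C)` has order three.
-/

set_option autoImplicit false
set_option linter.unusedSectionVars false
set_option linter.style.haveILetI false

namespace Cfsg.Agent.GW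

open Cfsg Cfsg.Agent DihedralGroup

universe u

variable {G : Type u} [Group G] [Finite G]

namespace Frame

variable (Φ : Frame G) (H : Subgroup G) (hSH : (Φ.S : Subgroup G) ≤ H)

/-- `S` mapped into the section `H/O(H)` -/
def sectMap : DihedralGroup (2 ^ Φ.k) →* ↥H ⧸ Cfsg.oddCore ↥H :=
  (QuotientGroup.mk' (Cfsg.oddCore ↥H)).comp (Φ.hom.codRestrict H fun d => hSH (Φ.hom_range ▸ ⟨d, rfl⟩))

theorem sectMap_inj : Function.Injective (Φ.sectMap H hSH) := by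
  haveI : Fact (Nat.Prime 2) := ⟨Nat.prime_two⟩
  rw [injective_iff_map_eq_one]
  intro d hd
  have h1 : (⟨Φ.hom d, hSH (Φ.hom_range ▸ ⟨d, rfl⟩)⟩ : ↥H) ∈ Cfsg.oddCore ↥H := (QuotientGroup.eq_one_iff _).1 hd
  have ho : orderOf (Φ.hom d) ∣ Nat.card ↥(Cfsg.oddCore ↥H) := by
    have := Subgroup.orderOf_dvd_natCard _ h1
    rwa [Subgroup.orderOf_mk] at this
  have hd2 : Φ.hom d ∈ (Φ.S : Subgroup G) := Φ.hom_range ▸ ⟨d, rfl⟩
  obtain ⟨j, hj⟩ := IsPGroup.iff_orderOf.1 Φ.S.isPGroup' ⟨_, hd2⟩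
  rw [Subgroup.orderOf_mk] at hj
  refine Φ.hom_inj ((orderOf_eq_one_iff.1 ?_).trans (map_one _).symm)
  exact Nat.eq_one_of_dvd_coprimes (a := 2 ^ j) (b := Nat.card ↥(Cfsg.oddCore ↥H))
    ((Nat.coprime_two_left.2 (Nat.coprime_two_right.1 (Fusion.card_pPrimeCore_coprime 2 _))).pow_left j)
    (hj ▸ dvd_rfl) ho

theorem sectMap_range :
    (Φ.sectMap H hSH).range =
      ((Φ.S.subtype hSH).mapSurjective (QuotientGroup.mk'_surjective (Cfsg.oddCore ↥H)) : Subgroup _) := by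
  haveI : Fact (Nat.Prime 2) := ⟨Nat.prime_two⟩
  rw [sectMap, MonoidHom.range_comp, Sylow.coe_mapSurjective, Sylow.coe_subtype]
  congr 1
  ext ⟨x, hx⟩
  rw [Subgroup.mem_subgroupOf]
  constructor
  · rintro ⟨d, hd⟩
    exact Φ.hom_range ▸ ⟨d, congrArg Subtype.val hd⟩
  · intro h
    obtain ⟨d, hd⟩ := Φ.hom_range ▸ h
    exact ⟨d, Subtype.ext hd⟩

/-- the frame of the section -/
noncomputable abbrev sect : Frame (↥H ⧸ Cfsg.oddCore ↥H) where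
  S := (Φ.S.subtype hSH).mapSurjective (QuotientGroup.mk'_surjective _)
  k := Φ.k
  hk := Φ.hk
  ι := (MonoidHom.ofInjective (Φ.sectMap_inj H hSH)).trans (MulEquiv.subgroupCongr (Φ.sectMap_range H hSH))

theorem sect_t :
    (Φ.sect H hSH).t = QuotientGroup.mk' (Cfsg.oddCore ↥H) ⟨Φ.t, hSH Φ.t_mem⟩ := rfl

theorem sect_refl (i : ZMod (2 ^ Φ.k)) :
    (Φ.sect H hSH).refl i = QuotientGroup.mk' (Cfsg.oddCore ↥H) ⟨Φ.refl i, hSH (Φ.refl_mem i)⟩ := rfl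

theorem half_two (hk : Φ.k = 2) : ((2 ^ Φ.k / 2 : ℕ) : ZMod (2 ^ Φ.k)) = 2 := by
  rw [show 2 ^ Φ.k / 2 = 2 by rw [hk]; norm_num, Nat.cast_ofNat]

theorem four_zero (hk : Φ.k = 2) : (4 : ZMod (2 ^ Φ.k)) = 0 := by
  rw [← Nat.cast_ofNat (R := ZMod (2 ^ Φ.k)) (n := 4), ZMod.natCast_eq_zero_iff, hk]
  norm_num

theorem refl_conj_refl (hk : Φ.k = 2) (i : ZMod (2 ^ Φ.k)) :
    Φ.refl i * Φ.refl (i + 1) * Φ.refl i = Φ.t * Φ.refl (i + 1) := by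
  rw [← Φ.hom_half, Φ.half_two hk, ← Φ.hom_sr, ← Φ.hom_sr, ← map_mul, ← map_mul, ← map_mul, sr_mul_sr, r_mul_sr,
    r_mul_sr]
  congr 2
  ring

theorem refl_add_two (hk : Φ.k = 2) (i : ZMod (2 ^ Φ.k)) : Φ.refl (i + 2) = Φ.t * Φ.refl i := by
  rw [← Φ.hom_half, Φ.half_two hk, ← Φ.hom_sr, ← Φ.hom_sr, ← map_mul, r_mul_sr]
  congr 2
  linear_combination Φ.four_zero hk

end Frame

/-- the section data: `W = O(C(p))` -/
structure PSect (Φ : Frame G) (i : ZMod (2 ^ Φ.k)) (q : ℕ) (x p : G) (W : Subgroup G) : Prop where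
  k_two : Φ.k = 2
  x_three : x ^ 3 = 1
  x_out : x ∉ W
  odd : Odd (Nat.card ↥W)
  le : ∀ w ∈ W, Commute w p
  norm : ∀ g : G, Commute g p → g ∈ Subgroup.normalizer (W : Set G)
  fus : ∃ g : G, Commute g p ∧ g * (Φ.t * Φ.refl (i + 1)) * g⁻¹ = Φ.t
  fixed : ∀ T : Subgroup G, T ≤ W → IsPGroup q ↥T → Φ.t ∈ Subgroup.normalizer (T : Set G) → ∀ a ∈ T, Commute a Φ.t
  centre : ∀ z ∈ fq q (Subgroup.centralizer ({Φ.t} : Set G)),
    (∀ w ∈ fq q (Subgroup.centralizer ({Φ.t} : Set G)), Commute z w) → z = 1 ∨ z = x ∨ z = x * x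
  split : ∀ a, Commute a p → Odd (orderOf a) → Commute a Φ.t → ∃ j : ℕ, j < 3 ∧ (x ^ j)⁻¹ * a ∈ W
  move_u : ∃ n, Commute n p ∧ n * Φ.t * n⁻¹ * Φ.refl i ∈ W
  move_tu : ∃ n, Commute n p ∧ n * Φ.t * n⁻¹ * (Φ.t * Φ.refl i) ∈ W
  word : ∃ n, Commute n p ∧ n * Φ.t * n⁻¹ * Φ.refl (i + 1) ∈ W ∧
    n * Φ.refl (i + 1) * n⁻¹ * (Φ.t * Φ.refl (i + 1)) ∈ W ∧
    ∃ w, w = n * x * n⁻¹ * (n * (n * x * n⁻¹) * n⁻¹) * (n * x * n⁻¹) * (n * (n * x * n⁻¹) * n⁻¹) * (n * x * n⁻¹) ∧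
      (w * Φ.refl i ∈ W ∨ w * (Φ.t * Φ.refl i) ∈ W)

variable [IsSimpleGroup G] {Φ : Frame G}

theorem PData.x_facts {i : ZMod (2 ^ Φ.k)} {q : ℕ} {Q : Subgroup G} {x ρ p : G} (d : PData Φ i q Q x ρ p) :
    x ∈ Q ∧ x ∈ Φ.O ∧ Commute x Φ.t ∧ Commute x (Φ.refl i) ∧ Commute x p ∧ Odd (orderOf x) ∧ p ∈ Φ.O ∧
      Commute p Φ.t ∧ Odd (orderOf p) := by
  have hxQ := d.fq_le d.x_mem
  have hO : ∀ z ∈ Φ.O, Commute z Φ.t := fun z hz => Subgroup.mem_centralizer_singleton_iff.1 (Φ.O_le hz)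
  exact ⟨hxQ, d.syl.1 hxQ, hO _ (d.syl.1 hxQ), d.fix x hxQ, d.x_Q p d.p_Q, odd_orderOf Φ.O_odd (d.syl.1 hxQ),
    d.syl.1 d.p_Q, hO _ (d.syl.1 d.p_Q), odd_orderOf Φ.O_odd (d.syl.1 d.p_Q)⟩

/-- **the section is `A₇`** -/
theorem PData.exists_sect (hG : Minimal G) (h : MaxCent Φ.t Φ.O) (hrot : Rotates Φ.t) {i : ZMod (2 ^ Φ.k)} {q : ℕ}
    {Q : Subgroup G} {x ρ p : G} (d : PData Φ i q Q x ρ p) : ∃ W, PSect Φ i q x p W := by
  haveI := Fact.mk d.prime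
  haveI : Fact (Nat.Prime 2) := ⟨Nat.prime_two⟩
  obtain ⟨hxQ, hxO, hxt, hxu, hxp, hxodd, hpO, hpt, hpodd⟩ := d.x_facts
  obtain ⟨ρ', hρ't, hρ'u⟩ := hrot _ (Φ.uu (i + 1)) (Φ.refl_ne_one (i + 1)) (Φ.refl_ne (i + 1)) (Φ.commute (i + 1))
  have hpq : IsPGroup q ↥(Subgroup.zpowers p) := d.syl.isPGroup.to_le (Subgroup.zpowers_le.2 d.p_Q)
  obtain ⟨g, hgp, hge⟩ := h.exists_fusion d.hk i d.syl d.fix hρ't hρ'u hpO hpq d.p_S
  obtain ⟨H, hH⟩ : ∃ H, H = Subgroup.centralizer ({p} : Set G) := ⟨_, rfl⟩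
  have hmH : ∀ {a : G}, a ∈ H ↔ Commute a p := fun {a} => by
    rw [hH, Subgroup.mem_centralizer_singleton_iff]
    exact Iff.rfl
  have hSH : (Φ.S : Subgroup G) ≤ H := fun s hs => hmH.2 (d.p_S s hs).symm
  have hHtop : H ≠ ⊤ := by
    intro e
    have hp : p ∈ Subgroup.center G :=
      Subgroup.mem_center_iff.2 fun a => (hmH.1 (e ▸ Subgroup.mem_top a)).eq
    rcases (inferInstance : (Subgroup.center G).Normal).eq_bot_or_eq_top with hb | hb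
    · rw [hb, Subgroup.mem_bot] at hp
      exact d.p_ne hp
    · exact hG.nonab ⟨⟨fun a b => (Subgroup.mem_center_iff.1 (hb ▸ Subgroup.mem_top b) a)⟩⟩
  obtain ⟨W, hW⟩ : ∃ W, W = (Cfsg.oddCore ↥H).map H.subtype := ⟨_, rfl⟩
  have hWH : W ≤ H := hW ▸ Subgroup.map_subtype_le _
  have hWodd : Odd (Nat.card ↥W) := by
    rw [hW, Subgroup.card_map_of_injective H.subtype_injective]
    exact Nat.coprime_two_right.1 (Fusion.card_pPrimeCore_coprime 2 _)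
  have hWn : ∀ a, Commute a p → a ∈ Subgroup.normalizer (W : Set G) := by
    intro a ha
    refine mem_normalizer_of_conj fun w hw => ?_
    rw [hW] at hw ⊢
    obtain ⟨w, hw, rfl⟩ := hw
    haveI : (Cfsg.oddCore ↥H).Characteristic := Fusion.pPrimeCore_characteristic
    exact ⟨⟨a, hmH.2 ha⟩ * w * ⟨a, hmH.2 ha⟩⁻¹,
      (inferInstance : (Cfsg.oddCore ↥H).Normal).conj_mem w hw ⟨a, hmH.2 ha⟩, rfl⟩
  obtain ⟨π, hπ⟩ : ∃ π, π = QuotientGroup.mk' (Cfsg.oddCore ↥H) := ⟨_, rfl⟩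
  have hker : ∀ a : ↥H, π a = 1 ↔ (a : G) ∈ W := fun a => by
    rw [hπ, hW]
    constructor
    · exact fun e => ⟨a, (QuotientGroup.eq_one_iff a).1 e, rfl⟩
    · rintro ⟨b, hb, e⟩
      exact (QuotientGroup.eq_one_iff a).2 (Subtype.ext e ▸ hb)
  have hxH : x ∈ H := hmH.2 hxp
  have hxq : IsPGroup q ↥(Subgroup.zpowers x) := d.syl.isPGroup.to_le (Subgroup.zpowers_le.2 hxQ)
  have hxC := (d.centre x d.x_mem d.x_cent d.x_ne).1
  -- `t` centralises the invariant `q`-subgroups of `W`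
  have hfixed : ∀ T : Subgroup G, T ≤ W → IsPGroup q ↥T → Φ.t ∈ Subgroup.normalizer (T : Set G) →
      ∀ a ∈ T, Commute a Φ.t := by
    intro T hTW hT htT
    obtain ⟨X₁, hX₁⟩ : ∃ X₁, X₁ = ((Subgroup.zpowers (π ⟨x, hxH⟩)).comap π).map H.subtype := ⟨_, rfl⟩
    have hm : ∀ {a : G}, a ∈ X₁ ↔ ∃ ha : a ∈ H, π ⟨a, ha⟩ ∈ Subgroup.zpowers (π ⟨x, hxH⟩) := fun {a} => by
      rw [hX₁]
      constructor
      · rintro ⟨b, hb, rfl⟩
        exact ⟨b.2, hb⟩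
      · rintro ⟨ha, hb⟩
        exact ⟨⟨a, ha⟩, hb, rfl⟩
    have hodd : Odd (Nat.card ↥X₁) := by
      by_contra hev
      obtain ⟨⟨a, ha⟩, ha2⟩ := exists_prime_orderOf_dvd_card' (G := ↥X₁) 2
        (even_iff_two_dvd.1 (Nat.not_odd_iff_even.1 hev))
      rw [Subgroup.orderOf_mk] at ha2
      obtain ⟨haH, hb⟩ := hm.1 ha
      have hodd' : Odd (orderOf (π ⟨x, hxH⟩)) :=
        hxodd.of_dvd_nat ((orderOf_map_dvd π _).trans (dvd_of_eq (Subgroup.orderOf_mk _ hxH)))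
      have h1 : orderOf (π ⟨a, haH⟩) ∣ orderOf (π ⟨x, hxH⟩) := by
        rw [← Nat.card_zpowers (π ⟨x, hxH⟩)]
        exact Subgroup.orderOf_dvd_natCard _ hb
      have h2 : orderOf (π ⟨a, haH⟩) ∣ 2 := by
        have := orderOf_map_dvd π ⟨a, haH⟩
        rwa [Subgroup.orderOf_mk, ha2] at this
      have h3 : a ∈ W := (hker ⟨a, haH⟩).1 (orderOf_eq_one_iff.1
        (Nat.eq_one_of_dvd_coprimes hodd'.coprime_two_left h2 h1))
      have h4 := odd_orderOf hWodd h3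
      rw [ha2] at h4
      exact absurd h4 (by decide)
    refine invariant_centralised Φ.tt hodd (mem_normalizer_of_conj fun a ha => ?_)
      (hm.2 ⟨hxH, Subgroup.mem_zpowers _⟩) hxq hxt hxC
      (fun b hb => hm.2 ⟨hWH (hTW hb), by rw [(hker ⟨b, hWH (hTW hb)⟩).2 (hTW hb)]; exact one_mem _⟩) hT htT
    obtain ⟨haH, hb⟩ := hm.1 ha
    have htH : Φ.t ∈ H := hSH Φ.t_mem
    refine hm.2 ⟨mul_mem (mul_mem htH haH) (inv_mem htH), ?_⟩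
    rw [show (⟨Φ.t * a * Φ.t⁻¹, mul_mem (mul_mem htH haH) (inv_mem htH)⟩ : ↥H) =
      ⟨Φ.t, htH⟩ * ⟨a, haH⟩ * ⟨Φ.t, htH⟩⁻¹ from rfl, map_mul, map_mul, map_inv]
    obtain ⟨j, hj⟩ := hb
    rw [← hj, (((show Commute (⟨Φ.t, htH⟩ : ↥H) ⟨x, hxH⟩ from Subtype.ext hxt.symm.eq).map π).zpow_right j).eq,
      mul_inv_cancel_right]
    exact ⟨j, rfl⟩
  -- the centre of the core avoids `W`
  have hout : ∀ z ∈ fq q (Subgroup.centralizer ({Φ.t} : Set G)),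
      (∀ w ∈ fq q (Subgroup.centralizer ({Φ.t} : Set G)), Commute z w) → z ∈ W → z = 1 := by
    intro z hz hzc hzW
    by_contra hz1
    obtain ⟨-, hzv⟩ := d.centre z hz hzc hz1
    have hzt : Commute z Φ.t := Subgroup.mem_centralizer_singleton_iff.1 (Φ.O_le (d.syl.1 (d.fq_le hz)))
    have he : Φ.t * Φ.refl (i + 1) * z * (Φ.t * Φ.refl (i + 1))⁻¹ = z⁻¹ := by
      rw [show Φ.t * Φ.refl (i + 1) * z * (Φ.t * Φ.refl (i + 1))⁻¹ =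
        Φ.t * (Φ.refl (i + 1) * z * (Φ.refl (i + 1))⁻¹) * Φ.t⁻¹ by group, hzv, hzt.symm.inv_right.eq,
        mul_inv_cancel_right]
    refine hz1 (eq_one_of_inv_fix (odd_orderOf Φ.O_odd (d.syl.1 (d.fq_le hz))) he ?_)
    exact (invariant_centralised_conj (hWn g hgp) hge hfixed (Subgroup.zpowers_le.2 hzW)
      (d.syl.isPGroup.to_le (Subgroup.zpowers_le.2 (d.fq_le hz))) (mem_norm_zpowers_inv he) z
      (Subgroup.mem_zpowers z)).symm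
  -- the images
  have hzX : ∀ z ∈ fq q (Subgroup.centralizer ({Φ.t} : Set G)),
      (∀ w ∈ fq q (Subgroup.centralizer ({Φ.t} : Set G)), Commute z w) → z ≠ 1 → ∀ hzH : z ∈ H,
      π ⟨z, hzH⟩ ≠ 1 ∧ Odd (orderOf (π ⟨z, hzH⟩)) ∧ Commute (π ⟨z, hzH⟩) (Φ.sect H hSH).t ∧
        Commute (π ⟨z, hzH⟩) ((Φ.sect H hSH).refl i) ∧
        (Φ.sect H hSH).refl (i + 1) * π ⟨z, hzH⟩ * ((Φ.sect H hSH).refl (i + 1))⁻¹ = (π ⟨z, hzH⟩)⁻¹ := by
    intro z hz hzc hz1 hzH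
    have hzQ := d.fq_le hz
    refine ⟨fun e => hz1 (hout z hz hzc ((hker _).1 e)), (odd_orderOf Φ.O_odd (d.syl.1 hzQ)).of_dvd_nat
      ((orderOf_map_dvd π _).trans (dvd_of_eq (Subgroup.orderOf_mk _ hzH))), ?_, ?_, ?_⟩
    · rw [Φ.sect_t, ← hπ]
      exact (show Commute (⟨z, hzH⟩ : ↥H) ⟨Φ.t, hSH Φ.t_mem⟩ from Subtype.ext
        (Subgroup.mem_centralizer_singleton_iff.1 (Φ.O_le (d.syl.1 hzQ)))).map π
    · rw [Φ.sect_refl, ← hπ]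
      exact (show Commute (⟨z, hzH⟩ : ↥H) ⟨Φ.refl i, hSH (Φ.refl_mem i)⟩ from Subtype.ext (d.fix z hzQ).eq).map π
    · rw [Φ.sect_refl, ← hπ, ← map_inv, ← map_inv, ← map_mul, ← map_mul]
      exact congrArg π (Subtype.ext (d.centre z hz hzc hz1).2)
  obtain ⟨hξ1, hξodd, hξt, hξu, hξv⟩ := hzX x d.x_mem d.x_cent d.x_ne hxH
  have hlt : Nat.card ↥H < Nat.card G := lt_of_le_of_ne H.card_le_card_group fun e => hHtop (H.eq_top_of_card_eq e)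
  obtain ⟨hk2, ⟨e7⟩⟩ := model_residual Fusion.pPrimeCore_quotient_eq_bot (Φ.sect H hSH) d.hk
    (fun L _ SL j hj hd => hG.below L SL j
      (lt_of_le_of_lt (L.card_le_card_group.trans (Nat.le_of_dvd Nat.card_pos
        (Subgroup.card_quotient_dvd_card _))) hlt) hj hd) i hξ1 hξodd hξt hξu hξv
  have hk2' : Φ.k = 2 := hk2
  obtain ⟨S', hS'⟩ : ∃ S', S' = Φ.sect H hSH := ⟨_, rfl⟩
  have hv2 : ∀ a b : ↥H, (b : G) * b = 1 → π a = π b → (a : G) * b ∈ W := fun a b hb e => by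
    rw [← Subgroup.coe_mul]
    refine (hker _).1 ?_
    rw [map_mul, e, ← map_mul, show b * b = 1 from Subtype.ext hb, map_one]
  have hvinv : ∀ i, ((Φ.sect H hSH).refl i)⁻¹ = (Φ.sect H hSH).refl i := fun i =>
    inv_eq_of_mul_eq_one_right ((Φ.sect H hSH).uu i)
  obtain ⟨hF1, ⟨n₁, hn₁⟩, n₃, hn₃, hn₃', w₃, hw₃, hww⟩ := AltSeven.residual_facts e7 (Φ.sect H hSH).tt
    (Φ.sect H hSH).t_ne ((Φ.sect H hSH).uu i) ((Φ.sect H hSH).refl_ne_one i) ((Φ.sect H hSH).refl_ne i)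
    ((Φ.sect H hSH).commute i).symm ((Φ.sect H hSH).uu (i + 1)) ((Φ.sect H hSH).refl_ne_one (i + 1))
    ((Φ.sect H hSH).refl_ne (i + 1)) ((Φ.sect H hSH).commute (i + 1)).symm
    ((Φ.sect H hSH).refl_conj_refl hk2' i) hξ1 hξodd hξt hξu
    (by have := hξv; rwa [hvinv] at this)
  -- the same with `tu`
  obtain ⟨τ, hτ⟩ : ∃ τ, τ = (Φ.sect H hSH).t := ⟨_, rfl⟩
  obtain ⟨-, ⟨n₂, hn₂⟩, -⟩ := AltSeven.residual_facts e7 (Φ.sect H hSH).tt (Φ.sect H hSH).t_ne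
    (a := (Φ.sect H hSH).t * (Φ.sect H hSH).refl i)
    (by rw [((Φ.sect H hSH).commute i).symm.mul_mul_mul_comm, (Φ.sect H hSH).tt, (Φ.sect H hSH).uu, one_mul])
    (fun e => (Φ.sect H hSH).refl_ne i (by
      rw [← inv_eq_of_mul_eq_one_right e, inv_eq_of_mul_eq_one_right (Φ.sect H hSH).tt]))
    (fun e => (Φ.sect H hSH).refl_ne_one i (mul_left_cancel (e.trans (mul_one _).symm)))
    ((Commute.refl _).mul_left ((Φ.sect H hSH).commute i).symm) ((Φ.sect H hSH).uu (i + 1))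
    ((Φ.sect H hSH).refl_ne_one (i + 1)) ((Φ.sect H hSH).refl_ne (i + 1))
    ((Φ.sect H hSH).commute (i + 1)).symm
    (by
      rw [← (Φ.sect H hSH).refl_conj_refl hk2' i]
      have hc := (Φ.sect H hSH).commute i
      have hc' := (Φ.sect H hSH).commute (i + 1)
      have ht2 := (Φ.sect H hSH).tt
      calc (Φ.sect H hSH).t * (Φ.sect H hSH).refl i * (Φ.sect H hSH).refl (i + 1) *
            ((Φ.sect H hSH).t * (Φ.sect H hSH).refl i)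
          = (Φ.sect H hSH).t * (((Φ.sect H hSH).refl i * (Φ.sect H hSH).refl (i + 1)) * (Φ.sect H hSH).t) *
              (Φ.sect H hSH).refl i := by group
        _ = _ := by
          rw [((hc.mul_right hc').symm).eq, ← mul_assoc, ← mul_assoc, ht2, one_mul])
    hξ1 hξodd hξt (hξt.mul_right hξu) (by have := hξv; rwa [hvinv] at this)
  obtain ⟨n₁, rfl⟩ := QuotientGroup.mk'_surjective _ n₁
  obtain ⟨n₂, rfl⟩ := QuotientGroup.mk'_surjective _ n₂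
  obtain ⟨n₃, rfl⟩ := QuotientGroup.mk'_surjective _ n₃
  have htH : Φ.t ∈ H := hSH Φ.t_mem
  have huH : ∀ i, Φ.refl i ∈ H := fun i => hSH (Φ.refl_mem i)
  have hxcube : π ⟨x, hxH⟩ ^ 3 = 1 := by
    have hx2 : π ⟨x, hxH⟩ * π ⟨x, hxH⟩ ≠ 1 := fun e => hξ1 (orderOf_eq_one_iff.1
      (Nat.eq_one_of_dvd_coprimes hξodd.coprime_two_left (orderOf_dvd_of_pow_eq_one (by rw [pow_two, e])) dvd_rfl))
    rcases hF1 (π ⟨x, hxH⟩ ^ 3) (hξodd.of_dvd_nat (orderOf_pow_dvd 3)) (hξt.pow_left 3) with e | e | e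
    · exact e
    · rw [pow_succ', ← mul_one (π ⟨x, hxH⟩ ^ 2)] at e
      exact absurd (mul_left_cancel (e.trans (mul_one _).symm)) (by rw [mul_one, pow_two]; exact hx2)
    · rw [pow_succ, pow_two] at e
      exact absurd (mul_left_cancel (e.trans (mul_one _).symm)) hξ1
  have hxout : x ∉ W := fun e => hξ1 ((hker _).2 e)
  -- the centre has order three
  have hcentre : ∀ z ∈ fq q (Subgroup.centralizer ({Φ.t} : Set G)),
      (∀ w ∈ fq q (Subgroup.centralizer ({Φ.t} : Set G)), Commute z w) → z = 1 ∨ z = x ∨ z = x * x := by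
    intro z hz hzc
    by_cases hz1 : z = 1
    · exact Or.inl hz1
    have hzH : z ∈ H := hmH.2 ((d.p_cent z (d.fq_le hz)).symm)
    obtain ⟨hz0, hzo, hzt, -, -⟩ := hzX z hz hzc hz1 hzH
    rcases hF1 _ hzo hzt with e | e | e
    · exact absurd e hz0
    · refine Or.inr (Or.inl (inv_mul_eq_one.1 (hout _ (mul_mem (inv_mem d.x_mem) hz)
        (fun w hw => (d.x_cent w hw).inv_left.mul_left (hzc w hw)) ?_)).symm)
      refine (hker (⟨x, hxH⟩⁻¹ * ⟨z, hzH⟩)).1 ?_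
      rw [map_mul, map_inv, e, inv_mul_cancel]
    · refine Or.inr (Or.inr (inv_mul_eq_one.1 (hout _ (mul_mem (inv_mem (mul_mem d.x_mem d.x_mem)) hz)
        (fun w hw => ((d.x_cent w hw).mul_left (d.x_cent w hw)).inv_left.mul_left (hzc w hw)) ?_)).symm)
      refine (hker ((⟨x, hxH⟩ * ⟨x, hxH⟩)⁻¹ * ⟨z, hzH⟩)).1 ?_
      rw [map_mul, map_inv, map_mul, e, inv_mul_cancel]
  refine ⟨W, hk2', hout _ (pow_mem d.x_mem 3) (fun w hw => (d.x_cent w hw).pow_left 3) ?_, hxout, hWodd,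
    fun w hw => hmH.1 (hWH hw), hWn, ⟨g, hgp, hge⟩, hfixed, hcentre, ?_, ?_, ?_, ?_⟩
  · exact (hker (⟨x, hxH⟩ ^ 3)).1 (by rw [map_pow, hxcube])
  · intro a hap hao hat
    have hc : Commute (π ⟨a, hmH.2 hap⟩) (Φ.sect H hSH).t := by
      rw [Φ.sect_t, ← hπ]
      exact (show Commute (⟨a, hmH.2 hap⟩ : ↥H) ⟨Φ.t, htH⟩ from Subtype.ext hat.eq).map π
    have ho : Odd (orderOf (π ⟨a, hmH.2 hap⟩)) :=
      hao.of_dvd_nat ((orderOf_map_dvd π _).trans (dvd_of_eq (Subgroup.orderOf_mk _ _)))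
    rcases hF1 _ ho hc with e | e | e
    · exact ⟨0, by norm_num, by rw [pow_zero, inv_one, one_mul]; exact (hker _).1 e⟩
    · refine ⟨1, by norm_num, ?_⟩
      rw [pow_one]
      exact (hker (⟨x, hxH⟩⁻¹ * ⟨a, hmH.2 hap⟩)).1 (by rw [map_mul, map_inv, e, inv_mul_cancel])
    · refine ⟨2, by norm_num, ?_⟩
      rw [pow_two]
      exact (hker ((⟨x, hxH⟩ * ⟨x, hxH⟩)⁻¹ * ⟨a, hmH.2 hap⟩)).1
        (by rw [map_mul, map_inv, map_mul, e, inv_mul_cancel])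
  · refine ⟨n₁, hmH.1 n₁.2, hv2 (n₁ * ⟨Φ.t, htH⟩ * n₁⁻¹) ⟨Φ.refl i, huH i⟩ (Φ.uu i) ?_⟩
    rw [map_mul, map_mul, map_inv, hπ]
    exact hn₁
  · refine ⟨n₂, hmH.1 n₂.2, hv2 (n₂ * ⟨Φ.t, htH⟩ * n₂⁻¹) (⟨Φ.t, htH⟩ * ⟨Φ.refl i, huH i⟩) ?_ ?_⟩
    · rw [Subgroup.coe_mul, (Φ.commute i).symm.mul_mul_mul_comm, Φ.tt, Φ.uu, one_mul]
    · rw [map_mul, map_mul, map_inv, map_mul, hπ]
      exact hn₂
  · refine ⟨n₃, hmH.1 n₃.2, hv2 (n₃ * ⟨Φ.t, htH⟩ * n₃⁻¹) ⟨Φ.refl (i + 1), huH _⟩ (Φ.uu _) ?_,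
      hv2 (n₃ * ⟨Φ.refl (i + 1), huH _⟩ * n₃⁻¹) (⟨Φ.t, htH⟩ * ⟨Φ.refl (i + 1), huH _⟩) ?_ ?_, _, rfl, ?_⟩
    · rw [map_mul, map_mul, map_inv, hπ]
      exact hn₃
    · rw [Subgroup.coe_mul, (Φ.commute (i + 1)).symm.mul_mul_mul_comm, Φ.tt, Φ.uu, one_mul]
    · rw [map_mul, map_mul, map_inv, map_mul, hπ]
      exact hn₃'
    · obtain ⟨a, ha⟩ : ∃ a : ↥H, a = n₃ * ⟨x, hxH⟩ * n₃⁻¹ * (n₃ * (n₃ * ⟨x, hxH⟩ * n₃⁻¹) * n₃⁻¹) *
          (n₃ * ⟨x, hxH⟩ * n₃⁻¹) * (n₃ * (n₃ * ⟨x, hxH⟩ * n₃⁻¹) * n₃⁻¹) * (n₃ * ⟨x, hxH⟩ * n₃⁻¹) := ⟨_, rfl⟩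
      have haw : π a = w₃ := by rw [ha, hw₃, hπ]; simp only [map_mul, map_inv]
      have hag : (a : G) = (n₃ : G) * x * (n₃ : G)⁻¹ * ((n₃ : G) * ((n₃ : G) * x * (n₃ : G)⁻¹) * (n₃ : G)⁻¹) *
          ((n₃ : G) * x * (n₃ : G)⁻¹) * ((n₃ : G) * ((n₃ : G) * x * (n₃ : G)⁻¹) * (n₃ : G)⁻¹) *
          ((n₃ : G) * x * (n₃ : G)⁻¹) := by rw [ha]; rfl
      rw [← hag]
      rcases hww with e | e
      · exact Or.inl (hv2 a ⟨Φ.refl i, huH i⟩ (Φ.uu i) (by rw [haw, e, hπ]; rfl))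
      · refine Or.inr (hv2 a (⟨Φ.t, htH⟩ * ⟨Φ.refl i, huH i⟩) ?_ (by rw [haw, e, map_mul, hπ]; rfl))
        rw [Subgroup.coe_mul, (Φ.commute i).symm.mul_mul_mul_comm, Φ.tt, Φ.uu, one_mul]

end Cfsg.Agent.GW
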