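import Cfsg.Agent.Lib.GW.MaxControlBase
import Cfsg.Agent.Lib.GW.MaxControlFour
import Cfsg.Agent.Lib.GW.MaxNoLayer

/-!
# A central element of a core fixed by a reflection: the configuration

The Sylow `q`-subgroup `Q` of `O` normalised by `S` centralises the four group `⟨t, u⟩`; the neighbouring reflection
inverts `Z(O_q(C))`; for `x` central in `Q` and in `O_q(C)` and a rotation `ρ` normalising `Q` the element
`p = x^ρ (x^ρ)^{u'}` is a nontrivial central element of `Q` centralising `S`.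
-/

set_option autoImplicit false
set_option linter.unusedSectionVars false
set_option linter.style.haveILetI false

namespace Cfsg.Agent.GW

open Cfsg Cfsg.Agent DihedralGroup

universe u

variable {G : Type u} [Group G] [Finite G]

/-- the configuration -/
structure PData (Φ : Frame G) (i : ZMod (2 ^ Φ.k)) (q : ℕ) (Q : Subgroup G) (x ρ p : G) : Prop where
  hk : 2 ≤ Φ.k
  prime : q.Prime
  ne_two : q ≠ 2
  syl : Solv.IsSylIn q Q Φ.O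
  norm : (Φ.S : Subgroup G) ≤ Subgroup.normalizer (Q : Set G)
  fix : ∀ z ∈ Q, Commute z (Φ.refl i)
  fq_le : fq q (Subgroup.centralizer ({Φ.t} : Set G)) ≤ Q
  centre : ∀ z ∈ fq q (Subgroup.centralizer ({Φ.t} : Set G)),
    (∀ w ∈ fq q (Subgroup.centralizer ({Φ.t} : Set G)), Commute z w) → z ≠ 1 →
      Subgroup.centralizer ({z} : Set G) ≤ Subgroup.centralizer ({Φ.t} : Set G) ∧
        Φ.refl (i + 1) * z * (Φ.refl (i + 1))⁻¹ = z⁻¹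
  x_mem : x ∈ fq q (Subgroup.centralizer ({Φ.t} : Set G))
  x_cent : ∀ w ∈ fq q (Subgroup.centralizer ({Φ.t} : Set G)), Commute x w
  x_ne : x ≠ 1
  x_Q : ∀ z ∈ Q, Commute x z
  rho_t : ρ * Φ.t * ρ⁻¹ = Φ.refl i
  rho_u : ρ * Φ.refl i * ρ⁻¹ = Φ.t * Φ.refl i
  rho_Q : ∀ z ∈ Q, ρ * z * ρ⁻¹ ∈ Q
  p_def : p = ρ * x * ρ⁻¹ * (Φ.refl (i + 1) * (ρ * x * ρ⁻¹) * (Φ.refl (i + 1))⁻¹)
  p_Q : p ∈ Q
  p_cent : ∀ z ∈ Q, Commute p z
  p_S : ∀ s ∈ (Φ.S : Subgroup G), Commute p s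
  p_ne : p ≠ 1

variable [IsSimpleGroup G] {Φ : Frame G}

/-- **the configuration exists** -/
theorem MaxCent.exists_pdata (hG : Minimal G) (h : MaxCent Φ.t Φ.O) (hrot : Rotates Φ.t) (hno : NoLayer Φ.t)
    (hk : 2 ≤ Φ.k) (i : ZMod (2 ^ Φ.k)) {q : ℕ} (hq : q.Prime) (hq2 : q ≠ 2) {y : G}
    (hy : y ∈ fq q (Subgroup.centralizer ({Φ.t} : Set G)))
    (hyc : ∀ z ∈ fq q (Subgroup.centralizer ({Φ.t} : Set G)), Commute y z) (hyu : Commute y (Φ.refl i))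
    (hy1 : y ≠ 1) : ∃ Q x ρ p, PData Φ i q Q x ρ p := by
  haveI := Fact.mk hq
  obtain ⟨C, hC⟩ : ∃ C, C = Subgroup.centralizer ({Φ.t} : Set G) := ⟨_, rfl⟩
  rw [← hC] at hy hyc
  obtain ⟨t, ht⟩ : ∃ t, t = Φ.t := ⟨_, rfl⟩
  obtain ⟨u, hu⟩ : ∃ u, u = Φ.refl i := ⟨_, rfl⟩
  obtain ⟨v, hv⟩ : ∃ v, v = Φ.refl (i + 1) := ⟨_, rfl⟩
  have htu : Commute Φ.t (Φ.refl i) := Φ.commute i
  obtain ⟨ρ₀, hρ₀t, hρ₀u⟩ := hrot _ (Φ.uu i) (Φ.refl_ne_one i) (Φ.refl_ne i) htu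
  obtain ⟨ρ', hρ't, hρ'u⟩ := hrot _ (Φ.uu (i + 1)) (Φ.refl_ne_one (i + 1)) (Φ.refl_ne (i + 1)) (Φ.commute (i + 1))
  have hfqO : ∀ z ∈ fq q C, z ∈ Φ.O := fun z hz => h.fq_odd_le_core hq hq2 (hC ▸ hz)
  have hgood : ∀ z ∈ fq q C, (∀ w ∈ fq q C, Commute z w) → Commute z (Φ.refl i) → z ≠ 1 →
      Subgroup.centralizer ({z} : Set G) ≤ C := by
    intro z hz hzc hzu hz1
    rw [hC] at hz hzc ⊢
    refine le_trans ?_ (h.center_good hG.nonab hG.kProper hno hrot hq hq2 (Φ.uu i) (Φ.refl_ne_one i) (Φ.refl_ne i)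
      htu hz hzc hzu hz1)
    intro g hg
    refine Subgroup.centralizer_le_normalizer _ (Subgroup.mem_centralizer_iff.2 fun a ha => ?_)
    obtain ⟨j, rfl⟩ := ha
    exact ((show Commute g z from Subgroup.mem_centralizer_singleton_iff.1 hg).symm.zpow_left j).eq
  -- the invariant Sylow subgroup
  have hSn : (Φ.S : Subgroup G) ≤ Subgroup.normalizer (Φ.O : Set G) := Φ.S_le.trans h.core_norm
  have hco : (Nat.card (Φ.S : Subgroup G)).Coprime (Nat.card ↥Φ.O) := by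
    haveI : Fact (Nat.Prime 2) := ⟨Nat.prime_two⟩
    obtain ⟨j, hj⟩ := IsPGroup.iff_card.1 Φ.S.isPGroup'
    rw [hj]
    exact h.core_odd.coprime_two_left.pow_left j
  obtain ⟨Q, hQ, hQS⟩ := Solv.exists_invariant_sylow hSn hco (Or.inr h.core_solvable) q
  have hyq : IsPGroup q ↥(Subgroup.zpowers y) :=
    (fq_isPGroup q C).to_le (Subgroup.zpowers_le.2 hy)
  have hyC := hgood y hy hyc hyu hy1
  rw [hC] at hyC
  have hQu : ∀ z ∈ Q, Commute z (Φ.refl i) :=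
    h.commutes_sylow (Φ.uu i) htu hρ₀t hρ₀u (hfqO y hy) hyq hyu hyC hQ (hQS (Φ.refl_mem i))
  have hQC : Q ≤ C := hC ▸ hQ.1.trans h.core_le
  have hfQ : fq q C ≤ Q := by
    obtain ⟨T, hT⟩ := (h.sylIn hq2 hQ).exists_sylow
    rw [hC, ← hT]
    exact Subgroup.map_mono (Fusion.pCore_le_sylow T)
  -- the centre of the core
  obtain ⟨Z, hZ⟩ : ∃ Z, Z = fq q C ⊓ Subgroup.centralizer (fq q C : Set G) := ⟨_, rfl⟩
  have hZmem : ∀ {z : G}, z ∈ Z ↔ z ∈ fq q C ∧ ∀ w ∈ fq q C, Commute z w := fun {z} => by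
    rw [hZ, Subgroup.mem_inf, Subgroup.mem_centralizer_iff]
    exact ⟨fun hh => ⟨hh.1, fun w hw => (hh.2 w hw).symm⟩, fun hh => ⟨hh.1, fun w hw => (hh.2 w hw).symm⟩⟩
  have hZn : ∀ c ∈ C, ∀ z ∈ Z, c * z * c⁻¹ ∈ Z := by
    intro c hc z hz
    obtain ⟨h1, h2⟩ := hZmem.1 hz
    refine hZmem.2 ⟨conj_fq hq hc h1, fun w hw => ?_⟩
    have h5 := (Commute.conj_iff c).2 (h2 _ (conj_fq hq (inv_mem hc) hw))
    rwa [inv_inv, show c * (c⁻¹ * w * c) * c⁻¹ = w by group] at h5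
  have hvC : Φ.refl (i + 1) ∈ C := hC ▸ Φ.S_le (Φ.refl_mem _)
  have hZinv : ∀ z ∈ Z, z ≠ 1 → Φ.refl (i + 1) * z * (Φ.refl (i + 1))⁻¹ = z⁻¹ := by
    intro z hz _
    obtain ⟨d, hd⟩ : ∃ d, d = z * (Φ.refl (i + 1) * z * (Φ.refl (i + 1))⁻¹) := ⟨_, rfl⟩
    have hvz := hZn _ hvC z hz
    have hdZ : d ∈ Z := hd ▸ mul_mem hz hvz
    suffices hd1 : d = 1 by rw [hd] at hd1; exact (inv_eq_of_mul_eq_one_right hd1).symm
    by_contra hd1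
    have hdQ : d ∈ Q := hfQ (hZmem.1 hdZ).1
    have hdv : Commute d (Φ.refl (i + 1)) := by
      have hvi : (Φ.refl (i + 1))⁻¹ = Φ.refl (i + 1) := inv_eq_of_mul_eq_one_right (Φ.uu _)
      refine (mul_inv_eq_iff_eq_mul.1 ?_ : Φ.refl (i + 1) * d = d * Φ.refl (i + 1)).symm
      calc Φ.refl (i + 1) * d * (Φ.refl (i + 1))⁻¹
          = (Φ.refl (i + 1) * z * (Φ.refl (i + 1))⁻¹) *
              (Φ.refl (i + 1) * Φ.refl (i + 1) * z * (Φ.refl (i + 1) * Φ.refl (i + 1))⁻¹) := by rw [hd]; group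
        _ = (Φ.refl (i + 1) * z * (Φ.refl (i + 1))⁻¹) * z := by rw [Φ.uu]; group
        _ = d := by rw [hd]; exact ((hZmem.1 hz).2 _ (hZmem.1 hvz).1).symm.eq
    obtain ⟨g, hg, hgt⟩ := h.exists_fusion hk i hQ hQu hρ't hρ'u (hQ.1 hdQ)
      ((fq_isPGroup q C).to_le (Subgroup.zpowers_le.2 (hZmem.1 hdZ).1)) (Φ.commute_S i (hQu d hdQ) hdv)
    have hgC : g ∈ C := hgood d (hZmem.1 hdZ).1 (hZmem.1 hdZ).2 (hQu d hdQ) hd1
      (Subgroup.mem_centralizer_singleton_iff.2 hg.eq)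
    rw [hC, Subgroup.mem_centralizer_singleton_iff] at hgC
    have e : g * (Φ.t * Φ.refl (i + 1)) * g⁻¹ = g * Φ.t * g⁻¹ := by rw [hgt, hgC, mul_inv_cancel_right]
    exact Φ.refl_ne_one (i + 1) (mul_left_cancel ((mul_left_cancel (mul_right_cancel e)).trans (mul_one _).symm))
  have hcentre : ∀ z ∈ fq q C, (∀ w ∈ fq q C, Commute z w) → z ≠ 1 →
      Subgroup.centralizer ({z} : Set G) ≤ C ∧ Φ.refl (i + 1) * z * (Φ.refl (i + 1))⁻¹ = z⁻¹ :=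
    fun z hz hzc hz1 => ⟨hgood z hz hzc (hQu z (hfQ hz)) hz1, hZinv z (hZmem.2 ⟨hz, hzc⟩) hz1⟩
  -- `x`
  obtain ⟨x, hxZ, hx1, hxQ⟩ : ∃ x, x ∈ Z ∧ x ≠ 1 ∧ ∀ z ∈ Q, Commute x z := by
    haveI : (Z.subgroupOf Q).Normal := ⟨fun a ha g => by
      rw [Subgroup.mem_subgroupOf] at ha ⊢
      exact hZn _ (hQC g.2) _ ha⟩
    obtain ⟨a, ha, ha1, hac⟩ := exists_central_mem hQ.isPGroup (Z.subgroupOf Q) (fun e => by
      have hm : (⟨y, hfQ hy⟩ : ↥Q) ∈ Z.subgroupOf Q := Subgroup.mem_subgroupOf.2 (hZmem.2 ⟨hy, hyc⟩)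
      rw [e, Subgroup.mem_bot] at hm
      exact hy1 (congrArg Subtype.val hm))
    exact ⟨a, Subgroup.mem_subgroupOf.1 ha, fun e => ha1 (Subtype.ext e),
      fun z hz => (congrArg Subtype.val (hac ⟨z, hz⟩).eq : z * (a : G) = (a : G) * z).symm⟩
  -- a rotation normalising `Q`
  obtain ⟨D, hD⟩ : ∃ D, D = C ⊓ Subgroup.centralizer ({Φ.refl i} : Set G) := ⟨_, rfl⟩
  have hDmem : ∀ {d : G}, d ∈ D ↔ Commute d Φ.t ∧ Commute d (Φ.refl i) := fun {d} => by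
    rw [hD, hC, Subgroup.mem_inf, Subgroup.mem_centralizer_singleton_iff, Subgroup.mem_centralizer_singleton_iff]
    exact Iff.rfl
  have hQD : Q ≤ D := fun z hz => hDmem.2 ⟨h.core_commute (hQ.1 hz), hQu z hz⟩
  have hQsD : Solv.IsSylIn q Q D := isSylIn_of_le (h.sylIn hq2 hQ) (hC ▸ hD ▸ inf_le_left) hQD
  obtain ⟨hρ₀e, -, -, -⟩ := rho_sq (Φ.uu i) htu hρ₀t hρ₀u
  have hρ₀D : ρ₀ ∈ Subgroup.normalizer (D : Set G) := mem_norm_of_conj fun d hd => by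
    obtain ⟨h1, h2⟩ := hDmem.1 hd
    refine hDmem.2 ⟨?_, ?_⟩
    · have := (Commute.conj_iff ρ₀).2 (h1.mul_right h2)
      rwa [hρ₀e] at this
    · have := (Commute.conj_iff ρ₀).2 h1
      rwa [hρ₀t] at this
  obtain ⟨c, hc, hcQ⟩ := (hQsD.conj hρ₀D).exists_conj hQsD
  obtain ⟨hct, hcu⟩ := hDmem.1 hc
  obtain ⟨ρ, hρ⟩ : ∃ ρ, ρ = c * ρ₀ := ⟨_, rfl⟩
  have hρt : ρ * Φ.t * ρ⁻¹ = Φ.refl i := by
    rw [hρ, show c * ρ₀ * Φ.t * (c * ρ₀)⁻¹ = c * (ρ₀ * Φ.t * ρ₀⁻¹) * c⁻¹ by group, hρ₀t, hcu.eq,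
      mul_inv_cancel_right]
  have hρu : ρ * Φ.refl i * ρ⁻¹ = Φ.t * Φ.refl i := by
    rw [hρ, show c * ρ₀ * Φ.refl i * (c * ρ₀)⁻¹ = c * (ρ₀ * Φ.refl i * ρ₀⁻¹) * c⁻¹ by group, hρ₀u,
      (hct.mul_right hcu).eq, mul_inv_cancel_right]
  obtain ⟨hρe, -, -, -⟩ := rho_sq (Φ.uu i) htu hρt hρu
  have hρQ : ∀ z ∈ Q, ρ * z * ρ⁻¹ ∈ Q := by
    intro z hz
    rw [← hcQ, Solv.mem_conj_smul, Solv.mem_conj_smul, hρ]
    rwa [show ρ₀⁻¹ * (c⁻¹ * (c * ρ₀ * z * (c * ρ₀)⁻¹) * c) * ρ₀ = z by group]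
  -- `p`
  obtain ⟨x', hx'⟩ : ∃ x', x' = ρ * x * ρ⁻¹ := ⟨_, rfl⟩
  have hx'Q : x' ∈ Q := hx' ▸ hρQ x (hfQ (hZmem.1 hxZ).1)
  have hρQ' : ∀ z ∈ Q, ρ⁻¹ * z * ρ ∈ Q := by
    have hn : ρ ∈ Subgroup.normalizer (Q : Set G) := mem_norm_of_conj hρQ
    intro z hz
    have := (Subgroup.mem_normalizer_iff.1 (inv_mem hn) z).1 hz
    rwa [inv_inv] at this
  have hx'c : ∀ z ∈ Q, Commute x' z := by
    intro z hz
    have := (Commute.conj_iff ρ).2 (hxQ _ (hρQ' z hz))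
    rwa [← hx', show ρ * (ρ⁻¹ * z * ρ) * ρ⁻¹ = z by group] at this
  obtain ⟨w, hw⟩ : ∃ w, w = Φ.refl (i + 1) * x' * (Φ.refl (i + 1))⁻¹ := ⟨_, rfl⟩
  have hvQ : Φ.refl (i + 1) ∈ Subgroup.normalizer (Q : Set G) := hQS (Φ.refl_mem _)
  have hvi : (Φ.refl (i + 1))⁻¹ = Φ.refl (i + 1) := inv_eq_of_mul_eq_one_right (Φ.uu _)
  have hwQ : w ∈ Q := hw ▸ (Subgroup.mem_normalizer_iff.1 hvQ x').1 hx'Q
  have hwc : ∀ z ∈ Q, Commute w z := by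
    intro z hz
    have h1 := (Subgroup.mem_normalizer_iff.1 (inv_mem hvQ) z).1 hz
    rw [inv_inv] at h1
    have := (Commute.conj_iff (Φ.refl (i + 1))).2 (hx'c _ h1)
    rwa [← hw, show Φ.refl (i + 1) * ((Φ.refl (i + 1))⁻¹ * z * Φ.refl (i + 1)) * (Φ.refl (i + 1))⁻¹ = z by
      group] at this
  have hpS : Commute (x' * w) (Φ.refl (i + 1)) := by
    refine (mul_inv_eq_iff_eq_mul.1 ?_ : Φ.refl (i + 1) * (x' * w) = x' * w * Φ.refl (i + 1)).symm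
    calc Φ.refl (i + 1) * (x' * w) * (Φ.refl (i + 1))⁻¹
        = w * (Φ.refl (i + 1) * Φ.refl (i + 1) * x' * (Φ.refl (i + 1) * Φ.refl (i + 1))⁻¹) := by rw [hw]; group
      _ = w * x' := by rw [Φ.uu]; group
      _ = _ := (hx'c w hwQ).symm.eq
  refine ⟨Q, x, ρ, x' * w, hk, hq, hq2, hQ, hQS, hQu, hC ▸ hfQ, hC ▸ hcentre, hC ▸ (hZmem.1 hxZ).1,
    hC ▸ (hZmem.1 hxZ).2, hx1, hxQ, hρt, hρu, hρQ, by rw [hw, hx'], mul_mem hx'Q hwQ,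
    fun z hz => (hx'c z hz).mul_left (hwc z hz), Φ.commute_S i (hQu _ (mul_mem hx'Q hwQ)) hpS, fun e => ?_⟩
  -- `p = 1` is impossible
  have hwi : w = x'⁻¹ := eq_inv_of_mul_eq_one_right e
  have hxC := (hcentre x (hZmem.1 hxZ).1 (hZmem.1 hxZ).2 hx1).1
  rw [hC] at hxC
  have hx'u : ∀ a, Commute a x' → Commute a (Φ.refl i) := by
    intro a ha
    have h1 : Commute (ρ⁻¹ * a * ρ) x := by
      have := (Commute.conj_iff ρ⁻¹).2 ha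
      rwa [inv_inv, show ρ⁻¹ * x' * ρ = x by rw [hx']; group] at this
    have h0 : Commute (ρ⁻¹ * a * ρ) Φ.t :=
      Subgroup.mem_centralizer_singleton_iff.1 (hxC (Subgroup.mem_centralizer_singleton_iff.2 h1.eq))
    have h2 := (Commute.conj_iff ρ).2 h0
    rwa [hρt, show ρ * (ρ⁻¹ * a * ρ) * ρ⁻¹ = a by group] at h2
  have hboth : ∀ a, Commute a x → Commute a (Φ.refl i) := by
    intro a ha
    have hat : Commute a Φ.t := Subgroup.mem_centralizer_singleton_iff.1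
      (hxC (Subgroup.mem_centralizer_singleton_iff.2 ha.eq))
    obtain ⟨b, hb⟩ : ∃ b, b = ρ * a * ρ⁻¹ := ⟨_, rfl⟩
    have hbx : Commute b x' := by rw [hb, hx']; exact (Commute.conj_iff ρ).2 ha
    have hbu := hx'u b hbx
    have hb2 : Commute b (Φ.refl (i + 2)) := by
      have h3 : Commute (Φ.refl (i + 1) * b * (Φ.refl (i + 1))⁻¹) x' := by
        have := ((Commute.conj_iff (Φ.refl (i + 1))).2 hbx)
        rw [← hw, hwi] at this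
        exact Commute.inv_right_iff.1 this
      have h4 := (Commute.conj_iff (Φ.refl (i + 1))).2 (hx'u _ h3)
      rwa [Φ.refl_conj, show Φ.refl (i + 1) * (Φ.refl (i + 1) * b * (Φ.refl (i + 1))⁻¹) * (Φ.refl (i + 1))⁻¹ =
        Φ.refl (i + 1) * Φ.refl (i + 1) * b * (Φ.refl (i + 1) * Φ.refl (i + 1))⁻¹ by group, Φ.uu, one_mul, inv_one,
        mul_one] at h4
    have hbt := Φ.commute_t_of_two hk i hbu hb2
    have h5 : Commute a (Φ.t * Φ.refl i) := by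
      refine (Commute.conj_iff ρ).1 ?_
      rw [hρe, ← hb]
      exact hbt
    have h6 := hat.mul_right h5
    rwa [← mul_assoc, Φ.tt, one_mul] at h6
  refine h.cores_not_fixed (Φ.uu i) htu (Φ.refl_ne i) hρt hρu fun s hs hs2 z hz => ?_
  by_cases hsq : s = q
  · exact hQu z (hfQ (hC ▸ hsq ▸ hz))
  · exact hboth z (commute_fq hs hq hsq hz (hC ▸ (hZmem.1 hxZ).1))

end Cfsg.Agent.GW
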