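import Cfsg.Agent.Lib.GW.MaxLines

/-!
# Layers over a maximal centraliser: the cosets of `N`

For `a ∈ O ∖ N` one has `N ∩ N^a ≤ C`, so the cosets `y a N` are different and
`|G : N| ≥ 1 + (m - 1) Δ` with `Δ = |N : N ∩ C|`.
-/

set_option autoImplicit false
set_option linter.unusedSectionVars false
set_option linter.style.haveILetI false

namespace Cfsg.Agent.GW

open Cfsg Cfsg.Agent
open scoped commutatorElement

universe w

variable {G : Type w} [Group G] [Finite G] [IsSimpleGroup G] {t : G} {O N : Subgroup G} {v : G} {T : Subgroup G}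
  {q : ℕ}

set_option quotPrecheck false in
local notation "Cz" => Subgroup.centralizer ({t} : Set G)

/-- the centraliser of the layer lies in `O` -/
theorem Cfg.layCent_le_core (c : Cfg t O N v T q) : layCent N ≤ O := fun x hx =>
  c.mc.core x (Subgroup.mem_centralizer_singleton_iff.1 (c.cent_le hx)) (odd_orderOf c.facts.cent_odd hx)

/-- `|C : N ∩ C| = |O : N ∩ O|` -/
theorem Cfg.relIndex_eq (c : Cfg t O N v T q) (P : Sylow 2 G) (hOP : O ⊔ (P : Subgroup G) = Cz) :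
    (N ⊓ Cz).relIndex Cz = (N ⊓ O).relIndex O := by
  rw [Subgroup.relIndex, Subgroup.relIndex, Subgroup.index_eq_card, Subgroup.index_eq_card]
  refine (Nat.card_congr (Equiv.ofBijective (Quotient.map'
    (fun a : ↥O => (⟨a, c.mc.core_le a.2⟩ : ↥(Cz))) fun a b hab => ?_) ⟨?_, ?_⟩)).symm
  · rw [QuotientGroup.leftRel_apply, Subgroup.mem_subgroupOf] at hab ⊢
    exact ⟨hab.1, c.mc.core_le hab.2⟩
  · intro A B h
    obtain ⟨a, rfl⟩ := QuotientGroup.mk_surjective A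
    obtain ⟨b, rfl⟩ := QuotientGroup.mk_surjective B
    refine QuotientGroup.eq.2 (Subgroup.mem_subgroupOf.2 ⟨?_, (a⁻¹ * b : ↥O).2⟩)
    exact (Subgroup.mem_subgroupOf.1 (QuotientGroup.eq.1 h)).1
  · intro A
    obtain ⟨g, rfl⟩ := QuotientGroup.mk_surjective A
    obtain ⟨a, ha, b, hb, e⟩ := c.supp P hOP g.2
    refine ⟨QuotientGroup.mk (⟨a, ha⟩ : ↥O), QuotientGroup.eq.2 (Subgroup.mem_subgroupOf.2 ?_)⟩
    show a⁻¹ * (g : G) ∈ N ⊓ Cz
    rw [e, inv_mul_cancel_left]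
    exact hb

/-- **`N ∩ N^a ≤ C`** for `a ∈ O ∖ N` -/
theorem Cfg.inter_le (c : Cfg t O N v T q) {a : G} (ha : a ∈ O) (haN : a ∉ N) {x : G} (hx : x ∈ N)
    (hxa : a⁻¹ * x * a ∈ N) : x ∈ Cz := by
  obtain ⟨A, hA⟩ : ∃ A, A = layCent N ⊔ (layCent N).map (MulAut.conj a).toMonoidHom := ⟨_, rfl⟩
  have hAO : A ≤ O := by
    rw [hA, sup_le_iff]
    refine ⟨c.layCent_le_core, ?_⟩
    rintro _ ⟨y, hy, rfl⟩
    exact mul_mem (mul_mem ha (c.layCent_le_core hy)) (inv_mem ha)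
  have hAx : ∀ y ∈ A, x * y * x⁻¹ ∈ A := by
    have h1 : A.map (MulAut.conj x).toMonoidHom ≤ A := by
      rw [hA, Subgroup.map_sup, sup_le_iff]
      refine ⟨le_trans ?_ le_sup_left, le_trans ?_ le_sup_right⟩
      · rintro _ ⟨y, hy, rfl⟩
        exact (Subgroup.mem_normalizer_iff.1 (layCent_norm N hx) y).1 hy
      · rintro _ ⟨_, ⟨y, hy, rfl⟩, rfl⟩
        refine ⟨(a⁻¹ * x * a) * y * (a⁻¹ * x * a)⁻¹,
          (Subgroup.mem_normalizer_iff.1 (layCent_norm N hxa) y).1 hy, ?_⟩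
        show a * ((a⁻¹ * x * a) * y * (a⁻¹ * x * a)⁻¹) * a⁻¹ = x * (a * y * a⁻¹) * x⁻¹
        group
    exact fun y hy => h1 ⟨y, hy, rfl⟩
  obtain ⟨T', hT'⟩ : ∃ T', T' = A ⊓ lay N := ⟨_, rfl⟩
  obtain ⟨-, -, hTn, -⟩ := c.torus
  have hT'T : T' ≤ lay N ⊓ O := by
    rw [hT']
    exact fun y hy => ⟨hy.2, hAO hy.1⟩
  have hT'1 : ¬ T' ≤ Subgroup.centralizer (lay N : Set G) := by
    intro h0
    refine haN (c.D_norm (mem_norm_of_conj fun d hd => ?_))
    obtain ⟨r, hr, e, he, hde⟩ := c.decomp c.prime c.odd (conj_fq c.prime (c.mc.core_le ha) hd.1)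
    have hmem : ∀ z ∈ fq q Cz ⊓ Subgroup.centralizer ({v} : Set G), z ∈ layCent N := fun z hz =>
      ⟨c.cores_le q c.prime c.odd hz.1, ((c.fixed c.prime c.odd).le hz).2⟩
    have hrA : r ∈ A := by
      have h1 : r = a * d * a⁻¹ * e⁻¹ := by rw [hde, mul_inv_cancel_right]
      rw [h1, hA]
      exact mul_mem (Subgroup.mem_sup_right ⟨d, hmem d hd, rfl⟩) (inv_mem (Subgroup.mem_sup_left (hmem e he)))
    have hr1 : r ∈ T' := hT'.symm ▸ ⟨hrA, (c.facts.T_le hr.2).1⟩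
    have hr1 : r = 1 := Subgroup.mem_bot.1 (c.facts.T_disj ▸ (⟨hr.2, h0 hr1⟩ : r ∈ T ⊓ _))
    rw [hde, hr1, one_mul]
    exact he
  refine hTn T' hT'T hT'1 ⟨hx, mem_norm_of_conj fun y hy => ?_⟩
  rw [hT'] at hy ⊢
  exact ⟨hAx y hy.1, (Subgroup.mem_normalizer_iff.1 (lay_norm N hx) y).1 hy.2⟩

/-- an element of `N` carrying one moved coset to another lies in `C` -/
theorem Cfg.coset_fix (c : Cfg t O N v T q) {z : G} (hz : z ∈ N) {a a' : G} (ha : a ∈ O) (haN : a ∉ N)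
    (ha' : a' ∈ O) (ha'N : a' ∉ N) (he : a'⁻¹ * z * a ∈ N) : z ∈ Cz := by
  have hfix : ∀ {z a a' : G}, z ∈ N → a' ∈ O → a' ∉ N → a'⁻¹ * z * a ∈ N → ∀ x ∈ N, a⁻¹ * x * a ∈ N →
      z * x * z⁻¹ ∈ Cz := by
    intro z a a' hz ha' ha'N he x hx hxa
    refine c.inter_le ha' ha'N (mul_mem (mul_mem hz hx) (inv_mem hz)) ?_
    rw [show a'⁻¹ * (z * x * z⁻¹) * a' = a'⁻¹ * z * a * (a⁻¹ * x * a) * (a'⁻¹ * z * a)⁻¹ by group]
    exact mul_mem (mul_mem he hxa) (inv_mem he)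
  have hcomm : ∀ {b : G}, b ∈ O → b⁻¹ * t * b = t := fun {b} hb => by
    rw [mul_assoc, ← Subgroup.mem_centralizer_singleton_iff.1 (c.mc.core_le hb), inv_mul_cancel_left]
  obtain ⟨t', ht'⟩ : ∃ t', t' = z⁻¹ * t * z := ⟨_, rfl⟩
  have ht'C : Commute t t' := by
    have h1 := hfix (z := z⁻¹) (a := a') (a' := a) (inv_mem hz) ha haN (by
      rw [show a⁻¹ * z⁻¹ * a' = (a'⁻¹ * z * a)⁻¹ by group]
      exact inv_mem he) t c.tN ((hcomm ha').symm ▸ c.tN)
    rw [inv_inv, ← ht'] at h1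
    exact (Subgroup.mem_centralizer_singleton_iff.1 h1).symm
  have hall : ∀ s : ℕ, s.Prime → s ≠ 2 → ∀ x ∈ fq s Cz, Commute t' x := fun s hs hs2 x hx => by
    have hxa : a⁻¹ * x * a ∈ N := by
      have := conj_fq hs (inv_mem (c.mc.core_le ha)) hx
      rw [inv_inv] at this
      exact c.cores_le s hs hs2 this
    have h1 : Commute (z * x * z⁻¹) t :=
      Subgroup.mem_centralizer_singleton_iff.1 (hfix hz ha' ha'N he x (c.cores_le s hs hs2 hx) hxa)
    have h2 := (Commute.conj_iff z⁻¹).2 h1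
    rw [show z⁻¹ * (z * x * z⁻¹) * z⁻¹⁻¹ = x by group, inv_inv, ← ht'] at h2
    exact h2.symm
  by_cases he' : t' = t
  · refine Subgroup.mem_centralizer_singleton_iff.2 ?_
    calc z * t = z * (z⁻¹ * t * z) := by rw [← ht', he']
      _ = _ := by group
  · refine (c.mc.no_central c.rot ?_ ?_ he' ht'C hall).elim
    · rw [ht', show z⁻¹ * t * z * (z⁻¹ * t * z) = z⁻¹ * (t * t) * z by group, c.mc.sq]
      group
    · intro h1
      refine c.mc.ne ?_
      calc t = z * (z⁻¹ * t * z) * z⁻¹ := by group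
        _ = _ := by rw [← ht', h1]; group

/-- **`|G : N| ≥ 1 + (m - 1) |N : N ∩ C|`** -/
theorem Cfg.index_ge (c : Cfg t O N v T q) :
    1 + ((N ⊓ O).relIndex O - 1) * (N ⊓ Cz).relIndex N ≤ N.index := by
  classical
  have hm : (N ⊓ O).relIndex O =
      Nat.card {B : ↥O ⧸ (N ⊓ O).subgroupOf O // B ≠ QuotientGroup.mk 1} + 1 := by
    rw [← Finite.card_option, Nat.card_congr (Equiv.optionSubtypeNe _), Subgroup.relIndex, Subgroup.index_eq_card]
  have hd : (N ⊓ Cz).relIndex N = Nat.card (↥N ⧸ (N ⊓ Cz).subgroupOf N) := by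
    rw [Subgroup.relIndex, Subgroup.index_eq_card]
  rw [hm, Nat.add_sub_cancel, hd, mul_comm, ← Nat.card_prod, add_comm, ← Finite.card_option,
    Subgroup.index_eq_card]
  have hout : ∀ B : {B : ↥O ⧸ (N ⊓ O).subgroupOf O // B ≠ QuotientGroup.mk 1}, (B.1.out : G) ∉ N := by
    intro B hB
    refine B.2 ?_
    rw [← QuotientGroup.out_eq' B.1]
    refine QuotientGroup.eq.2 (Subgroup.mem_subgroupOf.2 ?_)
    show (B.1.out : G)⁻¹ * 1 ∈ N ⊓ O
    rw [mul_one]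
    exact ⟨N.inv_mem hB, O.inv_mem B.1.out.2⟩
  refine Nat.card_le_card_of_injective (fun x => x.elim (QuotientGroup.mk (1 : G))
    fun p => QuotientGroup.mk ((p.1.out : G) * (p.2.1.out : G))) ?_
  intro x y e
  rcases x with _ | ⟨A, B⟩ <;> rcases y with _ | ⟨A', B'⟩
  · rfl
  · simp only [Option.elim] at e
    have h1 := QuotientGroup.eq.1 e
    rw [inv_one, one_mul] at h1
    exact (hout B' ((N.mul_mem_cancel_left A'.out.2).1 h1)).elim
  · simp only [Option.elim] at e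
    have h1 := QuotientGroup.eq.1 e.symm
    rw [inv_one, one_mul] at h1
    exact (hout B ((N.mul_mem_cancel_left A.out.2).1 h1)).elim
  · simp only [Option.elim] at e
    have h1 := QuotientGroup.eq.1 e.symm
    have h2 : (B'.1.out : G)⁻¹ * ((A'.out : G)⁻¹ * A.out) * B.1.out ∈ N := by
      rw [show (B'.1.out : G)⁻¹ * ((A'.out : G)⁻¹ * A.out) * B.1.out
        = ((A'.out : G) * B'.1.out)⁻¹ * ((A.out : G) * B.1.out) by group]
      exact h1
    have hzN : (A'.out : G)⁻¹ * A.out ∈ N := mul_mem (inv_mem A'.out.2) A.out.2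
    have hzC := c.coset_fix hzN B.1.out.2 (hout B) B'.1.out.2 (hout B') h2
    have hA : A' = A := by
      rw [← QuotientGroup.out_eq' A, ← QuotientGroup.out_eq' A']
      exact QuotientGroup.eq.2 (Subgroup.mem_subgroupOf.2 ⟨hzN, hzC⟩)
    subst hA
    rw [inv_mul_cancel, mul_one] at h2
    have hB : B' = B := Subtype.ext (by
      rw [← QuotientGroup.out_eq' B.1, ← QuotientGroup.out_eq' B'.1]
      exact QuotientGroup.eq.2 (Subgroup.mem_subgroupOf.2 ⟨h2, O.mul_mem (O.inv_mem B'.1.out.2) B.1.out.2⟩))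
    rw [hB]

end Cfsg.Agent.GW
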