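import Cfsg.Agent.Lib.GW.MaxCosets

/-!
# Layers over a maximal centraliser: the centralisers of the reflections in `O`

With `τ = |T|` and `m = |O : N ∩ O|`: `|O : C_O(v)| ≤ m τ` and `|O : C_O(z)| ≤ τ ^ 2` for every other reflection `z`
of `N ∩ C`.
-/

set_option autoImplicit false
set_option linter.unusedSectionVars false
set_option linter.style.haveILetI false

namespace Cfsg.Agent.GW

open Cfsg Cfsg.Agent
open scoped commutatorElement

universe w

variable {G : Type w} [Group G] [Finite G]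

/-- `|H| ≤ |C_H(z)| · #{a z a⁻¹ z⁻¹}` -/
theorem card_le_fixed_mul (H : Subgroup G) (z : G) (S : Set G) (hS : ∀ a ∈ H, a * (z * a⁻¹ * z⁻¹) ∈ S) :
    Nat.card ↥H ≤ Nat.card ↥(H ⊓ Subgroup.centralizer ({z} : Set G) : Subgroup G) * Nat.card S := by
  classical
  obtain ⟨f, hf⟩ : ∃ f : ↥H → S, f = fun a => ⟨(a : G) * (z * (a : G)⁻¹ * z⁻¹), hS a a.2⟩ := ⟨_, rfl⟩
  have hr : ∀ a : ↥H, f (Function.invFun f (f a)) = f a := fun a => Function.invFun_eq ⟨a, rfl⟩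
  rw [← Nat.card_prod]
  refine Nat.card_le_card_of_injective (fun a => (⟨((Function.invFun f (f a))⁻¹ * a : ↥H), ?_⟩, f a)) ?_
  · refine ⟨((Function.invFun f (f a))⁻¹ * a : ↥H).2, Subgroup.mem_centralizer_singleton_iff.2 ?_⟩
    have e := congrArg Subtype.val (hr a)
    rw [hf] at e ⊢
    obtain ⟨r, hr'⟩ : ∃ r : G, r = ((Function.invFun (fun a : ↥H => (⟨(a : G) * (z * (a : G)⁻¹ * z⁻¹), hS a a.2⟩ : S))
      ⟨(a : G) * (z * (a : G)⁻¹ * z⁻¹), hS a a.2⟩ : ↥H) : G) := ⟨_, rfl⟩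
    simp only [← hr', Subgroup.coe_mul, Subgroup.coe_inv] at e ⊢
    calc r⁻¹ * (a : G) * z = r⁻¹ * ((a : G) * (z * (a : G)⁻¹ * z⁻¹)) * (z * a) := by group
      _ = r⁻¹ * (r * (z * r⁻¹ * z⁻¹)) * (z * a) := by rw [e]
      _ = _ := by group
  · intro a b e
    have e2 : f a = f b := congrArg Prod.snd e
    have e1 : ((Function.invFun f (f a))⁻¹ * a : ↥H) = (Function.invFun f (f b))⁻¹ * b :=
      Subtype.ext (congrArg Subtype.val (congrArg Prod.fst e) :)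
    rw [e2] at e1
    exact mul_left_cancel e1

/-- `4 |C_O(z)| ≤ |C(t, z)|` -/
theorem four_le {t z : G} {K : Subgroup G} (hK : Odd (Nat.card ↥K)) (ht : t * t = 1) (ht1 : t ≠ 1)
    (hz : z * z = 1) (hz1 : z ≠ 1) (hzt : z ≠ t) (htz : Commute t z)
    (hle : K ≤ Subgroup.centralizer ({t, z} : Set G)) :
    4 * Nat.card ↥K ≤ Nat.card ↥(Subgroup.centralizer ({t, z} : Set G)) := by
  obtain ⟨g, hg⟩ : ∃ g : Bool × Bool → G, g = fun p => (bif p.1 then t else 1) * (bif p.2 then z else 1) := ⟨_, rfl⟩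
  have hgC : ∀ p, g p ∈ Subgroup.centralizer ({t, z} : Set G) := by
    intro p
    have h1 : t ∈ Subgroup.centralizer ({t, z} : Set G) := Subgroup.mem_centralizer_iff.2 fun y hy => by
      rcases hy with rfl | hy
      · rfl
      · rw [Set.mem_singleton_iff] at hy
        exact hy ▸ htz.eq.symm
    have h2 : z ∈ Subgroup.centralizer ({t, z} : Set G) := Subgroup.mem_centralizer_iff.2 fun y hy => by
      rcases hy with rfl | hy
      · exact htz.eq
      · rw [Set.mem_singleton_iff] at hy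
        rw [hy]
    rw [hg]
    rcases p with ⟨_ | _, _ | _⟩ <;> simp [h1, h2, mul_mem]
  have htinv : t⁻¹ = t := inv_eq_of_mul_eq_one_right ht
  have hzinv : z⁻¹ = z := inv_eq_of_mul_eq_one_right hz
  have htz' : t * z ≠ 1 := fun e => hzt (by rw [← mul_left_cancel (e.trans ht.symm)])
  have hcomm : ∀ p p', Commute (g p) (g p') := by
    intro p p'
    rw [hg]
    rcases p with ⟨_ | _, _ | _⟩ <;> rcases p' with ⟨_ | _, _ | _⟩ <;>
      simp [Commute.refl, htz, htz.symm, Commute.mul_left, Commute.mul_right]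
  have hsq : ∀ p, g p * g p = 1 := by
    intro p
    rw [hg]
    rcases p with ⟨_ | _, _ | _⟩ <;> simp [ht, hz]
    rw [mul_assoc, ← mul_assoc z, ← htz.eq, mul_assoc t z, hz, mul_one, ht]
  have hinj : Function.Injective g := by
    intro p p' e
    rw [hg] at e
    rcases p with ⟨_ | _, _ | _⟩ <;> rcases p' with ⟨_ | _, _ | _⟩ <;>
      simp only [cond_true, cond_false, one_mul, mul_one] at e <;>
      first
        | rfl
        | exact absurd e ht1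
        | exact absurd e.symm ht1
        | exact absurd e hz1
        | exact absurd e.symm hz1
        | exact absurd e htz'
        | exact absurd e.symm htz'
        | exact absurd e hzt
        | exact absurd e.symm hzt
        | exact absurd (mul_eq_left.1 e) hz1
        | exact absurd (mul_eq_left.1 e.symm) hz1
        | exact absurd (mul_eq_right.1 e) ht1
        | exact absurd (mul_eq_right.1 e.symm) ht1
  calc 4 * Nat.card ↥K = Nat.card ((Bool × Bool) × ↥K) := by simp [Nat.card_prod]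
    _ ≤ _ := by
      refine Nat.card_le_card_of_injective
        (fun p => ⟨g p.1 * p.2, mul_mem (hgC p.1) (hle p.2.2)⟩) fun p p' e => ?_
      have e' : g p.1 * (p.2 : G) = g p'.1 * p'.2 := congrArg Subtype.val e
      obtain ⟨x, hx⟩ : ∃ x, x = (g p'.1)⁻¹ * g p.1 := ⟨_, rfl⟩
      have hxK : x ∈ K := by
        rw [show x = (p'.2 : G) * (p.2 : G)⁻¹ by
          rw [hx, eq_mul_inv_iff_mul_eq, mul_assoc, e', inv_mul_cancel_left]]
        exact K.mul_mem p'.2.2 (K.inv_mem p.2.2)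
      have hx1 : x = 1 := by
        obtain ⟨k, hk⟩ := odd_orderOf hK hxK
        have h2 : x * x = 1 := by
          rw [hx, inv_eq_of_mul_eq_one_right (hsq p'.1), (hcomm p.1 p'.1).mul_mul_mul_comm, hsq, hsq, one_mul]
        have h3 := pow_orderOf_eq_one x
        rw [hk, pow_succ, pow_mul, pow_two, h2, one_pow, one_mul] at h3
        exact h3
      have h4 : p.1 = p'.1 := hinj ((inv_mul_eq_one.1 (hx ▸ hx1 : (g p'.1)⁻¹ * g p.1 = 1)).symm)
      rw [h4] at e'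
      exact Prod.ext h4 (Subtype.ext (mul_left_cancel e'))

/-- two commuting-up-to-inversion automorphisms of a cyclic group -/
theorem sq_commute_of_cyclic [IsSimpleGroup G] {D : Subgroup G} (hD : IsCyclic ↥D) {c z : G} (hzc : z * c * z⁻¹ = c⁻¹)
    (hc : ∀ x ∈ D, c * x * c⁻¹ ∈ D) (hz : ∀ x ∈ D, z * x * z⁻¹ ∈ D) {x : G} (hx : x ∈ D) :
    Commute (c * c) x := by
  obtain ⟨g₀, hg₀⟩ := hD.exists_generator
  have key : ∀ {a : G}, (∀ y ∈ D, a * y * a⁻¹ ∈ D) → ∃ i : ℤ, ∀ y ∈ D, a * y * a⁻¹ = y ^ i := by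
    intro a ha
    obtain ⟨i, hi⟩ := Subgroup.mem_zpowers_iff.1 (hg₀ ⟨a * g₀ * a⁻¹, ha g₀ g₀.2⟩)
    have hi' : (g₀ : G) ^ i = a * g₀ * a⁻¹ := by simpa using congrArg Subtype.val hi
    refine ⟨i, fun y hy => ?_⟩
    obtain ⟨k, hk⟩ := Subgroup.mem_zpowers_iff.1 (hg₀ ⟨y, hy⟩)
    have hk' : (g₀ : G) ^ k = y := by simpa using congrArg Subtype.val hk
    rw [← hk', ← conj_zpow, ← hi', ← zpow_mul, ← zpow_mul, mul_comm]
  obtain ⟨i, hi⟩ := key hc
  obtain ⟨j, hj⟩ := key hz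
  -- `c⁻¹` acts as `z c z⁻¹`, hence as `c`
  have h1 : c⁻¹ * x * c = c * x * c⁻¹ := by
    have hz' : z⁻¹ * x * z ∈ D := by
      have := (Subgroup.mem_normalizer_iff.1 (inv_mem (mem_norm_of_conj hz)) x).1 hx
      rwa [inv_inv] at this
    calc c⁻¹ * x * c = (z * c * z⁻¹) * x * (z * c * z⁻¹)⁻¹ := by rw [hzc, inv_inv]
      _ = z * (c * (z⁻¹ * x * z) * c⁻¹) * z⁻¹ := by group
      _ = z * ((z⁻¹ * x * z) ^ i) * z⁻¹ := by rw [hi _ hz']
      _ = x ^ i := by rw [← conj_zpow]; group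
      _ = _ := (hi x hx).symm
  calc c * c * x = c * (c * x * c⁻¹) * c := by group
    _ = c * (c⁻¹ * x * c) * c := by rw [h1]
    _ = _ := by group

variable [IsSimpleGroup G] {t : G} {O N : Subgroup G} {v : G} {T : Subgroup G} {q : ℕ}

set_option quotPrecheck false in
local notation "Cz" => Subgroup.centralizer ({t} : Set G)

set_option quotPrecheck false in
local notation "Dv" p:max => fq p (Subgroup.centralizer ({t} : Set G)) ⊓ Subgroup.centralizer ({v} : Set G)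

/-- the elements of `O` centralising `v` and all the odd cores -/
def dall (t : G) (O : Subgroup G) (v : G) : Subgroup G :=
  O ⊓ Subgroup.centralizer ({v} : Set G) ⊓ Subgroup.centralizer
    {x : G | ∃ s : ℕ, s.Prime ∧ s ≠ 2 ∧ x ∈ fq s (Subgroup.centralizer ({t} : Set G))}

theorem dall_commute {x : G} (hx : x ∈ dall t O v) {s : ℕ} (hs : s.Prime) (hs2 : s ≠ 2) {y : G}
    (hy : y ∈ fq s Cz) : Commute x y :=
  (Subgroup.mem_centralizer_iff.1 hx.2 y ⟨s, hs, hs2, hy⟩).symm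

/-- `dall` has order at most `|T|` -/
theorem Cfg.dall_card (c : Cfg t O N v T q) : Nat.card ↥(dall t O v) ≤ Nat.card ↥T := by
  refine Nat.le_of_dvd Nat.card_pos ((Nat.dvd_iff_prime_pow_dvd_dvd _ _).2 fun p k hp hpk => ?_)
  haveI := Fact.mk hp
  rcases Nat.eq_zero_or_pos k with rfl | hk
  · simp
  have hp2 : p ≠ 2 := fun e => Nat.not_even_iff_odd.2
    ((c.mc.core_odd.of_dvd_nat (Subgroup.card_dvd_of_le (inf_le_left.trans inf_le_left))).of_dvd_nat hpk)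
    (e ▸ Nat.even_pow.2 ⟨even_two, hk.ne'⟩)
  obtain ⟨K, hK⟩ := Sylow.exists_subgroup_card_pow_prime p hpk
  have hKp : IsPGroup p ↥K := IsPGroup.of_card hK
  have hle : K.map (dall t O v).subtype ≤ Dv p := by
    rintro _ ⟨x, hx, rfl⟩
    refine ⟨?_, x.2.1.2⟩
    obtain ⟨i, hi⟩ := IsPGroup.iff_orderOf.1 hKp ⟨x, hx⟩
    rw [Subgroup.orderOf_mk, ← Subgroup.orderOf_coe] at hi
    exact c.mc.primary_mem x.2.1.1 (c.mc.mem_fit x.2.1.1 fun s hs hs2 y hy => dall_commute x.2 hs hs2 hy) hp hi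
  haveI := c.D_cyclic hp hp2
  haveI : IsCyclic ↥(K.map (dall t O v).subtype) :=
    isCyclic_of_injective (Subgroup.inclusion hle) (Subgroup.inclusion_injective hle)
  obtain ⟨g₀, hg₀⟩ := IsCyclic.exists_generator (α := ↥(K.map (dall t O v).subtype))
  have ho : orderOf (g₀ : G) = p ^ k := by
    rw [Subgroup.orderOf_coe, orderOf_eq_card_of_forall_mem_zpowers hg₀,
      Subgroup.card_map_of_injective (Subgroup.subtype_injective _), hK]
  exact ho ▸ orderOf_dvd_of_pow_eq_one (c.D_pow hp hp2 (hle g₀.2))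

/-- inverted elements of `N ∩ O` are products of a torus element and an element of `dall` -/
theorem Cfg.inverted_decomp (c : Cfg t O N v T q) {z : G} (hz : z ∈ N ⊓ Cz) (hz2 : z * z = 1) (hz1 : z ≠ 1)
    (hzt : z ≠ t) {y : G} (hyN : y ∈ N) (hyO : y ∈ O) (hy : z * y * z⁻¹ = y⁻¹) :
    ∃ l ∈ T, ∃ d ∈ dall t O v, y = l * d ∧ z * d * z⁻¹ = d⁻¹ := by
  have hzinv : z⁻¹ = z := inv_eq_of_mul_eq_one_right hz2
  obtain ⟨⟨-, hTdec⟩, hTinv, -, -⟩ := c.torus
  obtain ⟨k, hk⟩ := odd_orderOf c.mc.core_odd hyO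
  have hyy : ⁅y, z⁆ = y * y := by
    have h1 : z * y⁻¹ * z⁻¹ = y := by rw [← conj_inv, hy, inv_inv]
    rw [commutatorElement_def, mul_assoc, mul_assoc, ← mul_assoc z, h1]
  have hy2 : y ∈ lay N ⊔ layCent N := by
    have h1 : (y * y) ^ (k + 1) = y := by
      rw [← pow_two, ← pow_mul, show 2 * (k + 1) = orderOf y + 1 by omega, pow_succ, pow_orderOf_eq_one, one_mul]
    rw [← h1]
    exact pow_mem (hyy ▸ c.facts.comm y hyN z hz.1) _
  rw [← SetLike.mem_coe, Subgroup.coe_mul_of_left_le_normalizer_right _ _ (lay_le_normalizer_cent N)] at hy2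
  obtain ⟨l₀, hl₀, d₀, hd₀, e⟩ := hy2
  have e₀ : y = l₀ * d₀ := e.symm
  obtain ⟨l, hlT, hlc⟩ := hTdec l₀ ⟨hl₀, by
    rw [show l₀ = y * d₀⁻¹ by rw [e₀, mul_inv_cancel_right]]
    exact O.mul_mem hyO (O.inv_mem (c.layCent_le_core hd₀))⟩
  have hl : l ∈ lay N := (c.facts.T_le hlT).1
  obtain ⟨d, hd'⟩ : ∃ d, d = l⁻¹ * l₀ * d₀ := ⟨_, rfl⟩
  have hd : d ∈ layCent N := by
    rw [hd']
    exact (layCent N).mul_mem ⟨N.mul_mem (N.inv_mem (lay_le N hl)) (lay_le N hl₀), hlc⟩ hd₀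
  have e' : y = l * d := by rw [hd', e₀, mul_assoc, mul_inv_cancel_left]
  have hdO := c.layCent_le_core hd
  have hld : Commute l d := Subgroup.mem_centralizer_iff.1 hd.2 l hl
  have hlz : z * l * z⁻¹ = l⁻¹ :=
    hTinv z hz.1 hz2 hz1 hzt (Subgroup.mem_centralizer_singleton_iff.1 hz.2) l hlT
  have hdz : z * d * z⁻¹ = d⁻¹ := by
    calc z * d * z⁻¹ = (z * l * z⁻¹)⁻¹ * (z * (l * d) * z⁻¹) := by group
      _ = l * (l * d)⁻¹ := by rw [hlz, inv_inv, ← e', hy]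
      _ = l * (d * l)⁻¹ := by rw [hld.eq]
      _ = _ := by group
  refine ⟨l, hlT, d, ?_, e', hdz⟩
  refine ⟨⟨hdO, Subgroup.mem_centralizer_singleton_iff.2 (Subgroup.mem_centralizer_iff.1 hd.2 v c.facts.v_mem).symm⟩,
    Subgroup.mem_centralizer_iff.2 ?_⟩
  rintro x ⟨s, hs, hs2, hx⟩
  obtain ⟨r, hr, x', hx', rfl⟩ := c.decomp hs hs2 hx
  obtain ⟨j, hj⟩ := odd_orderOf c.mc.core_odd hdO
  have h2 : (d * d) ^ (j + 1) = d := by
    rw [← pow_two, ← pow_mul, show 2 * (j + 1) = orderOf d + 1 by omega, pow_succ, pow_orderOf_eq_one, one_mul]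
  have h3 : Commute (d * d) (r * x') := by
    have h4 : Commute d r := (Subgroup.mem_centralizer_iff.1 hd.2 r (c.facts.T_le hr.2).1).symm
    refine (h4.mul_left h4).mul_right (sq_commute_of_cyclic (c.D_cyclic hs hs2) hdz ?_ ?_ hx')
    · exact fun y hy => c.stab_D hs hs2 ⟨hd.1, c.cent_le hd⟩ hy
    · exact fun y hy => c.stab_D hs hs2 hz hy
  rw [← h2]
  exact ((h3.pow_left _).symm).eq

/-- a reflection centralising every `D_p` -/
theorem Cfg.bound_of_fixed (c : Cfg t O N v T q) {z : G} (hz : z ∈ N ⊓ Cz) (hz2 : z * z = 1) (hz1 : z ≠ 1)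
    (hzt : z ≠ t) (hzD : ∀ p : ℕ, p.Prime → p ≠ 2 → ∀ x ∈ Dv p, Commute z x) :
    Nat.card ↥O ≤ Nat.card ↥(O ⊓ Subgroup.centralizer ({z} : Set G) : Subgroup G) *
      ((N ⊓ O).relIndex O * Nat.card ↥T) := by
  have hzinv : z⁻¹ = z := inv_eq_of_mul_eq_one_right hz2
  have hcard : Nat.card ↥O = (N ⊓ O).relIndex O * Nat.card ↥(N ⊓ O : Subgroup G) := by
    rw [← Subgroup.card_mul_index ((N ⊓ O).subgroupOf O),
      Nat.card_congr (Subgroup.subgroupOfEquivOfLe inf_le_right).toEquiv, Subgroup.relIndex, mul_comm]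
  have h1 : Nat.card ↥(N ⊓ O : Subgroup G) ≤
      Nat.card ↥(N ⊓ O ⊓ Subgroup.centralizer ({z} : Set G) : Subgroup G) * Nat.card (T : Set G) := by
    refine card_le_fixed_mul _ z _ fun a ha => ?_
    have haz : z * a⁻¹ * z⁻¹ ∈ O :=
      (Subgroup.mem_normalizer_iff.1 (c.mc.core_norm hz.2) _).1 (inv_mem ha.2)
    have hwi : z * (a * (z * a⁻¹ * z⁻¹)) * z⁻¹ = (a * (z * a⁻¹ * z⁻¹))⁻¹ := by
      calc z * (a * (z * a⁻¹ * z⁻¹)) * z⁻¹ = z * a * z * a⁻¹ * (z * z)⁻¹ := by group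
        _ = z * a * z⁻¹ * a⁻¹ := by rw [hz2, hzinv]; group
        _ = _ := by group
    obtain ⟨l, hl, d, hd, e, hdz⟩ := c.inverted_decomp hz hz2 hz1 hzt
      (mul_mem ha.1 (mul_mem (mul_mem hz.1 (inv_mem ha.1)) (inv_mem hz.1))) (mul_mem ha.2 haz) hwi
    have hd1 : d = 1 := by
      refine eq_one_of_inv_fix (z := z) (odd_orderOf c.mc.core_odd hd.1.1) hdz ?_
      refine c.mc.fit_commute hd.1.1 (c.mc.mem_fit hd.1.1 fun s hs hs2 y hy => dall_commute hd hs hs2 hy)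
        fun p k hp hp2 x hx _ hxq => hzD p hp hp2 x ⟨hxq, ?_⟩
      exact Subgroup.zpowers_le.2 hd.1.2 hx
    rw [hd1, mul_one] at e
    exact e ▸ hl
  rw [hcard]
  calc (N ⊓ O).relIndex O * Nat.card ↥(N ⊓ O : Subgroup G)
      ≤ (N ⊓ O).relIndex O * (Nat.card ↥(O ⊓ Subgroup.centralizer ({z} : Set G) : Subgroup G) * Nat.card ↥T) :=
        Nat.mul_le_mul_left _ (h1.trans (Nat.mul_le_mul_right _
          (Nat.le_of_dvd Nat.card_pos (Subgroup.card_dvd_of_le (inf_le_inf_right _ inf_le_right)))))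
    _ = _ := by ring

/-- a reflection moving some `D_p` -/
theorem Cfg.bound_of_moved (c : Cfg t O N v T q) {z : G} (hz : z ∈ N ⊓ Cz) (hz2 : z * z = 1) (hz1 : z ≠ 1)
    (hzt : z ≠ t) {p : ℕ} (hp : p.Prime) (hp2 : p ≠ 2) {x : G} (hx : x ∈ Dv p) (hzx : ¬ Commute z x) :
    Nat.card ↥O ≤ Nat.card ↥(O ⊓ Subgroup.centralizer ({z} : Set G) : Subgroup G) *
      (Nat.card ↥T * Nat.card ↥T) := by
  haveI := Fact.mk hp
  have hzinv : z⁻¹ = z := inv_eq_of_mul_eq_one_right hz2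
  have hab := c.comm hp hp2
  have habD : ∀ a ∈ Dv p, ∀ b ∈ Dv p, a * b = b * a := fun a ha b hb => hab a ha.1 b hb.1
  obtain ⟨d, hd⟩ : ∃ d, d = x * (z * x⁻¹ * z⁻¹) := ⟨_, rfl⟩
  have hdD : d ∈ Dv p := hd ▸ mul_mem hx (c.stab_D hp hp2 hz (inv_mem hx))
  have hd1 : d ≠ 1 := by
    intro e
    refine hzx ?_
    rw [hd] at e
    calc z * x = x * (z * x⁻¹ * z⁻¹) * (z * x) := by rw [e, one_mul]
      _ = _ := by group
  have hdi : z * d * z⁻¹ = d⁻¹ := by
    rw [hd]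
    calc z * (x * (z * x⁻¹ * z⁻¹)) * z⁻¹ = z * x * z * x⁻¹ * (z * z)⁻¹ := by group
      _ = z * x * z⁻¹ * x⁻¹ := by rw [hz2, hzinv]; group
      _ = _ := by group
  obtain ⟨j, hj⟩ := IsPGroup.iff_orderOf.1 (fq_isPGroup p Cz) ⟨d, hdD.1⟩
  rw [Subgroup.orderOf_mk] at hj
  obtain ⟨i, rfl⟩ : ∃ i, j = i + 1 := ⟨j - 1, by
    rcases j with _ | j
    · rw [pow_zero, orderOf_eq_one_iff] at hj
      exact absurd hj hd1
    · rfl⟩
  obtain ⟨d₁, hd₁⟩ : ∃ d₁, d₁ = d ^ p ^ i := ⟨_, rfl⟩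
  have hd₁o : orderOf d₁ = p := by
    rw [hd₁, orderOf_pow' _ (pow_ne_zero _ hp.ne_zero), hj, Nat.gcd_eq_right (pow_dvd_pow p i.le_succ), pow_succ,
      Nat.mul_div_cancel_left _ (pow_pos hp.pos i)]
  have hd₁m : d₁ ∈ om p (Dv p) :=
    (mem_om habD).2 ⟨hd₁ ▸ pow_mem hdD _, by rw [← hd₁o]; exact pow_orderOf_eq_one d₁⟩
  have hd₁i : z * d₁ * z⁻¹ = d₁⁻¹ := by rw [hd₁, ← conj_pow, hdi, inv_pow]
  have hom : Subgroup.zpowers d₁ = om p (Dv p) :=
    Subgroup.eq_of_le_of_card_ge (Subgroup.zpowers_le.2 hd₁m)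
      ((c.line_card hp hp2).trans_eq (by rw [Nat.card_zpowers, hd₁o]))
  -- `z` inverts the plane
  have hV : ∀ y ∈ fq p Cz, y ^ p = 1 → z * y * z⁻¹ = y⁻¹ := by
    intro y hy hyp
    obtain ⟨r, hr, e, he, rfl⟩ := c.decomp hp hp2 hy
    have hre : Commute r e := hab r hr.1 e he.1
    rw [hre.mul_pow] at hyp
    have hm : r ^ p ∈ T ⊓ Subgroup.centralizer (lay N : Set G) := by
      refine ⟨pow_mem hr.2 p, ?_⟩
      rw [eq_inv_of_mul_eq_one_left hyp]
      exact (Subgroup.centralizer (lay N : Set G)).inv_mem (pow_mem ((c.fixed hp hp2).le he).2 p)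
    rw [c.facts.T_disj, Subgroup.mem_bot] at hm
    rw [hm, one_mul] at hyp
    obtain ⟨k, hk⟩ := Subgroup.mem_zpowers_iff.1 (hom.ge ((mem_om habD).2 ⟨he, hyp⟩))
    have hei : z * e * z⁻¹ = e⁻¹ := by rw [← hk, ← conj_zpow, hd₁i, inv_zpow]
    have hri : z * r * z⁻¹ = r⁻¹ :=
      c.torus.2.1 z hz.1 hz2 hz1 hzt (Subgroup.mem_centralizer_singleton_iff.1 hz.2) r hr.2
    rw [conj_mul.symm, hri, hei, ← mul_inv_rev, ← hre.eq]
  have hS : ∀ a ∈ O, a * (z * a⁻¹ * z⁻¹) ∈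
      Set.range fun u : ↥T × ↥(dall t O v) => (u.1 : G) * (u.2 : G) := by
    intro a ha
    have haz : z * a⁻¹ * z⁻¹ ∈ O :=
      (Subgroup.mem_normalizer_iff.1 (c.mc.core_norm hz.2) _).1 (inv_mem ha)
    obtain ⟨w, hw⟩ : ∃ w, w = a * (z * a⁻¹ * z⁻¹) := ⟨_, rfl⟩
    have hwO : w ∈ O := hw ▸ mul_mem ha haz
    have hwi : z * w * z⁻¹ = w⁻¹ := by
      rw [hw]
      calc z * (a * (z * a⁻¹ * z⁻¹)) * z⁻¹ = z * a * z * a⁻¹ * (z * z)⁻¹ := by group
        _ = z * a * z⁻¹ * a⁻¹ := by rw [hz2, hzinv]; group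
        _ = _ := by group
    have hwN : w ∈ N := by
      refine c.stab hp hp2 (fun e => hd1 (Subgroup.mem_bot.1 (e ▸ hdD))) (c.mc.core_le hwO) fun y hy => ?_
      obtain ⟨hyD, hyp⟩ := (mem_om habD).1 hy
      have hyC : a ∈ Cz := c.mc.core_le ha
      have h1 : z⁻¹ * y * z = y⁻¹ := by
        rw [hzinv]
        have := hV y hyD.1 hyp
        rwa [hzinv] at this
      have h2 : z * (a⁻¹ * y * a) * z⁻¹ = (a⁻¹ * y * a)⁻¹ := by
        refine hV _ ?_ ?_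
        · have := conj_fq hp (inv_mem hyC) hyD.1
          rwa [inv_inv] at this
        · rw [show a⁻¹ * y * a = a⁻¹ * y * a⁻¹⁻¹ by group, conj_pow, hyp]
          group
      have : w * y * w⁻¹ = y := by
        rw [hw]
        calc a * (z * a⁻¹ * z⁻¹) * y * (a * (z * a⁻¹ * z⁻¹))⁻¹
            = a * (z * (a⁻¹ * (z⁻¹ * y * z) * a) * z⁻¹) * a⁻¹ := by group
          _ = a * (z * (a⁻¹ * y * a) * z⁻¹)⁻¹ * a⁻¹ := by rw [h1]; group
          _ = _ := by rw [h2]; group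
      rw [this]
      exact hy
    obtain ⟨l, hl, e, he, hle, -⟩ := c.inverted_decomp hz hz2 hz1 hzt hwN hwO hwi
    exact ⟨(⟨l, hl⟩, ⟨e, he⟩), by rw [← hw, hle]⟩
  refine (card_le_fixed_mul O z _ hS).trans (Nat.mul_le_mul_left _ ((Finite.card_range_le _).trans ?_))
  rw [Nat.card_prod]
  exact Nat.mul_le_mul_left _ c.dall_card

/-- the bound for every reflection -/
theorem Cfg.refl_bound (c : Cfg t O N v T q) (P : Sylow 2 G) (hOP : O ⊔ (P : Subgroup G) = Cz) {z : G}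
    (hz : z ∈ N ⊓ Cz) (hz2 : z * z = 1) (hz1 : z ≠ 1) (hzt : z ≠ t) :
    Nat.card ↥O ≤ Nat.card ↥(O ⊓ Subgroup.centralizer ({z} : Set G) : Subgroup G) *
      (Nat.card ↥T * Nat.card ↥T) := by
  by_cases hD : ∀ p : ℕ, p.Prime → p ≠ 2 → ∀ x ∈ Dv p, Commute z x
  · refine (c.bound_of_fixed hz hz2 hz1 hzt hD).trans (Nat.mul_le_mul_left _ (Nat.mul_le_mul_right _ ?_))
    have := c.orbit_le P hOP
    omega
  · push Not at hD
    obtain ⟨p, hp, hp2, x, hx, hzx⟩ := hD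
    exact c.bound_of_moved hz hz2 hz1 hzt hp hp2 hx hzx

/-- the bound for `v` -/
theorem Cfg.v_bound (c : Cfg t O N v T q) :
    Nat.card ↥O ≤ Nat.card ↥(O ⊓ Subgroup.centralizer ({v} : Set G) : Subgroup G) *
      ((N ⊓ O).relIndex O * Nat.card ↥T) :=
  c.bound_of_fixed c.vC c.facts.v_sq c.facts.v_ne c.facts.v_ne_t fun _ _ _ _ hx =>
    (Subgroup.mem_centralizer_singleton_iff.1 hx.2).symm

end Cfsg.Agent.GW
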