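import Cfsg.Agent.Lib.GW.MaxCfg
import Cfsg.Agent.Lib.GW.MaxRefl

/-!
# Layers over a maximal centraliser: the count

`(1 + (m - 1) Δ) Δ ≤ |G : C| m` against `|G : C| ≤ (45/64) N² (m τ + τ²)²` from the order formula: no maximal
subgroup with layer holds all odd cores and the normaliser of a part of `O_q(C)`.
-/

set_option autoImplicit false
set_option linter.unusedSectionVars false
set_option linter.style.haveILetI false

namespace Cfsg.Agent.GW

open Cfsg Cfsg.Agent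

universe w

/-- the arithmetic of the count -/
theorem count_false {J Δ m τ Nx n : ℕ} (hm : 3 ≤ m) (hodd : Odd m) (hmτ : m + 2 ≤ τ) (hNx : 4 ≤ Nx)
    (hn : 1 + (m - 1) * Δ ≤ n) (hnJ : n * Δ = J * m) (hΔ : (Nx * τ - 1) * (Nx * τ - 2) ≤ 2 * Δ)
    (hJ : 64 * J ≤ 45 * Nx ^ 2 * (m * τ + τ * τ) ^ 2) : False := by
  obtain ⟨X, hX⟩ : ∃ X, X = Nx * τ := ⟨_, rfl⟩
  have hX4 : 4 * τ ≤ X := hX ▸ Nat.mul_le_mul_right τ hNx
  rw [← hX] at hΔ
  have hA : X * (X - 3) ≤ (X - 1) * (X - 2) := by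
    obtain ⟨x, rfl⟩ : ∃ x, X = x + 3 := ⟨X - 3, by omega⟩
    simp only [Nat.add_sub_cancel, show x + 3 - 1 = x + 2 by omega, show x + 3 - 2 = x + 1 by omega]
    nlinarith
  have hD : X * (X - 3) ≤ 2 * Δ := hA.trans hΔ
  have h1 : 16 * (m - 1) * (X * (X - 3)) ^ 2 ≤ 45 * m * X ^ 2 * (m + τ) ^ 2 := by
    calc 16 * (m - 1) * (X * (X - 3)) ^ 2 ≤ 16 * (m - 1) * (2 * Δ) ^ 2 :=
          Nat.mul_le_mul_left _ (Nat.pow_le_pow_left hD 2)
      _ = 64 * ((m - 1) * Δ * Δ) := by ring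
      _ ≤ 64 * (n * Δ) := Nat.mul_le_mul_left _ (Nat.mul_le_mul_right _ (le_trans (Nat.le_add_left _ 1) hn))
      _ = 64 * J * m := by rw [hnJ]; ring
      _ ≤ 45 * Nx ^ 2 * (m * τ + τ * τ) ^ 2 * m := Nat.mul_le_mul_right _ hJ
      _ = _ := by rw [hX]; ring
  have h2 : 16 * (m - 1) * (X - 3) ^ 2 ≤ 45 * m * (m + τ) ^ 2 := by
    refine Nat.le_of_mul_le_mul_left ?_ (pow_pos (show 0 < X by omega) 2)
    calc X ^ 2 * (16 * (m - 1) * (X - 3) ^ 2) = 16 * (m - 1) * (X * (X - 3)) ^ 2 := by ring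
      _ ≤ 45 * m * X ^ 2 * (m + τ) ^ 2 := h1
      _ = _ := by ring
  obtain ⟨k, hk⟩ := hodd
  obtain ⟨Y, hY⟩ : ∃ Y, X = Y + 3 := ⟨X - 3, by omega⟩
  rw [hY, Nat.add_sub_cancel] at h2
  rcases eq_or_lt_of_le hm with h3 | h5
  · subst h3
    norm_num at h2
    have hY4 : 4 * τ ≤ Y + 3 := by omega
    nlinarith [Nat.pow_le_pow_left (show 4 * τ - 3 ≤ Y by omega) 2]
  · obtain ⟨j, rfl⟩ : ∃ j, m = j + 5 := ⟨m - 5, by omega⟩
    have h4 : 2 * (j + 5 + τ) ≤ Y := by omega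
    have h6 := Nat.pow_le_pow_left h4 2
    simp only [show j + 5 - 1 = j + 4 by omega] at h2
    have h7 : 64 * (j + 4) * (j + 5 + τ) ^ 2 ≤ 45 * (j + 5) * (j + 5 + τ) ^ 2 :=
      le_trans (le_of_eq (by ring)) (le_trans (Nat.mul_le_mul_left (16 * (j + 4)) h6) h2)
    have h8 := Nat.le_of_mul_le_mul_right h7 (pow_pos (by omega) 2)
    omega

variable {G : Type w} [Group G] [Finite G] [IsSimpleGroup G] {t : G} {O : Subgroup G}

set_option quotPrecheck false in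
local notation "Cz" => Subgroup.centralizer ({t} : Set G)

/-- no configuration, given the bound on the index of `C(t)` -/
theorem Cfg.false_of_bound {N : Subgroup G} {v : G} {T : Subgroup G} {q : ℕ} (c : Cfg t O N v T q) (P : Sylow 2 G)
    (hOP : O ⊔ (P : Subgroup G) = Cz)
    (hidx : ∀ {v : G}, v * v = 1 → v ≠ 1 → v ≠ t → Commute v t → ∀ {a b : ℕ},
      4 * Nat.card ↥O ≤ Nat.card ↥(Subgroup.centralizer ({t, v} : Set G)) * a →
      (∀ z : G, z * z = 1 → z ≠ 1 → z ≠ t → Commute z t →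
        4 * Nat.card ↥O ≤ Nat.card ↥(Subgroup.centralizer ({t, z} : Set G)) * b) →
      64 * (Cz).index ≤ 45 * (max (Nat.card ↥(P : Subgroup G) / 2) 4) ^ 2 * (a + b) ^ 2) : False := by
  haveI : Fact (Nat.Prime 2) := ⟨Nat.prime_two⟩
  have hPC : (P : Subgroup G) ≤ Cz := le_sup_right.trans hOP.le
  obtain ⟨P', hP'⟩ := c.sylow P hPC
  have hle : ∀ z : G, O ⊓ Subgroup.centralizer ({z} : Set G) ≤ Subgroup.centralizer ({t, z} : Set G) := by
    intro z x hx
    refine Subgroup.mem_centralizer_iff.2 ?_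
    rintro y (rfl | hy)
    · exact (Subgroup.mem_centralizer_singleton_iff.1 (c.mc.core_le hx.1)).symm
    · rw [Set.mem_singleton_iff] at hy
      exact hy ▸ (Subgroup.mem_centralizer_singleton_iff.1 hx.2).symm
  have hbound : ∀ {z : G} {a : ℕ}, z * z = 1 → z ≠ 1 → z ≠ t → Commute z t →
      Nat.card ↥O ≤ Nat.card ↥(O ⊓ Subgroup.centralizer ({z} : Set G) : Subgroup G) * a →
      4 * Nat.card ↥O ≤ Nat.card ↥(Subgroup.centralizer ({t, z} : Set G)) * a := by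
    intro z a hz hz1 hzt hzc h
    calc 4 * Nat.card ↥O
        ≤ 4 * (Nat.card ↥(O ⊓ Subgroup.centralizer ({z} : Set G) : Subgroup G) * a) := Nat.mul_le_mul_left 4 h
      _ = 4 * Nat.card ↥(O ⊓ Subgroup.centralizer ({z} : Set G) : Subgroup G) * a := by ring
      _ ≤ _ := Nat.mul_le_mul_right _ (four_le
          (c.mc.core_odd.of_dvd_nat (Subgroup.card_dvd_of_le inf_le_left)) c.mc.sq c.mc.ne hz hz1 hzt hzc.symm (hle z))
  -- every reflection is conjugate in `C` into `N ∩ C`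
  have hb : ∀ z : G, z * z = 1 → z ≠ 1 → z ≠ t → Commute z t →
      4 * Nat.card ↥O ≤ Nat.card ↥(Subgroup.centralizer ({t, z} : Set G)) * (Nat.card ↥T * Nat.card ↥T) := by
    intro z hz hz1 hzt hzc
    have hzC : z ∈ Cz := Subgroup.mem_centralizer_singleton_iff.2 hzc.eq
    obtain ⟨R, hR⟩ := (IsPGroup.of_card (p := 2) (n := 1) (G := Subgroup.zpowers (⟨z, hzC⟩ : ↥(Cz))) (by
      rw [Nat.card_zpowers, Subgroup.orderOf_mk,
        orderOf_eq_prime (p := 2) (by rw [pow_two]; exact hz) hz1, pow_one])).exists_le_sylow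
    obtain ⟨g, hg⟩ := MulAction.exists_smul_eq ↥(Cz) R (P'.subtype (hP'.trans inf_le_right))
    have hw : (g : G) * z * (g : G)⁻¹ ∈ (P' : Subgroup G) := by
      have h1 : g * ⟨z, hzC⟩ * g⁻¹ ∈ ((g • R : Sylow 2 ↥(Cz)) : Subgroup ↥(Cz)) :=
        ⟨⟨z, hzC⟩, hR (Subgroup.mem_zpowers _), rfl⟩
      rw [hg, Sylow.coe_subtype, Subgroup.mem_subgroupOf] at h1
      exact h1
    obtain ⟨w, hwdef⟩ : ∃ w, w = (g : G) * z * (g : G)⁻¹ := ⟨_, rfl⟩
    rw [← hwdef] at hw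
    have hgt : (g : G) * t * (g : G)⁻¹ = t := by
      rw [Subgroup.mem_centralizer_singleton_iff.1 g.2, mul_inv_cancel_right]
    have hwC := hP' hw
    have hw2 : w * w = 1 := by
      rw [hwdef, show (g : G) * z * (g : G)⁻¹ * ((g : G) * z * (g : G)⁻¹) = g * (z * z) * (g : G)⁻¹ by group, hz]
      group
    have hw1 : w ≠ 1 := fun e => hz1 (conj_eq_one_iff.1 (hwdef ▸ e))
    have hwt : w ≠ t := fun e => hzt ((MulAut.conj (g : G)).injective
      (show (g : G) * z * (g : G)⁻¹ = g * t * (g : G)⁻¹ by rw [hgt, ← hwdef, e]))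
    have hgi : (g : G)⁻¹ * t * (g : G)⁻¹⁻¹ = t := by
      rw [Subgroup.mem_centralizer_singleton_iff.1 (inv_mem g.2), mul_inv_cancel_right]
    have hmap' : (Subgroup.centralizer ({t, w} : Set G)).map (MulAut.conj (g : G)⁻¹).toMonoidHom ≤
        Subgroup.centralizer ({t, z} : Set G) := by
      rintro _ ⟨x, hx, rfl⟩
      refine Subgroup.mem_centralizer_iff.2 ?_
      rintro y (rfl | hy)
      · have := (Commute.conj_iff (g : G)⁻¹).2 (show Commute y x from Subgroup.mem_centralizer_iff.1 hx y (Set.mem_insert _ _))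
        rwa [hgi] at this
      · rw [Set.mem_singleton_iff] at hy
        have := (Commute.conj_iff (g : G)⁻¹).2
          (show Commute w x from Subgroup.mem_centralizer_iff.1 hx w (Set.mem_insert_of_mem _ rfl))
        rwa [show (g : G)⁻¹ * w * (g : G)⁻¹⁻¹ = y by rw [hy, hwdef]; group] at this
    refine (hbound hw2 hw1 hwt (Subgroup.mem_centralizer_singleton_iff.1 hwC.2)
      (c.refl_bound P hOP hwC hw2 hw1 hwt)).trans (Nat.mul_le_mul_right _ ?_)
    rw [← Subgroup.card_map_of_injective (f := (MulAut.conj (g : G)⁻¹).toMonoidHom) (MulAut.conj (g : G)⁻¹).injective]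
    exact Nat.le_of_dvd Nat.card_pos (Subgroup.card_dvd_of_le hmap')
  have hJ := hidx c.facts.v_sq c.facts.v_ne c.facts.v_ne_t c.facts.v_comm
    (hbound c.facts.v_sq c.facts.v_ne c.facts.v_ne_t c.facts.v_comm c.v_bound) hb
  obtain ⟨-, -, -, hX⟩ := c.torus
  have hΔ := hX P' hP'
  have hPP : Nat.card ↥(P' : Subgroup G) = Nat.card ↥(P : Subgroup G) := by
    rw [Sylow.card_eq_multiplicity, Sylow.card_eq_multiplicity]
  rw [hPP] at hΔ
  have hm1 := c.one_lt P hOP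
  have hmodd : Odd ((N ⊓ O).relIndex O) := c.mc.core_odd.of_dvd_nat (Subgroup.relIndex_dvd_card _ O)
  have hm3 : 3 ≤ (N ⊓ O).relIndex O := by
    obtain ⟨k, hk⟩ := hmodd
    omega
  refine count_false hm3 hmodd (c.orbit_le P hOP) (le_max_right _ _) c.index_ge ?_ hΔ hJ
  rw [mul_comm, Subgroup.relIndex_mul_index inf_le_left, ← c.relIndex_eq P hOP, mul_comm (Cz).index,
    Subgroup.relIndex_mul_index inf_le_right]

/-- **no maximal subgroup with layer over the odd cores**, given the bound on the index of `C(t)` -/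
theorem MaxCent.no_layer_of_bound (hG : ¬ IsMulCommutative G) (h : MaxCent t O) (hrot : Rotates t)
    (hlay : MaxLayer t O) (P : Sylow 2 G) (hOP : O ⊔ (P : Subgroup G) = Cz)
    (hidx : ∀ {v : G}, v * v = 1 → v ≠ 1 → v ≠ t → Commute v t → ∀ {a b : ℕ},
      4 * Nat.card ↥O ≤ Nat.card ↥(Subgroup.centralizer ({t, v} : Set G)) * a →
      (∀ z : G, z * z = 1 → z ≠ 1 → z ≠ t → Commute z t →
        4 * Nat.card ↥O ≤ Nat.card ↥(Subgroup.centralizer ({t, z} : Set G)) * b) →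
      64 * (Cz).index ≤ 45 * (Max.max (Nat.card ↥(P : Subgroup G) / 2) 4) ^ 2 * (a + b) ^ 2) :
    NoLayer t := by
  intro N hN htN hNC hFN hl q hq hq2 Y hY hYq hYN
  obtain ⟨N₁, v₁, T₁, c⟩ := h.exists_cfg hG hrot hlay hN htN hNC hFN hl hq hq2 hY hYq hYN
  exact c.false_of_bound P hOP hidx

end Cfsg.Agent.GW
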