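import Cfsg.Agent.Lib.GW.MaxBasic

/-!
# Elements of the core in the Fitting subgroup

Elements of `O` centralising all odd cores of `C` lie in `F(C)`; what commutes with the primary parts of an element
commutes with it; a coprime action on an abelian group fixing the elements of order `p` is trivial.
-/

set_option autoImplicit false
set_option linter.unusedSectionVars false
set_option linter.style.haveILetI false

namespace Cfsg.Agent.GW

open Cfsg Cfsg.Agent

universe w

variable {G : Type w} [Group G] [Finite G]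

/-- An element is in a subgroup containing all its powers of prime power order. -/
theorem mem_of_primary {K : Subgroup G} {x : G}
    (h : ∀ y ∈ Subgroup.zpowers x, ∀ p k : ℕ, p.Prime → orderOf y = p ^ k → y ∈ K) : x ∈ K := by
  suffices hd : orderOf x ∣ Nat.card ↥(Subgroup.zpowers x ⊓ K : Subgroup G) by
    have he : Subgroup.zpowers x ⊓ K = Subgroup.zpowers x :=
      Subgroup.eq_of_le_of_card_ge inf_le_left ((Nat.card_zpowers x).trans_le (Nat.le_of_dvd Nat.card_pos hd))
    exact (he.ge (Subgroup.mem_zpowers x)).2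
  refine (Nat.dvd_iff_prime_pow_dvd_dvd _ _).2 fun p k hp hpk => ?_
  obtain ⟨y, hy⟩ : ∃ y, y = x ^ (orderOf x / p ^ k) := ⟨_, rfl⟩
  have hyo : orderOf y = p ^ k := by rw [hy, orderOf_pow_orderOf_div (orderOf_pos x).ne' hpk]
  have hyz : y ∈ Subgroup.zpowers x := hy ▸ pow_mem (Subgroup.mem_zpowers x) _
  exact hyo ▸ Subgroup.orderOf_dvd_natCard _ (Subgroup.mem_inf.2 ⟨hyz, h y hyz p k hp hyo⟩)

/-- A coprime action fixing the elements of order `p` of an abelian `p`-group is trivial. -/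
theorem commute_of_line {p : ℕ} [hp : Fact p.Prime] {A : Subgroup G} (hA : IsPGroup p ↥A)
    (hab : ∀ a ∈ A, ∀ b ∈ A, a * b = b * a) {y : G} (hy : ∀ a ∈ A, y * a * y⁻¹ ∈ A)
    (hco : (orderOf y).Coprime p) (hline : ∀ a ∈ A, a ^ p = 1 → Commute y a) : ∀ a ∈ A, Commute y a := by
  intro a ha
  obtain ⟨k, hk⟩ := hA ⟨a, ha⟩
  have hk' : a ^ p ^ k = 1 := congrArg Subtype.val hk
  clear hk
  induction k generalizing a with
  | zero => rw [pow_zero, pow_one] at hk'; rw [hk']; exact Commute.one_right y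
  | succ k ih =>
    have hp' : Commute y (a ^ p) := ih (a ^ p) (pow_mem ha p) (by rw [← pow_mul, ← pow_succ', hk'])
    obtain ⟨e, he⟩ : ∃ e, e = y * a * y⁻¹ * a⁻¹ := ⟨_, rfl⟩
    have heA : e ∈ A := he ▸ mul_mem (hy a ha) (inv_mem ha)
    have hep : e ^ p = 1 := by
      rw [he, (show Commute (y * a * y⁻¹) a⁻¹ from hab _ (hy a ha) _ (inv_mem ha)).mul_pow, conj_pow, inv_pow,
        hp'.eq, mul_inv_cancel_right, mul_inv_cancel]
    have hye := hline e heA hep
    have hn : ∀ n : ℕ, y ^ n * a * (y ^ n)⁻¹ = e ^ n * a := by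
      intro n
      induction n with
      | zero => simp
      | succ n ihn =>
        calc y ^ (n + 1) * a * (y ^ (n + 1))⁻¹ = y * (y ^ n * a * (y ^ n)⁻¹) * y⁻¹ := by rw [pow_succ']; group
          _ = (y * e ^ n * y⁻¹) * (y * a * y⁻¹) := by rw [ihn]; group
          _ = e ^ n * (e * a) := by rw [(hye.pow_right n).eq, mul_inv_cancel_right, he]; group
          _ = _ := by rw [pow_succ]; group
    have h1 : e ^ orderOf y = 1 := by simpa [pow_orderOf_eq_one] using (hn (orderOf y)).symm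
    have he1 : e = 1 := orderOf_eq_one_iff.1
      (Nat.eq_one_of_dvd_coprimes hco (orderOf_dvd_of_pow_eq_one h1) (orderOf_dvd_of_pow_eq_one hep))
    rw [he] at he1
    exact commutatorElement_eq_one_iff_commute.1 (by rw [commutatorElement_def]; exact he1)

variable [IsSimpleGroup G] {t : G} {O : Subgroup G}

/-- elements of `O` centralising the odd cores lie in the Fitting subgroup -/
theorem MaxCent.mem_fit (h : MaxCent t O) {y : G} (hy : y ∈ O)
    (hc : ∀ s : ℕ, s.Prime → s ≠ 2 → ∀ x ∈ fq s (Subgroup.centralizer ({t} : Set G)), Commute y x) :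
    (⟨y, h.core_le hy⟩ : ↥(Subgroup.centralizer ({t} : Set G))) ∈
      Cfsg.fittingSubgroup ↥(Subgroup.centralizer ({t} : Set G)) := by
  refine Solv.centralizer_fitting_le h.solv (Subgroup.mem_centralizer_iff.2 fun x hx => ?_)
  refine (Subgroup.mem_centralizer_singleton_iff.1 ((?_ : Cfsg.fittingSubgroup ↥(Subgroup.centralizer ({t} : Set G)) ≤
    Subgroup.centralizer ({(⟨y, h.core_le hy⟩ : ↥(Subgroup.centralizer ({t} : Set G)))} :
      Set ↥(Subgroup.centralizer ({t} : Set G)))) hx))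
  rw [Solv.fitting_eq_iSup_pCore, iSup_le_iff]
  intro p x hx
  refine Subgroup.mem_centralizer_singleton_iff.2 (Subtype.ext ?_)
  by_cases hp2 : (p : ℕ) = 2
  · exact (h.commute_two hy (b := (x : G)) (by rw [← hp2]; exact ⟨x, hx, rfl⟩)).symm.eq
  · exact (hc p p.2 hp2 _ ⟨x, hx, rfl⟩).symm.eq

/-- a `p`-element of `O` in the Fitting subgroup lies in `O_p(C)` -/
theorem MaxCent.primary_mem (h : MaxCent t O) {y : G} (hy : y ∈ O)
    (hf : (⟨y, h.core_le hy⟩ : ↥(Subgroup.centralizer ({t} : Set G))) ∈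
      Cfsg.fittingSubgroup ↥(Subgroup.centralizer ({t} : Set G)))
    {p k : ℕ} (hp : p.Prime) (ho : orderOf y = p ^ k) : y ∈ fq p (Subgroup.centralizer ({t} : Set G)) := by
  haveI := Fact.mk hp
  refine ⟨⟨y, h.core_le hy⟩, ?_, rfl⟩
  exact Solv.pgroup_le_pCore_of_le_fitting
    (IsPGroup.of_card (n := k) (by rw [Nat.card_zpowers, Subgroup.orderOf_mk, ho]))
    (Subgroup.zpowers_le.2 hf) (Subgroup.mem_zpowers _)

/-- what commutes with all odd cores commutes with the odd part of the Fitting subgroup -/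
theorem MaxCent.fit_commute (h : MaxCent t O) {y z : G} (hy : y ∈ O)
    (hf : (⟨y, h.core_le hy⟩ : ↥(Subgroup.centralizer ({t} : Set G))) ∈
      Cfsg.fittingSubgroup ↥(Subgroup.centralizer ({t} : Set G)))
    (hz : ∀ p k : ℕ, p.Prime → p ≠ 2 → ∀ x ∈ Subgroup.zpowers y, orderOf x = p ^ k →
      x ∈ fq p (Subgroup.centralizer ({t} : Set G)) → Commute z x) : Commute z y := by
  refine (Subgroup.mem_centralizer_singleton_iff.1 (mem_of_primary (K := Subgroup.centralizer ({z} : Set G))
    fun x hx p k hp ho => Subgroup.mem_centralizer_singleton_iff.2 ?_)).symm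
  have hxO : x ∈ O := Subgroup.zpowers_le.2 hy hx
  rcases Nat.eq_zero_or_pos k with rfl | hk
  · rw [pow_zero, orderOf_eq_one_iff] at ho
    rw [ho, one_mul, mul_one]
  have hp2 : p ≠ 2 := fun e => Nat.not_even_iff_odd.2
    (h.core_odd.of_dvd_nat (Subgroup.orderOf_dvd_natCard _ hxO)) (ho ▸ e ▸ Nat.even_pow.2 ⟨even_two, hk.ne'⟩)
  refine (hz p k hp hp2 x hx ho (h.primary_mem hxO ?_ hp ho)).symm.eq
  obtain ⟨i, rfl⟩ := Subgroup.mem_zpowers_iff.1 hx
  exact (show (⟨y ^ i, h.core_le hxO⟩ : ↥(Subgroup.centralizer ({t} : Set G))) = ⟨y, h.core_le hy⟩ ^ i from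
    Subtype.ext (by simp)) ▸ zpow_mem hf i

end Cfsg.Agent.GW
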