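import Cfsg.Agent.Lib.GW.MaxOneClass
import Cfsg.Agent.Lib.GW.LayerMeet

/-!
# A nonsolvable maximal subgroup over `C(t)` has an outer reflection

`exists_outer`: for `|S| ≥ 8` some reflection lies outside the simple subgroup of `M/O(M)`.
-/

set_option autoImplicit false
set_option linter.style.haveILetI false
set_option linter.unusedSectionVars false

namespace Cfsg.Agent.GW

open Cfsg Cfsg.Agent Cfsg.Agent.GW.Reduced DihedralGroup
open scoped Pointwise

universe u

/-- Conjugacy of involutions modulo a normal subgroup of odd order lifts. -/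
theorem conj_lift {Y : Type u} [Group Y] [Finite Y] (O : Subgroup Y) [O.Normal] (hO : Odd (Nat.card O)) {a b g : Y}
    (ha : orderOf a = 2) (hb : orderOf b = 2) (h : (g * a * g⁻¹)⁻¹ * b ∈ O) : ∃ h : Y, h * a * h⁻¹ = b := by
  have hca : orderOf (g * a * g⁻¹) = 2 := by
    rw [← ha]; exact orderOf_injective (MulAut.conj g).toMonoidHom (MulAut.conj g).injective a
  haveI : Group.IsSolvable O := Solv.Partition.odd_solvable hO
  obtain ⟨d, hd, hdu⟩ := Solv.sz_conj_rel O (Subgroup.zpowers b) (Subgroup.zpowers (g * a * g⁻¹))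
    (fun y _ => by rw [Subgroup.normalizer_eq_top_iff.2 inferInstance]; trivial)
    (by
      rw [Subgroup.zpowers_le]
      have h' : b * (g * a * g⁻¹)⁻¹ ∈ O := by
        have := (inferInstance : O.Normal).conj_mem _ h (g * a * g⁻¹)
        rwa [show g * a * g⁻¹ * ((g * a * g⁻¹)⁻¹ * b) * (g * a * g⁻¹)⁻¹ = b * (g * a * g⁻¹)⁻¹ by group] at this
      have := mul_mem (Subgroup.mem_sup_left (inv_mem h') : _ ∈ O ⊔ Subgroup.zpowers b)
        (Subgroup.mem_sup_right (Subgroup.mem_zpowers b))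
      rwa [mul_inv_rev, inv_inv, inv_mul_cancel_right] at this)
    (by rw [Nat.card_zpowers, hb]; exact Nat.coprime_two_right.2 hO)
    (by rw [Nat.card_zpowers, Nat.card_zpowers, hb, hca]) (Or.inl inferInstance)
  have hm : g * a * g⁻¹ ∈ MulAut.conj d • Subgroup.zpowers b := hdu ▸ Subgroup.mem_zpowers _
  obtain ⟨z, hz, hze⟩ := hm
  obtain ⟨j, rfl⟩ := Subgroup.mem_zpowers_iff.1 hz
  have hze : d * b ^ j * d⁻¹ = g * a * g⁻¹ := hze
  have hbb : b * b = 1 := by rw [← pow_two, ← hb, pow_orderOf_eq_one]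
  refine ⟨d⁻¹ * g, ?_⟩
  rw [show d⁻¹ * g * a * (d⁻¹ * g)⁻¹ = d⁻¹ * (g * a * g⁻¹) * d by group, ← hze,
    show d⁻¹ * (d * b ^ j * d⁻¹) * d = b ^ j by group]
  rcases Int.even_or_odd' j with ⟨l, rfl | rfl⟩
  · exfalso
    rw [zpow_mul, zpow_two, hbb, one_zpow, mul_one, mul_inv_cancel] at hze
    rw [← hze, orderOf_one] at hca
    omega
  · rw [zpow_add_one, zpow_mul, zpow_two, hbb, one_zpow, one_mul]

variable {G : Type u} [Group G] [Finite G]

/-- For `|S| ≥ 8`, the Sylow subgroup does not lie over the simple subgroup of `M/O(M)`. -/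
theorem exists_outer (hG : Minimal G) (Φ : Frame G) (hk : 2 ≤ Φ.k) (M : Subgroup G) (hM : IsCoatom M)
    (hC : Subgroup.centralizer ({Φ.t} : Set G) ≤ M) :
    haveI : (Cfsg.oddCore ↥M).Normal := Solv.pPrimeCore_normal 2
    ∀ L : Subgroup (↥M ⧸ Cfsg.oddCore ↥M), IsModel L →
      ¬ ((Φ.S.subtype (Φ.S_le.trans hC) : Subgroup ↥M).map (QuotientGroup.mk' (Cfsg.oddCore ↥M)) ≤ L) := by
  classical
  haveI : (Cfsg.oddCore ↥M).Normal := Solv.pPrimeCore_normal 2
  haveI : Fact (Nat.Prime 2) := ⟨Nat.prime_two⟩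
  intro L hmod hle
  obtain ⟨hsimp, hnab⟩ := hmod.simple
  haveI := hsimp
  haveI : Group.IsPerfect L := perfect_of_simple hnab
  have hSM : (Φ.S : Subgroup G) ≤ M := Φ.S_le.trans hC
  have hodd : Odd (Nat.card (Cfsg.oddCore M)) := Nat.coprime_two_right.1 (Fusion.card_pPrimeCore_coprime 2 M)
  let T : Sylow 2 M := Φ.S.subtype hSM
  let T' := T.mapSurjective (QuotientGroup.mk'_surjective (Cfsg.oddCore M))
  obtain ⟨sq⟩ := sylow_quotient (Cfsg.oddCore M) hodd T
  let eS : (T : Subgroup M) ≃* DihedralGroup (2 ^ Φ.k) := (Subgroup.subgroupOfEquivOfLe hSM).trans Φ.ι.symm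
  let SL : Sylow 2 L := T'.subtype hle
  let eL : (SL : Subgroup L) ≃* DihedralGroup (2 ^ Φ.k) :=
    (Subgroup.subgroupOfEquivOfLe hle).trans (sq.symm.trans eS)
  set π := QuotientGroup.mk' (Cfsg.oddCore M)
  have key : ∀ i, ∃ g ∈ M, g * Φ.t * g⁻¹ = Φ.refl i := by
    intro i
    let t' : M := ⟨Φ.t, hSM Φ.t_mem⟩
    let u' : M := ⟨Φ.refl i, hSM (Φ.refl_mem i)⟩
    have ht2 : orderOf t' = 2 := by rw [← Subgroup.orderOf_coe]; exact Φ.t_order
    have hu2 : orderOf u' = 2 := by rw [← Subgroup.orderOf_coe]; exact Φ.refl_order i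
    have hord : ∀ x : M, x ∈ (T : Subgroup M) → orderOf x = 2 → orderOf (π x) = 2 := fun x hx h => by
      refine orderOf_eq_prime (by rw [← map_pow, ← h, pow_orderOf_eq_one, map_one]) fun h1 => ?_
      have hm : x ∈ (T : Subgroup M) ⊓ Cfsg.oddCore M := ⟨hx, (QuotientGroup.eq_one_iff x).1 h1⟩
      obtain ⟨j, hj⟩ := IsPGroup.iff_card.1 T.isPGroup'
      rw [Subgroup.inf_eq_bot_of_coprime (hj ▸ hodd.coprime_two_left.pow_left j), Subgroup.mem_bot] at hm
      rw [hm, orderOf_one] at h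
      omega
    obtain ⟨y, hy⟩ := S0107.result SL Φ.k hk ⟨eL⟩ pResidual_perfect
      ⟨π t', hle (Subgroup.mem_map_of_mem π Φ.t_mem)⟩ ⟨π u', hle (Subgroup.mem_map_of_mem π (Φ.refl_mem i))⟩
      (by rw [Subgroup.orderOf_mk]; exact hord t' Φ.t_mem ht2)
      (by rw [Subgroup.orderOf_mk]; exact hord u' (Φ.refl_mem i) hu2)
    obtain ⟨g, hg⟩ := QuotientGroup.mk'_surjective _ (y : M ⧸ Cfsg.oddCore M)
    obtain ⟨h, hh⟩ := conj_lift (Cfsg.oddCore M) hodd ht2 hu2 (g := g) (QuotientGroup.eq.1 (by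
      show π (g * t' * g⁻¹) = π u'
      rw [map_mul, map_mul, map_inv, hg]
      exact congrArg Subtype.val hy))
    exact ⟨h, h.2, congrArg Subtype.val hh⟩
  exact no_one_class_over hG Φ hk M hM hC (key 0) (key (-1))

end Cfsg.Agent.GW
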