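import Cfsg.Agent.Lib.GW.MaxLayerTop
import Cfsg.Agent.Lib.GW.MaxInputs

/-!
# The core of a layered maximal subgroup lies in the core of `C(t)`
-/

set_option autoImplicit false
set_option linter.style.haveILetI false
set_option linter.unusedSectionVars false

namespace Cfsg.Agent.GW

open Cfsg Cfsg.Agent

universe u

variable {G : Type u} [Group G] [Finite G]

/-- If `t` is in the layer of `M`, the core of `M` lies in the core of `C(t)`. -/
theorem core_le_O (Φ : Frame G) {M : Subgroup G} (ht : Φ.t ∈ lay M) :
    (Cfsg.oddCore ↥M).map M.subtype ≤ Φ.O := by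
  intro x hx
  refine Φ.mem_O_of_odd (Subgroup.mem_centralizer_singleton_iff.1 (core_le_centralizer ht hx)) ?_
  have hodd : Odd (Nat.card ↥((Cfsg.oddCore ↥M).map M.subtype)) := by
    rw [Subgroup.card_map_of_injective M.subtype_injective]
    exact Nat.coprime_two_right.1 (Fusion.card_pPrimeCore_coprime 2 M)
  exact hodd.of_dvd_nat (Subgroup.orderOf_dvd_natCard _ hx)

/-- A trivial core of `C(t)` forces a trivial core of a maximal subgroup with `t` in its layer. -/
theorem core_eq_bot_of_O (Φ : Frame G) {M : Subgroup G} (ht : Φ.t ∈ lay M) (hO : Φ.O = ⊥) : Cfsg.oddCore ↥M = ⊥ := by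
  have h := core_le_O Φ ht
  rw [hO, le_bot_iff, Subgroup.map_eq_bot_iff_of_injective _ M.subtype_injective] at h
  exact h

end Cfsg.Agent.GW
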