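import Cfsg.Agent.Lib.GW.MaxInner
import Cfsg.Agent.Lib.GW.Assembly
import Cfsg.Agent.Lib.GW.MaxLayer

/-!
# A maximal subgroup with a layer over `C(t)` is generated by its layer and `C(t)`

`le_layer_sup_centralizer`, `normalizer_eq_of_layer`: for an involution `t` in the layer of such a subgroup.
-/

set_option autoImplicit false
set_option linter.style.haveILetI false
set_option linter.unusedSectionVars false

namespace Cfsg.Agent.GW

open Cfsg Cfsg.Agent Cfsg.Agent.GW.Reduced
open scoped commutatorElement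

universe u

variable {G : Type u} [Group G] [Finite G]

/-- An involution of the layer centralises the core. -/
theorem core_le_centralizer {M : Subgroup G} {t : G} (ht : t ∈ lay M) :
    (Cfsg.oddCore ↥M).map M.subtype ≤ Subgroup.centralizer ({t} : Set G) := by
  haveI : Group.IsSolvable ↥(Cfsg.oddCore ↥M) :=
    Solv.Partition.odd_solvable (Nat.coprime_two_right.1 (Fusion.card_pPrimeCore_coprime 2 M))
  have hO : ⁅Cfsg.layer ↥M, Cfsg.oddCore ↥M⁆ = ⊥ :=
    Solv.layer_commutator_solvable (Solv.pPrimeCore_normal 2).isSubnormal inferInstance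
  rintro _ ⟨w, hw, rfl⟩
  obtain ⟨e, he, rfl⟩ := ht
  have h : e * w = w * e := commutatorElement_eq_one_iff_mul_comm.1
    (Subgroup.mem_bot.1 (hO ▸ Subgroup.commutator_mem_commutator he hw))
  have h' : (e : G) * (w : G) = (w : G) * (e : G) := congrArg M.subtype h
  exact Subgroup.mem_centralizer_singleton_iff.2 h'.symm

/-- If every conjugate of `t` in `M` is conjugate under the layer and the core, then `M` is generated by the layer
and `C(t)`. -/
theorem le_layer_sup_centralizer {M : Subgroup G} {t : G} (ht : t ∈ lay M)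
    (hconj : ∀ m ∈ M, ∃ h ∈ lay M ⊔ (Cfsg.oddCore ↥M).map M.subtype, h * t * h⁻¹ = m * t * m⁻¹) :
    M ≤ lay M ⊔ Subgroup.centralizer ({t} : Set G) := by
  intro m hm
  obtain ⟨h, hh, he⟩ := hconj m hm
  have hc : h⁻¹ * m ∈ Subgroup.centralizer ({t} : Set G) := Subgroup.mem_centralizer_singleton_iff.2 (by
    calc h⁻¹ * m * t = h⁻¹ * (m * t * m⁻¹) * m := by group
      _ = h⁻¹ * (h * t * h⁻¹) * m := by rw [he]
      _ = t * (h⁻¹ * m) := by group)
  have hh' : h ∈ lay M ⊔ Subgroup.centralizer ({t} : Set G) :=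
    (sup_le le_sup_left ((core_le_centralizer ht).trans le_sup_right) : _ ≤ lay M ⊔ _) hh
  rw [← mul_inv_cancel_left h m]
  exact mul_mem hh' (Subgroup.mem_sup_right hc)

/-- Under that hypothesis a `C(t)`-invariant subgroup of the core has normaliser `M`. -/
theorem normalizer_eq_of_layer [IsSimpleGroup G] {M : Subgroup G} (hM : IsCoatom M) {t : G} (ht : t ∈ lay M)
    (hconj : ∀ m ∈ M, ∃ h ∈ lay M ⊔ (Cfsg.oddCore ↥M).map M.subtype, h * t * h⁻¹ = m * t * m⁻¹)
    {Y : Subgroup G} (hY : Y ≠ ⊥) (hYW : Y ≤ (Cfsg.oddCore ↥M).map M.subtype)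
    (hCY : Subgroup.centralizer ({t} : Set G) ≤ Subgroup.normalizer (Y : Set G)) :
    Subgroup.normalizer (Y : Set G) = M := by
  haveI : Group.IsSolvable ↥(Cfsg.oddCore ↥M) :=
    Solv.Partition.odd_solvable (Nat.coprime_two_right.1 (Fusion.card_pPrimeCore_coprime 2 M))
  have hO : ⁅Cfsg.layer ↥M, Cfsg.oddCore ↥M⁆ = ⊥ :=
    Solv.layer_commutator_solvable (Solv.pPrimeCore_normal 2).isSubnormal inferInstance
  have hlay : lay M ≤ Subgroup.normalizer (Y : Set G) := by
    refine le_trans ?_ (Subgroup.centralizer_le_normalizer _)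
    rintro _ ⟨e, he, rfl⟩
    refine Subgroup.mem_centralizer_iff.2 fun y hy => ?_
    obtain ⟨w, hw, rfl⟩ := hYW hy
    have h : e * w = w * e := commutatorElement_eq_one_iff_mul_comm.1
      (Subgroup.mem_bot.1 (hO ▸ Subgroup.commutator_mem_commutator he hw))
    have h' : (e : G) * (w : G) = (w : G) * (e : G) := congrArg M.subtype h
    exact h'.symm
  rcases eq_or_lt_of_le ((le_layer_sup_centralizer ht hconj).trans (sup_le hlay hCY)) with h | h
  · exact h.symm
  · exfalso
    haveI : Y.Normal := Subgroup.normalizer_eq_top_iff.1 (hM.2 _ h)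
    rcases IsSimpleGroup.eq_bot_or_eq_top_of_normal Y inferInstance with h' | h'
    · exact hY h'
    · exact hM.1 (eq_top_iff.2 ((h' ▸ hYW).trans (Subgroup.map_subtype_le _)))

end Cfsg.Agent.GW
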