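import Cfsg.Agent.Lib.GW.MaxLayerConj
import Cfsg.Agent.Lib.GW.MaxOuter

/-!
# The core of a maximal subgroup with layer over `C(t)`

`normalizer_core_part`: for `|S| ≥ 8`, a nontrivial `C(t)`-invariant subgroup of its core has that maximal subgroup as
normaliser.
-/

set_option autoImplicit false
set_option linter.style.haveILetI false
set_option linter.unusedSectionVars false

namespace Cfsg.Agent.GW

open Cfsg Cfsg.Agent Cfsg.Agent.GW.Reduced DihedralGroup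
open scoped commutatorElement

universe u

variable {G : Type u} [Group G] [Finite G]

/-- The model lies in the image of the layer. -/
theorem model_le_layer {M : Subgroup G} [(Cfsg.oddCore ↥M).Normal] {L : Subgroup (↥M ⧸ Cfsg.oddCore ↥M)} [L.Normal]
    (hmod : IsModel L) (hC : Subgroup.centralizer (L : Set (↥M ⧸ Cfsg.oddCore ↥M)) = ⊥)
    (hE : Cfsg.layer ↥M ≠ ⊥) : L ≤ (Cfsg.layer ↥M).map (QuotientGroup.mk' (Cfsg.oddCore ↥M)) := by
  obtain ⟨hsimp, -⟩ := hmod.simple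
  haveI := hsimp
  haveI : Group.IsSolvable ↥(Cfsg.oddCore ↥M) :=
    Solv.Partition.odd_solvable (Nat.coprime_two_right.1 (Fusion.card_pPrimeCore_coprime 2 M))
  haveI : Group.IsPerfect ↥(Cfsg.layer ↥M) := S1247.layer_perfect'
  haveI : ((Cfsg.layer ↥M).map (QuotientGroup.mk' (Cfsg.oddCore ↥M))).Normal :=
    (Local.layer_normal (H := ↥M)).map _ (QuotientGroup.mk'_surjective _)
  rcases (inferInstance : (((Cfsg.layer ↥M).map (QuotientGroup.mk' (Cfsg.oddCore ↥M))).subgroupOf L).Normal).eq_bot_or_eq_top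
    with h | h
  · exfalso
    rw [Subgroup.subgroupOf_eq_bot, disjoint_iff] at h
    have hle : (Cfsg.layer ↥M).map (QuotientGroup.mk' (Cfsg.oddCore ↥M)) ≤
        Subgroup.centralizer (L : Set (↥M ⧸ Cfsg.oddCore ↥M)) :=
      (Subgroup.commutator_eq_bot_iff_le_centralizer).1 (le_bot_iff.1
        (h ▸ Subgroup.commutator_le_inf ((Cfsg.layer ↥M).map (QuotientGroup.mk' (Cfsg.oddCore ↥M))) L))
    rw [hC, le_bot_iff, Subgroup.map_eq_bot_iff, QuotientGroup.ker_mk'] at hle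
    haveI : Nontrivial ↥(Cfsg.layer ↥M) := (Subgroup.nontrivial_iff_ne_bot _).2 hE
    haveI : Group.IsSolvable ↥(Cfsg.layer ↥M) :=
      Group.isSolvable_of_isSolvable_injective (Subgroup.inclusion_injective hle)
    exact (Group.IsSolvable.commutator_lt_top_of_nontrivial ↥(Cfsg.layer ↥M)).ne Group.IsPerfect.commutator_eq_top
  · exact Subgroup.subgroupOf_eq_top.1 h

/-- An involution over the model lies in the layer. -/
theorem mem_layer_of_involution {M : Subgroup G} [(Cfsg.oddCore ↥M).Normal] {L : Subgroup (↥M ⧸ Cfsg.oddCore ↥M)}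
    (hLE : L ≤ (Cfsg.layer ↥M).map (QuotientGroup.mk' (Cfsg.oddCore ↥M))) {z : ↥M} (hz : z * z = 1)
    (hzL : QuotientGroup.mk' (Cfsg.oddCore ↥M) z ∈ L) : (z : G) ∈ lay M := by
  haveI : Group.IsSolvable ↥(Cfsg.oddCore ↥M) :=
    Solv.Partition.odd_solvable (Nat.coprime_two_right.1 (Fusion.card_pPrimeCore_coprime 2 M))
  have hO : ⁅Cfsg.layer ↥M, Cfsg.oddCore ↥M⁆ = ⊥ :=
    Solv.layer_commutator_solvable (Solv.pPrimeCore_normal 2).isSubnormal inferInstance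
  have hodd : Odd (Nat.card (Cfsg.oddCore ↥M)) := Nat.coprime_two_right.1 (Fusion.card_pPrimeCore_coprime 2 M)
  obtain ⟨e, he, hez⟩ := hLE hzL
  obtain ⟨o, ho⟩ : ∃ o, o = e⁻¹ * z := ⟨_, rfl⟩
  have hoO : o ∈ Cfsg.oddCore ↥M := (QuotientGroup.eq_one_iff o).1 (by
    show QuotientGroup.mk' (Cfsg.oddCore ↥M) o = 1
    rw [ho, map_mul, map_inv, hez, inv_mul_cancel])
  have hc : e * o = o * e := commutatorElement_eq_one_iff_mul_comm.1
    (Subgroup.mem_bot.1 (hO ▸ Subgroup.commutator_mem_commutator he hoO))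
  have hz' : z = e * o := by rw [ho, mul_inv_cancel_left]
  have ho2 : o ^ 2 ∈ Cfsg.layer ↥M := by
    have : e ^ 2 * o ^ 2 = 1 := by rw [← (show Commute e o from hc).mul_pow, ← hz', pow_two, hz]
    rw [eq_inv_of_mul_eq_one_right this]
    exact inv_mem (pow_mem he 2)
  obtain ⟨j, hj⟩ : Odd (orderOf o) := hodd.of_dvd_nat (by
    rw [← Subgroup.orderOf_mk o hoO]; exact orderOf_dvd_natCard _)
  have ho' : o ∈ Cfsg.layer ↥M := by
    have : o = (o ^ 2) ^ (j + 1) := by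
      rw [← pow_mul, show 2 * (j + 1) = (2 * j + 1) + 1 by ring, ← hj, pow_succ, pow_orderOf_eq_one, one_mul]
    rw [this]
    exact pow_mem ho2 _
  exact ⟨z, hz' ▸ mul_mem he ho', rfl⟩

/-- For `|S| ≥ 8` and a maximal subgroup with layer over `C(t)`: its core's `C(t)`-invariant parts. -/
theorem normalizer_core_part (hG : Minimal G) [IsSimpleGroup G] (Φ : Frame G) (hk : 2 ≤ Φ.k) (M : Subgroup G)
    (hM : IsCoatom M) (hC : Subgroup.centralizer ({Φ.t} : Set G) ≤ M) (hE : Cfsg.layer ↥M ≠ ⊥)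
    {Y : Subgroup G} (hY : Y ≠ ⊥) (hYW : Y ≤ (Cfsg.oddCore ↥M).map M.subtype)
    (hCY : Subgroup.centralizer ({Φ.t} : Set G) ≤ Subgroup.normalizer (Y : Set G)) :
    Subgroup.normalizer (Y : Set G) = M := by
  classical
  haveI : Fact (Nat.Prime 2) := ⟨Nat.prime_two⟩
  haveI : (Cfsg.oddCore ↥M).Normal := Solv.pPrimeCore_normal 2
  haveI : NeZero (2 ^ Φ.k) := ⟨by positivity⟩
  obtain ⟨L, hLn, hmod, hCL⟩ := model_over_core hG hM.1 hE
  haveI := hLn
  obtain ⟨hsimp, hnab⟩ := hmod.simple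
  haveI := hsimp
  have hSM : (Φ.S : Subgroup G) ≤ M := Φ.S_le.trans hC
  let T : Sylow 2 M := Φ.S.subtype hSM
  set π := QuotientGroup.mk' (Cfsg.oddCore ↥M)
  let T' := T.mapSurjective (QuotientGroup.mk'_surjective (Cfsg.oddCore ↥M))
  let eS : DihedralGroup (2 ^ Φ.k) →* ↥M := Φ.hom.codRestrict M fun d => hSM (Φ.hom_range ▸ ⟨d, rfl⟩)
  let ψ := π.comp eS
  have hrange : ψ.range = (T' : Subgroup (↥M ⧸ Cfsg.oddCore ↥M)) := by
    refine le_antisymm ?_ ?_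
    · rintro _ ⟨d, rfl⟩
      exact ⟨eS d, show Φ.hom d ∈ (Φ.S : Subgroup G) from Φ.hom_range ▸ ⟨d, rfl⟩, rfl⟩
    · rintro _ ⟨x, hx, rfl⟩
      obtain ⟨d, hd⟩ := (Φ.hom_range ▸ (hx : (x : G) ∈ (Φ.S : Subgroup G)) : (x : G) ∈ Φ.hom.range)
      exact ⟨d, congrArg π (Subtype.ext hd)⟩
  have hne : L.comap ψ ≠ ⊥ := by
    intro h
    obtain ⟨x, hx⟩ := exists_prime_orderOf_dvd_card' (G := L) 2 (even_of_simple hnab)
    obtain ⟨R, hR⟩ := (IsPGroup.of_card (p := 2) (n := 1) (G := Subgroup.zpowers (x : ↥M ⧸ Cfsg.oddCore ↥M))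
      (by rw [Nat.card_zpowers, Subgroup.orderOf_coe, hx, pow_one])).exists_le_sylow
    obtain ⟨g, hg⟩ := MulAction.exists_smul_eq (↥M ⧸ Cfsg.oddCore ↥M) R T'
    have hmem : g * (x : ↥M ⧸ Cfsg.oddCore ↥M) * g⁻¹ ∈ (T' : Subgroup (↥M ⧸ Cfsg.oddCore ↥M)) := by
      rw [← hg, Sylow.coe_subgroup_smul]
      exact ⟨_, hR (Subgroup.mem_zpowers _), rfl⟩
    obtain ⟨d, hd⟩ : g * (x : ↥M ⧸ Cfsg.oddCore ↥M) * g⁻¹ ∈ ψ.range := hrange ▸ hmem
    have hd1 : d ∈ L.comap ψ := by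
      show ψ d ∈ L
      rw [hd]; exact hLn.conj_mem _ x.2 g
    rw [h, Subgroup.mem_bot] at hd1
    rw [hd1, map_one, eq_comm, conj_eq_one_iff] at hd
    rw [show x = 1 from Subtype.ext hd, orderOf_one] at hx
    omega
  have htL : π ⟨Φ.t, hSM Φ.t_mem⟩ ∈ L := half_mem_of_normal hk (L.comap ψ) (hLn.comap ψ) hne
  have hLE := model_le_layer hmod hCL hE
  have ht : (⟨Φ.t, hSM Φ.t_mem⟩ : ↥M) * ⟨Φ.t, hSM Φ.t_mem⟩ = 1 := Subtype.ext Φ.tt
  exact normalizer_eq_of_layer hM (mem_layer_of_involution hLE ht htL)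
    (conj_in_layer hG hmod hLE (by rw [← Subgroup.orderOf_coe]; exact Φ.t_order) htL) hY hYW hCY

end Cfsg.Agent.GW
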