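import Cfsg.Agent.Lib.GW.MaxOrbit

/-!
# Layers over a maximal centraliser: the lines

No conjugate of the line `D` under `O` lies in the torus, the orbit has length `m > 1`, and for some prime `p` the
torus line is moved as well; counting the lines of the plane gives `m + 2 ≤ p ≤ |T|`.
-/

set_option autoImplicit false
set_option linter.unusedSectionVars false
set_option linter.style.haveILetI false

namespace Cfsg.Agent.GW

open Cfsg Cfsg.Agent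
open scoped commutatorElement

universe w

variable {G : Type w} [Group G] [Finite G]

/-- the index of a stabiliser is the size of the orbit of subgroups -/
theorem card_conj_orbit (O H X : Subgroup G) (_hH : H ≤ O)
    (hstab : ∀ a ∈ O, (∀ x ∈ X, a * x * a⁻¹ ∈ X) ↔ a ∈ H) :
    Nat.card {Y : Subgroup G // ∃ a ∈ O, X.map (MulAut.conj a).toMonoidHom = Y} = H.relIndex O := by
  have key : ∀ a ∈ O, ∀ b ∈ O,
      X.map (MulAut.conj a).toMonoidHom = X.map (MulAut.conj b).toMonoidHom ↔ a⁻¹ * b ∈ H := by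
    intro a ha b hb
    rw [← hstab _ (mul_mem (inv_mem ha) hb)]
    constructor
    · intro e x hx
      obtain ⟨y, hy, hye⟩ := e.ge ⟨x, hx, rfl⟩
      have hye' : a * y * a⁻¹ = b * x * b⁻¹ := hye
      rw [show a⁻¹ * b * x * (a⁻¹ * b)⁻¹ = a⁻¹ * (b * x * b⁻¹) * a by group, ← hye']
      simpa [mul_assoc] using hy
    · intro e
      refine (Subgroup.eq_of_le_of_card_ge ?_ ?_).symm
      · rintro _ ⟨x, hx, rfl⟩
        refine ⟨a⁻¹ * b * x * (a⁻¹ * b)⁻¹, e x hx, ?_⟩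
        show a * (a⁻¹ * b * x * (a⁻¹ * b)⁻¹) * a⁻¹ = b * x * b⁻¹
        group
      · rw [Subgroup.card_map_of_injective (MulAut.conj a).injective,
          Subgroup.card_map_of_injective (MulAut.conj b).injective]
  obtain ⟨f, hf⟩ : ∃ f : ↥O → {Y : Subgroup G // ∃ a ∈ O, X.map (MulAut.conj a).toMonoidHom = Y},
      f = fun a => ⟨X.map (MulAut.conj (a : G)).toMonoidHom, a, a.2, rfl⟩ := ⟨_, rfl⟩
  rw [Subgroup.relIndex, Subgroup.index_eq_card]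
  refine Nat.card_congr (Equiv.ofBijective (fun Y => (QuotientGroup.mk (⟨Y.2.choose, Y.2.choose_spec.1⟩ : ↥O)))
    ⟨fun Y Z e => ?_, fun z => ?_⟩)
  · have h := (key _ Y.2.choose_spec.1 _ Z.2.choose_spec.1).2
      (Subgroup.mem_subgroupOf.1 (QuotientGroup.eq.1 e))
    exact Subtype.ext (Y.2.choose_spec.2.symm.trans (h.trans Z.2.choose_spec.2))
  · obtain ⟨a, rfl⟩ := QuotientGroup.mk_surjective z
    refine ⟨f a, QuotientGroup.eq.2 (Subgroup.mem_subgroupOf.2 ?_)⟩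
    refine (key _ (f a).2.choose_spec.1 _ a.2).1 ?_
    rw [(f a).2.choose_spec.2, hf]

/-- lines of a group of order at most `p ^ 2` -/
theorem lines_le {p : ℕ} (hp : p.Prime) {V : Subgroup G} (hV : Nat.card ↥V ≤ p * p) (S : Set (Subgroup G))
    (hSV : ∀ X ∈ S, X ≤ V) (hS : ∀ X ∈ S, Nat.card ↥X = p) : Nat.card S ≤ p + 1 := by
  classical
  haveI := Fact.mk hp
  haveI : Fintype S := Fintype.ofFinite _
  have hinj : Nat.card (Σ X : S, {x : ↥(X : Subgroup G) // x ≠ 1}) ≤ Nat.card {x : ↥V // x ≠ 1} := by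
    refine Nat.card_le_card_of_injective
      (fun z => ⟨⟨(z.2.1 : G), hSV _ z.1.2 z.2.1.2⟩, fun e => z.2.2 (Subtype.ext
        (congrArg Subtype.val e :))⟩) fun z z' e => ?_
    have e' : (z.2.1 : G) = (z'.2.1 : G) := congrArg (fun y : {x : ↥V // x ≠ 1} => ((y.1 : ↥V) : G)) e
    have hX : ∀ (X : S) (x : ↥(X : Subgroup G)), x ≠ 1 → Subgroup.zpowers (x : G) = (X : Subgroup G) := by
      intro X x hx
      refine Subgroup.eq_of_le_of_card_ge (Subgroup.zpowers_le.2 x.2) (le_of_eq ?_)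
      rw [Nat.card_zpowers, hS _ X.2, Subgroup.orderOf_coe x]
      have hd : orderOf x ∣ p := hS _ X.2 ▸ orderOf_dvd_natCard x
      exact ((Nat.dvd_prime hp).1 hd).resolve_left (fun h => hx (orderOf_eq_one_iff.1 h)) |>.symm
    have h1 : z.1 = z'.1 := Subtype.ext (by rw [← hX z.1 z.2.1 z.2.2, ← hX z'.1 z'.2.1 z'.2.2, e'])
    obtain ⟨X, x⟩ := z
    obtain ⟨X', x'⟩ := z'
    obtain rfl : X = X' := h1
    exact Sigma.ext rfl (heq_of_eq (Subtype.ext (Subtype.ext e')))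
  have hne : ∀ {A : Subgroup G}, Nat.card {x : ↥A // x ≠ 1} = Nat.card ↥A - 1 := by
    intro A
    haveI : Fintype ↥A := Fintype.ofFinite _
    rw [Nat.card_eq_fintype_card, Nat.card_eq_fintype_card, Fintype.card_subtype_compl, Fintype.card_subtype_eq]
  have hs : ∀ X : S, Nat.card {x : ↥(X : Subgroup G) // x ≠ 1} = p - 1 := fun X => by rw [hne, hS _ X.2]
  rw [Nat.card_sigma, hne, Finset.sum_congr rfl (fun X _ => hs X), Finset.sum_const, Finset.card_univ, smul_eq_mul, ← Nat.card_eq_fintype_card] at hinj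
  by_contra hgt
  rw [not_le] at hgt
  have h2 : (p + 2) * (p - 1) ≤ p * p - 1 := le_trans (Nat.mul_le_mul_right _ hgt) (hinj.trans (Nat.sub_le_sub_right hV 1))
  obtain ⟨k, rfl⟩ : ∃ k, p = k + 2 := ⟨p - 2, by have := hp.two_le; omega⟩
  have h3 : (k + 2 + 2) * (k + 1) ≤ (k + 2) * (k + 2) - 1 := h2
  have h4 : (k + 2) * (k + 2) = k * k + 4 * k + 4 := by ring
  have h5 : (k + 2 + 2) * (k + 1) = k * k + 5 * k + 4 := by ring
  omega

variable [IsSimpleGroup G] {t : G} {O N : Subgroup G} {v : G} {T : Subgroup G} {q : ℕ}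

set_option quotPrecheck false in
local notation "Cz" => Subgroup.centralizer ({t} : Set G)

set_option quotPrecheck false in
local notation "Dv" p:max => fq p (Subgroup.centralizer ({t} : Set G)) ⊓ Subgroup.centralizer ({v} : Set G)

/-- `C = O (N ∩ C)` -/
theorem Cfg.supp (c : Cfg t O N v T q) (P : Sylow 2 G) (hOP : O ⊔ (P : Subgroup G) = Cz) {g : G} (hg : g ∈ Cz) :
    ∃ a ∈ O, ∃ b ∈ N ⊓ Cz, g = a * b := by
  haveI : Fact (Nat.Prime 2) := ⟨Nat.prime_two⟩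
  obtain ⟨P', hP'⟩ := c.sylow P (le_sup_right.trans hOP.le)
  obtain ⟨J, hJ⟩ : ∃ J, J = O ⊔ (N ⊓ Cz) := ⟨_, rfl⟩
  have hJC : J ≤ Cz := hJ ▸ sup_le c.mc.core_le inf_le_right
  have hnorm : (P : Subgroup G) ≤ Subgroup.normalizer (O : Set G) :=
    (le_sup_right.trans hOP.le).trans c.mc.core_norm
  have hC : Nat.card ↥(Cz) ≤ Nat.card ↥O * Nat.card ↥(P : Subgroup G) := by
    rw [← Nat.card_prod]
    refine Nat.card_le_card_of_surjective (fun z => ⟨(z.1 : G) * z.2, hOP ▸ Subgroup.mul_mem_sup z.1.2 z.2.2⟩) ?_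
    intro x
    have hx : (x : G) ∈ ((O ⊔ (P : Subgroup G) : Subgroup G) : Set G) := hOP.ge x.2
    rw [Subgroup.coe_mul_of_right_le_normalizer_left _ _ hnorm] at hx
    obtain ⟨a, ha, b, hb, e⟩ := hx
    exact ⟨(⟨a, ha⟩, ⟨b, hb⟩), Subtype.ext e⟩
  have hco : (Nat.card ↥O).Coprime (Nat.card ↥(P : Subgroup G)) := by
    rw [Sylow.card_eq_multiplicity]
    exact (c.mc.core_odd.coprime_two_right).pow_right _
  have hPP : Nat.card ↥(P : Subgroup G) = Nat.card ↥(P' : Subgroup G) := by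
    rw [Sylow.card_eq_multiplicity, Sylow.card_eq_multiplicity]
  have hd : Nat.card ↥O * Nat.card ↥(P : Subgroup G) ∣ Nat.card ↥J :=
    hco.mul_dvd_of_dvd_of_dvd (Subgroup.card_dvd_of_le (hJ ▸ le_sup_left))
      (hPP ▸ Subgroup.card_dvd_of_le (hP'.trans (hJ ▸ le_sup_right)))
  have heq : J = Cz := Subgroup.eq_of_le_of_card_ge hJC (hC.trans (Nat.le_of_dvd Nat.card_pos hd))
  have hx : g ∈ ((O ⊔ (N ⊓ Cz) : Subgroup G) : Set G) := hJ ▸ heq.ge hg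
  rw [Subgroup.coe_mul_of_right_le_normalizer_left _ _ (inf_le_right.trans c.mc.core_norm)] at hx
  obtain ⟨a, ha, b, hb, e⟩ := hx
  exact ⟨a, ha, b, hb, e.symm⟩

/-- `O` is not inside `N` -/
theorem Cfg.core_not_le (c : Cfg t O N v T q) (P : Sylow 2 G) (hOP : O ⊔ (P : Subgroup G) = Cz) : ¬ O ≤ N := by
  intro hle
  have hCN : Cz ≤ N := fun g hg => by
    obtain ⟨a, ha, b, hb, rfl⟩ := c.supp P hOP hg
    exact mul_mem (hle ha) hb.1
  refine c.lsub.not_le ?_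
  rcases hCN.eq_or_lt with he | he
  · exact he ▸ lay_le N
  · exact absurd (c.mc.max.2 _ he) c.coatom.1

/-- the orbit length -/
theorem Cfg.one_lt (c : Cfg t O N v T q) (P : Sylow 2 G) (hOP : O ⊔ (P : Subgroup G) = Cz) :
    1 < (N ⊓ O).relIndex O := by
  have h0 : (N ⊓ O).relIndex O ≠ 0 := Subgroup.index_ne_zero_of_finite
  have h1 : (N ⊓ O).relIndex O ≠ 1 := fun e =>
    c.core_not_le P hOP ((Subgroup.relIndex_eq_one.1 e).trans inf_le_left)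
  omega

/-- no conjugate of `D` under `O` lies in the torus -/
theorem Cfg.not_torus (c : Cfg t O N v T q) {x : G} (hx : Commute x v) (hx1 : x ≠ 1) (hxO : x ∈ O) {a : G}
    (ha : a ∈ O) (haT : a * x * a⁻¹ ∈ T) : False := by
  have hvinv : v⁻¹ = v := inv_eq_of_mul_eq_one_right c.facts.v_sq
  obtain ⟨n, hn⟩ : ∃ n, n = a⁻¹ * (v * a * v⁻¹) := ⟨_, rfl⟩
  have hnO : n ∈ O := hn ▸ mul_mem (inv_mem ha)
    ((Subgroup.mem_normalizer_iff.1 (c.mc.core_norm c.vC.2) a).1 ha)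
  have hvx : v * x * v⁻¹ = x := by rw [← hx.eq, mul_inv_cancel_right]
  have hxv : v⁻¹ * x * v = x := by
    rw [hvinv]
    nth_rw 2 [← hvx]
    rw [hvinv]
  have hi : n * x * n⁻¹ = x⁻¹ := by
    calc n * x * n⁻¹ = a⁻¹ * (v * (a * (v⁻¹ * x * v) * a⁻¹) * v⁻¹) * a := by rw [hn]; group
      _ = a⁻¹ * (a * x * a⁻¹)⁻¹ * a := by rw [hxv, c.v_inv haT]
      _ = _ := by group
  obtain ⟨k, hk⟩ := odd_orderOf c.mc.core_odd hnO
  have h2 : Commute (n * n) x := by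
    calc n * n * x = n * (n * x * n⁻¹) * n := by group
      _ = n * x⁻¹ * n⁻¹ * (n * n) := by rw [hi]; group
      _ = (n * x * n⁻¹)⁻¹ * (n * n) := by group
      _ = x * (n * n) := by rw [hi, inv_inv]
  have hc : Commute n x := by
    have h3 : n = (n * n) ^ (k + 1) := by
      rw [← pow_two, ← pow_mul, show 2 * (k + 1) = orderOf n + 1 by omega, pow_succ, pow_orderOf_eq_one, one_mul]
    rw [h3]
    exact h2.pow_left _
  exact hx1 (eq_one_of_inv_fix (odd_orderOf c.mc.core_odd hxO) hi hc)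

/-- some torus line with `D_p ≠ 1` is moved by `O` -/
theorem Cfg.moving (c : Cfg t O N v T q) (P : Sylow 2 G) (hOP : O ⊔ (P : Subgroup G) = Cz) :
    ∃ p : ℕ, p.Prime ∧ p ≠ 2 ∧ Dv p ≠ ⊥ ∧
      ¬ ∀ a ∈ O, ∀ x ∈ om p (fq p Cz ⊓ T), a * x * a⁻¹ ∈ om p (fq p Cz ⊓ T) := by
  classical
  by_contra hcon
  push Not at hcon
  refine c.core_not_le P hOP fun a ha => ?_
  have hq := c.prime
  haveI := Fact.mk hq
  have hvinv : v⁻¹ = v := inv_eq_of_mul_eq_one_right c.facts.v_sq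
  obtain ⟨w, hw⟩ : ∃ w, w = a * (v * a⁻¹ * v⁻¹) := ⟨_, rfl⟩
  have hwO : w ∈ O := hw ▸ mul_mem ha ((Subgroup.mem_normalizer_iff.1 (c.mc.core_norm c.vC.2) a⁻¹).1 (inv_mem ha))
  have haC : a ∈ Cz := c.mc.core_le ha
  have hab := fun {p : ℕ} (hp : p.Prime) (hp2 : p ≠ 2) => c.comm hp hp2
  -- the torus lines are normal in `C` and centralised by `w`
  have hwfix : ∀ x : G, v * x * v⁻¹ = x⁻¹ → v * (a⁻¹ * x * a) * v⁻¹ = (a⁻¹ * x * a)⁻¹ → Commute w x := by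
    intro x hx hxa
    have e : w * x * w⁻¹ = x := by
      calc w * x * w⁻¹ = a * (v * (a⁻¹ * (v⁻¹ * x * v) * a) * v⁻¹) * a⁻¹ := by rw [hw]; group
        _ = a * (v * (a⁻¹ * x⁻¹ * a) * v⁻¹) * a⁻¹ := by
            rw [show v⁻¹ * x * v = x⁻¹ by
              calc v⁻¹ * x * v = v * x * v⁻¹ := by rw [hvinv]
                _ = _ := hx]
        _ = a * (v * (a⁻¹ * x * a) * v⁻¹)⁻¹ * a⁻¹ := by group
        _ = _ := by rw [hxa]; group
    exact mul_inv_eq_iff_eq_mul.1 e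
  have hline : ∀ s : ℕ, s.Prime → s ≠ 2 → Dv s ≠ ⊥ → ∀ x ∈ om s (fq s Cz ⊓ T), Commute w x := by
    intro s hs hs2 hD x hx
    have h2 := hcon s hs hs2 hD a⁻¹ (inv_mem ha) x hx
    rw [inv_inv] at h2
    exact hwfix x (c.v_inv (om_le _ _ hx).2) (c.v_inv (om_le _ _ h2).2)
  have hcyc : ∀ s : ℕ, s.Prime → s ≠ 2 → Dv s = ⊥ → ∀ x ∈ fq s Cz, Commute w x := by
    intro s hs hs2 hD x hx
    have hT : ∀ y ∈ fq s Cz, y ∈ T := fun y hy => by
      obtain ⟨r, hr, d, hd, rfl⟩ := c.decomp hs hs2 hy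
      rw [hD, Subgroup.mem_bot] at hd
      rw [hd, mul_one]
      exact hr.2
    exact hwfix x (c.v_inv (hT x hx)) (c.v_inv (hT _ (by simpa using conj_fq hs (inv_mem haC) hx)))
  -- `w` acts trivially on the quotient by the line
  have hquot : ∀ s : ℕ, s.Prime → s ≠ 2 → Dv s ≠ ⊥ → ∀ x ∈ om s (fq s Cz),
      w * x * w⁻¹ * x⁻¹ ∈ om s (fq s Cz ⊓ T) := by
    intro s hs hs2 hD x hx
    haveI := Fact.mk hs
    have habs := hab hs hs2
    have habT : ∀ y ∈ fq s Cz ⊓ T, ∀ z ∈ fq s Cz ⊓ T, y * z = z * y := fun y hy z hz => habs y hy.1 z hz.1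
    obtain ⟨hxA, hxs⟩ := (mem_om habs).1 hx
    obtain ⟨r, hr, d, hd, hrd⟩ := c.decomp hs hs2 hxA
    have hrc : Commute r d := habs r hr.1 d hd.1
    have hrs : r ^ s = 1 := by
      rw [hrd, hrc.mul_pow] at hxs
      have hm : r ^ s ∈ T ⊓ Subgroup.centralizer (lay N : Set G) := by
        refine ⟨pow_mem hr.2 s, ?_⟩
        rw [eq_inv_of_mul_eq_one_left hxs]
        exact (Subgroup.centralizer (lay N : Set G)).inv_mem (pow_mem ((c.fixed hs hs2).le hd).2 s)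
      rwa [c.facts.T_disj, Subgroup.mem_bot] at hm
    have hds : d ^ s = 1 := by rw [hrd, hrc.mul_pow, hrs, one_mul] at hxs; exact hxs
    have hwr : Commute w r := hline s hs hs2 hD r ((mem_om habT).2 ⟨hr, hrs⟩)
    -- the image of `d`
    obtain ⟨r', hr', d', hd', hrd'⟩ := c.decomp hs hs2 (show a⁻¹ * d * a ∈ fq s Cz by
      simpa using conj_fq hs (inv_mem haC) hd.1)
    have hrc' : Commute r' d' := habs r' hr'.1 d' hd'.1
    have hr's : r' ^ s = 1 := by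
      have e : (a⁻¹ * d * a) ^ s = 1 := by
        rw [show a⁻¹ * d * a = a⁻¹ * d * a⁻¹⁻¹ by group, conj_pow, hds]
        group
      rw [hrd', hrc'.mul_pow] at e
      have hm : r' ^ s ∈ T ⊓ Subgroup.centralizer (lay N : Set G) := by
        refine ⟨pow_mem hr'.2 s, ?_⟩
        rw [eq_inv_of_mul_eq_one_left e]
        exact (Subgroup.centralizer (lay N : Set G)).inv_mem (pow_mem ((c.fixed hs hs2).le hd').2 s)
      rwa [c.facts.T_disj, Subgroup.mem_bot] at hm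
    have har : a * r' * a⁻¹ ∈ om s (fq s Cz ⊓ T) := hcon s hs hs2 hD a ha r' ((mem_om habT).2 ⟨hr', hr's⟩)
    have hvd : v⁻¹ * d * v = d := by
      have hd2 : d * v = v * d := Subgroup.mem_centralizer_singleton_iff.1 hd.2
      calc v⁻¹ * d * v = v⁻¹ * (d * v) := mul_assoc _ _ _
        _ = d := by rw [hd2, inv_mul_cancel_left]
    have hvd' : v * d' * v⁻¹ = d' := by
      rw [← (show d' * v = v * d' from Subgroup.mem_centralizer_singleton_iff.1 hd'.2), mul_inv_cancel_right]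
    have hwd : w * d * w⁻¹ = (a * r' * a⁻¹)⁻¹ * (a * r' * a⁻¹)⁻¹ * d := by
      calc w * d * w⁻¹ = a * (v * (a⁻¹ * (v⁻¹ * d * v) * a) * v⁻¹) * a⁻¹ := by rw [hw]; group
        _ = a * ((v * r' * v⁻¹) * (v * d' * v⁻¹)) * a⁻¹ := by rw [hvd, hrd']; group
        _ = a * (r'⁻¹ * (r'⁻¹ * (r' * d'))) * a⁻¹ := by rw [c.v_inv hr'.2, hvd', inv_mul_cancel_left]
        _ = _ := by rw [← hrd']; group
    have e : w * x * w⁻¹ * x⁻¹ = (a * r' * a⁻¹)⁻¹ * (a * r' * a⁻¹)⁻¹ := by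
      calc w * x * w⁻¹ * x⁻¹ = (w * r * w⁻¹) * (w * d * w⁻¹) * (r * d)⁻¹ := by rw [hrd]; group
        _ = r * (((a * r' * a⁻¹)⁻¹ * (a * r' * a⁻¹)⁻¹)) * r⁻¹ := by rw [hwr.eq, mul_inv_cancel_right, hwd]; group
        _ = _ := by
            rw [habs r hr.1 _ (mul_mem (inv_mem (om_le _ _ har).1) (inv_mem (om_le _ _ har).1)), mul_inv_cancel_right]
    rw [e]
    exact mul_mem (inv_mem har) (inv_mem har)
  -- `w ^ s` centralises the plane
  have hpow : ∀ s : ℕ, s.Prime → s ≠ 2 → Dv s ≠ ⊥ → ∀ x ∈ om s (fq s Cz), Commute (w ^ s) x := by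
    intro s hs hs2 hD x hx
    obtain ⟨e, he⟩ : ∃ e, e = w * x * w⁻¹ * x⁻¹ := ⟨_, rfl⟩
    have heT : e ∈ om s (fq s Cz ⊓ T) := he ▸ hquot s hs hs2 hD x hx
    have hwe := hline s hs hs2 hD e heT
    have hn : ∀ n : ℕ, w ^ n * x * (w ^ n)⁻¹ = e ^ n * x := by
      intro n
      induction n with
      | zero => simp
      | succ n ihn =>
        calc w ^ (n + 1) * x * (w ^ (n + 1))⁻¹ = w * (w ^ n * x * (w ^ n)⁻¹) * w⁻¹ := by rw [pow_succ']; group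
          _ = (w * e ^ n * w⁻¹) * (w * x * w⁻¹) := by rw [ihn]; group
          _ = e ^ n * (e * x) := by rw [(hwe.pow_right n).eq, mul_inv_cancel_right, he]; group
          _ = _ := by rw [pow_succ]; group
    have := hn s
    rw [((mem_om (A := fq s Cz ⊓ T) (fun y hy z hz => hab hs hs2 y hy.1 z hz.1)).1 heT).2, one_mul] at this
    exact mul_inv_eq_iff_eq_mul.1 this
  -- the `q`-part of `w` lies in `O_q(C)`
  obtain ⟨i, n', hn', hord⟩ := Nat.exists_eq_pow_mul_and_not_dvd (orderOf_pos w).ne' q hq.ne_one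
  have hn'0 : n' ≠ 0 := by rintro rfl; exact hn' (dvd_zero q)
  obtain ⟨y, hy⟩ : ∃ y, y = w ^ n' := ⟨_, rfl⟩
  have hyo : orderOf y = q ^ i := by
    rw [hy, orderOf_pow_of_dvd hn'0 ⟨q ^ i, by rw [hord, mul_comm]⟩, hord, Nat.mul_div_cancel _ (Nat.pos_of_ne_zero hn'0)]
  have hyO : y ∈ O := hy ▸ pow_mem hwO _
  have hyC : y ∈ Cz := c.mc.core_le hyO
  have hys : ∀ s : ℕ, s.Prime → s ≠ 2 → s ≠ q → ∀ x ∈ fq s Cz, Commute y x := by
    intro s hs hs2 hsq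
    haveI := Fact.mk hs
    by_cases hD : Dv s = ⊥
    · exact fun x hx => hy ▸ (hcyc s hs hs2 hD x hx).pow_left _
    · refine commute_of_line (fq_isPGroup s Cz) (hab hs hs2) (fun x hx => conj_fq hs hyC hx)
        (by rw [hyo]; exact ((Nat.coprime_primes hq hs).2 (Ne.symm hsq)).pow_left i) fun x hx hxs => ?_
      have h1 : Commute (y ^ s) x := by
        rw [hy, ← pow_mul, mul_comm, pow_mul]
        exact (hpow s hs hs2 hD x ((mem_om (hab hs hs2)).2 ⟨hx, hxs⟩)).pow_left _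
      obtain ⟨j, hj⟩ := exists_pow_eq_self_of_coprime (n := s) (x := y)
        (by rw [hyo]; exact ((Nat.coprime_primes hs hq).2 hsq).pow_right i)
      rw [← hj]
      exact h1.pow_left j
  have habq := hab hq c.odd
  have habqT : ∀ x ∈ fq q Cz ⊓ T, ∀ z ∈ fq q Cz ⊓ T, x * z = z * x := fun x hx z hz => habq x hx.1 z hz.1
  obtain ⟨R₀, hR₀⟩ : ∃ R₀, R₀ = om q (fq q Cz ⊓ T) := ⟨_, rfl⟩
  obtain ⟨V, hV⟩ : ∃ V, V = om q (fq q Cz) := ⟨_, rfl⟩
  have hRV : R₀ ≤ V := fun x hx => by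
    rw [hR₀] at hx
    rw [hV]
    exact (mem_om habq).2 ⟨((mem_om habqT).1 hx).1.1, ((mem_om habqT).1 hx).2⟩
  have hVab : ∀ x ∈ V, ∀ z ∈ V, x * z = z * x := fun x hx z hz =>
    habq x (om_le _ _ (hV ▸ hx)) z (om_le _ _ (hV ▸ hz))
  have hVn : ∀ g ∈ Cz, ∀ x ∈ V, g * x * g⁻¹ ∈ V := by
    intro g hg x hx
    rw [hV] at hx ⊢
    refine (mem_om habq).2 ⟨conj_fq hq hg ((mem_om habq).1 hx).1, ?_⟩
    rw [conj_pow, ((mem_om habq).1 hx).2]
    group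
  have hR₀n : ∀ g ∈ Cz, ∀ x ∈ R₀, g * x * g⁻¹ ∈ R₀ := by
    intro g hg x hx
    obtain ⟨b, hb, k, hk, rfl⟩ := c.supp P hOP hg
    have h1 : k * x * k⁻¹ ∈ R₀ := by
      rw [hR₀] at hx ⊢
      obtain ⟨hxAT, hxq⟩ := (mem_om habqT).1 hx
      exact (mem_om habqT).2 ⟨⟨conj_fq hq hk.2 hxAT.1, c.stab_T hk hxAT.2⟩, by rw [conj_pow, hxq]; group⟩
    have := hcon q hq c.odd c.D_ne b hb _ (hR₀ ▸ h1)
    rw [← hR₀] at this
    rwa [show b * (k * x * k⁻¹) * b⁻¹ = b * k * x * (b * k)⁻¹ by group] at this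
  let H : Subgroup G :=
    { carrier := {x | x ∈ O ∧ (∀ s : ℕ, s.Prime → s ≠ 2 → s ≠ q → ∀ z ∈ fq s Cz, Commute x z) ∧
        (∀ z ∈ R₀, Commute x z) ∧ ∀ z ∈ V, x * z * x⁻¹ * z⁻¹ ∈ R₀}
      one_mem' := ⟨O.one_mem, fun s _ _ _ z _ => Commute.one_left z, fun z _ => Commute.one_left z,
        fun z _ => by simp⟩
      mul_mem' := by
        rintro x y ⟨hxO, hxs, hxr, hxv⟩ ⟨hyO', hys', hyr, hyv⟩
        refine ⟨O.mul_mem hxO hyO', fun s h1 h2 h3 z hz => (hxs s h1 h2 h3 z hz).mul_left (hys' s h1 h2 h3 z hz),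
          fun z hz => (hxr z hz).mul_left (hyr z hz), fun z hz => ?_⟩
        have e : x * y * z * (x * y)⁻¹ * z⁻¹ =
            (x * (y * z * y⁻¹ * z⁻¹) * x⁻¹) * (x * z * x⁻¹ * z⁻¹) := by group
        rw [e]
        refine mul_mem ?_ (hxv z hz)
        rw [(hxr _ (hyv z hz)).eq, mul_inv_cancel_right]
        exact hyv z hz
      inv_mem' := by
        rintro x ⟨hxO, hxs, hxr, hxv⟩
        refine ⟨O.inv_mem hxO, fun s h1 h2 h3 z hz => (hxs s h1 h2 h3 z hz).inv_left,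
          fun z hz => (hxr z hz).inv_left, fun z hz => ?_⟩
        have hz' : x⁻¹ * z * x ∈ V := by simpa using hVn x⁻¹ (inv_mem (c.mc.core_le hxO)) z hz
        have h1 := hxv _ hz'
        rw [show x * (x⁻¹ * z * x) * x⁻¹ * (x⁻¹ * z * x)⁻¹ = z * (x⁻¹ * z⁻¹ * x) by group] at h1
        have h2 := inv_mem h1
        rwa [show (z * (x⁻¹ * z⁻¹ * x))⁻¹ = x⁻¹ * z * x⁻¹⁻¹ * z⁻¹ by group] at h2 }
  have hyH : y ∈ H := by
    refine ⟨hyO, hys, fun z hz => hy ▸ (hline q hq c.odd c.D_ne z (hR₀ ▸ hz)).pow_left _, fun z hz => ?_⟩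
    rw [hy]
    clear hy hn' hord hn'0
    induction n' with
    | zero => simp
    | succ k ih =>
      rw [pow_succ', show w * w ^ k * z * (w * w ^ k)⁻¹ * z⁻¹ =
        w * (w ^ k * z * (w ^ k)⁻¹ * z⁻¹) * w⁻¹ * (w * z * w⁻¹ * z⁻¹) by group]
      refine mul_mem ?_ (hR₀ ▸ hquot q hq c.odd c.D_ne z (hV ▸ hz))
      rw [(hline q hq c.odd c.D_ne _ (hR₀ ▸ ih)).eq, mul_inv_cancel_right]
      exact ih
  have hHC : H ≤ Cz := fun x hx => c.mc.core_le hx.1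
  haveI hHn : (H.subgroupOf Cz).Normal := by
    rw [Subgroup.normal_subgroupOf_iff_le_normalizer hHC]
    intro g hg
    refine mem_norm_of_conj fun x hx => ?_
    refine ⟨(Subgroup.mem_normalizer_iff.1 (c.mc.core_norm hg) x).1 hx.1, fun s hs hs2 hsq z hz => ?_,
      fun z hz => ?_, fun z hz => ?_⟩
    · have h1 := (Commute.conj_iff g).2 (hx.2.1 s hs hs2 hsq _ (conj_fq hs (inv_mem hg) hz))
      rwa [show g * (g⁻¹ * z * g⁻¹⁻¹) * g⁻¹ = z by group] at h1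
    · have h1 := (Commute.conj_iff g).2 (hx.2.2.1 _ (hR₀n g⁻¹ (inv_mem hg) z hz))
      rwa [show g * (g⁻¹ * z * g⁻¹⁻¹) * g⁻¹ = z by group] at h1
    · have h1 := hR₀n g hg _ (hx.2.2.2 _ (hVn g⁻¹ (inv_mem hg) z hz))
      rwa [show g * (x * (g⁻¹ * z * g⁻¹⁻¹) * x⁻¹ * (g⁻¹ * z * g⁻¹⁻¹)⁻¹) * g⁻¹ =
        g * x * g⁻¹ * z * (g * x * g⁻¹)⁻¹ * z⁻¹ by group] at h1
  -- `H` is nilpotent
  have hHq : ∀ x ∈ H, ∀ z ∈ V, Commute (x ^ q) z := by
    intro x hx z hz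
    obtain ⟨e, he⟩ : ∃ e, e = x * z * x⁻¹ * z⁻¹ := ⟨_, rfl⟩
    have heR : e ∈ R₀ := he ▸ hx.2.2.2 z hz
    have hxe := hx.2.2.1 e heR
    have hn : ∀ n : ℕ, x ^ n * z * (x ^ n)⁻¹ = e ^ n * z := by
      intro n
      induction n with
      | zero => simp
      | succ n ihn =>
        calc x ^ (n + 1) * z * (x ^ (n + 1))⁻¹ = x * (x ^ n * z * (x ^ n)⁻¹) * x⁻¹ := by rw [pow_succ']; group
          _ = (x * e ^ n * x⁻¹) * (x * z * x⁻¹) := by rw [ihn]; group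
          _ = e ^ n * (e * z) := by rw [(hxe.pow_right n).eq, mul_inv_cancel_right, he]; group
          _ = _ := by rw [pow_succ]; group
    have := hn q
    rw [((mem_om habqT).1 (hR₀.le heR)).2, one_mul] at this
    exact mul_inv_eq_iff_eq_mul.1 this
  have hqq : IsPGroup q (↥H ⧸ Subgroup.center ↥H) := by
    intro z
    obtain ⟨x, rfl⟩ := QuotientGroup.mk_surjective z
    obtain ⟨k, n, hn, hord'⟩ := Nat.exists_eq_pow_mul_and_not_dvd (orderOf_pos (x : G)).ne' q hq.ne_one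
    refine ⟨k, ?_⟩
    rw [← QuotientGroup.mk_pow, QuotientGroup.eq_one_iff, Subgroup.mem_center_iff]
    intro g
    obtain ⟨u, hu⟩ : ∃ u, u = (x : G) ^ q ^ k := ⟨_, rfl⟩
    have huO : u ∈ O := hu ▸ pow_mem x.2.1 _
    have huco : (orderOf u).Coprime q := by
      refine Nat.Coprime.coprime_dvd_left (orderOf_dvd_of_pow_eq_one (x := u) (n := n) ?_)
        ((hq.coprime_iff_not_dvd.2 hn).symm)
      rw [hu, ← pow_mul, ← hord', pow_orderOf_eq_one]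
    have huF : ∀ s : ℕ, s.Prime → s ≠ 2 → ∀ b ∈ fq s Cz, Commute u b := by
      intro s hs hs2 b hb
      by_cases hsq : s = q
      · subst hsq
        refine commute_of_line (fq_isPGroup s Cz) habq (fun d hd => conj_fq hs (c.mc.core_le huO) hd) huco
          (fun d hd hds => ?_) b hb
        obtain ⟨j, hj⟩ := exists_pow_eq_self_of_coprime (n := s) (x := u) huco.symm
        rw [← hj, hu]
        refine Commute.pow_left ?_ _
        rw [← pow_mul, mul_comm, pow_mul]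
        exact (hHq _ x.2 d (hV ▸ (mem_om habq).2 ⟨hd, hds⟩)).pow_left _
      · exact hu ▸ (x.2.2.1 s hs hs2 hsq b hb).pow_left _
    refine Subtype.ext ?_
    show (g : G) * (((x ^ q ^ k : ↥H)) : G) = (((x ^ q ^ k : ↥H)) : G) * g
    rw [SubgroupClass.coe_pow, ← hu]
    refine (c.mc.fit_commute huO (c.mc.mem_fit huO huF) fun s j hs hs2 b hb hbo hbq => ?_).eq
    rcases Nat.eq_zero_or_pos j with rfl | hj
    · rw [pow_zero, orderOf_eq_one_iff] at hbo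
      rw [hbo]
      exact Commute.one_right _
    refine g.2.2.1 s hs hs2 (fun hsq => ?_) b hbq
    have h1 : s ∣ orderOf u := (dvd_pow_self s hj.ne').trans (hbo ▸ orderOf_dvd_of_mem_zpowers hb)
    exact hq.one_lt.ne (Nat.eq_one_of_dvd_coprimes huco (hsq ▸ h1) dvd_rfl).symm
  haveI : Group.IsNilpotent (↥H ⧸ Subgroup.center ↥H) := hqq.isNilpotent
  have hnil : Group.IsNilpotent ↥H :=
    Subgroup.isNilpotent_of_ker_le_center (QuotientGroup.mk' (Subgroup.center ↥H))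
      (by rw [QuotientGroup.ker_mk'])
  have hnil' : Group.IsNilpotent ↥(H.subgroupOf Cz) :=
    Group.nilpotent_of_mulEquiv (Subgroup.subgroupOfEquivOfLe hHC).symm
  have hyF : (⟨y, c.mc.core_le hyO⟩ : ↥Cz) ∈ Cfsg.fittingSubgroup ↥Cz :=
    Solv.normal_le_fitting hnil' (Subgroup.mem_subgroupOf.2 hyH)
  have hyq : y ∈ fq q Cz := c.mc.primary_mem hyO hyF hq hyo
  -- so `w` centralises the plane and `a` fixes the line
  refine c.stab hq c.odd c.D_ne haC fun x hx => ?_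
  have habD : ∀ z ∈ Dv q, ∀ z' ∈ Dv q, z * z' = z' * z := fun z hz z' hz' => habq z hz.1 z' hz'.1
  obtain ⟨hxD, hxq⟩ := (mem_om habD).1 hx
  obtain ⟨x', hx'⟩ : ∃ x', x' = a * x * a⁻¹ := ⟨_, rfl⟩
  rw [← hx']
  have hx'V : x' ∈ V := hx' ▸ hVn a haC x (hV ▸ (mem_om habq).2 ⟨hxD.1, hxq⟩)
  have hwx : Commute w x' := by
    have h1 : Commute (w ^ q) x' := hpow q hq c.odd c.D_ne _ (hV ▸ hx'V)
    have h2 : Commute y x' := habq y hyq x' (om_le _ _ (hV ▸ hx'V))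
    obtain ⟨u₁, u₂, hu⟩ : ∃ u₁ u₂ : ℤ, (n' : ℤ) * u₁ + (q : ℤ) * u₂ = 1 := by
      have := Nat.gcd_eq_gcd_ab n' q
      rw [((hq.coprime_iff_not_dvd.2 hn').symm : Nat.gcd n' q = 1)] at this
      exact ⟨_, _, this.symm⟩
    rw [show w = y ^ u₁ * (w ^ q) ^ u₂ by
      rw [hy, ← zpow_natCast, ← zpow_natCast, ← zpow_mul, ← zpow_mul, ← zpow_add, hu, zpow_one]]
    exact (h2.zpow_left u₁).mul_left (h1.zpow_left u₂)
  refine (mem_om habD).2 ⟨⟨conj_fq hq haC hxD.1 |> fun h => hx' ▸ h, Subgroup.mem_centralizer_singleton_iff.2 ?_⟩, ?_⟩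
  · have hax : Commute (a * v * a⁻¹) x' := by
      rw [hx']
      exact (Commute.conj_iff a).2 (show Commute x v from Subgroup.mem_centralizer_singleton_iff.1 hxD.2).symm
    have he : v = (a * v * a⁻¹)⁻¹ * w := by
      rw [hw]
      calc v = v⁻¹ := hvinv.symm
        _ = _ := by group
    rw [he]
    exact ((hax.inv_left).mul_left hwx).symm.eq
  · rw [hx', conj_pow, hxq]
    group

/-- the bounds for the orbit length -/
theorem Cfg.orbit_le (c : Cfg t O N v T q) (P : Sylow 2 G) (hOP : O ⊔ (P : Subgroup G) = Cz) :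
    (N ⊓ O).relIndex O + 2 ≤ Nat.card ↥T := by
  obtain ⟨p, hp, hp2, hD, hmov⟩ := c.moving P hOP
  haveI := Fact.mk hp
  have hab := c.comm hp hp2
  have habD : ∀ a ∈ Dv p, ∀ b ∈ Dv p, a * b = b * a := fun a ha b hb => hab a ha.1 b hb.1
  have habT : ∀ a ∈ fq p Cz ⊓ T, ∀ b ∈ fq p Cz ⊓ T, a * b = b * a := fun a ha b hb => hab a ha.1 b hb.1
  obtain ⟨D₀, hD₀⟩ : ∃ D₀, D₀ = om p (Dv p) := ⟨_, rfl⟩
  obtain ⟨R₀, hR₀⟩ : ∃ R₀, R₀ = om p (fq p Cz ⊓ T) := ⟨_, rfl⟩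
  obtain ⟨V, hV⟩ : ∃ V, V = om p (fq p Cz) := ⟨_, rfl⟩
  have hA1 : fq p Cz ≠ ⊥ := fun e => hD (le_bot_iff.1 (inf_le_left.trans e.le))
  have hcard : ∀ {X : Subgroup G} {A : Subgroup G}, IsPGroup p ↥A → A ≠ ⊥ → Nat.card ↥(om p A) ≤ p → X = om p A →
      Nat.card ↥X = p := by
    intro X A hA hA1 hle hX
    subst hX
    haveI : Nontrivial ↥(om p A) := (Subgroup.nontrivial_iff_ne_bot _).2 (om_ne_bot hA hA1)
    obtain ⟨j, hj, hj'⟩ := (IsPGroup.nontrivial_iff_card (hA.to_le (om_le p A))).1 inferInstance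
    exact le_antisymm hle (hj' ▸ Nat.le_self_pow hj.ne' p)
  have hD₀c : Nat.card ↥D₀ = p := hcard ((fq_isPGroup p Cz).to_le inf_le_left) hD (c.line_card hp hp2) hD₀
  have hR₀c : Nat.card ↥R₀ = p := hcard ((fq_isPGroup p Cz).to_le inf_le_left) (c.R_ne hp hp2 hA1)
    (om_cyclic_card c.facts.T_cyclic inf_le_right) hR₀
  have hVc : Nat.card ↥V ≤ p * p := by
    have hsur : ∀ x ∈ V, ∃ r ∈ R₀, ∃ d ∈ D₀, x = r * d := by
      intro x hx
      obtain ⟨hxA, hxp⟩ := (mem_om hab).1 (hV ▸ hx)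
      obtain ⟨r, hr, d, hd, rfl⟩ := c.decomp hp hp2 hxA
      rw [(show Commute r d from hab r hr.1 d hd.1).mul_pow] at hxp
      have hm : r ^ p ∈ T ⊓ Subgroup.centralizer (lay N : Set G) := by
        refine ⟨pow_mem hr.2 p, ?_⟩
        rw [eq_inv_of_mul_eq_one_left hxp]
        exact (Subgroup.centralizer (lay N : Set G)).inv_mem (pow_mem ((c.fixed hp hp2).le hd).2 p)
      rw [c.facts.T_disj, Subgroup.mem_bot] at hm
      rw [hm, one_mul] at hxp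
      exact ⟨r, hR₀ ▸ (mem_om habT).2 ⟨hr, hm⟩, d, hD₀ ▸ (mem_om habD).2 ⟨hd, hxp⟩, rfl⟩
    choose fr hfr fd hfd hfe using hsur
    calc Nat.card ↥V ≤ Nat.card (↥R₀ × ↥D₀) := by
          refine Nat.card_le_card_of_injective
            (fun x : ↥V => ((⟨fr x x.2, hfr x x.2⟩ : ↥R₀), (⟨fd x x.2, hfd x x.2⟩ : ↥D₀))) fun x y e => ?_
          have e1 : fr x x.2 = fr y y.2 := congrArg (fun z => (z.1 : G)) e
          have e2 : fd x x.2 = fd y y.2 := congrArg (fun z => (z.2 : G)) e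
          exact Subtype.ext (by rw [hfe x x.2, hfe y y.2, e1, e2])
      _ = p * p := by rw [Nat.card_prod, hR₀c, hD₀c]
  -- the two orbits
  have hDstab : ∀ a ∈ O, (∀ x ∈ D₀, a * x * a⁻¹ ∈ D₀) ↔ a ∈ N ⊓ O := by
    intro a ha
    rw [hD₀]
    refine ⟨fun h => ⟨c.stab hp hp2 hD (c.mc.core_le ha) h, ha⟩, fun h x hx => ?_⟩
    obtain ⟨hxD, hxp⟩ := (mem_om habD).1 hx
    exact (mem_om habD).2 ⟨c.stab_D hp hp2 ⟨h.1, c.mc.core_le ha⟩ hxD, by rw [conj_pow, hxp]; group⟩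
  have hRstab : ∀ a ∈ O, (∀ x ∈ R₀, a * x * a⁻¹ ∈ R₀) ↔ a ∈ Subgroup.normalizer (R₀ : Set G) ⊓ O :=
    fun a ha => ⟨fun h => ⟨mem_norm_of_conj h, ha⟩, fun h x hx => (Subgroup.mem_normalizer_iff.1 h.1 x).1 hx⟩
  have h1 := card_conj_orbit O (N ⊓ O) D₀ inf_le_right hDstab
  have h2 := card_conj_orbit O _ R₀ inf_le_right hRstab
  obtain ⟨m', hm'⟩ : ∃ m', m' = (Subgroup.normalizer (R₀ : Set G) ⊓ O).relIndex O := ⟨_, rfl⟩
  have hodd : Odd m' := by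
    rw [hm']
    exact c.mc.core_odd.of_dvd_nat (Subgroup.relIndex_dvd_card _ O)
  have hm'1 : m' ≠ 1 := by
    intro e
    rw [hm', Subgroup.relIndex_eq_one] at e
    exact hmov fun a ha x hx => hR₀ ▸ (Subgroup.mem_normalizer_iff.1 (e ha).1 x).1 (hR₀.symm ▸ hx)
  obtain ⟨S₁, hS₁⟩ : ∃ S₁, S₁ = {Y : Subgroup G | ∃ a ∈ O, D₀.map (MulAut.conj a).toMonoidHom = Y} := ⟨_, rfl⟩
  obtain ⟨S₂, hS₂⟩ : ∃ S₂, S₂ = {Y : Subgroup G | ∃ a ∈ O, R₀.map (MulAut.conj a).toMonoidHom = Y} := ⟨_, rfl⟩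
  have hdisj : Disjoint S₁ S₂ := by
    rw [Set.disjoint_left]
    rw [hS₁, hS₂]
    rintro Y ⟨a, ha, rfl⟩ ⟨b, hb, hbY⟩
    obtain ⟨x, hx, hx1⟩ : ∃ x ∈ D₀, x ≠ 1 := by
      by_contra hcon
      push Not at hcon
      exact hp.one_lt.ne ((Subgroup.card_eq_one.2 ((Subgroup.eq_bot_iff_forall D₀).2 hcon)).symm.trans hD₀c)
    obtain ⟨y, hy, hye⟩ := hbY.ge ⟨x, hx, rfl⟩
    have hye' : b * y * b⁻¹ = a * x * a⁻¹ := hye
    obtain ⟨hxD, -⟩ := (mem_om habD).1 (hD₀ ▸ hx)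
    refine c.not_torus (Subgroup.mem_centralizer_singleton_iff.1 hxD.2) hx1 (c.mc.fq_le_core hp hp2 hxD.1)
      (mul_mem (inv_mem hb) ha) ?_
    rw [show b⁻¹ * a * x * (b⁻¹ * a)⁻¹ = b⁻¹ * (a * x * a⁻¹) * b by group, ← hye',
      show b⁻¹ * (b * y * b⁻¹) * b = y by group]
    exact ((mem_om habT).1 (hR₀ ▸ hy)).1.2
  have hmemV : ∀ {X : Subgroup G}, X ≤ V → ∀ a ∈ O, X.map (MulAut.conj a).toMonoidHom ≤ V := by
    intro X hX a ha
    rintro _ ⟨x, hx, rfl⟩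
    obtain ⟨hxA, hxp⟩ := (mem_om hab).1 (hV ▸ hX hx)
    rw [hV]
    exact (mem_om hab).2 ⟨conj_fq hp (c.mc.core_le ha) hxA, by
      show (a * x * a⁻¹) ^ p = 1
      rw [conj_pow, hxp]
      group⟩
  have hDV : D₀ ≤ V := fun x hx => hV ▸ (mem_om hab).2 ⟨((mem_om habD).1 (hD₀ ▸ hx)).1.1, ((mem_om habD).1 (hD₀ ▸ hx)).2⟩
  have hRV : R₀ ≤ V := fun x hx => hV ▸ (mem_om hab).2 ⟨((mem_om habT).1 (hR₀ ▸ hx)).1.1, ((mem_om habT).1 (hR₀ ▸ hx)).2⟩
  have hle := lines_le hp hVc (S₁ ∪ S₂) (by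
      rw [hS₁, hS₂]
      rintro X (⟨a, ha, rfl⟩ | ⟨a, ha, rfl⟩)
      exacts [hmemV hDV a ha, hmemV hRV a ha]) (by
      rw [hS₁, hS₂]
      rintro X (⟨a, ha, rfl⟩ | ⟨a, ha, rfl⟩) <;> rw [Subgroup.card_map_of_injective (MulAut.conj a).injective]
      exacts [hD₀c, hR₀c])
  rw [Nat.card_coe_set_eq, Set.ncard_union_eq hdisj, ← Nat.card_coe_set_eq, ← Nat.card_coe_set_eq] at hle
  have e1 : Nat.card S₁ = (N ⊓ O).relIndex O := by rw [hS₁]; exact h1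
  have e2 : Nat.card S₂ = m' := by rw [hS₂, hm']; exact h2
  rw [e1, e2] at hle
  have hpT : p ∣ Nat.card ↥T := hR₀c ▸ Subgroup.card_dvd_of_le (hR₀ ▸ (om_le _ _).trans inf_le_right)
  have := Nat.le_of_dvd Nat.card_pos hpT
  obtain ⟨k, hk⟩ := hodd
  omega

end Cfsg.Agent.GW
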