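import Cfsg.Agent.Lib.GW.EightLinear
import Cfsg.Agent.Lib.GW.ProperStructure
import Cfsg.Agent.Lib.GW.Centralizer
import Cfsg.Agent.Lib.GW.MaxShape

/-!
# No maximal subgroup over `C(t)` fuses all its involutions, for a Sylow subgroup of order at least eight

The order formula in `G` and in the subgroup bounds the index by five.
-/

set_option autoImplicit false
set_option linter.style.haveILetI false
set_option linter.unusedSectionVars false

namespace Cfsg.Agent.GW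

open Cfsg Cfsg.Agent DihedralGroup

universe u

/-- The ratio in the order formula of a group with dihedral Sylow subgroup and one class of involutions. -/
theorem dihedral_ratio {X : Type u} [Group X] [Finite X] (P : Sylow 2 X) {N : ℕ} [NeZero N] (hN : 4 ∣ N)
    (hN2 : ∃ a, N = 2 ^ a)
    (ι : DihedralGroup N →* X) (hinj : Function.Injective ι) (hrange : ι.range = (P : Subgroup X))
    (h0 : IsConj (Char.dihJ ι) (ι (sr 0))) (h1 : IsConj (Char.dihJ ι) (ι (sr (-1)))) :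
    ∃ ρ : ℚ, 3 / 4 ≤ ρ ∧ ρ ≤ 15 / 4 ∧
      (Nat.card X : ℚ) = ρ * (Nat.card (Subgroup.centralizer ({Char.dihJ ι} : Set X)) : ℚ) ^ 3 *
        (1 / (Nat.card (Subgroup.centralizer ({Char.dihJ ι, ι (sr 0)} : Set X)) : ℚ) +
          1 / (Nat.card (Subgroup.centralizer ({Char.dihJ ι, ι (sr (-1))} : Set X)) : ℚ)) ^ 2 := by
  classical
  letI := Fintype.ofFinite X
  obtain ⟨I, hI⟩ := Char.exists_pModular Nat.prime_two
  have hD : Char.DihSyl P ι := ⟨hN, hN2, hinj, hrange⟩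
  obtain ⟨ζ, hζ⟩ : ∃ ζ : ℂ, IsPrimitiveRoot ζ N :=
    ⟨_, Complex.isPrimitiveRoot_exp N (NeZero.ne N)⟩
  obtain ⟨χ₁, χ₂, χ₃, χ', δ, δ₂, δ₃, hδ, -, -, -, hne1, -, -, -, -, -, -, hmem, hvals, -⟩ :=
    hD.principal_block hI hζ (N / 2) (Nat.mul_div_cancel' ((Dvd.intro 2 rfl).trans hN)).symm
  have hval : ∀ l : ℕ, 0 < l → l < N → (χ₁ : X → ℂ) (ι (r (l : ZMod N))) = δ := fun l h h' => (hvals l h h').1
  obtain ⟨hxδ, hord⟩ := hD.order_formula hI h0 h1 χ₁ ((hmem χ₁).mpr (Or.inr (Or.inl rfl))) hne1 δ hδ hval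
  set x := charDegree (χ₁ : X → ℂ) with hx
  have hdiv : (N : ℤ) ∣ (x : ℤ) - δ := by
    obtain ⟨n, hn⟩ := Eight.const_value_dvd (H := ULift.{u} (Multiplicative (ZMod N)))
      ((ι.comp (MonoidHom.mk' (fun i : Multiplicative (ZMod N) => (r i.toAdd : DihedralGroup N))
        fun p q => (r_mul_r _ _).symm)).comp MulEquiv.ulift.toMonoidHom) χ₁ δ (by
        rintro ⟨i⟩ hi
        have h0 : i.toAdd ≠ 0 := fun e => hi (by
          rw [show i = 1 from toAdd_eq_zero.mp e]; rfl)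
        show (χ₁ : X → ℂ) (ι (r i.toAdd)) = _
        rw [← ZMod.natCast_zmod_val i.toAdd]
        exact hval _ (ZMod.val_pos.mpr h0) (ZMod.val_lt _))
    rw [Nat.card_congr Equiv.ulift, Nat.card_congr Multiplicative.toAdd, Nat.card_zmod] at hn
    exact ⟨(n : ℤ) - δ, by linear_combination hn⟩
  have h4 : (4 : ℤ) ∣ (x : ℤ) - δ := (Int.natCast_dvd_natCast.2 hN).trans hdiv
  have hd : (x : ℚ) - δ ≠ 0 := by
    intro h
    exact hxδ (by exact_mod_cast sub_eq_zero.1 h)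
  refine ⟨2 * (x : ℚ) * ((x : ℚ) + δ) / ((x : ℚ) - δ) ^ 2, ?_, ?_, ?_⟩
  · rcases hδ with rfl | rfl
    · have hx5 : (5 : ℚ) ≤ x := by
        have : 5 ≤ x := by
          have h0 : 0 < x := Nat.pos_of_ne_zero fun h => by rw [h] at h4; omega
          omega
        exact_mod_cast this
      rw [le_div_iff₀ (pow_two_pos_of_ne_zero hd)]
      push_cast
      nlinarith
    · have hx3 : (3 : ℚ) ≤ x := by
        have : 3 ≤ x := by omega
        exact_mod_cast this
      rw [le_div_iff₀ (pow_two_pos_of_ne_zero hd)]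
      push_cast
      nlinarith
  · rcases hδ with rfl | rfl
    · have hx5 : (5 : ℚ) ≤ x := by
        have : 5 ≤ x := by
          have h0 : 0 < x := Nat.pos_of_ne_zero fun h => by rw [h] at h4; omega
          omega
        exact_mod_cast this
      rw [div_le_iff₀ (pow_two_pos_of_ne_zero hd)]
      push_cast
      nlinarith
    · have hx3 : (3 : ℚ) ≤ x := by
        have : 3 ≤ x := by omega
        exact_mod_cast this
      rw [div_le_iff₀ (pow_two_pos_of_ne_zero hd)]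
      push_cast
      nlinarith
  · rw [div_mul_eq_mul_div, div_mul_eq_mul_div, eq_div_iff (pow_ne_zero 2 hd)]
    exact hord

variable {G : Type u} [Group G] [Finite G]

/-- A maximal subgroup over `C(t)` does not fuse `t` with both reflections when `|S| ≥ 8`. -/
theorem no_one_class_over (hG : Minimal G) (Φ : Frame G) (hk : 2 ≤ Φ.k) (M : Subgroup G) (hM : IsCoatom M)
    (hC : Subgroup.centralizer ({Φ.t} : Set G) ≤ M)
    (h0 : ∃ g ∈ M, g * Φ.t * g⁻¹ = Φ.refl 0) (h1 : ∃ g ∈ M, g * Φ.t * g⁻¹ = Φ.refl (-1)) : False := by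
  classical
  haveI : Fact (Nat.Prime 2) := ⟨Nat.prime_two⟩
  haveI := hG.simple
  have hSM : (Φ.S : Subgroup G) ≤ M := Φ.S_le.trans hC
  have h4 : 4 ∣ 2 ^ Φ.k := ⟨2 ^ (Φ.k - 2), by rw [show (4 : ℕ) = 2 ^ 2 by norm_num, ← pow_add]; congr 1; omega⟩
  let T : Sylow 2 M := Φ.S.subtype hSM
  let ιM : DihedralGroup (2 ^ Φ.k) →* M := Φ.hom.codRestrict M fun d => hSM (Φ.hom_range ▸ ⟨d, rfl⟩)
  have hJ : Char.dihJ Φ.hom = Φ.t := rfl
  obtain ⟨ρ, hρl, hρu, hρ⟩ := dihedral_ratio Φ.S h4 ⟨_, rfl⟩ Φ.hom Φ.hom_inj Φ.hom_range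
    (hG.oneClass _ _ (by rw [hJ]; exact Φ.t_order) (Φ.refl_order 0))
    (hG.oneClass _ _ (by rw [hJ]; exact Φ.t_order) (Φ.refl_order (-1)))
  obtain ⟨ρ', hρl', hρu', hρ'⟩ := dihedral_ratio T h4 ⟨_, rfl⟩ ιM (fun a b h => Φ.hom_inj (a₁ := a) (a₂ := b) ((congrArg Subtype.val h) :))
    (by
      ext x
      constructor
      · rintro ⟨d, rfl⟩
        show Φ.hom d ∈ (Φ.S : Subgroup G)
        exact Φ.hom_range ▸ ⟨d, rfl⟩
      · intro hx
        obtain ⟨d, hd⟩ := (Φ.hom_range ▸ (hx : (x : G) ∈ (Φ.S : Subgroup G)) : (x : G) ∈ Φ.hom.range)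
        exact ⟨d, Subtype.ext hd⟩)
    (by obtain ⟨g, hg, e⟩ := h0; exact isConj_iff.2 ⟨⟨g, hg⟩, Subtype.ext e⟩)
    (by obtain ⟨g, hg, e⟩ := h1; exact isConj_iff.2 ⟨⟨g, hg⟩, Subtype.ext e⟩)
  -- the centralisers agree
  have hpair : ∀ (s : Set M) (s' : Set G), (∀ x, x ∈ s → (x : G) ∈ s') → (∀ x ∈ s', ∃ y ∈ s, (y : G) = x) →
      Φ.t ∈ s' → Nat.card (Subgroup.centralizer s) = Nat.card (Subgroup.centralizer s') := by
    intro s s' h1 h2 ht
    exact Nat.card_congr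
      { toFun := fun g => ⟨(g.1 : G), Subgroup.mem_centralizer_iff.2 fun x hx => by
          obtain ⟨y, hy, rfl⟩ := h2 x hx
          exact congrArg Subtype.val (Subgroup.mem_centralizer_iff.1 g.2 y hy)⟩
        invFun := fun g => ⟨⟨g.1, hC (Subgroup.mem_centralizer_singleton_iff.2
          (Subgroup.mem_centralizer_iff.1 g.2 _ ht).symm)⟩,
          Subgroup.mem_centralizer_iff.2 fun x hx => Subtype.ext (Subgroup.mem_centralizer_iff.1 g.2 _ (h1 x hx))⟩
        left_inv := fun _ => rfl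
        right_inv := fun _ => rfl }
  rw [hpair {Char.dihJ ιM} {Char.dihJ Φ.hom} (by rintro x rfl; rfl) (by rintro x rfl; exact ⟨_, rfl, rfl⟩) rfl,
    hpair {Char.dihJ ιM, ιM (sr 0)} {Char.dihJ Φ.hom, Φ.hom (sr 0)} (by rintro x (rfl | rfl); exacts [Or.inl rfl, Or.inr rfl])
      (by rintro x (rfl | rfl); exacts [⟨_, Or.inl rfl, rfl⟩, ⟨_, Or.inr rfl, rfl⟩]) (Or.inl rfl),
    hpair {Char.dihJ ιM, ιM (sr (-1))} {Char.dihJ Φ.hom, Φ.hom (sr (-1))}
      (by rintro x (rfl | rfl); exacts [Or.inl rfl, Or.inr rfl])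
      (by rintro x (rfl | rfl); exacts [⟨_, Or.inl rfl, rfl⟩, ⟨_, Or.inr rfl, rfl⟩]) (Or.inl rfl)] at hρ'
  have hidx : M.index ≤ 5 := by
    have h : (Nat.card M : ℚ) * (M.index : ℚ) = Nat.card G := by exact_mod_cast M.card_mul_index
    rw [hρ, hρ'] at h
    set A := (Nat.card (Subgroup.centralizer ({Char.dihJ Φ.hom} : Set G)) : ℚ) ^ 3 with hA
    set B := (1 / (Nat.card (Subgroup.centralizer ({Char.dihJ Φ.hom, Φ.hom (sr 0)} : Set G)) : ℚ) +
      1 / (Nat.card (Subgroup.centralizer ({Char.dihJ Φ.hom, Φ.hom (sr (-1))} : Set G)) : ℚ)) ^ 2 with hB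
    have hAB : 0 < A * B := mul_pos (pow_pos (by exact_mod_cast Nat.card_pos) 3)
      (pow_pos (add_pos (one_div_pos.2 (by exact_mod_cast Nat.card_pos)) (one_div_pos.2 (by exact_mod_cast Nat.card_pos))) 2)
    have h2 : ρ' * (M.index : ℚ) = ρ := mul_left_cancel₀ hAB.ne' (by linear_combination h)
    have h5 : (M.index : ℚ) ≤ 5 := by nlinarith [(Nat.cast_nonneg M.index : (0 : ℚ) ≤ M.index)]
    exact_mod_cast h5
  -- the permutation representation on the cosets
  let f : G →* Equiv.Perm (G ⧸ M) := MulAction.toPermHom G (G ⧸ M)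
  have hker : f.ker = ⊥ := by
    rcases (inferInstance : f.ker.Normal).eq_bot_or_eq_top with h | h
    · exact h
    · exfalso
      refine hM.1 (eq_top_iff.2 fun g _ => ?_)
      have hg : f g = 1 := MonoidHom.mem_ker.1 (h ▸ Subgroup.mem_top g)
      have h' : g • ((1 : G) : G ⧸ M) = ((1 : G) : G ⧸ M) := congrArg (fun p : Equiv.Perm (G ⧸ M) => p ((1 : G) : G ⧸ M)) hg
      rw [MulAction.Quotient.smul_mk, QuotientGroup.eq, smul_eq_mul, mul_one, mul_one] at h'
      simpa using inv_mem h'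
  haveI : Fintype (G ⧸ M) := Fintype.ofFinite _
  have hsign : ∀ g : G, Equiv.Perm.sign (f g) = 1 := by
    rcases (inferInstance : (Equiv.Perm.sign.comp f).ker.Normal).eq_bot_or_eq_top with h | h
    · exfalso
      refine hG.nonab ⟨⟨fun a b => (MonoidHom.ker_eq_bot_iff _).1 h (by rw [map_mul, map_mul, mul_comm])⟩⟩
    · intro g
      have hg : g ∈ (Equiv.Perm.sign.comp f).ker := by rw [h]; trivial
      exact MonoidHom.mem_ker.1 hg
  let f' : G →* alternatingGroup (G ⧸ M) := f.codRestrict _ fun g => Equiv.Perm.mem_alternatingGroup.2 (hsign g)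
  have hdvd : Nat.card G ∣ Nat.card (alternatingGroup (G ⧸ M)) :=
    Subgroup.card_dvd_of_injective f' fun a b h => (MonoidHom.ker_eq_bot_iff f).1 hker (congrArg Subtype.val h)
  have hN : Nontrivial (G ⧸ M) := QuotientGroup.nontrivial_iff.2 hM.1
  rw [nat_card_alternatingGroup, Nat.card_eq_fintype_card (α := G ⧸ M)] at hdvd
  have h8 : 8 ∣ Nat.card G := by
    refine Dvd.dvd.trans ?_ (Φ.S : Subgroup G).card_subgroup_dvd_card
    rw [Nat.card_congr Φ.ι.symm.toEquiv, DihedralGroup.nat_card, show (8 : ℕ) = 2 * 4 by norm_num]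
    exact Nat.mul_dvd_mul_left 2 h4
  rw [Subgroup.index, Nat.card_eq_fintype_card] at hidx
  have h8' := h8.trans hdvd
  have h2 : 1 < Fintype.card (G ⧸ M) := Fintype.one_lt_card
  interval_cases h : Fintype.card (G ⧸ M) <;> norm_num [Nat.factorial] at h8'

end Cfsg.Agent.GW
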