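import Cfsg.Agent.Lib.GW.MaxTorus
import Cfsg.Agent.Lib.GW.MaxFit

/-!
# Layers over a maximal centraliser: the orbit of the line

The stabiliser in `C` of the line of order `p` centralised by the layer is `N ∩ C`; it contains a Sylow `2`-subgroup,
and the orbit of the line has odd length `m` with `1 < m` and `m + 2 ≤ |T|`.
-/

set_option autoImplicit false
set_option linter.unusedSectionVars false
set_option linter.style.haveILetI false

namespace Cfsg.Agent.GW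

open Cfsg Cfsg.Agent
open scoped commutatorElement

universe w

variable {G : Type w} [Group G] [Finite G] [IsSimpleGroup G]
  {t : G} {O N : Subgroup G} {v : G} {T : Subgroup G} {q : ℕ}

set_option quotPrecheck false in
local notation "Cz" => Subgroup.centralizer ({t} : Set G)

set_option quotPrecheck false in
local notation "Dv" p:max => fq p (Subgroup.centralizer ({t} : Set G)) ⊓ Subgroup.centralizer ({v} : Set G)

theorem Cfg.vC (c : Cfg t O N v T q) : v ∈ N ⊓ Cz :=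
  ⟨lay_le N c.facts.v_mem, Subgroup.mem_centralizer_singleton_iff.2 c.facts.v_comm.eq⟩

theorem Cfg.v_inv (c : Cfg t O N v T q) {x : G} (hx : x ∈ T) : v * x * v⁻¹ = x⁻¹ :=
  c.torus.2.1 v c.vC.1 c.facts.v_sq c.facts.v_ne c.facts.v_ne_t c.facts.v_comm x hx

theorem Cfg.T_le_core (c : Cfg t O N v T q) : T ≤ O := c.facts.T_le.trans inf_le_right

/-- `N` is the normaliser of its layer -/
theorem Cfg.norm_lay (c : Cfg t O N v T q) : Subgroup.normalizer (lay N : Set G) = N := by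
  refine ((lay_norm N).eq_or_lt.resolve_right fun hlt => ?_).symm
  rcases (Subgroup.normalizer_eq_top_iff.1 (c.coatom.2 _ hlt)).eq_bot_or_eq_top with he | he
  · exact c.lsub.not_le (he ▸ bot_le)
  · exact c.coatom.1 (top_le_iff.1 (he ▸ lay_le N))

/-- elements of `N ∩ C` normalise `D_p` -/
theorem Cfg.stab_D (c : Cfg t O N v T q) {p : ℕ} (hp : p.Prime) (hp2 : p ≠ 2) {g : G} (hg : g ∈ N ⊓ Cz) {x : G}
    (hx : x ∈ Dv p) : g * x * g⁻¹ ∈ Dv p := by
  rw [c.fixed hp hp2] at hx ⊢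
  exact ⟨conj_fq hp hg.2 hx.1,
    (Subgroup.mem_normalizer_iff.1 (normalizer_le_norm_cent _ (lay_norm N hg.1)) x).1 hx.2⟩

/-- the stabiliser of the line is inside `N` -/
theorem Cfg.stab (c : Cfg t O N v T q) {p : ℕ} (hp : p.Prime) (hp2 : p ≠ 2) (hD : Dv p ≠ ⊥) {g : G} (hg : g ∈ Cz)
    (h : ∀ x ∈ om p (Dv p), g * x * g⁻¹ ∈ om p (Dv p)) : g ∈ N := by
  haveI := Fact.mk hp
  have hX : om p (Dv p) ≠ ⊥ := om_ne_bot ((fq_isPGroup p Cz).to_le inf_le_left) hD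
  have hinv : ∀ x ∈ om p (Dv p), g⁻¹ * x * g ∈ om p (Dv p) := fun x hx => by
    have := (Subgroup.mem_normalizer_iff.1 (inv_mem (mem_norm_of_conj h)) x).1 hx
    rwa [inv_inv] at this
  have hgD : g ∈ Subgroup.normalizer ((Dv p : Subgroup G) : Set G) := mem_norm_of_conj fun x hx =>
    c.conj_mem hp hp2 hg hX (om_le _ _) (fun y hy => (om_le _ _ (hinv y hy)).2) hx
  by_cases hpq : p = q
  · exact c.D_norm (hpq ▸ hgD)
  -- a maximal subgroup over `N(D_p)` is `N`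
  have hne : Subgroup.normalizer ((Dv p : Subgroup G) : Set G) ≠ ⊤ := fun htop => by
    rcases (Subgroup.normalizer_eq_top_iff.1 htop).eq_bot_or_eq_top with he | he
    · exact hD he
    · exact c.mc.max.1 (top_le_iff.1 (he ▸ inf_le_left.trans (fq_le p _)))
  obtain ⟨M, hM, hle⟩ := (eq_top_or_exists_le_coatom _).resolve_left hne
  have hMF : ∀ s : ℕ, s.Prime → s ≠ 2 → fq s Cz ≤ M := fun s hs hs2 a ha => hle <|
    Subgroup.centralizer_le_normalizer _ <| Subgroup.mem_centralizer_iff.2 fun y hy => by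
      by_cases hsp : s = p
      · exact c.comm hp hp2 y hy.1 a (hsp ▸ ha)
      · exact (commute_fq hp hs (Ne.symm hsp) hy.1 ha).eq
  have hLX : lay N ≤ Subgroup.centralizer ((Dv p : Subgroup G) : Set G) :=
    Subgroup.le_centralizer_iff.1 fun y hy => ((c.fixed hp hp2).le hy).2
  obtain ⟨v₁, T₁, f₁, hle₁, htM, hlM⟩ := c.mc.trick c.nonab c.layer c.lsub hp hD inf_le_left hLX hM hle
  have e1 := c.mc.fixed_sub c.rot f₁ hMF c.lsub hle₁ c.prime c.odd
  have hMN : lay M ≤ N := by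
    refine le_trans ?_ ((Subgroup.centralizer_le_normalizer _).trans c.D_norm)
    exact Subgroup.le_centralizer_iff.1 fun y hy => (e1.le hy).2
  have heq : lay M = lay N := le_antisymm ((c.mc.lsub htM hlM f₁).le_lay hMN c.facts) hle₁
  have : M ≤ N := by rw [← c.norm_lay, ← heq]; exact lay_norm M
  exact this (hle hgD)

/-- `N ∩ C` normalises the torus parts -/
theorem Cfg.stab_T (c : Cfg t O N v T q) {g : G} (hg : g ∈ N ⊓ Cz) {x : G} (hx : x ∈ T) : g * x * g⁻¹ ∈ T := by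
  exact (Subgroup.mem_normalizer_iff.1 (c.torus.1.1 hg) x).1 hx

/-- a Sylow `2`-subgroup lies in `N ∩ C`, which supplements `O` -/
theorem Cfg.sylow (c : Cfg t O N v T q) (P : Sylow 2 G) (hPC : (P : Subgroup G) ≤ Cz) :
    ∃ P' : Sylow 2 G, (P' : Subgroup G) ≤ N ⊓ Cz := by
  haveI : Fact (Nat.Prime 2) := ⟨Nat.prime_two⟩
  haveI := Fact.mk c.prime
  obtain ⟨H, hH⟩ : ∃ H, H = N ⊓ Cz := ⟨_, rfl⟩
  have hvH : v ∈ H := hH ▸ c.vC
  obtain ⟨R, hR⟩ := (IsPGroup.of_card (p := 2) (n := 1) (G := Subgroup.zpowers (⟨v, hvH⟩ : ↥H)) (by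
    rw [Nat.card_zpowers, Subgroup.orderOf_mk,
      orderOf_eq_prime (p := 2) (by rw [pow_two]; exact c.facts.v_sq) c.facts.v_ne, pow_one])).exists_le_sylow
  obtain ⟨W, hW⟩ : ∃ W, W = (R : Subgroup ↥H).map H.subtype := ⟨_, rfl⟩
  have hvW : v ∈ W := hW ▸ ⟨⟨v, hvH⟩, hR (Subgroup.mem_zpowers _), rfl⟩
  have hWH : W ≤ H := hW ▸ Subgroup.map_subtype_le _
  have hWp : IsPGroup 2 ↥W := hW ▸ R.isPGroup'.map _
  obtain ⟨Q, hQ⟩ := (hWp.of_equiv (Subgroup.subgroupOfEquivOfLe (hWH.trans (hH.le.trans inf_le_right))).symm).exists_le_sylow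
  obtain ⟨Q', hQ'⟩ : ∃ Q', Q' = (Q : Subgroup ↥Cz).map (Subgroup.centralizer ({t} : Set G)).subtype := ⟨_, rfl⟩
  have hWQ : W ≤ Q' := fun x hx =>
    hQ' ▸ ⟨⟨x, (hWH.trans (hH.le.trans inf_le_right)) hx⟩, hQ hx, rfl⟩
  have hQ'p : IsPGroup 2 ↥Q' := hQ' ▸ Q.isPGroup'.map _
  have hcardQ : Nat.card ↥Q' = Nat.card ↥(P : Subgroup G) := by
    rw [hQ', Subgroup.card_map_of_injective (Subgroup.subtype_injective _), Sylow.card_eq_multiplicity,
      Sylow.card_eq_multiplicity]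
    refine congrArg (2 ^ ·) (le_antisymm ?_ ?_)
    · exact (Nat.factorization_le_iff_dvd Nat.card_pos.ne' Nat.card_pos.ne').2 (Subgroup.card_subgroup_dvd_card _) 2
    · refine (Nat.Prime.pow_dvd_iff_le_factorization Nat.prime_two Nat.card_pos.ne').1 ?_
      rw [← Sylow.card_eq_multiplicity P]
      exact Subgroup.card_dvd_of_le hPC
  suffices hWeq : W = Q' by
    exact ⟨Sylow.ofCard Q' (by rw [hcardQ, Sylow.card_eq_multiplicity]), by
      show Q' ≤ N ⊓ Cz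
      exact hWeq ▸ hH ▸ hWH⟩
  by_contra hne
  haveI : Group.IsNilpotent ↥Q' := hQ'p.isNilpotent
  have hlt : W.subgroupOf Q' < ⊤ := lt_top_iff_ne_top.2 fun e =>
    hne (le_antisymm hWQ (Subgroup.subgroupOf_eq_top.1 e))
  obtain ⟨s, hs, hs'⟩ := SetLike.exists_of_lt (Group.normalizerCondition_of_isNilpotent _ hlt)
  have hsW : ∀ x ∈ W, (s : G) * x * (s : G)⁻¹ ∈ W := fun x hx =>
    ((Subgroup.mem_normalizer_iff.1 hs ⟨x, hWQ hx⟩).1 hx :)
  have hsC : (s : G) ∈ Cz := (hQ' ▸ Subgroup.map_subtype_le _ : Q' ≤ Cz) s.2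
  -- `s ∉ H`
  have hsN : (s : G) ∉ N := by
    intro hsN
    have hsH : (s : G) ∈ H := hH ▸ ⟨hsN, hsC⟩
    have hsR : (R : Subgroup ↥H) ≤ Q'.subgroupOf H := fun x hx => hWQ (hW ▸ ⟨x, hx, rfl⟩)
    have hmax := R.is_maximal' (Q := Q'.subgroupOf H)
      ((hQ'p.to_le (inf_le_left : Q' ⊓ H ≤ Q')).of_equiv
        ((Subgroup.subgroupOfEquivOfLe (inf_le_right : Q' ⊓ H ≤ H)).symm.trans
          (MulEquiv.subgroupCongr (Subgroup.inf_subgroupOf_right Q' H)))) hsR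
    have : (⟨s, hsH⟩ : ↥H) ∈ (R : Subgroup ↥H) := hmax ▸ s.2
    exact hs' (show (s : G) ∈ W from hW ▸ ⟨_, this, rfl⟩)
  obtain ⟨p, hp, hp2, hD⟩ : ∃ p : ℕ, p.Prime ∧ p ≠ 2 ∧ Dv p ≠ ⊥ := ⟨q, c.prime, c.odd, c.D_ne⟩
  haveI := Fact.mk hp
  have hab := c.comm hp hp2
  have habD : ∀ a ∈ Dv p, ∀ b ∈ Dv p, a * b = b * a := fun a ha b hb => hab a ha.1 b hb.1
  obtain ⟨X, hX⟩ : ∃ X, X = om p (Dv p) := ⟨_, rfl⟩
  have hX1 : X ≠ ⊥ := hX ▸ om_ne_bot ((fq_isPGroup p Cz).to_le inf_le_left) hD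
  have hXc : Nat.card ↥X ≤ p := hX ▸ c.line_card hp hp2
  -- `W` normalises the line and its image under `s`
  have hWX : ∀ z ∈ W, ∀ x ∈ X, z * x * z⁻¹ ∈ X := by
    intro z hz x hx
    rw [hX] at hx ⊢
    refine (mem_om habD).2 ⟨c.stab_D hp hp2 (hH ▸ hWH hz) ((mem_om habD).1 hx).1, ?_⟩
    rw [conj_pow, ((mem_om habD).1 hx).2]
    group
  obtain ⟨x₀, hx₀, hx₀1⟩ : ∃ x ∈ X, x ≠ 1 := by
    by_contra hcon
    push Not at hcon
    exact hX1 ((Subgroup.eq_bot_iff_forall X).2 hcon)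
  have hx₀' := (mem_om habD).1 (hX ▸ hx₀)
  have hgen : ∀ x ∈ X, x ∈ Subgroup.zpowers x₀ := fun x hx => by
    have he : Subgroup.zpowers x₀ = X := Subgroup.eq_of_le_of_card_ge (Subgroup.zpowers_le.2 hx₀)
      (by rwa [Nat.card_zpowers, orderOf_eq_prime hx₀'.2 hx₀1])
    exact he.ge hx
  obtain ⟨y, hy⟩ : ∃ y, y = (s : G) * x₀ * (s : G)⁻¹ := ⟨_, rfl⟩
  obtain ⟨v', hv'⟩ : ∃ v', v' = (s : G)⁻¹ * v * (s : G) := ⟨_, rfl⟩
  have hv'W : v' ∈ W := by
    have := (Subgroup.mem_normalizer_iff.1 (inv_mem (mem_norm_of_conj hsW)) v).1 hvW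
    rwa [inv_inv, ← hv'] at this
  -- `v` acts on the image of the line
  obtain ⟨i, hi⟩ := Subgroup.mem_zpowers_iff.1 (hgen _ (hWX v' hv'W x₀ hx₀))
  have hvy : v * y * v⁻¹ = y ^ i := by
    rw [hy, conj_zpow, hi, hv']
    group
  have hyA : y ∈ fq p Cz := hy ▸ conj_fq hp hsC hx₀'.1.1
  have hy1 : y ≠ 1 := fun e => hx₀1 (by
    rw [hy] at e
    exact conj_eq_one_iff.1 e)
  have hyp : y ^ p = 1 := by rw [hy, conj_pow, hx₀'.2]; group
  obtain ⟨e, he⟩ : ∃ e, e = y * (v * y * v⁻¹) := ⟨_, rfl⟩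
  have hev : Commute e v := by
    have hvvy : v * (v * y * v⁻¹) * v⁻¹ = y := by
      calc v * (v * y * v⁻¹) * v⁻¹ = (v * v) * y * (v * v)⁻¹ := by group
        _ = y := by rw [c.facts.v_sq]; group
    have e1 : v * e * v⁻¹ = e := by
      rw [he, show v * (y * (v * y * v⁻¹)) * v⁻¹ = v * y * v⁻¹ * (v * (v * y * v⁻¹) * v⁻¹) by group, hvvy]
      exact hab _ (conj_fq hp c.vC.2 hyA) _ hyA
    exact (mul_inv_eq_iff_eq_mul.1 e1).symm
  have hsX : (∀ x ∈ X, (s : G) * x * (s : G)⁻¹ ∈ X) → False := fun h => hsN (c.stab hp hp2 hD hsC (hX ▸ h))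
  by_cases he1 : e = 1
  · -- the image is the torus line: `s v s⁻¹` centralises it
    obtain ⟨r, hr, d, hd, hrd⟩ := c.decomp hp hp2 hyA
    have hvd : Commute v d := (Subgroup.mem_centralizer_singleton_iff.1 hd.2).symm
    have hyi : v * y * v⁻¹ = y⁻¹ := by rw [he] at he1; exact (inv_eq_of_mul_eq_one_right he1).symm
    have hd1 : d = 1 := by
      refine eq_one_of_inv_fix (z := v) (odd_orderOf c.mc.core_odd (c.mc.fq_le_core hp hp2 hd.1)) ?_ hvd
      rw [hrd] at hyi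
      rw [show v * (r * d) * v⁻¹ = (v * r * v⁻¹) * (v * d * v⁻¹) by group, c.v_inv hr.2, hab r hr.1 d hd.1,
        mul_inv_rev] at hyi
      have hvd' : v * d * v⁻¹ = d := by rw [hvd.eq, mul_inv_cancel_right]
      rw [hvd'] at hyi ⊢
      exact mul_left_cancel hyi
    rw [hd1, mul_one] at hrd
    obtain ⟨z, hz⟩ : ∃ z, z = (s : G) * v * (s : G)⁻¹ := ⟨_, rfl⟩
    have hzH : z ∈ N ⊓ Cz := hH ▸ hWH (hz ▸ hsW v hvW)
    have hzy : Commute z y := by
      rw [hz, hy]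
      exact (Commute.conj_iff _).2 (Subgroup.mem_centralizer_singleton_iff.1 hx₀'.1.2).symm
    have hinv := c.torus.2.1 z hzH.1
      (by rw [hz, show (s : G) * v * (s : G)⁻¹ * ((s : G) * v * (s : G)⁻¹) = (s : G) * (v * v) * (s : G)⁻¹ by group,
            c.facts.v_sq]; group)
      (fun e => c.facts.v_ne (by rw [hz] at e; exact conj_eq_one_iff.1 e))
      (fun e => c.facts.v_ne_t (by
        rw [hz] at e
        calc v = (s : G)⁻¹ * ((s : G) * v * (s : G)⁻¹) * (s : G) := by group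
          _ = (s : G)⁻¹ * (t * (s : G)) := by rw [e]; group
          _ = t := by rw [← (Subgroup.mem_centralizer_singleton_iff.1 hsC)]; group))
      (Subgroup.mem_centralizer_singleton_iff.1 hzH.2) y (hrd ▸ hr.2)
    exact hy1 (eq_one_of_inv_fix (odd_orderOf c.mc.core_odd (c.mc.fq_le_core hp hp2 hyA)) hinv hzy)
  · -- the image is the line
    refine hsX fun x hx => ?_
    have hep : e ∈ Subgroup.zpowers y := he ▸ mul_mem (Subgroup.mem_zpowers y)
      (hvy ▸ zpow_mem (Subgroup.mem_zpowers y) i)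
    have heX : e ∈ X := by
      rw [hX]
      refine (mem_om habD).2 ⟨⟨he ▸ mul_mem hyA (conj_fq hp c.vC.2 hyA), Subgroup.mem_centralizer_singleton_iff.2 hev⟩, ?_⟩
      obtain ⟨j, rfl⟩ := Subgroup.mem_zpowers_iff.1 hep
      rw [← zpow_natCast, ← zpow_mul, mul_comm, zpow_mul, zpow_natCast, hyp, one_zpow]
    have hyX : y ∈ X := by
      have h1 : Subgroup.zpowers e = Subgroup.zpowers y := Subgroup.eq_of_le_of_card_ge (Subgroup.zpowers_le.2 hep)
        (by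
          rw [Nat.card_zpowers, Nat.card_zpowers, orderOf_eq_prime hyp hy1,
            orderOf_eq_prime ((mem_om habD).1 (hX ▸ heX)).2 he1])
      exact Subgroup.zpowers_le.2 heX (h1.ge (Subgroup.mem_zpowers y))
    obtain ⟨j, rfl⟩ := Subgroup.mem_zpowers_iff.1 (hgen x hx)
    rw [← conj_zpow, ← hy]
    exact zpow_mem hyX j

end Cfsg.Agent.GW
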