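import Mathlib

/-!
# The arithmetic ending the rotation case

`x - δ = 2^i q l (r - ε)` with `r ∣ x` or `r ∣ x + δ` and `(r + ε) / 2 ∣ l x (x + δ)` is impossible.
-/

set_option autoImplicit false

namespace Cfsg.Agent.GW

/-- If `r f = δ - A ε` with `A ≤ q (q + 1)` small against `r ≡ ε (mod q)`, then `δ = -1` and `r = A + ε`. -/
theorem case_q_pin {q r : ℕ} {A f ε δ : ℤ} (hq : 3 ≤ q) (hr : 4 * (q : ℤ) - 1 ≤ r) (hA : 2 ≤ A)
    (hA' : A ≤ q * (q + 1)) (hqA : (q : ℤ) ∣ A) (hqr : (q : ℤ) ∣ r - ε) (hε : ε = 1 ∨ ε = -1) (hδ : δ = 1 ∨ δ = -1)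
    (h : δ - A * ε = r * f) : δ = -1 ∧ (r : ℤ) = A + ε := by
  have hq3 : (3 : ℤ) ≤ q := by exact_mod_cast hq
  have hf : |f| ≤ q - 2 := by
    by_contra hcon
    push Not at hcon
    have h1 : |(r : ℤ) * f| ≤ A + 1 := by
      rw [← h]
      rcases hε with rfl | rfl <;> rcases hδ with rfl | rfl <;> rw [abs_le] <;> omega
    rw [abs_mul, abs_of_nonneg (by omega : (0 : ℤ) ≤ r)] at h1
    nlinarith [abs_nonneg f]
  have hd : (q : ℤ) ∣ δ - ε * f := by
    have : δ - ε * f = A * ε + ((r : ℤ) - ε) * f := by linear_combination h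
    rw [this]
    exact dvd_add (hqA.mul_right ε) (hqr.mul_right f)
  have h0 : δ - ε * f = 0 := by
    refine Int.eq_zero_of_abs_lt_dvd hd ?_
    rw [abs_le] at hf
    rcases hε with rfl | rfl <;> rcases hδ with rfl | rfl <;> rw [abs_lt] <;> omega
  rcases hε with rfl | rfl <;> rcases hδ with rfl | rfl
  · exfalso; obtain rfl : f = 1 := by omega
    omega
  · obtain rfl : f = -1 := by omega
    omega
  · exfalso; obtain rfl : f = -1 := by omega
    omega
  · obtain rfl : f = 1 := by omega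
    omega

/-- **piece A of the rotation case** -/
theorem case_q_arith {q l i j r T : ℕ} {x e d : ℤ} (hq : q.Prime) (hq2 : q ≠ 2) (hl : Odd l) (hi : 1 ≤ i) (hj : 2 ≤ j)
    (hT : Odd T) (hqT : q ∣ T) (he : e = 1 ∨ e = -1) (hd : d = 1 ∨ d = -1) (hrT : (r : ℤ) - e = 2 ^ j * T)
    (hdiv : 2 ^ i * l ∣ q - 1 ∨ 2 ^ i * l ∣ q + 1) (hx : x - d = 2 ^ i * q * l * ((r : ℤ) - e))
    (hr : (r : ℤ) ∣ x ∨ (r : ℤ) ∣ x + d) (hm : (r : ℤ) + e ∣ 2 * (l * x * (x + d))) : False := by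
  have hq3 : 3 ≤ q := by have := hq.two_le; omega
  have hl1 : 1 ≤ l := hl.pos
  have hle : 2 ^ i * l ≤ q + 1 := by
    rcases hdiv with h | h
    · have := Nat.le_of_dvd (by omega) h; omega
    · exact Nat.le_of_dvd (by omega) h
  obtain ⟨A, hAdef⟩ : ∃ A : ℤ, A = 2 ^ i * q * l := ⟨_, rfl⟩
  rw [← hAdef] at hx
  obtain ⟨a, ha⟩ : ∃ a : ℤ, a = 2 ^ (i - 1) * q * l := ⟨_, rfl⟩
  have hAa : A = 2 * a := by
    rw [hAdef, ha, show (2 : ℤ) ^ i = 2 * 2 ^ (i - 1) by rw [← pow_succ']; congr 1; omega]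
    ring
  have hA' : A ≤ q * (q + 1) := by
    have : ((2 ^ i * l : ℕ) : ℤ) ≤ ((q + 1 : ℕ) : ℤ) := by exact_mod_cast hle
    push_cast at this
    rw [hAdef]
    nlinarith
  have ha3 : 3 ≤ a := by
    have : (3 : ℤ) * 1 * 1 ≤ 2 ^ (i - 1) * q * l := by
      have h1 : (1 : ℤ) ≤ 2 ^ (i - 1) := one_le_pow₀ (by norm_num)
      have h2 : (3 : ℤ) ≤ q := by exact_mod_cast hq3
      have h3 : (1 : ℤ) ≤ l := by exact_mod_cast hl1
      have := mul_le_mul h1 h2 (by norm_num) (by positivity)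
      nlinarith
    omega
  have hqa : (q : ℤ) ∣ a := ha ▸ (dvd_mul_left (q : ℤ) _).mul_right _
  have hqr : (q : ℤ) ∣ r - e := hrT ▸ (Int.natCast_dvd_natCast.2 hqT).mul_left _
  have hr4 : (4 : ℤ) ∣ r - e := hrT ▸ ((pow_dvd_pow (2 : ℤ) hj).mul_right _)
  have hr' : 4 * (q : ℤ) - 1 ≤ r := by
    have h1 : ((q : ℤ)) ≤ T := by exact_mod_cast Nat.le_of_dvd hT.pos hqT
    have h2 : (4 : ℤ) ≤ 2 ^ j := le_trans (by norm_num) (pow_le_pow_right₀ (by norm_num) hj)
    have h3 : 4 * (q : ℤ) ≤ 2 ^ j * T := mul_le_mul h2 h1 (by positivity) (by positivity)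
    omega
  have hq3' : (3 : ℤ) ≤ q := by exact_mod_cast hq3
  have hrodd : Odd (r : ℤ) := by
    obtain ⟨c, hc⟩ := hr4
    rcases he with rfl | rfl
    · exact ⟨2 * c, by omega⟩
    · exact ⟨2 * c - 1, by omega⟩
  have hcopl : ∀ b : ℤ, (l : ℤ) ∣ b → IsCoprime (b + e) (l : ℤ) := by
    rintro b ⟨c, rfl⟩
    exact ⟨e, -(e * c), by rcases he with rfl | rfl <;> ring⟩
  rcases hr with h | h
  · -- `r ∣ x`
    obtain ⟨f, hf⟩ : (r : ℤ) ∣ d - A * e := by
      have : d - A * e = x - A * r := by linear_combination -hx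
      rw [this]
      exact dvd_sub h (dvd_mul_left _ _)
    obtain ⟨rfl, hre⟩ := case_q_pin hq3 hr' (by omega) hA' (hAa ▸ hqa.mul_left 2) hqr he hd hf
    have hxe : x = A * A - 1 := by rw [hre] at hx; linear_combination hx
    obtain ⟨b, hb⟩ : (2 : ℤ) ∣ a := by
      obtain ⟨c, hc⟩ := hr4; exact ⟨c, by omega⟩
    have h12 : a + e ∣ 6 * (l : ℤ) := by
      have key : 2 * (a + e) ∣ 2 * (6 * (l : ℤ)) := by
        rw [hre, hxe, hAa] at hm
        have e1 : 2 * (6 * (l : ℤ)) = 2 * (↑l * (2 * a * (2 * a) - 1) * (2 * a * (2 * a) - 1 + -1)) -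
            2 * (a + e) * (4 * (a - e) * l * (4 * a * a + 1)) := by
          rcases he with rfl | rfl <;> ring
        rw [e1]
        exact dvd_sub (by rwa [show 2 * (a + e) = 2 * a + e + e by ring]) (dvd_mul_right _ _)
      exact (mul_dvd_mul_iff_left (two_ne_zero : (2 : ℤ) ≠ 0)).1 key
    have h6 : a + e ∣ 3 := by
      have h1 := (hcopl a (ha ▸ dvd_mul_left _ _)).dvd_of_dvd_mul_right h12
      have h2 : IsCoprime (a + e) 2 := ⟨e, -(e * b), by rcases he with rfl | rfl <;> subst hb <;> ring⟩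
      exact h2.dvd_of_dvd_mul_left (by simpa using h1)
    have := Int.le_of_dvd (by norm_num) h6
    have hb3 : (q : ℤ) ∣ b := by
      refine (Int.Prime.dvd_mul' hq (show ((q : ℕ) : ℤ) ∣ 2 * b from hb ▸ hqa)).resolve_left fun h2 => ?_
      have := Int.le_of_dvd two_pos h2
      omega
    have := Int.le_of_dvd (by omega) hb3
    omega
  · -- `r ∣ x + δ`
    obtain ⟨g, hg⟩ : (r : ℤ) ∣ 2 * d - A * e := by
      have : 2 * d - A * e = x + d - A * r := by linear_combination -hx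
      rw [this]
      exact dvd_sub h (dvd_mul_left _ _)
    obtain ⟨f, rfl⟩ : (2 : ℤ) ∣ g := by
      have h2 : Even ((r : ℤ) * g) := ⟨d - a * e, by rw [← hg, hAa]; ring⟩
      exact ((Int.even_mul.1 h2).resolve_left (Int.not_even_iff_odd.2 hrodd)).two_dvd
    obtain ⟨rfl, hre⟩ := case_q_pin hq3 hr' (by omega) (by omega) hqa hqr he hd
      (show d - a * e = r * f by rw [hAa] at hg; linarith)
    have hxe : x = 2 * a * a - 1 := by rw [hre, hAa] at hx; linear_combination hx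
    obtain ⟨b, hb⟩ : (4 : ℤ) ∣ a := by
      obtain ⟨c, hc⟩ := hr4; exact ⟨c, by omega⟩
    have hi3 : 3 ≤ i := by
      by_contra hi3
      have hodd : ¬ (4 : ℤ) ∣ a := by
        obtain ⟨u, hu⟩ := (hq.odd_of_ne_two hq2).mul hl
        rw [ha]
        rcases (show i - 1 = 0 ∨ i - 1 = 1 by omega) with h | h <;> rw [h] <;>
          rintro ⟨c, hc⟩ <;> rw [mul_assoc, ← Nat.cast_mul, hu] at hc <;> push_cast at hc <;> omega
      exact hodd ⟨b, hb⟩
    have h21 : 2 * b + e ∣ 21 := by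
      have hm' : 2 * (2 * b + e) ∣ 2 * (42 * (l : ℤ)) := by
        rw [hre, hxe, hb] at hm
        have e1 : 2 * (42 * (l : ℤ)) = 2 * (↑l * (2 * (4 * b) * (4 * b) - 1) * (2 * (4 * b) * (4 * b) - 1 + -1)) -
            2 * (2 * b + e) * (8 * (2 * b - e) * l * ((2 * (4 * b) * (4 * b) - 2) + 7)) := by
          rcases he with rfl | rfl <;> ring
        rw [e1]
        exact dvd_sub (by rwa [show 2 * (2 * b + e) = 4 * b + e + e by ring]) (dvd_mul_right _ _)
      have h1 := (mul_dvd_mul_iff_left (two_ne_zero : (2 : ℤ) ≠ 0)).1 hm'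
      have hbl : (l : ℤ) ∣ 2 * b := by
        refine IsCoprime.dvd_of_dvd_mul_left (y := 2) ?_ (show (l : ℤ) ∣ 2 * (2 * b) by
          rw [← mul_assoc, show (2 : ℤ) * 2 * b = a by rw [hb]; ring, ha]; exact dvd_mul_left _ _)
        obtain ⟨c, hc⟩ := hl
        exact ⟨1, -(c : ℤ), by rw [hc]; push_cast; ring⟩
      have h2 := (hcopl (2 * b) hbl).dvd_of_dvd_mul_right h1
      have h3 : IsCoprime (2 * b + e) 2 := ⟨e, -(e * b), by rcases he with rfl | rfl <;> ring⟩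
      exact h3.dvd_of_dvd_mul_left (show 2 * b + e ∣ 2 * 21 from by simpa using h2)
    have hB := Int.le_of_dvd (by norm_num) h21
    have h8 : 8 ∣ q - 1 ∨ 8 ∣ q + 1 := by
      have h8' : 8 ∣ 2 ^ i * l := dvd_mul_of_dvd_left (pow_dvd_pow 2 hi3) l
      exact hdiv.imp h8'.trans h8'.trans
    have hbq : 2 * b = 2 ^ (i - 2) * q * l := by
      have : (2 : ℤ) ^ (i - 1) = 2 * 2 ^ (i - 2) := by rw [← pow_succ']; congr 1; omega
      rw [this] at ha
      linarith [ha, hb]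
    obtain ⟨w, hw⟩ : ∃ w, i - 2 = w + 1 := ⟨i - 3, by omega⟩
    rw [hw, pow_succ] at hbq
    have hbn : b = ((2 ^ w * q * l : ℕ) : ℤ) := by push_cast; linarith
    have hbig : 7 * (2 ^ w * l) ≤ 2 ^ w * q * l := by
      calc 7 * (2 ^ w * l) ≤ q * (2 ^ w * l) := Nat.mul_le_mul_right _ (by omega)
        _ = _ := by ring
    have hb11 : 2 ^ w * q * l ≤ 11 := by rw [hbn] at hB; omega
    have hwl : 2 ^ w * l = 1 := by
      have : 1 ≤ 2 ^ w * l := Nat.mul_pos (Nat.two_pow_pos w) hl1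
      omega
    have : b = (q : ℤ) := by rw [hbn, mul_right_comm, hwl, one_mul]
    subst this
    have hq11 : q ≤ 11 := by omega
    interval_cases q <;> norm_num at h8 <;> rcases he with rfl | rfl <;> norm_num at h21

/-- **the mixed case**: `2 h = 1 + l` in place of `l`, `l ∣ (q - 1) / 2`, `i ≤ 2` -/
theorem case_q_arith_mixed {q l h i j r T : ℕ} {x e d : ℤ} (hq : q.Prime) (hq2 : q ≠ 2) (hl : l ∣ (q - 1) / 2)
    (hh : 2 * h = 1 + l) (hi : 1 ≤ i) (hi2 : i ≤ 2) (hj : 2 ≤ j) (hT : Odd T) (hqT : q ∣ T) (he : e = 1 ∨ e = -1)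
    (hd : d = 1 ∨ d = -1) (hrT : (r : ℤ) - e = 2 ^ j * T) (hx : x - d = 2 ^ i * q * h * ((r : ℤ) - e))
    (hr : (r : ℤ) ∣ x ∨ (r : ℤ) ∣ x + d) (hm : (r : ℤ) + e ∣ 2 * (x * (x + d))) : False := by
  have hq3 : 3 ≤ q := by have := hq.two_le; omega
  have hl' : l ≤ (q - 1) / 2 := Nat.le_of_dvd (by omega) hl
  have h2i : (2 : ℤ) ^ i = 2 ∨ (2 : ℤ) ^ i = 4 := by
    rcases (show i = 1 ∨ i = 2 by omega) with rfl | rfl <;> norm_num
  obtain ⟨A, hAdef⟩ : ∃ A : ℤ, A = 2 ^ i * q * h := ⟨_, rfl⟩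
  rw [← hAdef] at hx
  obtain ⟨a, ha⟩ : ∃ a : ℤ, a = 2 ^ (i - 1) * q * h := ⟨_, rfl⟩
  have hAa : A = 2 * a := by
    rw [hAdef, ha, show (2 : ℤ) ^ i = 2 * 2 ^ (i - 1) by rw [← pow_succ']; congr 1; omega]
    ring
  have hh1 : (1 : ℤ) ≤ h := by exact_mod_cast (show 1 ≤ h by omega)
  have hA' : A ≤ q * (q + 1) := by
    have : 4 * (h : ℤ) ≤ q + 1 := by exact_mod_cast (show 4 * h ≤ q + 1 by omega)
    rcases h2i with h2 | h2 <;> rw [hAdef, h2] <;> nlinarith
  have hq3' : (3 : ℤ) ≤ q := by exact_mod_cast hq3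
  have ha3 : 3 ≤ a := by
    rcases h2i with h2 | h2 <;> rw [hAa] at hAdef <;> rw [h2] at hAdef <;> nlinarith
  have hqa : (q : ℤ) ∣ a := ha ▸ (dvd_mul_left (q : ℤ) _).mul_right _
  have hqr : (q : ℤ) ∣ r - e := hrT ▸ (Int.natCast_dvd_natCast.2 hqT).mul_left _
  have hr4 : (4 : ℤ) ∣ r - e := hrT ▸ ((pow_dvd_pow (2 : ℤ) hj).mul_right _)
  have hr' : 4 * (q : ℤ) - 1 ≤ r := by
    have h1 : ((q : ℤ)) ≤ T := by exact_mod_cast Nat.le_of_dvd hT.pos hqT
    have h2 : (4 : ℤ) ≤ 2 ^ j := le_trans (by norm_num) (pow_le_pow_right₀ (by norm_num) hj)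
    have h3 : 4 * (q : ℤ) ≤ 2 ^ j * T := mul_le_mul h2 h1 (by positivity) (by positivity)
    omega
  have hrodd : Odd (r : ℤ) := by
    obtain ⟨c, hc⟩ := hr4
    rcases he with rfl | rfl
    · exact ⟨2 * c, by omega⟩
    · exact ⟨2 * c - 1, by omega⟩
  rcases hr with h1 | h1
  · -- `r ∣ x`
    obtain ⟨f, hf⟩ : (r : ℤ) ∣ d - A * e := by
      have : d - A * e = x - A * r := by linear_combination -hx
      rw [this]
      exact dvd_sub h1 (dvd_mul_left _ _)
    obtain ⟨rfl, hre⟩ := case_q_pin hq3 hr' (by omega) hA' (hAa ▸ hqa.mul_left 2) hqr he hd hf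
    have hxe : x = A * A - 1 := by rw [hre] at hx; linear_combination hx
    obtain ⟨b, hb⟩ : (2 : ℤ) ∣ a := by
      obtain ⟨c, hc⟩ := hr4; exact ⟨c, by omega⟩
    have key : 2 * (a + e) ∣ 2 * 6 := by
      rw [hre, hxe, hAa] at hm
      have e1 : (2 : ℤ) * 6 = 2 * ((2 * a * (2 * a) - 1) * (2 * a * (2 * a) - 1 + -1)) -
          2 * (a + e) * (4 * (a - e) * (4 * a * a + 1)) := by
        rcases he with rfl | rfl <;> ring
      rw [e1]
      exact dvd_sub (by rwa [show 2 * (a + e) = 2 * a + e + e by ring]) (dvd_mul_right _ _)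
    have h12 := (mul_dvd_mul_iff_left (two_ne_zero : (2 : ℤ) ≠ 0)).1 key
    have h2 : IsCoprime (a + e) 2 := ⟨e, -(e * b), by rcases he with rfl | rfl <;> subst hb <;> ring⟩
    have h3 := Int.le_of_dvd (by norm_num) (h2.dvd_of_dvd_mul_left (show a + e ∣ 2 * 3 from by simpa using h12))
    have hb3 : (q : ℤ) ∣ b := by
      refine (Int.Prime.dvd_mul' hq (show ((q : ℕ) : ℤ) ∣ 2 * b from hb ▸ hqa)).resolve_left fun h2 => ?_
      have := Int.le_of_dvd two_pos h2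
      omega
    have := Int.le_of_dvd (by omega) hb3
    omega
  · -- `r ∣ x + δ`
    obtain ⟨g, hg⟩ : (r : ℤ) ∣ 2 * d - A * e := by
      have : 2 * d - A * e = x + d - A * r := by linear_combination -hx
      rw [this]
      exact dvd_sub h1 (dvd_mul_left _ _)
    obtain ⟨f, rfl⟩ : (2 : ℤ) ∣ g := by
      have h2 : Even ((r : ℤ) * g) := ⟨d - a * e, by rw [← hg, hAa]; ring⟩
      exact ((Int.even_mul.1 h2).resolve_left (Int.not_even_iff_odd.2 hrodd)).two_dvd
    obtain ⟨rfl, hre⟩ := case_q_pin hq3 hr' (by omega) (by omega) hqa hqr he hd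
      (show d - a * e = r * f by rw [hAa] at hg; linarith)
    have hxe : x = 2 * a * a - 1 := by rw [hre, hAa] at hx; linear_combination hx
    obtain ⟨b, hb⟩ : (4 : ℤ) ∣ a := by
      obtain ⟨c, hc⟩ := hr4; exact ⟨c, by omega⟩
    have hm' : 2 * (2 * b + e) ∣ 2 * 42 := by
      rw [hre, hxe, hb] at hm
      have e1 : (2 : ℤ) * 42 = 2 * ((2 * (4 * b) * (4 * b) - 1) * (2 * (4 * b) * (4 * b) - 1 + -1)) -
          2 * (2 * b + e) * (8 * (2 * b - e) * ((2 * (4 * b) * (4 * b) - 2) + 7)) := by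
        rcases he with rfl | rfl <;> ring
      rw [e1]
      exact dvd_sub (by rwa [show 2 * (2 * b + e) = 4 * b + e + e by ring]) (dvd_mul_right _ _)
    have h3 : IsCoprime (2 * b + e) 2 := ⟨e, -(e * b), by rcases he with rfl | rfl <;> ring⟩
    have h21 : 2 * b + e ∣ 21 := h3.dvd_of_dvd_mul_left
      (show 2 * b + e ∣ 2 * 21 from by simpa using (mul_dvd_mul_iff_left (two_ne_zero : (2 : ℤ) ≠ 0)).1 hm')
    have hB := Int.le_of_dvd (by norm_num) h21
    have hqb : (q : ℤ) ∣ b := by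
      refine (Int.Prime.dvd_mul' hq (show ((q : ℕ) : ℤ) ∣ 4 * b from hb ▸ hqa)).resolve_left fun h2 => ?_
      have h4 : q ∣ 4 := Int.natCast_dvd_natCast.1 h2
      exact hq2 ((Nat.prime_dvd_prime_iff_eq hq Nat.prime_two).1
        (hq.dvd_of_dvd_pow (show q ∣ 2 ^ 2 by simpa using h4)))
    have hqle := Int.le_of_dvd (by omega) hqb
    have hb11 : b ≤ 11 := by omega
    have hval : 8 * b = 2 ^ i * q * h := by rw [← hAdef, hAa, hb]; ring
    have hq11 : q ≤ 11 := by omega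
    have hl5 : l ≤ 5 := by omega
    have hq' : q = 3 ∨ q = 5 ∨ q = 7 ∨ q = 11 := by
      interval_cases q <;> first | omega | exact absurd hq (by norm_num)
    have hlh : h ≤ 3 := by omega
    rcases hq' with rfl | rfl | rfl | rfl <;> norm_num at hl hl' <;> interval_cases l <;> first
      | omega
      | (interval_cases h <;> first
          | omega
          | (rcases h2i with h2 | h2 <;> rw [h2] at hval <;> first
              | (norm_num at hval; omega)
              | (obtain ⟨c, rfl⟩ := hqb; norm_num at hval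
                 obtain rfl : c = 1 := by omega
                 rcases he with rfl | rfl <;> norm_num at h21)))

end Cfsg.Agent.GW
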