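import Mathlib

/-!
# The arithmetic of the two tori

`torus_not_dvd`: with `q = p ^ f` odd, the odd half-torus does not divide the other torus times a divisor of `f`.
-/

set_option autoImplicit false

namespace Cfsg.Agent.GW

theorem lt_half_pow {p f : ℕ} (hp : 3 ≤ p) (hf : 1 ≤ f) (h4 : 5 ≤ p ^ f) : f < (p ^ f - 1) / 2 := by
  rcases Nat.lt_or_ge f 2 with h | h
  · have hf1 : f = 1 := by omega
    subst hf1
    rw [pow_one] at h4 ⊢
    omega
  · have h3 : 3 ^ f ≤ p ^ f := Nat.pow_le_pow_left hp f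
    have key : ∀ n : ℕ, 2 ≤ n → 2 * n + 3 ≤ 3 ^ n := by
      intro n hn
      induction n with
      | zero => omega
      | succ n ih =>
        rcases Nat.lt_or_ge n 2 with h | h
        · have : n = 1 := by omega
          subst this
          norm_num
        · have := ih h
          rw [pow_succ]
          omega
    have := key f h
    omega

/-- The odd half-torus of one sign divides no multiple of the other torus by a divisor of `f`. -/
theorem torus_not_dvd {p f r s φ : ℕ} (hp : 3 ≤ p) (hf : 1 ≤ f) (h4 : 5 ≤ p ^ f) (hr : Odd r)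
    (hrs : (2 * r = p ^ f + 1 ∧ s = p ^ f - 1) ∨ (2 * r = p ^ f - 1 ∧ s = p ^ f + 1)) (hφ : φ ∣ f) :
    ¬ r ∣ 2 * s * φ := by
  intro h
  have h1 : Nat.Coprime r (2 * s) := by
    refine Nat.Coprime.mul_right (Nat.coprime_two_right.2 hr) ?_
    refine Nat.coprime_of_dvd fun k hk hkr hks => ?_
    have hk2 : k ∣ 2 := by
      rcases hrs with ⟨e1, e2⟩ | ⟨e1, e2⟩
      · have h' : k ∣ 2 * r - s := Nat.dvd_sub (hkr.mul_left 2) hks
        rwa [show 2 * r - s = 2 by omega] at h'
      · have h' : k ∣ s - 2 * r := Nat.dvd_sub hks (hkr.mul_left 2)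
        rwa [show s - 2 * r = 2 by omega] at h'
    rw [(Nat.prime_dvd_prime_iff_eq hk Nat.prime_two).1 hk2] at hkr
    exact Nat.not_even_iff_odd.2 hr (even_iff_two_dvd.2 hkr)
  have h2 := Nat.le_of_dvd (by omega) ((h1.dvd_of_dvd_mul_left h).trans hφ)
  have h3 := lt_half_pow hp hf h4
  rcases hrs with ⟨e1, -⟩ | ⟨e1, -⟩ <;> omega

end Cfsg.Agent.GW
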