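import Cfsg.Agent.Lib.GW.LayerTorus
import Cfsg.Agent.Lib.GW.TorusArith

/-!
# Inner and outer involutions of an almost simple group over `PSL₂(q)`

`psl_pgl`: the centralisers in `L` of an inner involution and of a commuting outer one have orders `s` and `2 r`, the two
numbers `q ± 1`, with `r` odd.  `odd_two_invols`: two involutions centralise no common odd element of `L`.
-/

set_option autoImplicit false
set_option linter.unusedSectionVars false
set_option linter.style.haveILetI false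

namespace Cfsg.Agent.GW

open Cfsg Cfsg.Agent Cfsg.Agent.GW.Reduced Cfsg.Agent.Small

universe u

variable {X : Type u} [Group X] [Finite X] {F : Type} [Field F] [Fintype F]

local notation "P2" => Matrix.ProjectiveSpecialLinearGroup (Fin 2) F

/-- involutions act as inner-diagonal automorphisms; the conjugation homomorphism is injective -/
theorem psl_action (h2 : (2 : F) ≠ 0) (h5 : 5 ≤ Fintype.card F) {L : Subgroup X} [L.Normal] (i : L ≃* P2)
    (hC : Subgroup.centralizer (L : Set X) = ⊥)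
    (hS : ∀ P : Sylow 2 X, ∃ m, 2 ≤ m ∧ Nonempty ((P : Subgroup X) ≃* DihedralGroup m)) :
    ∃ Θ : X →* MulAut P2, Function.Injective Θ ∧
      (∀ (y : L) (x : X), Commute (y : X) x ↔ Θ x (i y) = i y) ∧
      ∀ c : X, c * c = 1 → c ≠ 1 → ∃ h : GL (Fin 2) F, Θ c = PSL2.conjP h ∧
        PSL2.conjP h ≠ 1 ∧ PSL2.conjP h * PSL2.conjP h = 1 := by
  classical
  let Θ : X →* MulAut P2 := (MulAut.congr i).toMonoidHom.comp (MulAut.conjNormal : X →* MulAut L)
  have hinjN : Function.Injective (MulAut.conjNormal : X →* MulAut L) := by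
    rw [injective_iff_map_eq_one]
    intro x hx
    have : x ∈ Subgroup.centralizer (L : Set X) := Subgroup.mem_centralizer_iff.2 fun l hl => by
      have h := congrArg Subtype.val (DFunLike.congr_fun hx (⟨l, hl⟩ : L))
      simp only [MulAut.conjNormal_apply, MulAut.one_apply] at h
      exact (mul_inv_eq_iff_eq_mul.1 h).symm
    rwa [hC, Subgroup.mem_bot] at this
  have hinj : Function.Injective Θ := (MulAut.congr i).injective.comp hinjN
  have hinner : ∀ y : L, Θ (y : X) = MulAut.conj (i y) := by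
    intro y
    ext z
    obtain ⟨w, rfl⟩ := i.surjective z
    simp [Θ, MulAut.congr, ← map_inv, ← map_mul]
    rfl
  have hmemL : ∀ {x : X} {m : P2}, Θ x = MulAut.conj m → x ∈ L ∧ ∃ y : L, (y : X) = x ∧ i y = m := by
    intro x m hm
    obtain ⟨y, rfl⟩ := i.surjective m
    have : (y : X) = x := hinj ((hinner y).trans hm.symm)
    exact ⟨this ▸ y.2, y, this, rfl⟩
  have hcommL : ∀ (y : L) (x : X), Θ x (i y) = i y → Commute (y : X) x := by
    intro y x h
    refine hinj ?_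
    rw [map_mul, map_mul, hinner]
    ext z
    simp [MulAut.mul_apply, h]
  have hfixL : ∀ (y : L) (x : X), Commute (y : X) x → Θ x (i y) = i y := fun y x h =>
    Psl.fixed_of_commute h5 (hinner y ▸ (h.symm.map Θ))
  -- involutions are inner-diagonal
  have hdiag : ∀ c : X, c * c = 1 → c ≠ 1 → ∃ h : GL (Fin 2) F, Θ c = PSL2.conjP h ∧
      PSL2.conjP h ≠ 1 ∧ PSL2.conjP h * PSL2.conjP h = 1 := by
    intro c hc hc1
    have hΘ : Θ c * Θ c = 1 := by rw [← map_mul, hc, map_one]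
    have hne1 : Θ c ≠ 1 := fun e => hc1 (hinj (e.trans (map_one Θ).symm))
    suffices h : ∃ h : GL (Fin 2) F, Θ c = PSL2.conjP h by
      obtain ⟨h, hh⟩ := h
      exact ⟨h, hh, hh ▸ hne1, hh ▸ hΘ⟩
    rcases Psl.inndiag_or_four h2 hΘ with h | ⟨m₁, m₂, q₁, q₂, n₁, n₂, hne, hcm, f₁, f₂⟩
    · exact h
    obtain ⟨y₁, rfl⟩ := i.surjective m₁
    obtain ⟨y₂, rfl⟩ := i.surjective m₂
    have hsq : ∀ y : L, i y * i y = 1 → (y : X) * y = 1 := fun y h => by
      rw [← map_mul, ← map_one i] at h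
      exact congrArg Subtype.val (i.injective h)
    have hone : ∀ y : L, i y ≠ 1 → (y : X) ≠ 1 := fun y h e => h (by
      rw [show y = 1 from Subtype.ext e, map_one])
    have hcL : c ∈ L := by
      by_cases h1 : c = y₁
      · exact h1 ▸ y₁.2
      by_cases h2' : c = y₂
      · exact h2' ▸ y₂.2
      have := three_involutions hS (hsq y₁ q₁) (hsq y₂ q₂) hc (hone y₁ n₁) (hone y₂ n₂) hc1
        (fun e => hne (congrArg i (Subtype.ext e))) (fun e => h1 e.symm) (fun e => h2' e.symm)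
        (congrArg Subtype.val (i.injective (a₁ := y₁ * y₂) (a₂ := y₂ * y₁) (by rw [map_mul, map_mul]; exact hcm.eq)))
        (hcommL y₁ c f₁) (hcommL y₂ c f₂)
      exact this ▸ mul_mem y₁.2 y₂.2
    obtain ⟨A, hA⟩ := PSL2.pr_surjective (i ⟨c, hcL⟩)
    exact ⟨Matrix.SpecialLinearGroup.toGL A, by rw [PSL2.conjP_toGL, hA, ← hinner]⟩
  exact ⟨Θ, hinj, fun y x => ⟨hfixL y x, hcommL y x⟩, hdiag⟩

/-- two distinct involutions centralise no common element of odd order of `L` -/
theorem odd_two_invols (h2 : (2 : F) ≠ 0) (h5 : 5 ≤ Fintype.card F) {L : Subgroup X} [L.Normal] (i : L ≃* P2)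
    (hC : Subgroup.centralizer (L : Set X) = ⊥)
    (hS : ∀ P : Sylow 2 X, ∃ m, 2 ≤ m ∧ Nonempty ((P : Subgroup X) ≃* DihedralGroup m))
    {c c' : X} (hc : c * c = 1) (hc1 : c ≠ 1) (hc' : c' * c' = 1) (hc1' : c' ≠ 1) (hne : c ≠ c')
    {y : X} (hy : y ∈ L) (hodd : Odd (orderOf y)) (h : Commute y c) (h' : Commute y c') : y = 1 := by
  obtain ⟨Θ, hinj, hfix, hdiag⟩ := psl_action h2 h5 i hC hS
  by_contra hy1
  obtain ⟨g₁, e₁, n₁, q₁⟩ := hdiag c hc hc1
  obtain ⟨g₂, e₂, n₂, q₂⟩ := hdiag c' hc' hc1'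
  refine hne (hinj ?_)
  rw [e₁, e₂]
  refine Psl.inndiag_unique h2 n₁ q₁ n₂ q₂ (x := i ⟨y, hy⟩) (fun e => hy1 ?_) (e₁ ▸ (hfix ⟨y, hy⟩ c).1 h)
    (e₂ ▸ (hfix ⟨y, hy⟩ c').1 h')
  rw [← map_mul, ← map_one i] at e
  exact orderOf_eq_one_iff.1 (Nat.eq_one_of_dvd_coprimes hodd.coprime_two_left
    (orderOf_dvd_of_pow_eq_one (by rw [pow_two]; exact congrArg Subtype.val (i.injective e))) dvd_rfl)

/-- the centraliser of an involution in `L`: a dihedral group of order `q ± 1` -/
theorem psl_cent (h2 : (2 : F) ≠ 0) (h5 : 5 ≤ Fintype.card F) {L : Subgroup X} [L.Normal] (i : L ≃* P2)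
    (hC : Subgroup.centralizer (L : Set X) = ⊥)
    (hS : ∀ P : Sylow 2 X, ∃ m, 2 ≤ m ∧ Nonempty ((P : Subgroup X) ≃* DihedralGroup m))
    {a : X} (ha : a * a = 1) (ha1 : a ≠ 1) :
    ∃ (k : ℕ) (f : DihedralGroup k →* X), 2 ≤ k ∧ (2 * k = Fintype.card F - 1 ∨ 2 * k = Fintype.card F + 1) ∧
      Function.Injective f ∧ ∀ x : X, x ∈ f.range ↔ x ∈ Subgroup.centralizer ({a} : Set X) ⊓ L := by
  classical
  haveI : Finite P2 := Finite.of_surjective _ PSL2.pr_surjective
  obtain ⟨Θ, hinj, hfix, hdiag⟩ := psl_action h2 h5 i hC hS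
  obtain ⟨h, eh, hh, hhh⟩ := hdiag a ha ha1
  obtain ⟨D, k, hk2, hk, ⟨e⟩, hD⟩ := Psl.fix_group h2 h5 hh hhh
  refine ⟨k, L.subtype.comp (i.symm.toMonoidHom.comp (D.subtype.comp e.symm.toMonoidHom)), hk2, hk,
    L.subtype_injective.comp (i.symm.injective.comp (D.subtype_injective.comp e.symm.injective)), fun x => ?_⟩
  constructor
  · rintro ⟨d, rfl⟩
    refine ⟨Subgroup.mem_centralizer_singleton_iff.2 ((hfix _ a).2 ?_).eq, Subtype.coe_prop _⟩
    rw [eh, MonoidHom.comp_apply, MulEquiv.coe_toMonoidHom, MulEquiv.apply_symm_apply]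
    exact (hD _).2 (Subtype.coe_prop _)
  · rintro ⟨hxa, hxL⟩
    have hd : i ⟨x, hxL⟩ ∈ D :=
      (hD _).1 (eh ▸ (hfix ⟨x, hxL⟩ a).1 (Subgroup.mem_centralizer_singleton_iff.1 hxa))
    exact ⟨e ⟨_, hd⟩, by simp⟩

/-- the numbers of a configuration with an outer involution -/
theorem psl_pgl (h2 : (2 : F) ≠ 0) (h5 : 5 ≤ Fintype.card F) {L : Subgroup X} [L.Normal] (i : L ≃* P2)
    (hC : Subgroup.centralizer (L : Set X) = ⊥)
    (hS : ∀ P : Sylow 2 X, ∃ m, 2 ≤ m ∧ Nonempty ((P : Subgroup X) ≃* DihedralGroup m))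
    {a w : X} (ha : a * a = 1) (ha1 : a ≠ 1) (haL : a ∈ L) (hw : w * w = 1) (hw1 : w ≠ 1) (hwL : w ∉ L) :
    ∃ r s : ℕ, Odd r ∧ 3 ≤ r ∧
      ((2 * r = Fintype.card F + 1 ∧ s = Fintype.card F - 1) ∨ (2 * r = Fintype.card F - 1 ∧ s = Fintype.card F + 1)) ∧
      Nat.card L = Fintype.card F * s * r ∧
      Nat.card (Subgroup.centralizer ({a} : Set X) ⊓ L : Subgroup X) = s ∧
      Nat.card (Subgroup.centralizer ({w} : Set X) ⊓ L : Subgroup X) = 2 * r ∧
      ∃ y ∈ L, Commute y w ∧ orderOf y = r := by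
  classical
  obtain ⟨k, f, hk2, hk, hf, hfm⟩ := psl_cent h2 h5 i hC hS ha ha1
  obtain ⟨l, g, hl2, hl, hg, hgm⟩ := psl_cent h2 h5 i hC hS hw hw1
  haveI : NeZero k := ⟨by omega⟩
  haveI : NeZero l := ⟨by omega⟩
  have hcard : ∀ (m : ℕ) (φ : DihedralGroup m →* X) (C : Subgroup X), Function.Injective φ →
      (∀ x, x ∈ φ.range ↔ x ∈ C) → Nat.card C = 2 * m := fun m φ C hφ hφm => by
    rw [← SetLike.ext hφm, ← Nat.card_congr (MonoidHom.ofInjective hφ).toEquiv, DihedralGroup.nat_card]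
  -- `a` is central in its dihedral centraliser
  have hkev : Even k := by
    obtain ⟨d, hd⟩ : a ∈ f.range := (hfm a).2 ⟨Subgroup.mem_centralizer_singleton_iff.2 rfl, haL⟩
    have hcen : ∀ e, Commute d e := fun e => hf (by
      rw [map_mul, map_mul, hd]
      exact (Subgroup.mem_centralizer_singleton_iff.1 ((hfm (f e)).1 ⟨e, rfl⟩).1).symm)
    rcases d with j | j
    · have h1 := (hcen (DihedralGroup.sr 0)).eq
      rw [DihedralGroup.r_mul_sr, DihedralGroup.sr_mul_r] at h1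
      have hj2 : j + j = 0 := by linear_combination -(DihedralGroup.sr.inj h1)
      rcases Fusion.zmod_double_eq_zero hj2 with rfl | rfl
      · exact absurd (by rw [← hd, ← DihedralGroup.one_def, map_one]) ha1
      · by_contra hodd
        rw [← Nat.cast_add, ZMod.natCast_eq_zero_iff] at hj2
        obtain ⟨c, hc⟩ := Nat.not_even_iff_odd.1 hodd
        have := Nat.le_of_dvd (by omega) hj2
        omega
    · have h1 := (hcen (DihedralGroup.r 1)).eq
      rw [DihedralGroup.r_mul_sr, DihedralGroup.sr_mul_r] at h1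
      have h20 : ((2 : ℕ) : ZMod k) = 0 := by push_cast; linear_combination DihedralGroup.sr.inj h1
      rw [ZMod.natCast_eq_zero_iff] at h20
      exact even_iff_two_dvd.2 (by rw [show k = 2 by have := Nat.le_of_dvd two_pos h20; omega])
  -- an outer involution centralises no four group
  have hlodd : Odd l := by
    by_contra hev
    obtain ⟨c, hc⟩ := Nat.not_odd_iff_even.1 hev
    have hd0 : (c : ZMod l) + (c : ZMod l) = 0 := by rw [← Nat.cast_add, ← hc, ZMod.natCast_self]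
    have hc0 : (c : ZMod l) ≠ 0 := fun h => by
      rw [ZMod.natCast_eq_zero_iff] at h
      have := Nat.le_of_dvd (by omega) h
      omega
    have hb : ∀ d : DihedralGroup l, g d ∈ L ∧ Commute (g d) w := fun d =>
      ⟨((hgm (g d)).1 ⟨d, rfl⟩).2, Subgroup.mem_centralizer_singleton_iff.1 ((hgm (g d)).1 ⟨d, rfl⟩).1⟩
    have hne : ∀ {d : DihedralGroup l}, d ≠ 1 → g d ≠ 1 := fun hd h => hd (hg (h.trans (map_one g).symm))
    have h1 : (DihedralGroup.r (c : ZMod l) : DihedralGroup l) ≠ 1 := fun h =>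
      hc0 (DihedralGroup.r.inj (h.trans DihedralGroup.one_def))
    have h0 : (DihedralGroup.sr 0 : DihedralGroup l) ≠ 1 := fun h => by
      rw [DihedralGroup.one_def] at h; cases h
    have key := three_involutions hS (a := g (DihedralGroup.r c)) (b := g (DihedralGroup.sr 0)) (c := w)
      (by rw [← map_mul, DihedralGroup.r_mul_r, hd0, ← DihedralGroup.one_def, map_one])
      (by rw [← map_mul, DihedralGroup.sr_mul_sr, sub_self, ← DihedralGroup.one_def, map_one]) hw
      (hne h1) (hne h0) hw1 (fun h => by cases hg h) (fun h => hwL (h ▸ (hb _).1)) (fun h => hwL (h ▸ (hb _).1))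
      (by
        refine Commute.map ?_ g
        show _ * _ = _ * _
        rw [DihedralGroup.r_mul_sr, DihedralGroup.sr_mul_r]
        congr 1
        linear_combination -hd0)
      (hb _).2 (hb _).2
    exact hwL (key ▸ mul_mem (hb _).1 (hb _).1)
  obtain ⟨k', hk'⟩ := hkev
  obtain ⟨l', hl'⟩ := hlodd
  have hca := hcard k f _ hf hfm
  have hcw := hcard l g _ hg hgm
  refine ⟨l, 2 * k, ⟨l', hl'⟩, by omega, by omega, ?_, hca, hcw, g (DihedralGroup.r 1),
    ((hgm _).1 ⟨_, rfl⟩).2, Subgroup.mem_centralizer_singleton_iff.1 ((hgm _).1 ⟨_, rfl⟩).1,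
    by rw [orderOf_injective g hg, DihedralGroup.orderOf_r_one]⟩
  have hL : Nat.card L * 2 = Fintype.card F * (Fintype.card F ^ 2 - 1) := by
    have hc := Classical.Dickson.card_psl F
    rw [Psl.gcd_two h2] at hc
    rw [Nat.card_congr i.toEquiv, hc]
  obtain ⟨q, hq⟩ : ∃ q, Fintype.card F = q + 1 := ⟨Fintype.card F - 1, by omega⟩
  rw [hq, show (q + 1) ^ 2 - 1 = q * (q + 2) by
    have : (q + 1) ^ 2 = q * (q + 2) + 1 := by ring
    omega] at hL
  rw [hq] at hk hl ⊢
  rcases hk with h | h <;> rcases hl with h' | h'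
  · omega
  · have e1 : 2 * k = q := by omega
    have e2 : 2 * l = q + 2 := by omega
    rw [e1]
    have : Nat.card L * 2 = (q + 1) * q * l * 2 := by rw [hL, mul_assoc _ l 2, mul_comm l 2, e2]; ring
    omega
  · have e1 : 2 * k = q + 2 := by omega
    have e2 : 2 * l = q := by omega
    have : Nat.card L * 2 = (q + 1) * (2 * k) * l * 2 := by rw [hL, e1, mul_assoc _ l 2, mul_comm l 2, e2]; ring
    omega
  · omega

end Cfsg.Agent.GW
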