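import Cfsg.Agent.Lib.GW.MaxLayerProof
import Cfsg.Agent.Lib.GW.SolvPslFacts
import Cfsg.Agent.Lib.GW.MaxLayerTop

/-!
# What centralises a torus and two involutions centralises the layer

`torus_cent`: in an almost simple group over a model with dihedral Sylow two-subgroups an element of odd order
centralising an involution `a`, a second involution `c` of `C(a)` and the odd part of `C_L(a)`, on which `c` acts by
inversion, is trivial: a field automorphism cannot fix the whole odd part of the torus.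
`Minimal.cent_lay_of_torus`: the same for the layer of a maximal subgroup through `t`.
-/

set_option autoImplicit false
set_option linter.unusedSectionVars false
set_option linter.style.haveILetI false

namespace Cfsg.Agent.GW

open Cfsg Cfsg.Agent Cfsg.Agent.GW.Reduced Cfsg.Agent.Small DihedralGroup
open scoped commutatorElement

universe u

/-- An automorphism of odd prime order `l` of a dihedral group of order at least six fixing the rotations of odd
order moves every element by an `l`-element. -/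
theorem dihedral_move {k l : ℕ} (hk : 3 ≤ k) (hl : l.Prime) (hl2 : l ≠ 2) (β : MulAut (DihedralGroup k))
    (hβ : β ^ l = 1) (hfix : ∀ j : ZMod k, Odd (orderOf (r j : DihedralGroup k)) → β (r j) = r j)
    (d : DihedralGroup k) : (d⁻¹ * β d) ^ l = 1 := by
  haveI : NeZero k := ⟨by omega⟩
  obtain ⟨c, hc⟩ : ∃ c : ZMod k, β (r 1) = r c := by
    rcases h : β (r 1) with c | c
    · exact ⟨c, rfl⟩
    · exfalso
      have h1 : orderOf (β (r 1)) = 2 := by rw [h]; exact orderOf_sr c
      rw [MulEquiv.orderOf_eq, orderOf_r_one] at h1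
      omega
  have hrot : ∀ j : ZMod k, β (r j) = r (c * j) := fun j => by
    rw [show (r j : DihedralGroup k) = r 1 ^ j.val by rw [r_one_pow, ZMod.natCast_rightInverse], map_pow, hc, r_pow,
      ZMod.natCast_rightInverse]
  have hit : ∀ n : ℕ, (β ^ n) (r 1) = r (c ^ n) := by
    intro n
    induction n with
    | zero => simp
    | succ n ih => rw [pow_succ' β, MulAut.mul_apply, ih, hrot, pow_succ' c]
  have hcl : c ^ l = 1 := by
    have h := hit l
    rw [hβ, MulAut.one_apply] at h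
    exact (DihedralGroup.r.inj h).symm
  -- `(c - 1) 2^s = 0`, and `c` has odd order: `c = 1`
  obtain ⟨s, k', hk', hks⟩ := Nat.exists_eq_pow_mul_and_not_dvd (NeZero.ne k) 2 (by norm_num)
  have h1 : ((2 ^ s : ℕ) : ZMod k) * (c - 1) = 0 := by
    have hodd : Odd (orderOf (r ((2 ^ s : ℕ) : ZMod k) : DihedralGroup k)) := by
      have hd : orderOf (r ((2 ^ s : ℕ) : ZMod k) : DihedralGroup k) ∣ k' :=
        orderOf_dvd_of_pow_eq_one (by rw [← r_one_pow, ← pow_mul, ← hks, r_one_pow_n])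
      exact (Nat.odd_iff.2 (Nat.two_dvd_ne_zero.1 hk')).of_dvd_nat hd
    have := DihedralGroup.r.inj ((hrot _).symm.trans (hfix _ hodd))
    linear_combination this
  have hc1 : c = 1 := by
    obtain ⟨v, rfl⟩ : ∃ v : ℕ, (v : ZMod k) = c := ⟨c.val, ZMod.natCast_rightInverse c⟩
    have hk1 : (k' : ℤ) ∣ (v : ℤ) - 1 := by
      have h : (k : ℤ) ∣ ((2 ^ s : ℕ) : ℤ) * ((v : ℤ) - 1) := (ZMod.intCast_zmod_eq_zero_iff_dvd _ k).1 (by
        push_cast; push_cast at h1; exact h1)
      rw [hks, Nat.cast_mul] at h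
      exact (mul_dvd_mul_iff_left (by positivity : ((2 ^ s : ℕ) : ℤ) ≠ 0)).1 h
    have hk2 : ((2 ^ s : ℕ) : ℤ) ∣ (v : ℤ) - 1 := by
      haveI : NeZero (2 ^ s) := ⟨by positivity⟩
      let φ := ZMod.castHom (show 2 ^ s ∣ k from hks ▸ dvd_mul_right _ _) (ZMod (2 ^ s))
      have hu : ((v : ZMod (2 ^ s))) ^ l = 1 := by
        have := congrArg φ hcl
        rwa [map_pow, map_natCast, map_one] at this
      obtain ⟨u, hu'⟩ : IsUnit ((v : ZMod (2 ^ s))) := IsUnit.of_pow_eq_one hu hl.ne_zero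
      have hu1 : u = 1 := by
        refine orderOf_eq_one_iff.1 (Nat.eq_one_of_dvd_coprimes ?_ (orderOf_dvd_of_pow_eq_one
          (show u ^ l = 1 from Units.ext (by rw [Units.val_pow_eq_pow_val, hu', hu, Units.val_one])))
          ((orderOf_dvd_natCard u).trans (by rw [Nat.card_eq_fintype_card, ZMod.card_units_eq_totient])))
        rcases Nat.eq_zero_or_pos s with rfl | hs
        · simp
        · rw [Nat.totient_prime_pow Nat.prime_two hs]
          simpa using Nat.Coprime.pow_right (s - 1) ((Nat.coprime_primes hl Nat.prime_two).2 hl2)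
      rw [← ZMod.intCast_zmod_eq_zero_iff_dvd]
      push_cast
      rw [← hu', hu1, Units.val_one, sub_self]
    have hkd : (k : ℤ) ∣ (v : ℤ) - 1 := by
      rw [hks, Nat.cast_mul]
      refine IsCoprime.mul_dvd (Nat.Coprime.isCoprime ?_) hk2 hk1
      exact Nat.Coprime.pow_left s ((Nat.prime_two.coprime_iff_not_dvd).2 hk')
    have := (ZMod.intCast_zmod_eq_zero_iff_dvd _ k).2 hkd
    push_cast at this
    exact sub_eq_zero.1 this
  subst hc1
  simp only [one_mul] at hrot
  rcases d with j | j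
  · rw [hrot, inv_mul_cancel, one_pow]
  · obtain ⟨w, hw⟩ : ∃ w : ZMod k, β (sr j) = sr (j + w) := by
      rcases h : β (sr j) with i | i
      · exfalso
        have h' : β (sr j) = β (r i) := h.trans (hrot i).symm
        cases β.injective h'
      · exact ⟨i - j, by rw [add_sub_cancel]⟩
    have hn : ∀ n : ℕ, (β ^ n) (sr j) = sr (j + (n : ZMod k) * w) := by
      intro n
      induction n with
      | zero => simp
      | succ n ih =>
        rw [pow_succ' β, MulAut.mul_apply, ih, show (sr (j + (n : ZMod k) * w) : DihedralGroup k) =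
          sr j * r ((n : ZMod k) * w) by rw [sr_mul_r], map_mul, hw, hrot, sr_mul_r]
        congr 1; push_cast; ring
    have hwl : (l : ZMod k) * w = 0 := by
      have h := hn l
      rw [hβ, MulAut.one_apply] at h
      simpa using (DihedralGroup.sr.inj h).symm
    rw [hw, inv_sr, sr_mul_sr, add_sub_cancel_left, r_pow, mul_comm, hwl, DihedralGroup.one_def]

section Almost

variable {X : Type u} [Group X] [Finite X]


/-- in `PSL₂(q)`: an element of odd prime order centralising `a` and the odd elements of `C_L(a)` lies in `L` -/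
theorem torus_cent_psl {F : Type} [Field F] [Fintype F] (h2 : (2 : F) ≠ 0) (h5 : 5 ≤ Fintype.card F) {L : Subgroup X}
    [L.Normal] (i : L ≃* Matrix.ProjectiveSpecialLinearGroup (Fin 2) F) (hC : Subgroup.centralizer (L : Set X) = ⊥)
    (hS : ∀ P : Sylow 2 X, ∃ m, 2 ≤ m ∧ Nonempty ((P : Subgroup X) ≃* DihedralGroup m))
    {a : X} (ha : a * a = 1) (ha1 : a ≠ 1) {l : ℕ} (hl : l.Prime) (hl2 : l ≠ 2) {y : X} (hy : orderOf y = l)
    (hya : Commute y a) (hR : ∀ x ∈ L, Commute x a → Odd (orderOf x) → Commute y x) : y ∈ L := by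
  classical
  haveI := Fact.mk hl
  let Θ : X →* MulAut (Matrix.ProjectiveSpecialLinearGroup (Fin 2) F) := (MulAut.congr i).toMonoidHom.comp (MulAut.conjNormal : X →* MulAut L)
  have hinjN : Function.Injective (MulAut.conjNormal : X →* MulAut L) := by
    rw [injective_iff_map_eq_one]
    intro x hx
    have : x ∈ Subgroup.centralizer (L : Set X) := Subgroup.mem_centralizer_iff.2 fun l hl => by
      have h := congrArg Subtype.val (DFunLike.congr_fun hx (⟨l, hl⟩ : L))
      simp only [MulAut.conjNormal_apply, MulAut.one_apply] at h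
      exact (mul_inv_eq_iff_eq_mul.1 h).symm
    rwa [hC, Subgroup.mem_bot] at this
  have hinj : Function.Injective Θ := (MulAut.congr i).injective.comp hinjN
  have hinner : ∀ y : L, Θ (y : X) = MulAut.conj (i y) := by
    intro y
    ext z
    obtain ⟨w, rfl⟩ := i.surjective z
    simp [Θ, MulAut.congr, ← map_inv, ← map_mul]
    rfl
  have hmemL : ∀ {x : X} {m : Matrix.ProjectiveSpecialLinearGroup (Fin 2) F}, Θ x = MulAut.conj m → x ∈ L ∧ ∃ y : L, (y : X) = x ∧ i y = m := by
    intro x m hm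
    obtain ⟨y, rfl⟩ := i.surjective m
    have : (y : X) = x := hinj ((hinner y).trans hm.symm)
    exact ⟨this ▸ y.2, y, this, rfl⟩
  have hcommL : ∀ (y : L) (x : X), Θ x (i y) = i y → Commute (y : X) x := by
    intro y x h
    refine hinj ?_
    rw [map_mul, map_mul, hinner]
    ext z
    simp [MulAut.mul_apply, h]
  have hfixL : ∀ (y : L) (x : X), Commute (y : X) x → Θ x (i y) = i y := fun y x h =>
    Psl.fixed_of_commute h5 (hinner y ▸ (h.symm.map Θ))
  -- involutions are inner-diagonal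
  have hdiag : ∀ c : X, c * c = 1 → c ≠ 1 → ∃ h : GL (Fin 2) F, Θ c = PSL2.conjP h ∧
      PSL2.conjP h ≠ 1 ∧ PSL2.conjP h * PSL2.conjP h = 1 := by
    intro c hc hc1
    have hΘ : Θ c * Θ c = 1 := by rw [← map_mul, hc, map_one]
    have hne1 : Θ c ≠ 1 := fun e => hc1 (hinj (e.trans (map_one Θ).symm))
    suffices h : ∃ h : GL (Fin 2) F, Θ c = PSL2.conjP h by
      obtain ⟨h, hh⟩ := h
      exact ⟨h, hh, hh ▸ hne1, hh ▸ hΘ⟩
    rcases Psl.inndiag_or_four h2 hΘ with h | ⟨m₁, m₂, q₁, q₂, n₁, n₂, hne, hcm, f₁, f₂⟩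
    · exact h
    obtain ⟨y₁, rfl⟩ := i.surjective m₁
    obtain ⟨y₂, rfl⟩ := i.surjective m₂
    have hsq : ∀ y : L, i y * i y = 1 → (y : X) * y = 1 := fun y h => by
      rw [← map_mul, ← map_one i] at h
      exact congrArg Subtype.val (i.injective h)
    have hone : ∀ y : L, i y ≠ 1 → (y : X) ≠ 1 := fun y h e => h (by
      rw [show y = 1 from Subtype.ext e, map_one])
    have hcL : c ∈ L := by
      by_cases h1 : c = y₁
      · exact h1 ▸ y₁.2
      by_cases h2' : c = y₂
      · exact h2' ▸ y₂.2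
      have := three_involutions hS (hsq y₁ q₁) (hsq y₂ q₂) hc (hone y₁ n₁) (hone y₂ n₂) hc1
        (fun e => hne (congrArg i (Subtype.ext e))) (fun e => h1 e.symm) (fun e => h2' e.symm)
        (congrArg Subtype.val (i.injective (a₁ := y₁ * y₂) (a₂ := y₂ * y₁) (by rw [map_mul, map_mul]; exact hcm.eq)))
        (hcommL y₁ c f₁) (hcommL y₂ c f₂)
      exact this ▸ mul_mem y₁.2 y₂.2
    obtain ⟨A, hA⟩ := PSL2.pr_surjective (i ⟨c, hcL⟩)
    exact ⟨Matrix.SpecialLinearGroup.toGL A, by rw [PSL2.conjP_toGL, hA, ← hinner]⟩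

  let Θ₀ := Θ
  have hinj₀ : Function.Injective Θ₀ := hinj
  have hfix₀ : ∀ (y : L) (x : X), Commute (y : X) x ↔ Θ₀ x (i y) = i y := fun y x => ⟨hfixL y x, hcommL y x⟩
  have hdiag₀ := hdiag
  obtain ⟨p, hp⟩ := CharP.exists F
  obtain ⟨nf, hpp, hnf⟩ := FiniteField.card F p
  haveI : Fact p.Prime := ⟨hpp⟩
  haveI : Finite (Matrix.ProjectiveSpecialLinearGroup (Fin 2) F) := Finite.of_surjective _ PSL2.pr_surjective
  obtain ⟨h, eh, hh, hhh⟩ := hdiag₀ a ha ha1
  have hor : orderOf (Θ₀ y) = l := by rw [orderOf_injective Θ₀ hinj₀, hy]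
  have hfixD : ∀ w : L, Commute (w : X) a ↔ PSL2.conjP h (i w) = i w := fun w => eh ▸ hfix₀ w a
  obtain ⟨B, hB⟩ : ∃ B : GL (Fin 2) F, Θ₀ y = PSL2.conjP B := by
    obtain ⟨D, k, hk2, hk, ⟨e⟩, hD⟩ := Psl.fix_group h2 h5 hh hhh
    by_cases hk3 : 3 ≤ k
    · refine Psl.no_field_fix h2 h5 (p := l) hl2 (by rw [← hor, pow_orderOf_eq_one]) hh hhh (eh ▸ hya.map Θ₀)
        fun d hd => ⟨1, ?_⟩
      rw [pow_one]
      have hmapsto : ∀ d ∈ D, Θ₀ y d ∈ D := fun d hd => (hD _).1 (by
        have := DFunLike.congr_fun (eh ▸ hya.map Θ₀ : Commute (Θ₀ y) (PSL2.conjP h)).eq d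
        simp only [MulAut.mul_apply] at this
        rw [← this, (hD d).2 hd])
      let βh : DihedralGroup k →* DihedralGroup k :=
        { toFun := fun x => e ⟨Θ₀ y (e.symm x), hmapsto _ (e.symm x).2⟩
          map_one' := by
            rw [← map_one e]; congr 1; exact Subtype.ext (by simp)
          map_mul' := fun u v => by
            rw [← map_mul]; congr 1; exact Subtype.ext (by simp) }
      have hβi : Function.Injective βh := fun u v huv => by
        have := congrArg Subtype.val (e.injective huv)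
        exact e.symm.injective (Subtype.ext ((Θ₀ y).injective this))
      haveI : NeZero k := ⟨by omega⟩
      let β : MulAut (DihedralGroup k) := MulEquiv.ofBijective βh (Finite.injective_iff_bijective.1 hβi)
      have hβ : ∀ n : ℕ, ∀ x, ((e.symm ((β ^ n) x)) : Matrix.ProjectiveSpecialLinearGroup (Fin 2) F) =
          (Θ₀ y ^ n) (e.symm x) := by
        intro n
        induction n with
        | zero => intro x; simp
        | succ n ih =>
          intro x
          rw [pow_succ' β, pow_succ' (Θ₀ y), MulAut.mul_apply, MulAut.mul_apply, ← ih x]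
          show ((e.symm (e _)) : Matrix.ProjectiveSpecialLinearGroup (Fin 2) F) = _
          rw [MulEquiv.symm_apply_apply]
      have hβl : β ^ l = 1 := MulEquiv.ext fun x => e.symm.injective (Subtype.ext (by
        rw [hβ, show Θ₀ y ^ l = 1 by rw [← hor, pow_orderOf_eq_one]]; rfl))
      have hmv := dihedral_move hk3 hl hl2 β hβl (fun j hj => e.symm.injective (Subtype.ext (by
        have h1 := hβ 1 (r j)
        rw [pow_one, pow_one] at h1
        rw [h1]
        obtain ⟨w, hw⟩ := i.surjective ((e.symm (r j) : D) : Matrix.ProjectiveSpecialLinearGroup (Fin 2) F)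
        rw [← hw]
        refine (hfix₀ w y).1 (hR _ w.2 ((hfixD w).2 (by rw [hw]; exact (hD _).2 (e.symm (r j)).2)) ?_).symm
        rw [Subgroup.orderOf_coe, ← MulEquiv.orderOf_eq i, hw, Subgroup.orderOf_coe, MulEquiv.orderOf_eq]
        exact hj))) (e ⟨d, (hD d).1 hd⟩)
      have h2' := congrArg (fun z => ((e.symm z : D) : Matrix.ProjectiveSpecialLinearGroup (Fin 2) F)) hmv
      simp only [map_pow, map_mul, map_inv, map_one, Subgroup.coe_pow, Subgroup.coe_mul, Subgroup.coe_inv,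
        Subgroup.coe_one, MulEquiv.symm_apply_apply] at h2'
      have h3 := hβ 1 (e ⟨d, (hD d).1 hd⟩)
      rw [pow_one, pow_one, MulEquiv.symm_apply_apply] at h3
      rwa [h3] at h2'
    · -- `q = 5`: no field automorphisms
      have hcard : Fintype.card F = 5 := by omega
      obtain ⟨B, σ, hBσ⟩ := PSL2.aut_eq hnf (Θ₀ y)
      refine ⟨B, ?_⟩
      have hσ : σ = 1 := by
        haveI : Fact (Nat.Prime 5) := ⟨by norm_num⟩
        haveI : CharP F 5 := charP_of_card_eq_prime hcard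
        refine RingEquiv.ext fun x => ?_
        obtain ⟨n, rfl⟩ := (ZMod.castHom_bijective F hcard).2 x
        obtain ⟨m, rfl⟩ := ZMod.natCast_zmod_surjective n
        simp
      rw [hBσ, hσ, map_one, mul_one]
  obtain ⟨m, hm⟩ := inner_of_odd h2 (B := B) (by rw [← hB, hor]; exact hl.odd_of_ne_two hl2)
  exact (hmemL (hB.trans hm)).1

/-- in `A₇` every element of odd order lies in `L` -/
theorem odd_mem_seven {L : Subgroup X} [L.Normal] (i : L ≃* alternatingGroup (Fin 7))
    (hC : Subgroup.centralizer (L : Set X) = ⊥) {y : X} (hy : Odd (orderOf y)) : y ∈ L := by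
  have hinjN : Function.Injective (MulAut.conjNormal : X →* MulAut L) := by
    rw [injective_iff_map_eq_one]
    intro x hx
    have : x ∈ Subgroup.centralizer (L : Set X) := Subgroup.mem_centralizer_iff.2 fun l hl => by
      have h := congrArg Subtype.val (DFunLike.congr_fun hx (⟨l, hl⟩ : L))
      simp only [MulAut.conjNormal_apply, MulAut.one_apply] at h
      exact (mul_inv_eq_iff_eq_mul.1 h).symm
    rwa [hC, Subgroup.mem_bot] at this
  let aut : Equiv.Perm (Fin 7) ≃* MulAut (alternatingGroup (Fin 7)) :=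
    MulEquiv.ofBijective _ (S2119.result 7 (by norm_num) (by norm_num))
  let τ : X →* Equiv.Perm (Fin 7) :=
    aut.symm.toMonoidHom.comp ((MulAut.congr i).toMonoidHom.comp MulAut.conjNormal)
  have hτ : Function.Injective τ := aut.symm.injective.comp ((MulAut.congr i).injective.comp hinjN)
  have hτL : ∀ y : L, τ (y : X) = (i y : Equiv.Perm (Fin 7)) := by
    intro y
    refine aut.injective ?_
    show aut (aut.symm _) = _
    rw [MulEquiv.apply_symm_apply]
    refine MulEquiv.ext fun z => ?_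
    obtain ⟨w, rfl⟩ := i.surjective z
    simp [aut, MulAut.congr]
    refine Subtype.ext ?_
    rw [MulAut.conjNormal_apply, ← MulMemClass.coe_mul, ← InvMemClass.coe_inv, ← MulMemClass.coe_mul,
      ← map_mul, ← map_inv, ← map_mul]
    congr 2
  have hsign : Equiv.Perm.sign (τ y) = 1 := by
    obtain ⟨n, hn⟩ := hy
    have h1 : Equiv.Perm.sign (τ y) ^ (2 * n + 1) = 1 := by
      rw [← hn, ← map_pow, ← map_pow, pow_orderOf_eq_one, map_one, map_one]
    rwa [pow_succ, pow_mul, Int.units_pow_two, one_pow, one_mul] at h1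
  obtain ⟨w, hw⟩ := i.surjective ⟨τ y, Equiv.Perm.mem_alternatingGroup.2 hsign⟩
  exact (hτ (show τ (w : X) = τ y by rw [hτL, hw])) ▸ w.2

/-- **nothing of odd order centralises `a`, a second involution `c` of `C(a)` and the odd part of the torus** -/
theorem torus_cent {L : Subgroup X} [L.Normal] (hmod : IsModel L) (hC : Subgroup.centralizer (L : Set X) = ⊥)
    (hS : ∀ P : Sylow 2 X, ∃ m, 2 ≤ m ∧ Nonempty ((P : Subgroup X) ≃* DihedralGroup m))
    {a c : X} (ha : a * a = 1) (ha1 : a ≠ 1) {y : X} (hy : Odd (orderOf y)) (hya : Commute y a) (hyc : Commute y c)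
    (hR : ∀ x ∈ L, Commute x a → Odd (orderOf x) → Commute y x ∧ c * x * c⁻¹ = x⁻¹) : y = 1 := by
  by_contra hy1
  obtain ⟨l, hl, hld⟩ := Nat.exists_prime_and_dvd (n := orderOf y) fun h => hy1 (orderOf_eq_one_iff.1 h)
  have hl2 : l ≠ 2 := fun h => Nat.not_even_iff_odd.2 hy (even_iff_two_dvd.2 (h ▸ hld))
  obtain ⟨z, hz⟩ : ∃ z, z = y ^ (orderOf y / l) := ⟨_, rfl⟩
  have hzo : orderOf z = l := hz ▸ orderOf_pow_orderOf_div (orderOf_pos y).ne' hld
  have hzodd : Odd (orderOf z) := hzo ▸ hl.odd_of_ne_two hl2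
  have hza : Commute z a := hz ▸ hya.pow_left _
  have hzc : Commute z c := hz ▸ hyc.pow_left _
  have hzL : z ∈ L := by
    rcases hmod with ⟨F, hF, hFt, ho, h3, ⟨i⟩⟩ | ⟨⟨i⟩⟩
    · have h2F : (2 : F) ≠ 0 := by
        obtain ⟨p, hp⟩ := CharP.exists F
        obtain ⟨d, hpp, hd⟩ := FiniteField.card F p
        intro h
        haveI : CharP F 2 := CharTwo.of_one_ne_zero_of_two_eq_zero one_ne_zero h
        have := CharP.eq F hp (inferInstance : CharP F 2)
        rw [hd, this] at ho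
        exact Nat.not_even_iff_odd.2 ho (Nat.even_pow.2 ⟨even_two, d.ne_zero⟩)
      exact torus_cent_psl h2F (by obtain ⟨j, hj⟩ := ho; omega) i hC hS ha ha1 hl hl2 hzo hza
        fun x hx hxa hxo => hz ▸ (hR x hx hxa hxo).1.pow_left _
    · exact odd_mem_seven i hC hzodd
  have h1 := (hR z hzL hza hzodd).2
  rw [hzc.symm.eq, mul_inv_cancel_right] at h1
  have := eq_one_of_inverted z hzodd h1
  rw [this, orderOf_one] at hzo
  exact hl.one_lt.ne hzo

end Almost

/-- **an element of odd order centralising `t`, an involution `u` of `N` inverting the torus and the torus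
centralises the layer** -/
theorem Minimal.cent_lay_of_torus {G : Type u} [Group G] [Finite G] (hG : Minimal G) (Φ : Frame G) {N : Subgroup G}
    (hN : IsCoatom N) (htN : Φ.t ∈ N) (hE : Cfsg.layer ↥N ≠ ⊥) {T : Subgroup G} (hTN : T ≤ N)
    (hT : ∀ x ∈ lay N ⊓ Φ.O, ∃ r ∈ T, r⁻¹ * x ∈ Subgroup.centralizer (lay N : Set G)) {u : G} (huN : u ∈ N)
    (hinv : ∀ x ∈ T, u * x * u⁻¹ = x⁻¹) {y : G} (hyN : y ∈ N) (hy : Odd (orderOf y)) (hyt : Commute y Φ.t)
    (hyu : Commute y u) (hyT : ∀ x ∈ T, Commute y x) : y ∈ Subgroup.centralizer (lay N : Set G) := by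
  classical
  haveI := hG.simple
  haveI : Fact (Nat.Prime 2) := ⟨Nat.prime_two⟩
  haveI hQn : (Cfsg.oddCore ↥N).Normal := Solv.pPrimeCore_normal 2
  have hodd : Odd (Nat.card (Cfsg.oddCore ↥N)) := Nat.coprime_two_right.1 (Fusion.card_pPrimeCore_coprime 2 ↥N)
  haveI : Group.IsSolvable ↥(Cfsg.oddCore ↥N) := Solv.Partition.odd_solvable hodd
  haveI : Group.IsPerfect ↥(Cfsg.layer ↥N) := S1247.layer_perfect'
  obtain ⟨L, hLn, hmod, hC⟩ := model_over_core hG hN.1 hE
  haveI := hLn
  have hO : ⁅Cfsg.layer ↥N, Cfsg.oddCore ↥N⁆ = ⊥ :=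
    Solv.layer_commutator_solvable (Solv.pPrimeCore_normal 2).isSubnormal inferInstance
  set π := QuotientGroup.mk' (Cfsg.oddCore ↥N) with hπ
  have hS : ∀ P : Sylow 2 (↥N ⧸ Cfsg.oddCore ↥N),
      ∃ m, 2 ≤ m ∧ Nonempty ((P : Subgroup (↥N ⧸ Cfsg.oddCore ↥N)) ≃* DihedralGroup m) := by
    obtain ⟨S', k, hk, ⟨f⟩⟩ := sylow_of_layer Φ.S Φ.ι.symm N hE
    obtain ⟨s⟩ := sylow_quotient (Cfsg.oddCore ↥N) hodd S'
    exact fun P => ⟨k, hk, ⟨(P.equiv (S'.mapSurjective (QuotientGroup.mk'_surjective _))).trans (s.symm.trans f)⟩⟩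
  let t' : ↥N := ⟨Φ.t, htN⟩
  have ht2 : t' * t' = 1 := Subtype.ext Φ.tt
  have hta1 : π t' ≠ 1 := fun h => Φ.t_ne (congrArg Subtype.val (show t' = 1 from
    orderOf_eq_one_iff.1 (Nat.eq_one_of_dvd_coprimes hodd.coprime_two_left
      (orderOf_dvd_of_pow_eq_one (by rw [pow_two, ht2])) (Subgroup.orderOf_dvd_natCard _ ((QuotientGroup.eq_one_iff t').1 h)))))
  have hLE : L ≤ (Cfsg.layer ↥N).map π := model_le_layer hmod hC hE
  have hcl : ∀ x : ↥N, (x : G) ∈ Subgroup.centralizer (lay N : Set G) → π x = 1 := fun x h => by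
    have : π x ∈ Subgroup.centralizer (L : Set (↥N ⧸ Cfsg.oddCore ↥N)) := Subgroup.mem_centralizer_iff.2 fun l hl => by
      obtain ⟨e, he, rfl⟩ := hLE hl
      rw [← map_mul, ← map_mul]
      exact congrArg π (Subtype.ext (Subgroup.mem_centralizer_iff.1 h _ ⟨e, he, rfl⟩))
    rwa [hC, Subgroup.mem_bot] at this
  have key : π ⟨y, hyN⟩ = 1 := by
    refine torus_cent hmod hC hS (c := π ⟨u, huN⟩) (by rw [← map_mul, ht2, map_one]) hta1
      (hy.of_dvd_nat ((orderOf_map_dvd π (⟨y, hyN⟩ : ↥N)).trans (Subgroup.orderOf_mk y hyN).dvd))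
      ((show Commute (⟨y, hyN⟩ : ↥N) t' from Subtype.ext hyt.eq).map π)
      ((show Commute (⟨y, hyN⟩ : ↥N) ⟨u, huN⟩ from Subtype.ext hyu.eq).map π) fun x hxL hxa hxo => ?_
    -- a representative in the layer commuting with `t`
    set E := Cfsg.layer ↥N with hEdef
    have hEn : E.Normal := Local.layer_normal
    obtain ⟨e, he, rfl⟩ := hLE hxL
    have hEnorm : Subgroup.zpowers t' ≤ Subgroup.normalizer ((E ⊓ Cfsg.oddCore ↥N : Subgroup ↥N) : Set ↥N) := by
      intro w _
      haveI : (E ⊓ Cfsg.oddCore ↥N).Normal := inferInstance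
      rw [Subgroup.normalizer_eq_top_iff.2 inferInstance]; trivial
    obtain ⟨d, hd, hn⟩ := Solv.exists_fixed_in_coset (Subgroup.zpowers t') (E ⊓ Cfsg.oddCore ↥N) hEnorm
      (by
        rw [Nat.card_zpowers]
        exact Nat.Coprime.coprime_dvd_left (orderOf_dvd_of_pow_eq_one (by rw [pow_two, ht2]))
          ((hodd.of_dvd_nat (Subgroup.card_dvd_of_le inf_le_right)).coprime_two_left))
      (Or.inl (Group.isSolvable_of_comm fun a b => (inferInstance : IsMulCommutative (Subgroup.zpowers t')).is_comm.comm a b))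
      (x := e) (fun w hw => by
        obtain ⟨i, rfl⟩ := hw
        refine ⟨E.mul_mem (E.inv_mem he) (hEn.conj_mem e he _), (QuotientGroup.eq_one_iff _).1 ?_⟩
        show π (e⁻¹ * (t' ^ i * e * (t' ^ i)⁻¹)) = 1
        rw [map_mul, map_mul, map_mul, map_inv, map_inv, map_zpow, ← (hxa.zpow_right i).eq, mul_inv_cancel_right,
          inv_mul_cancel])
    have hπd : π (e * d) = π e := by rw [map_mul, show π d = 1 from (QuotientGroup.eq_one_iff d).2 hd.2, mul_one]
    have hcm : Commute (e * d) t' := by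
      obtain ⟨i, hi⟩ := (Subgroup.mem_normalizer_iff.1 hn t').1 (Subgroup.mem_zpowers t')
      have hi : t' ^ i = e * d * t' * (e * d)⁻¹ := hi
      rcases Int.even_or_odd' i with ⟨j, rfl | rfl⟩
      · rw [zpow_mul, zpow_two, ht2, one_zpow, eq_comm, conj_eq_one_iff] at hi
        exact absurd (congrArg Subtype.val hi) Φ.t_ne
      · rw [zpow_add_one, zpow_mul, zpow_two, ht2, one_zpow, one_mul] at hi
        exact (mul_inv_eq_iff_eq_mul.1 hi.symm)
    obtain ⟨w, hwdef⟩ : ∃ w, w = e * d := ⟨_, rfl⟩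
    rw [← hwdef] at hπd hcm
    have hwE : w ∈ E := hwdef ▸ E.mul_mem he hd.1
    obtain ⟨k, m, hm, hkm⟩ := Nat.exists_eq_pow_mul_and_not_dvd (orderOf_pos w).ne' 2 (by norm_num)
    have hwo : Odd (orderOf (w ^ 2 ^ k)) := by
      rw [orderOf_pow_of_dvd (by positivity) (hkm ▸ dvd_mul_right _ _), hkm, Nat.mul_div_cancel_left _ (by positivity)]
      exact Nat.odd_iff.2 (Nat.two_dvd_ne_zero.1 hm)
    have hwO : ((w ^ 2 ^ k : ↥N) : G) ∈ Φ.O := Φ.mem_O_of_odd
      (congrArg Subtype.val (hcm.pow_left (2 ^ k)).eq) (by rw [Subgroup.orderOf_coe]; exact hwo)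
    obtain ⟨r, hr, hrc⟩ := hT _ ⟨⟨_, E.pow_mem hwE _, rfl⟩, hwO⟩
    have hπr : π (w ^ 2 ^ k) = π ⟨r, hTN hr⟩ := by
      have h1 := hcl (⟨r, hTN hr⟩⁻¹ * w ^ 2 ^ k) hrc
      rw [map_mul, map_inv, inv_mul_eq_one] at h1
      exact h1.symm
    obtain ⟨j, hj⟩ : ∃ j : ℕ, (π e ^ 2 ^ k) ^ j = π e :=
      exists_pow_eq_self_of_coprime (hxo.coprime_two_left.pow_left k)
    rw [← hj, show π e ^ 2 ^ k = π ⟨r, hTN hr⟩ by rw [← hπd, ← map_pow, hπr]]
    refine ⟨((show Commute (⟨y, hyN⟩ : ↥N) ⟨r, hTN hr⟩ from Subtype.ext (hyT r hr).eq).map π).pow_right j, ?_⟩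
    rw [← conj_pow, ← inv_pow, ← map_inv, ← map_mul, ← map_mul, ← map_inv π]
    exact congrArg (fun z => π z ^ j) (Subtype.ext (hinv r hr))
  refine Subgroup.mem_centralizer_iff.2 ?_
  rintro _ ⟨e, he, rfl⟩
  have hm : ⁅e, (⟨y, hyN⟩ : ↥N)⁆ ∈ ⁅Cfsg.layer ↥N, Cfsg.oddCore ↥N⁆ :=
    Subgroup.commutator_mem_commutator he ((QuotientGroup.eq_one_iff (⟨y, hyN⟩ : ↥N)).1 key)
  rw [hO, Subgroup.mem_bot] at hm
  have hc : e * (⟨y, hyN⟩ : ↥N) = ⟨y, hyN⟩ * e := commutatorElement_eq_one_iff_mul_comm.1 hm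
  exact congrArg Subtype.val hc

/-- what centralises the layer contributes, beside the model, to the order of `G` -/
theorem card_mul_dvd_of_cent {G : Type u} [Group G] [Finite G] {P L : Subgroup G}
    (hP : P ≤ Subgroup.centralizer (L : Set G)) :
    Nat.card ↥P * (L ⊓ Subgroup.centralizer (L : Set G)).relIndex L ∣ Nat.card G := by
  let f : ↥P × ↥L →* G := MonoidHom.noncommCoprod P.subtype L.subtype fun x y =>
    (Subgroup.mem_centralizer_iff.1 (hP x.2) y y.2).symm
  obtain ⟨Z, hZ⟩ : ∃ Z, Z = L ⊓ Subgroup.centralizer (L : Set G) := ⟨_, rfl⟩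
  rw [← hZ]
  have hmem : ∀ z : f.ker, ((z : ↥P × ↥L).2 : G) ∈ Z := fun z => by
    have h : ((z : ↥P × ↥L).1 : G) * ((z : ↥P × ↥L).2 : G) = 1 := z.2
    rw [hZ]
    refine ⟨(z : ↥P × ↥L).2.2, ?_⟩
    rw [eq_inv_of_mul_eq_one_right h]
    exact (Subgroup.centralizer (L : Set G)).inv_mem (hP (z : ↥P × ↥L).1.2)
  let g : f.ker →* ↥Z :=
    { toFun := fun z => ⟨_, hmem z⟩
      map_one' := rfl
      map_mul' := fun _ _ => rfl }
  obtain ⟨c, hc⟩ : Nat.card f.ker ∣ Nat.card ↥Z := Subgroup.card_dvd_of_injective g fun a b hab => by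
    have hab' : ((a : ↥P × ↥L).2 : G) = ((b : ↥P × ↥L).2 : G) :=
      congrArg (fun w : ↥Z => (w : G)) hab
    have ha : ((a : ↥P × ↥L).1 : G) * ((a : ↥P × ↥L).2 : G) = 1 := a.2
    have hb : ((b : ↥P × ↥L).1 : G) * ((b : ↥P × ↥L).2 : G) = 1 := b.2
    rw [hab', ← hb] at ha
    exact Subtype.ext (Prod.ext (Subtype.ext (mul_right_cancel ha)) (Subtype.ext hab'))
  have h1 : Nat.card f.range * Nat.card f.ker = Nat.card ↥P * (Nat.card ↥Z * Z.relIndex L) := by
    rw [← Subgroup.index_ker, mul_comm, Subgroup.card_mul_index, Nat.card_prod]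
    congr 1
    rw [Subgroup.relIndex, ← Nat.card_congr (Subgroup.subgroupOfEquivOfLe (show Z ≤ L from hZ ▸ inf_le_left)).toEquiv,
      Subgroup.card_mul_index]
  refine dvd_trans ?_ (Subgroup.card_subgroup_dvd_card f.range)
  refine ⟨c, Nat.eq_of_mul_eq_mul_right (Nat.card_pos (α := f.ker)) ?_⟩
  rw [h1, hc]; ring

end Cfsg.Agent.GW
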