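import Cfsg.Agent.Lib.GW.MaxQPart
import Cfsg.Agent.Lib.GW.MaxFusion
import Cfsg.Agent.Lib.GW.MaxCfg
import Cfsg.Agent.Lib.GW.Meet

/-!
# A reflection fixing a part of `O_q(C(t))`: the configuration

If `D = O_q(C(t)) ∩ C(u) ≠ 1`, a maximal subgroup `N` with a layer holds the normaliser of every nontrivial subgroup
of `D`.  `A = O_q(C(t)) ∩ N` is abelian, `D = A ∩ C(lay N)` is cyclic and is the part of `O_q(C(t))` fixed by each
involution of `N ∩ C(t)` centralising it, and the centre of `O_q(C(t))` lies in the torus.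
-/

set_option autoImplicit false
set_option linter.unusedSectionVars false
set_option linter.style.haveILetI false

namespace Cfsg.Agent.GW

open Cfsg Cfsg.Agent
open scoped commutatorElement

universe w

variable {G : Type w} [Group G] [Finite G] [IsSimpleGroup G] {t u : G} {O N : Subgroup G} {v : G} {T : Subgroup G}
  {q : ℕ}

set_option quotPrecheck false in
local notation "Cz" => Subgroup.centralizer ({t} : Set G)

set_option quotPrecheck false in
local notation "Fq" => fq q (Subgroup.centralizer ({t} : Set G))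

/-- the configuration of a reflection `u` fixing a part of `O_q(C(t))` -/
structure QCfg (t u : G) (O : Subgroup G) (q : ℕ) (N : Subgroup G) (v : G) (T : Subgroup G) : Prop where
  hyp : QHyp t O
  prime : q.Prime
  odd : q ≠ 2
  uu : u * u = 1
  u_ne : u ≠ 1
  u_ne_t : u ≠ t
  tu : Commute u t
  coatom : IsCoatom N
  tN : t ∈ N
  uN : u ∈ N
  layer_ne : Cfsg.layer ↥N ≠ ⊥
  facts : LayerFacts t O N v T
  cent_le : layCent N ≤ Subgroup.centralizer ({t} : Set G)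
  cores_le : ∀ s : ℕ, s.Prime → s ≠ 2 → s ≠ q → fq s (Subgroup.centralizer ({t} : Set G)) ≤ N
  fix_le : fq q (Subgroup.centralizer ({t} : Set G)) ⊓ Subgroup.centralizer ({u} : Set G) ≤ N
  base : ∃ y ∈ fq q (Subgroup.centralizer ({t} : Set G)), Commute y u ∧ y ≠ 1 ∧
    Subgroup.normalizer (Subgroup.zpowers y : Set G) ≤ N

/-- no element of `O_q(C)` fixed by `u` is isolated in `C` -/
theorem QHyp.not_isolated (h : QHyp t O) (hq : q.Prime) (hq2 : q ≠ 2) (huu : u * u = 1) (hu1 : u ≠ 1) (hut : u ≠ t)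
    (htu : Commute u t) {y : G} (hy : y ∈ Fq) (hy1 : y ≠ 1) (hyu : Commute y u) :
    ¬ Subgroup.centralizer ({y} : Set G) ≤ Cz := by
  haveI := Fact.mk hq
  intro hle
  obtain ⟨ρ, hρt, hρu⟩ := h.rot u huu hu1 hut htu.symm
  have huC : u ∈ Cz := Subgroup.mem_centralizer_singleton_iff.2 htu.eq
  obtain ⟨Q, hQ, hFQ, huQ⟩ := Solv.exists_invariant_sylow_ge (h.mc.zpowers_norm htu.symm)
    (h.mc.coprime_zpowers huu) (Or.inr h.mc.core_solvable) (p := q) Fq (h.mc.fq_odd_le_core hq hq2)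
    (fq_isPGroup q _) (Subgroup.zpowers_le.2 (fq_le_norm q hq _ huC))
  have hcom := h.mc.commutes_sylow huu htu.symm hρt hρu (h.mc.fq_odd_le_core hq hq2 hy)
    ((fq_isPGroup q Cz).to_le (Subgroup.zpowers_le.2 hy)) hyu hle hQ (huQ (Subgroup.mem_zpowers u))
  haveI : Nontrivial ↥Fq := (Subgroup.nontrivial_iff_ne_bot _).2 fun e => hy1 (Subgroup.mem_bot.1 (e ▸ hy))
  haveI := (fq_isPGroup q Cz).center_nontrivial
  obtain ⟨z, hz⟩ := exists_ne (1 : Subgroup.center ↥Fq)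
  exact hz (Subtype.ext (Subtype.ext (h.np q hq hq2 u huu hu1 hut htu _ (z : ↥Fq).2
    (fun x hx => (congrArg Subtype.val (Subgroup.mem_center_iff.1 z.2 ⟨x, hx⟩)).symm)
    (hcom _ (hFQ (z : ↥Fq).2)).symm)))

/-- **the configuration exists** -/
theorem QHyp.exists_qcfg (h : QHyp t O) (hq : q.Prime) (hq2 : q ≠ 2) (huu : u * u = 1) (hu1 : u ≠ 1) (hut : u ≠ t)
    (htu : Commute u t) (hD : Fq ⊓ Subgroup.centralizer ({u} : Set G) ≠ ⊥) :
    ∃ (N : Subgroup G) (v : G) (T : Subgroup G), QCfg t u O q N v T := by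
  haveI := Fact.mk hq
  obtain ⟨K, hK⟩ : ∃ K, K = O ⊓ Subgroup.centralizer ({u} : Set G) := ⟨_, rfl⟩
  have hKmem : ∀ {x : G}, x ∈ K ↔ x ∈ O ∧ Commute x u := fun {x} => by
    rw [hK, Subgroup.mem_inf, Subgroup.mem_centralizer_singleton_iff]; exact Iff.rfl
  obtain ⟨D, hDdef⟩ : ∃ D, D = Fq ⊓ Subgroup.centralizer ({u} : Set G) := ⟨_, rfl⟩
  rw [← hDdef] at hD
  have hDmem : ∀ {x : G}, x ∈ D ↔ x ∈ Fq ∧ Commute x u := fun {x} => by
    rw [hDdef, Subgroup.mem_inf, Subgroup.mem_centralizer_singleton_iff]; exact Iff.rfl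
  have hfO : ∀ s : ℕ, s.Prime → s ≠ 2 → fq s Cz ≤ O := fun s hs hs2 => h.mc.fq_odd_le_core hs hs2
  -- the parts fixed by `u` lie in the cores of `K`
  have hKs : ∀ s : ℕ, s.Prime → s ≠ 2 → ∀ x ∈ fq s Cz, Commute x u → x ∈ fq s K := by
    intro s hs hs2 x hx hxu
    haveI := Fact.mk hs
    have hle : fq s Cz ⊓ K ≤ K := inf_le_right
    have hn : ((fq s Cz ⊓ K).subgroupOf K).Normal :=
      (Subgroup.normal_subgroupOf_iff_le_normalizer hle).2 (le_trans (le_inf (fun g hg => fq_le_norm s hs _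
        (h.mc.core_le (hKmem.1 hg).1)) Subgroup.le_normalizer) Subgroup.inf_normalizer_le_normalizer_inf)
    have hxK : x ∈ K := hKmem.2 ⟨hfO s hs hs2 hx, hxu⟩
    exact ⟨⟨x, hxK⟩, Solv.normal_le_pCore (((fq_isPGroup s Cz).to_le inf_le_left).of_equiv
      (Subgroup.subgroupOfEquivOfLe hle).symm) (show x ∈ fq s Cz ⊓ K from ⟨hx, hxK⟩), rfl⟩
  have hDK : ∀ x ∈ D, x ∈ fq q K := fun x hx => hKs q hq hq2 x (hDmem.1 hx).1 (hDmem.1 hx).2
  -- a central element of `O_q(K)` in `D`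
  obtain ⟨y, hyD, hy1, hyc⟩ : ∃ y ∈ D, y ≠ 1 ∧ ∀ x ∈ fq q K, Commute x y := by
    have hle : D ≤ fq q K := hDK
    have hn : (D.subgroupOf (fq q K)).Normal := by
      refine (Subgroup.normal_subgroupOf_iff_le_normalizer hle).2 fun g hg => mem_norm_of_conj fun x hx => ?_
      have hgK : g ∈ K := fq_le q K hg
      refine hDmem.2 ⟨conj_fq hq (h.mc.core_le (hKmem.1 hgK).1) (hDmem.1 hx).1, ?_⟩
      have := (Commute.conj_iff g).2 (hDmem.1 hx).2
      rwa [show g * u * g⁻¹ = u by rw [(hKmem.1 hgK).2.eq, mul_inv_cancel_right]] at this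
    obtain ⟨z, hz, hz1, hzc⟩ := exists_central_mem (fq_isPGroup q K) (D.subgroupOf (fq q K)) fun e => hD (by
      rw [Subgroup.subgroupOf_eq_bot] at e
      exact disjoint_self.1 (e.mono_right hle))
    exact ⟨z, hz, fun e => hz1 (Subtype.ext e), fun x hx => congrArg Subtype.val (hzc ⟨x, hx⟩).eq⟩
  obtain ⟨hyF, hyu⟩ := hDmem.1 hyD
  have hyne : Subgroup.zpowers y ≠ ⊥ := by simpa [Subgroup.zpowers_eq_bot] using hy1
  have hyFle : Subgroup.zpowers y ≤ Fq := Subgroup.zpowers_le.2 hyF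
  have hntop : Subgroup.normalizer (Subgroup.zpowers y : Set G) ≠ ⊤ := fun htop => by
    rcases (Subgroup.normalizer_eq_top_iff.1 htop).eq_bot_or_eq_top with he | he
    · exact hyne he
    · exact h.mc.max.1 (top_le_iff.1 (he ▸ hyFle.trans (fq_le q _)))
  obtain ⟨N, hN, hle⟩ := (eq_top_or_exists_le_coatom _).resolve_left hntop
  have hyN : ∀ g : G, Commute g y → g ∈ N := fun g hg => hle (Subgroup.centralizer_le_normalizer _
    (Subgroup.mem_centralizer_iff.2 fun z hz => by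
      obtain ⟨i, rfl⟩ := Subgroup.mem_zpowers_iff.1 hz
      exact (hg.symm.zpow_left i).eq))
  have htN : t ∈ N := hyN t (h.mc.core_commute (hfO q hq hq2 hyF)).symm
  have huN : u ∈ N := hyN u hyu.symm
  have hNC : N ≠ Cz := fun e => h.not_isolated hq hq2 huu hu1 hut htu hyF hy1 hyu fun g hg =>
    e ▸ hyN g (Subgroup.mem_centralizer_singleton_iff.1 hg)
  have hKN : ∀ s : ℕ, s.Prime → ∀ x ∈ fq s K, x ∈ N := fun s hs x hx => hyN x (by
    by_cases hsq : s = q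
    · exact hyc x (hsq ▸ hx)
    · exact commute_fq hs hq hsq hx (hDK y hyD))
  obtain ⟨ρ, hρt, hρu⟩ := h.rot u huu hu1 hut htu.symm
  obtain ⟨hρtu, -, -, -⟩ := rho_sq huu htu.symm hρt hρu
  have hρK : ρ ∈ Subgroup.normalizer (K : Set G) := mem_norm_of_conj fun x hx => by
    obtain ⟨hxO, hxu⟩ := hKmem.1 hx
    have h1 : Commute (ρ * x * ρ⁻¹) u := hρt ▸ (Commute.conj_iff ρ).2 (h.mc.core_commute hxO)
    have h2 : Commute (ρ * x * ρ⁻¹) (t * u) := hρu ▸ (Commute.conj_iff ρ).2 hxu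
    refine hKmem.2 ⟨h.mc.core _ ?_ ?_, h1⟩
    · have := h2.mul_right h1
      rwa [show t * u * u = t by rw [mul_assoc, huu, mul_one]] at this
    · rw [show ρ * x * ρ⁻¹ = MulAut.conj ρ x by simp, MulEquiv.orderOf_eq]
      exact h.mc.core_orderOf hxO
  have hfit : ∀ (g : G), g ∈ Subgroup.normalizer (K : Set G) → ∀ s : ℕ, s.Prime → s ≠ 2 → ∀ x ∈ fq s Cz,
      Commute x u → g * x * g⁻¹ ∈ N := by
    intro g hg s hs hs2 x hx hxu
    haveI := Fact.mk hs
    refine hKN s hs _ ?_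
    have hmap : K.map (MulAut.conj g).toMonoidHom = K := by
      refine Subgroup.eq_of_le_of_card_ge ?_ (le_of_eq (Subgroup.card_map_of_injective (MulAut.conj g).injective).symm)
      rintro _ ⟨z, hz, rfl⟩
      exact (Subgroup.mem_normalizer_iff.1 hg z).1 hz
    have := fq_map (G := G) s g K
    rw [hmap] at this
    exact this ▸ ⟨x, hKs s hs hs2 x hx hxu, rfl⟩
  have hlead := leads hyne (hyFle.trans (fq_le_fitting hq _)) hle
  have hFN := h.mc.fitting_le h.nonab huu htu.symm hρt hρu htN huN hlead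
    (fun s hs hs2 x hx hxtu => hfit ρ hρK s hs hs2 x hx (by
      have := (h.mc.core_commute (hfO s hs hs2 hx)).mul_right hxtu
      rwa [← mul_assoc, h.mc.sq, one_mul] at this))
    (fun s hs hs2 x hx hxu => hfit (ρ * ρ) (mul_mem hρK hρK) s hs hs2 x hx hxu)
  have hlne := h.mc.layer_ne h.nonab h.kproper hN hNC hlead hFN
  obtain ⟨v, T, f⟩ := h.layer N hN htN hlne
  exact ⟨N, v, T, h, hq, hq2, huu, hu1, hut, htu, hN, htN, huN, hlne, f, h.mc.layCent_le htN f.cent_odd hFN,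
    fun s hs hs2 hsq x hx => hyN x (commute_fq hs hq hsq hx hyF),
    fun x hx => hKN q hq x (hDK x (hDdef ▸ hx)), y, hyF, hyu, hy1, hle⟩

namespace QCfg

variable (c : QCfg t u O q N v T)
include c

theorem uC : u ∈ Cz := Subgroup.mem_centralizer_singleton_iff.2 c.tu.eq

/-- `O_q(C) ∩ N` is self-centralising -/
theorem A_self : ∀ x ∈ Fq, (∀ a ∈ Fq, a ∈ N → Commute x a) → x ∈ N := by
  intro x _ hc
  obtain ⟨y, hy, -, -, hyN⟩ := c.base
  refine hyN (Subgroup.centralizer_le_normalizer _ (Subgroup.mem_centralizer_iff.2 fun z hz => ?_))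
  obtain ⟨i, rfl⟩ := Subgroup.mem_zpowers_iff.1 hz
  exact (((hc y hy (hyN (Subgroup.le_normalizer (Subgroup.mem_zpowers y)))).symm).zpow_left i).eq

theorem torus : (N ⊓ Cz ≤ Subgroup.normalizer (T : Set G) ∧
      ∀ l ∈ lay N ⊓ O, ∃ r ∈ T, r⁻¹ * l ∈ Subgroup.centralizer (lay N : Set G)) ∧
    (∀ z ∈ N, z * z = 1 → z ≠ 1 → z ≠ t → Commute z t → ∀ x ∈ T, z * x * z⁻¹ = x⁻¹) ∧
    (∀ T' : Subgroup G, T' ≤ lay N ⊓ O → ¬ T' ≤ Subgroup.centralizer (lay N : Set G) →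
      N ⊓ Subgroup.normalizer (T' : Set G) ≤ Cz) := by
  obtain ⟨h1, h2, h3⟩ := c.hyp.part_torus c.facts c.prime c.odd c.cores_le c.A_self
  exact ⟨h1, h2, h3 c.cent_le⟩

theorem lsub : LSub t (lay N) v := c.hyp.mc.lsub c.tN c.layer_ne c.facts

theorem v_mem : v ∈ N := lay_le N c.facts.v_mem

theorem vC : v ∈ Cz := Subgroup.mem_centralizer_singleton_iff.2 c.facts.v_comm.eq

theorem norm_lay : Subgroup.normalizer (lay N : Set G) = N := by
  refine ((lay_norm N).eq_or_lt.resolve_right fun hlt => ?_).symm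
  rcases (Subgroup.normalizer_eq_top_iff.1 (c.coatom.2 _ hlt)).eq_bot_or_eq_top with he | he
  · exact c.lsub.not_le (he ▸ bot_le)
  · exact c.coatom.1 (top_le_iff.1 (he ▸ lay_le N))

/-- an element of a core inside `N` fixed by an involution of `N ∩ C` centralises the layer -/
theorem fixed {p : ℕ} (hp : p.Prime) (hp2 : p ≠ 2) {a : G} (ha : a ∈ fq p Cz) (haN : a ∈ N) {z : G} (hzN : z ∈ N)
    (hz : z * z = 1) (hz1 : z ≠ 1) (hzt : z ≠ t) (hzc : Commute z t) (haz : Commute a z) :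
    a ∈ Subgroup.centralizer (lay N : Set G) :=
  c.hyp.fixed_of_commute c.facts c.prime c.odd c.cores_le c.A_self hp hp2 ha haN hzN hz hz1 hzt hzc haz

/-- `D`: the part of `O_q(C) ∩ N` centralising the layer -/
theorem mem_D_of_commute {x : G} (hx : x ∈ Fq) (hxu : Commute x u) :
    x ∈ Fq ⊓ layCent N := by
  have hxN := c.fix_le ⟨hx, Subgroup.mem_centralizer_singleton_iff.2 hxu.eq⟩
  exact ⟨hx, hxN, c.fixed c.prime c.odd hx hxN c.uN c.uu c.u_ne c.u_ne_t c.tu hxu⟩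

/-- the centre of `O_q(C)` lies in the torus -/
theorem central_mem {x : G} (hx : x ∈ Fq) (hxc : ∀ w ∈ Fq, Commute x w) : x ∈ T ∧ x ∈ N := by
  have hxN : x ∈ N := c.A_self x hx fun a ha _ => hxc a ha
  obtain ⟨r, hr, -, -, d, -, -, hd, e⟩ := c.hyp.mc.decomp_part c.facts c.prime c.odd hx hxN
  have hrL : r ∈ lay N := (c.facts.T_le hr).1
  have hrd : Commute r d := Subgroup.mem_centralizer_iff.1 hd r hrL
  have hvd : v * d * v⁻¹ = d := by
    rw [Subgroup.mem_centralizer_iff.1 hd v c.facts.v_mem, mul_inv_cancel_right]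
  have hvr := c.torus.2.1 v c.v_mem c.facts.v_sq c.facts.v_ne c.facts.v_ne_t c.facts.v_comm r hr
  have h1 := c.hyp.center_inv c.prime c.odd c.facts.v_sq c.facts.v_ne c.facts.v_ne_t c.facts.v_comm hx hxc
  rw [e, show v * (r * d) * v⁻¹ = (v * r * v⁻¹) * (v * d * v⁻¹) by group, hvr, hvd, mul_inv_rev,
    ← hrd.inv_inv.eq] at h1
  have hd2 : d * d = 1 := by
    nth_rewrite 2 [mul_left_cancel h1]
    exact mul_inv_cancel d
  have hd1 : d = 1 := by
    obtain ⟨k, hk⟩ := c.hyp.mc.core_orderOf (x := d) (by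
      rw [show d = r⁻¹ * x by rw [e, inv_mul_cancel_left]]
      exact O.mul_mem (O.inv_mem (c.facts.T_le hr).2) (c.hyp.mc.fq_odd_le_core c.prime c.odd hx))
    have := pow_orderOf_eq_one d
    rwa [hk, pow_succ, pow_mul, pow_two, hd2, one_pow, one_mul] at this
  rw [hd1, mul_one] at e
  exact ⟨e ▸ hr, hxN⟩

/-- `O_q(C)` is not inside `N` -/
theorem F_not_le : ¬ Fq ≤ N := by
  intro hF
  obtain ⟨y, hy, hyu, hy1, hyN⟩ := c.base
  have hNC : N ≠ Cz := fun e => c.hyp.not_isolated c.prime c.odd c.uu c.u_ne c.u_ne_t c.tu hy hy1 hyu fun g hg =>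
    e ▸ hyN (Subgroup.centralizer_le_normalizer _ (Subgroup.mem_centralizer_iff.2 fun z hz => by
      obtain ⟨i, rfl⟩ := Subgroup.mem_zpowers_iff.1 hz
      exact ((show Commute y g from (Subgroup.mem_centralizer_singleton_iff.1 hg).symm).zpow_left i).eq))
  refine c.hyp.noLayer N c.coatom c.tN hNC (fun s hs hs2 => ?_) c.layer_ne q c.prime c.odd (Subgroup.zpowers y)
    (by simpa [Subgroup.zpowers_eq_bot] using hy1) (Subgroup.zpowers_le.2 hy) hyN
  by_cases hsq : s = q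
  · exact hsq ▸ hF
  · exact c.cores_le s hs hs2 hsq

theorem y_mem : ∃ y ∈ Fq ⊓ layCent N, y ≠ 1 ∧ Commute y u ∧ Subgroup.normalizer (Subgroup.zpowers y : Set G) ≤ N := by
  obtain ⟨y, hy, hyu, hy1, hyN⟩ := c.base
  exact ⟨y, c.mem_D_of_commute hy hyu, hy1, hyu, hyN⟩

/-- the normaliser of a nontrivial part of `D` normalised by `y` -/
theorem norm_le_of {X : Subgroup G} (hX : X ≠ ⊥) (hXD : X ≤ Fq ⊓ layCent N) {y : G} (hyD : y ∈ Fq ⊓ layCent N)
    (hy : Subgroup.normalizer (Subgroup.zpowers y : Set G) ≤ N) (hyX : y ∈ Subgroup.normalizer (X : Set G)) :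
    Subgroup.normalizer (X : Set G) ≤ N := by
  have hXF : X ≤ Fq := hXD.trans inf_le_left
  have hne : Subgroup.normalizer (X : Set G) ≠ ⊤ := fun htop => by
    rcases (Subgroup.normalizer_eq_top_iff.1 htop).eq_bot_or_eq_top with he | he
    · exact hX he
    · exact c.hyp.mc.max.1 (top_le_iff.1 (he ▸ hXF.trans (fq_le q _)))
  obtain ⟨M, hM, hleM⟩ := (eq_top_or_exists_le_coatom _).resolve_left hne
  have hLX : lay N ≤ Subgroup.centralizer (X : Set G) :=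
    Subgroup.le_centralizer_iff.1 fun x hx => (hXD hx).2.2
  obtain ⟨v', T', f', hLM, htM, hlM⟩ :=
    c.hyp.mc.trick c.hyp.nonab c.hyp.layer c.lsub c.prime hX hXF hLX hM hleM
  have hXM : ∀ {g : G}, (∀ x ∈ X, Commute g x) → g ∈ M := fun {g} hg =>
    hleM (Subgroup.centralizer_le_normalizer _ (Subgroup.mem_centralizer_iff.2 fun x hx => (hg x hx).eq.symm))
  have hs : ∀ s : ℕ, s.Prime → s ≠ 2 → s ≠ q → fq s Cz ≤ M := fun s hs _ hsq a ha =>
    hXM fun x hx => commute_fq hs c.prime hsq ha (hXF hx)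
  have hA : ∀ x ∈ Fq, (∀ a ∈ Fq, a ∈ M → Commute x a) → x ∈ M := fun x _ hc =>
    hXM fun a ha => hc a (hXF ha) (hleM (Subgroup.le_normalizer ha))
  have hvM : v ∈ M := lay_le M (hLM c.facts.v_mem)
  have hyv : Commute y v := (Subgroup.mem_centralizer_iff.1 hyD.2.2 v c.facts.v_mem).symm
  have hyL := c.hyp.fixed_of_commute f' c.prime c.odd hs hA c.prime c.odd hyD.1 (hleM hyX) hvM c.facts.v_sq
    c.facts.v_ne c.facts.v_ne_t c.facts.v_comm hyv
  have hMN : lay M ≤ N := fun l hl => hy (Subgroup.centralizer_le_normalizer _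
    (Subgroup.mem_centralizer_iff.2 fun z hz => by
      obtain ⟨i, rfl⟩ := Subgroup.mem_zpowers_iff.1 hz
      exact ((show Commute y l from (Subgroup.mem_centralizer_iff.1 hyL l hl).symm).zpow_left i).eq))
  have heq : lay M = lay N := le_antisymm ((c.hyp.mc.lsub htM hlM f').le_lay hMN c.facts) hLM
  refine hleM.trans ?_
  rw [← c.norm_lay, ← heq]
  exact lay_norm M

/-- `N` normalises `D` inside `C` -/
theorem norm_D {g : G} (hg : g ∈ N) (hgC : g ∈ Cz) {x : G} (hx : x ∈ Fq ⊓ layCent N) :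
    g * x * g⁻¹ ∈ Fq ⊓ layCent N :=
  ⟨conj_fq c.prime hgC hx.1, (Subgroup.mem_normalizer_iff.1 (layCent_norm N hg) x).1 hx.2⟩

/-- a conjugate of `D` under an element moving `N` meets `D` trivially -/
theorem conj_disjoint {g : G} (hg : g ∈ Fq) (hgA : ∀ a ∈ Fq, a ∈ N → g * a * g⁻¹ ∈ N) (hgN : g ∉ N) {x : G}
    (hx : x ∈ Fq ⊓ layCent N) (hgx : g * x * g⁻¹ ∈ Fq ⊓ layCent N) : x = 1 := by
  obtain ⟨y, hyD, -, -, hy⟩ := c.y_mem
  by_contra hx1
  obtain ⟨X, hXdef⟩ : ∃ X, X = (Fq ⊓ layCent N) ⊓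
      (Fq ⊓ layCent N).comap (MulAut.conj g).toMonoidHom := ⟨_, rfl⟩
  have hXmem : ∀ {z : G}, z ∈ X ↔ z ∈ Fq ⊓ layCent N ∧ g * z * g⁻¹ ∈ Fq ⊓ layCent N := fun {z} => by
    rw [hXdef, Subgroup.mem_inf]; exact Iff.rfl
  have hgC : g ∈ Cz := fq_le q _ hg
  have hyn : y ∈ Subgroup.normalizer (X : Set G) := mem_norm_of_conj fun z hz => by
    obtain ⟨h1, h2⟩ := hXmem.1 hz
    refine hXmem.2 ⟨c.norm_D hyD.2.1 (fq_le q _ hyD.1) h1, ?_⟩
    rw [show g * (y * z * y⁻¹) * g⁻¹ = (g * y * g⁻¹) * (g * z * g⁻¹) * (g * y * g⁻¹)⁻¹ by group]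
    exact c.norm_D (hgA y hyD.1 hyD.2.1) (mul_mem (mul_mem hgC (fq_le q _ hyD.1)) (inv_mem hgC)) h2
  have hN' := c.norm_le_of (X := X) (fun e => hx1 (Subgroup.mem_bot.1 (e ▸ hXmem.2 ⟨hx, hgx⟩)))
    (fun z hz => (hXmem.1 hz).1) hyD hy hyn
  have hL' := c.lsub.conj (inv_mem hgC)
  have hle : (lay N).map (MulAut.conj g⁻¹).toMonoidHom ≤ N := by
    rintro _ ⟨l, hl, rfl⟩
    refine hN' (Subgroup.centralizer_le_normalizer _ (Subgroup.mem_centralizer_iff.2 fun z hz => ?_))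
    have h1 : Commute l (g * z * g⁻¹) := Subgroup.mem_centralizer_iff.1 (hXmem.1 hz).2.2.2 l hl
    have h2 := (Commute.conj_iff g⁻¹).2 h1
    rw [show g⁻¹ * (g * z * g⁻¹) * g⁻¹⁻¹ = z by group] at h2
    exact h2.symm.eq
  have heq := Subgroup.eq_of_le_of_card_ge (hL'.le_lay hle c.facts)
    (le_of_eq (Subgroup.card_map_of_injective (MulAut.conj g⁻¹).injective).symm)
  refine hgN (inv_mem_iff.1 (c.norm_lay.le (mem_norm_of_conj fun l hl => ?_)))
  exact heq.le ⟨l, hl, rfl⟩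

/-- some element of `O_q(C)` outside `N` normalises `O_q(C) ∩ N` -/
theorem exists_mover : ∃ g ∈ Fq, g ∉ N ∧ ∀ a ∈ Fq, a ∈ N → g * a * g⁻¹ ∈ N := by
  haveI := Fact.mk c.prime
  haveI : Group.IsNilpotent ↥Fq := (fq_isPGroup q Cz).isNilpotent
  have hlt : N.subgroupOf Fq < ⊤ := lt_top_iff_ne_top.2 fun e => c.F_not_le (Subgroup.subgroupOf_eq_top.1 e)
  obtain ⟨g, hg, hg'⟩ := SetLike.exists_of_lt (Group.normalizerCondition_of_isNilpotent _ hlt)
  exact ⟨(g : G), g.2, hg', fun a ha haN => ((Subgroup.mem_normalizer_iff.1 hg ⟨a, ha⟩).1 haN :)⟩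

/-- `O_q(C) ∩ N` is abelian -/
theorem A_comm {a b : G} (ha : a ∈ Fq) (haN : a ∈ N) (hb : b ∈ Fq) (hbN : b ∈ N) : Commute a b := by
  have key : ∀ {a b : G}, a ∈ Fq → a ∈ N → b ∈ Fq → b ∈ N → ⁅a, b⁆ ∈ Fq ⊓ layCent N := by
    intro a b ha haN hb hbN
    refine Subgroup.mem_inf.2 ⟨?_, Subgroup.mem_inf.2 ⟨?_, ?_⟩⟩
    · rw [commutatorElement_def]; exact mul_mem (mul_mem (mul_mem ha hb) (inv_mem ha)) (inv_mem hb)
    · rw [commutatorElement_def]; exact mul_mem (mul_mem (mul_mem haN hbN) (inv_mem haN)) (inv_mem hbN)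
    · obtain ⟨r, hr, -, -, d, -, -, hd, rfl⟩ := c.hyp.mc.decomp_part c.facts c.prime c.odd ha haN
      obtain ⟨r', hr', -, -, d', -, -, hd', rfl⟩ := c.hyp.mc.decomp_part c.facts c.prime c.odd hb hbN
      haveI := c.facts.T_cyclic
      have hrr : Commute r r' := congrArg Subtype.val ((IsCyclic.commGroup (α := T)).mul_comm ⟨r, hr⟩ ⟨r', hr'⟩)
      have e1 : Commute r d' := Subgroup.mem_centralizer_iff.1 hd' r (c.facts.T_le hr).1
      have e2 : Commute r' d := Subgroup.mem_centralizer_iff.1 hd r' (c.facts.T_le hr').1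
      rw [show ⁅r * d, r' * d'⁆ = ⁅d, d'⁆ by
        rw [commutatorElement_def, commutatorElement_def]
        calc r * d * (r' * d') * (r * d)⁻¹ * (r' * d')⁻¹
            = r * (d * r') * (d' * d⁻¹) * r⁻¹ * d'⁻¹ * r'⁻¹ := by group
          _ = (r * r') * (d * d' * d⁻¹) * r⁻¹ * d'⁻¹ * r'⁻¹ := by rw [← e2.eq]; group
          _ = (r' * r) * (d * d' * d⁻¹) * r⁻¹ * d'⁻¹ * r'⁻¹ := by rw [hrr.eq]
          _ = r' * ((d * d' * d⁻¹) * r) * r⁻¹ * d'⁻¹ * r'⁻¹ := by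
            rw [show r' * r * (d * d' * d⁻¹) = r' * (r * (d * d' * d⁻¹)) by group,
              Subgroup.mem_centralizer_iff.1 (mul_mem (mul_mem hd hd') (inv_mem hd)) r (c.facts.T_le hr).1]
          _ = r' * (d * d' * d⁻¹ * d'⁻¹) * r'⁻¹ := by group
          _ = _ := by
            rw [Subgroup.mem_centralizer_iff.1 (mul_mem (mul_mem (mul_mem hd hd') (inv_mem hd)) (inv_mem hd')) r'
              (c.facts.T_le hr').1, mul_inv_cancel_right]]
      rw [commutatorElement_def]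
      exact mul_mem (mul_mem (mul_mem hd hd') (inv_mem hd)) (inv_mem hd')
  obtain ⟨g, hg, hgN, hgA⟩ := c.exists_mover
  refine commutatorElement_eq_one_iff_commute.1 (c.conj_disjoint hg hgA hgN (key ha haN hb hbN) ?_)
  rw [show g * ⁅a, b⁆ * g⁻¹ = ⁅g * a * g⁻¹, g * b * g⁻¹⁆ by rw [commutatorElement_def, commutatorElement_def]; group]
  exact key (Subgroup.mul_mem _ (Subgroup.mul_mem _ hg ha) (Subgroup.inv_mem _ hg)) (hgA a ha haN) (Subgroup.mul_mem _ (Subgroup.mul_mem _ hg hb) (Subgroup.inv_mem _ hg))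
    (hgA b hb hbN)

/-- **`N` holds the normalisers of the parts of `D`** -/
theorem norm_le {X : Subgroup G} (hX : X ≠ ⊥) (hXD : X ≤ Fq ⊓ layCent N) :
    Subgroup.normalizer (X : Set G) ≤ N := by
  obtain ⟨y, hyD, -, -, hy⟩ := c.y_mem
  refine c.norm_le_of hX hXD hyD hy (mem_norm_of_conj fun x hx => ?_)
  rw [(c.A_comm hyD.1 hyD.2.1 (hXD hx).1 (hXD hx).2.1).eq, mul_inv_cancel_right]
  exact hx

/-- the centraliser of a nontrivial element of `D` lies in `N` -/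
theorem cent_mem {d : G} (hd : d ∈ Fq ⊓ layCent N) (hd1 : d ≠ 1) {g : G} (hg : Commute g d) : g ∈ N :=
  c.norm_le (X := Subgroup.zpowers d) (by simpa [Subgroup.zpowers_eq_bot] using hd1) (Subgroup.zpowers_le.2 hd)
    (Subgroup.centralizer_le_normalizer _ (Subgroup.mem_centralizer_iff.2 fun z hz => by
      obtain ⟨i, rfl⟩ := Subgroup.mem_zpowers_iff.1 hz
      exact (hg.symm.zpow_left i).eq))

/-- `D` is cyclic -/
theorem D_cyclic : IsCyclic ↥(Fq ⊓ layCent N) := by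
  haveI := c.facts.T_cyclic
  obtain ⟨g, hg, hgN, hgA⟩ := c.exists_mover
  have hmem : ∀ x : ↥(Fq ⊓ layCent N), g * (x : G) * g⁻¹ ∈ Fq ∧ g * (x : G) * g⁻¹ ∈ N := fun x =>
    ⟨Subgroup.mul_mem _ (Subgroup.mul_mem _ hg x.2.1) (Subgroup.inv_mem _ hg), hgA _ x.2.1 x.2.2.1⟩
  -- `a ↦ a (v a⁻¹ v⁻¹)` on `A`
  have hdbl : ∀ a : G, a ∈ Fq → a ∈ N → a * (v * a⁻¹ * v⁻¹) ∈ T ∧
      (a * (v * a⁻¹ * v⁻¹) = 1 → a ∈ Fq ⊓ layCent N) := by
    intro a ha haN
    obtain ⟨r, hr, -, -, d, hdF, hdN, hd, rfl⟩ := c.hyp.mc.decomp_part c.facts c.prime c.odd ha haN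
    have hrd : Commute r d := Subgroup.mem_centralizer_iff.1 hd r (c.facts.T_le hr).1
    have hvd : v * d⁻¹ * v⁻¹ = d⁻¹ := by
      rw [Subgroup.mem_centralizer_iff.1 (inv_mem hd) v c.facts.v_mem, mul_inv_cancel_right]
    have hvr := c.torus.2.1 v c.v_mem c.facts.v_sq c.facts.v_ne c.facts.v_ne_t c.facts.v_comm r⁻¹ (inv_mem hr)
    have e : r * d * (v * (r * d)⁻¹ * v⁻¹) = r * r := by
      calc r * d * (v * (r * d)⁻¹ * v⁻¹) = r * d * ((v * d⁻¹ * v⁻¹) * (v * r⁻¹ * v⁻¹)) := by group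
        _ = _ := by rw [hvd, hvr, inv_inv]; group
    rw [e]
    refine ⟨mul_mem hr hr, fun e2 => ?_⟩
    have hr1 : r = 1 := by
      obtain ⟨k, hk⟩ := odd_orderOf c.hyp.mc.core_odd (c.facts.T_le hr).2
      have := pow_orderOf_eq_one r
      rwa [hk, pow_succ, pow_mul, pow_two, e2, one_pow, one_mul] at this
    rw [hr1, one_mul]
    exact ⟨hdF, hdN, hd⟩
  let φ : ↥(Fq ⊓ layCent N) →* ↥T :=
    { toFun := fun x => ⟨_, (hdbl _ (hmem x).1 (hmem x).2).1⟩
      map_one' := Subtype.ext (by simp)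
      map_mul' := fun x y => Subtype.ext (by
        simp only [Subgroup.coe_mul]
        obtain ⟨a, ha⟩ : ∃ a, a = g * (x : G) * g⁻¹ := ⟨_, rfl⟩
        obtain ⟨b, hb⟩ : ∃ b, b = g * (y : G) * g⁻¹ := ⟨_, rfl⟩
        rw [show g * ((x : G) * (y : G)) * g⁻¹ = a * b by rw [ha, hb]; group, ← ha, ← hb]
        have hab : Commute a b := c.A_comm (ha ▸ (hmem x).1) (ha ▸ (hmem x).2) (hb ▸ (hmem y).1) (hb ▸ (hmem y).2)
        have hva : v * a⁻¹ * v⁻¹ ∈ Fq ∧ v * a⁻¹ * v⁻¹ ∈ N :=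
          ⟨conj_fq c.prime c.vC (inv_mem (ha ▸ (hmem x).1)),
            mul_mem (mul_mem c.v_mem (inv_mem (ha ▸ (hmem x).2))) (inv_mem c.v_mem)⟩
        have h1 : Commute b (v * a⁻¹ * v⁻¹) := c.A_comm (hb ▸ (hmem y).1) (hb ▸ (hmem y).2) hva.1 hva.2
        calc a * b * (v * (a * b)⁻¹ * v⁻¹) = a * b * (v * (a⁻¹ * b⁻¹) * v⁻¹) := by rw [hab.inv_inv.eq, ← mul_inv_rev]
          _ = a * (b * (v * a⁻¹ * v⁻¹)) * (v * b⁻¹ * v⁻¹) := by group
          _ = _ := by rw [h1.eq]; group) }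
  refine isCyclic_of_injective φ ((injective_iff_map_eq_one φ).2 fun x hx => Subtype.ext ?_)
  exact c.conj_disjoint hg hgA hgN x.2 ((hdbl _ (hmem x).1 (hmem x).2).2 (congrArg Subtype.val hx))

/-- `u` centralises `D` -/
theorem D_commute {x : G} (hx : x ∈ Fq ⊓ layCent N) : Commute x u := by
  haveI := Fact.mk c.prime
  haveI := c.D_cyclic
  obtain ⟨y, hyD, hy1, hyu, -⟩ := c.y_mem
  obtain ⟨d, hd⟩ := IsCyclic.exists_generator (α := ↥(Fq ⊓ layCent N))
  obtain ⟨n, hn⟩ := Subgroup.mem_zpowers_iff.1 (hd ⟨u * (d : G) * u⁻¹, c.norm_D c.uN c.uC d.2⟩)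
  replace hn : u * (d : G) * u⁻¹ = (d : G) ^ n := (congrArg Subtype.val hn).symm.trans (by simp)
  have hsq : (d : G) ^ (n * n - 1) = 1 := by
    have h2 : u * ((d : G) ^ n) * u⁻¹ = (d : G) := by
      rw [← hn, show u * (u * (d : G) * u⁻¹) * u⁻¹ = u * u * d * (u * u)⁻¹ by group, c.uu]; group
    rw [← conj_zpow, hn, ← zpow_mul] at h2
    rw [zpow_sub, h2, zpow_one, mul_inv_cancel]
  obtain ⟨i, hi⟩ := IsPGroup.iff_orderOf.1 (fq_isPGroup q Cz) ⟨(d : G), d.2.1⟩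
  rw [Subgroup.orderOf_mk] at hi
  have hdvd : ((q : ℤ) ^ i) ∣ (n - 1) * (n + 1) := by
    rw [show (n - 1) * (n + 1) = n * n - 1 by ring, ← Nat.cast_pow, ← hi]
    exact orderOf_dvd_iff_zpow_eq_one.2 hsq
  have hcases : ((q : ℤ) ^ i) ∣ n - 1 ∨ ((q : ℤ) ^ i) ∣ n + 1 := by
    have hqp : Prime (q : ℤ) := Nat.prime_iff_prime_int.1 c.prime
    by_cases h1 : (q : ℤ) ∣ n - 1
    · refine Or.inl (hqp.pow_dvd_of_dvd_mul_right i ?_ hdvd)
      intro h2
      have h3 : (q : ℤ) ∣ 2 := by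
        have := dvd_sub h2 h1
        rwa [show n + 1 - (n - 1) = 2 by ring] at this
      exact c.odd (((Nat.prime_dvd_prime_iff_eq c.prime Nat.prime_two).1 (Int.natCast_dvd_natCast.1 h3)))
    · exact Or.inr (hqp.pow_dvd_of_dvd_mul_left i h1 hdvd)
  obtain ⟨j, hj⟩ := Subgroup.mem_zpowers_iff.1 (hd ⟨x, hx⟩)
  replace hj : (d : G) ^ j = x := by simpa using congrArg Subtype.val hj
  rcases hcases with h1 | h1
  · have hdu : u * (d : G) * u⁻¹ = d := by
      rw [hn, ← mul_inv_eq_one, ← zpow_sub_one]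
      exact orderOf_dvd_iff_zpow_eq_one.1 (by rw [hi]; push_cast; exact h1)
    rw [← hj]
    exact (show Commute (d : G) u from (mul_inv_eq_iff_eq_mul.1 hdu).symm).zpow_left j
  · exfalso
    have hdu : u * (d : G) * u⁻¹ = (d : G)⁻¹ := by
      rw [hn, ← mul_inv_eq_one, inv_inv, ← zpow_add_one]
      exact orderOf_dvd_iff_zpow_eq_one.1 (by rw [hi]; push_cast; exact h1)
    obtain ⟨k, hk⟩ := Subgroup.mem_zpowers_iff.1 (hd ⟨y, hyD⟩)
    replace hk : (d : G) ^ k = y := by simpa using congrArg Subtype.val hk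
    refine hy1 (eq_one_of_inv_fix (z := u) (c.hyp.mc.core_orderOf (c.hyp.mc.fq_odd_le_core c.prime c.odd hyD.1)) ?_
      hyu.symm)
    rw [← hk, ← conj_zpow, hdu, inv_zpow]

/-- **`D` is the part of `O_q(C)` fixed by an involution of `N ∩ C` centralising it** -/
theorem fixed_eq {z : G} (hzN : z ∈ N) (hz : z * z = 1) (hz1 : z ≠ 1) (hzt : z ≠ t) (hzc : Commute z t)
    (hzD : ∀ x ∈ Fq ⊓ layCent N, Commute x z) :
    Fq ⊓ Subgroup.centralizer ({z} : Set G) = Fq ⊓ layCent N := by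
  haveI := Fact.mk c.prime
  refine le_antisymm ?_ fun x hx => ⟨hx.1, Subgroup.mem_centralizer_singleton_iff.2 (hzD x hx).eq⟩
  by_contra hne
  obtain ⟨H, hH⟩ : ∃ H, H = Fq ⊓ Subgroup.centralizer ({z} : Set G) := ⟨_, rfl⟩
  rw [← hH] at hne
  haveI : Group.IsNilpotent ↥H := ((fq_isPGroup q Cz).to_le (hH ▸ inf_le_left)).isNilpotent
  have hlt : (Fq ⊓ layCent N).subgroupOf H < ⊤ :=
    lt_top_iff_ne_top.2 fun e => hne (Subgroup.subgroupOf_eq_top.1 e)
  obtain ⟨g, hg, hg'⟩ := SetLike.exists_of_lt (Group.normalizerCondition_of_isNilpotent _ hlt)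
  obtain ⟨hgF, hgz⟩ := Subgroup.mem_inf.1 (hH.le g.2)
  refine hg' (show (g : G) ∈ Fq ⊓ layCent N from ?_)
  have hgN : (g : G) ∈ N := by
    obtain ⟨y, hyD, hy1, -, -⟩ := c.y_mem
    refine c.norm_le (X := Fq ⊓ layCent N) (fun e => hy1 (Subgroup.mem_bot.1 (e ▸ hyD))) le_rfl
      (mem_norm_of_conj fun x hx => ?_)
    have hxH : x ∈ H := hH.symm ▸ ⟨hx.1, Subgroup.mem_centralizer_singleton_iff.2 (hzD x hx).eq⟩
    exact ((Subgroup.mem_normalizer_iff.1 hg ⟨x, hxH⟩).1 hx :)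
  exact ⟨hgF, hgN, c.fixed c.prime c.odd hgF hgN hzN hz hz1 hzt hzc
    (Subgroup.mem_centralizer_singleton_iff.1 hgz)⟩

/-- the part fixed by `u` -/
theorem fixed_u : Fq ⊓ Subgroup.centralizer ({u} : Set G) = Fq ⊓ layCent N :=
  c.fixed_eq c.uN c.uu c.u_ne c.u_ne_t c.tu fun _ hx => c.D_commute hx

end QCfg

end Cfsg.Agent.GW
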