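import Cfsg.Agent.Lib.GW.MaxQTwo
import Cfsg.Agent.Lib.GW.NormalFour
import Cfsg.Agent.Lib.GW.MaxInputs
import Cfsg.Agent.Lib.GW.EightLinearDegree
import Cfsg.Agent.Lib.Fusion.IsolatedSylow
import Cfsg.Agent.Lib.Solv.Partition.Engine
import Mathlib.GroupTheory.FiniteAbelian.Duality

/-!
# A fixed part, no reflection fixing anything of the second centre

Every reflection inverts `Z = Z₂(O_q(C(t)))`, so the rotations centralise `O` and `C(t)` has a linear character, trivial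
on `Z` and on the Sylow subgroup, that the fusion of each four group respects: `eight_degree_false`.
-/

set_option autoImplicit false
set_option linter.unusedSectionVars false
set_option linter.style.haveILetI false

namespace Cfsg.Agent.GW

open Cfsg Cfsg.Agent DihedralGroup
open scoped commutatorElement

universe w

variable {G : Type w} [Group G] [Finite G] [IsSimpleGroup G]

/-- a `2`-element centralising the odd cores centralises the core -/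
theorem MaxCent.centralises_of_cores {t : G} {O : Subgroup G} (h : MaxCent t O) {s : G}
    (hsC : s ∈ Subgroup.centralizer ({t} : Set G)) {n : ℕ} (hs : s ^ 2 ^ n = 1)
    (hF : ∀ p : ℕ, p.Prime → p ≠ 2 → ∀ x ∈ fq p (Subgroup.centralizer ({t} : Set G)), Commute s x) :
    ∀ a ∈ O, Commute s a := by
  intro a ha
  obtain ⟨c, hc⟩ : ∃ c, c = a * s * a⁻¹ * s⁻¹ := ⟨_, rfl⟩
  have haC := h.core_le ha
  have hcO : c ∈ O := by
    rw [hc, show a * s * a⁻¹ * s⁻¹ = a * (s * a⁻¹ * s⁻¹) by group]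
    exact mul_mem ha ((Subgroup.mem_normalizer_iff.1 (h.core_norm hsC) _).1 (inv_mem ha))
  have hcF : ∀ p : ℕ, p.Prime → p ≠ 2 → ∀ x ∈ fq p (Subgroup.centralizer ({t} : Set G)), Commute c x := by
    intro p hp hp2 x hx
    have hx' := conj_fq hp (inv_mem haC) hx
    rw [inv_inv] at hx'
    have h1 := (Commute.conj_iff a).2 (hF p hp hp2 _ hx')
    rw [show a * (a⁻¹ * x * a) * a⁻¹ = x by group] at h1
    exact hc ▸ h1.mul_left (hF p hp hp2 x hx).inv_left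
  have hsc : Commute s c := h.fit_commute hcO (h.mem_fit hcO hcF) fun p k hp hp2 x _ _ hxq => hF p hp hp2 x hxq
  have h2 : (a * s * a⁻¹) ^ 2 ^ n = 1 := by rw [conj_pow, hs, mul_one, mul_inv_cancel]
  rw [show a * s * a⁻¹ = c * s by rw [hc, inv_mul_cancel_right], hsc.symm.mul_pow, hs, mul_one] at h2
  have hc1 : c = 1 := orderOf_eq_one_iff.1 (Nat.eq_one_of_dvd_coprimes
    ((h.core_orderOf hcO).coprime_two_left.pow_left n) (orderOf_dvd_of_pow_eq_one h2) dvd_rfl)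
  show s * a = a * s
  rw [hc, mul_inv_eq_one, mul_inv_eq_iff_eq_mul] at hc1
  exact hc1.symm

namespace Frame

variable (Φ : Frame G)

theorem hom_r_eq (j : ZMod (2 ^ Φ.k)) : Φ.hom (r j) = Φ.refl 0 * Φ.refl j := by
  rw [← Φ.hom_sr, ← Φ.hom_sr, ← map_mul, sr_mul_sr, sub_zero]

theorem refl_comm (i : ZMod (2 ^ Φ.k)) : Commute (Φ.refl i) Φ.t := (Φ.commute i).symm

/-- an element of `C(t)` is uniquely an element of `O` times one of `S` -/
theorem decomp_exists {c : G} (hc : c ∈ Subgroup.centralizer ({Φ.t} : Set G)) :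
    ∃ a ∈ Φ.O, ∃ p ∈ (Φ.S : Subgroup G), c = a * p := by
  have hn : (Φ.S : Subgroup G) ≤ Subgroup.normalizer (Φ.O : Set G) := fun s hs =>
    mem_norm_of_conj fun y hy => Φ.O_norm s (Φ.S_le hs) y hy
  rw [← Φ.O_sup, ← SetLike.mem_coe, Subgroup.coe_mul_of_right_le_normalizer_left _ _ hn] at hc
  obtain ⟨a, ha, p, hp, e⟩ := hc
  exact ⟨a, ha, p, hp, e.symm⟩

theorem decomp_unique {a a' p p' : G} (ha : a ∈ Φ.O) (ha' : a' ∈ Φ.O) (hp : p ∈ (Φ.S : Subgroup G))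
    (hp' : p' ∈ (Φ.S : Subgroup G)) (e : a * p = a' * p') : a = a' ∧ p = p' := by
  haveI : Fact (Nat.Prime 2) := ⟨Nat.prime_two⟩
  have hd : a'⁻¹ * a = p' * p⁻¹ := by
    rw [eq_mul_inv_iff_mul_eq, mul_assoc, e, inv_mul_cancel_left]
  obtain ⟨n, hn⟩ := IsPGroup.iff_orderOf.1 Φ.S.isPGroup' ⟨_, mul_mem hp' (inv_mem hp)⟩
  rw [Subgroup.orderOf_mk] at hn
  have h1 : p' * p⁻¹ = 1 := orderOf_eq_one_iff.1 (Nat.eq_one_of_dvd_coprimes
    (Φ.O_odd.coprime_two_left.pow_left n) hn.dvd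
    (Subgroup.orderOf_dvd_natCard Φ.O (hd ▸ mul_mem (inv_mem ha') ha)))
  refine ⟨(inv_mul_eq_one.1 (hd.trans h1)).symm, (mul_inv_eq_one.1 h1).symm⟩

/-- the centraliser of `⟨t, u⟩` -/
theorem card_cent_pair (i : ZMod (2 ^ Φ.k)) :
    Nat.card ↥(Subgroup.centralizer ({Φ.t, Φ.refl i} : Set G)) =
      4 * Nat.card ↥(Φ.O ⊓ Subgroup.centralizer ({Φ.refl i} : Set G)) := by
  haveI : NeZero (2 ^ Φ.k) := ⟨by positivity⟩
  have hCmem : ∀ x : G, x ∈ Subgroup.centralizer ({Φ.t, Φ.refl i} : Set G) ↔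
      Commute x Φ.t ∧ Commute x (Φ.refl i) := by
    intro x
    rw [Subgroup.mem_centralizer_iff]
    constructor
    · exact fun h => ⟨(h _ (Set.mem_insert _ _)).symm, (h _ (Set.mem_insert_of_mem _ rfl)).symm⟩
    · rintro ⟨h1, h2⟩ y (rfl | rfl)
      · exact h1.eq.symm
      · exact h2.eq.symm
  let V : Subgroup (DihedralGroup (2 ^ Φ.k)) := Fusion.DihedralFours.four (2 ^ Φ.k) i
  have hV : ∀ d, d ∈ V ↔ Commute (Φ.hom d) (Φ.refl i) := by
    intro d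
    show d ∈ Subgroup.centralizer {sr i} ↔ _
    rw [Subgroup.mem_centralizer_singleton_iff, ← Φ.hom_sr]
    exact ⟨fun h => (show Commute d (sr i) from h).map Φ.hom,
      fun h => Φ.hom_inj (by rw [map_mul, map_mul]; exact h.eq)⟩
  have hV4 : Nat.card ↥V = 4 := (Fusion.DihedralFours.four_klein Φ.two_dvd i).card_four
  rw [mul_comm, ← hV4, ← Nat.card_prod]
  have hS : ∀ d, Φ.hom d ∈ (Φ.S : Subgroup G) := fun d => Φ.hom_range ▸ ⟨d, rfl⟩
  refine (Nat.card_eq_of_bijective (fun z : ↥(Φ.O ⊓ Subgroup.centralizer ({Φ.refl i} : Set G)) × ↥V =>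
    (⟨(z.1 : G) * Φ.hom z.2, (hCmem _).2
      ⟨(show Commute (z.1 : G) Φ.t from Subgroup.mem_centralizer_singleton_iff.1 (Φ.O_le z.1.2.1)).mul_left
        (Φ.t_central _ (hS z.2)),
       (show Commute (z.1 : G) (Φ.refl i) from Subgroup.mem_centralizer_singleton_iff.1 z.1.2.2).mul_left
        ((hV z.2).1 z.2.2)⟩⟩ : ↥(Subgroup.centralizer ({Φ.t, Φ.refl i} : Set G)))) ⟨?_, ?_⟩).symm
  · intro z z' e
    obtain ⟨h1, h2⟩ := Φ.decomp_unique z.1.2.1 z'.1.2.1 (hS z.2) (hS z'.2) (congrArg Subtype.val e)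
    exact Prod.ext (Subtype.ext h1) (Subtype.ext (Φ.hom_inj h2))
  · intro x
    obtain ⟨hxt, hxu⟩ := (hCmem _).1 x.2
    obtain ⟨a, ha, p, hp, e⟩ := Φ.decomp_exists (Subgroup.mem_centralizer_singleton_iff.2 hxt.eq)
    have hu1 := Φ.O_norm _ (Φ.S_le (Φ.refl_mem i)) a ha
    have hu2 : Φ.refl i * p * (Φ.refl i)⁻¹ ∈ (Φ.S : Subgroup G) :=
      mul_mem (mul_mem (Φ.refl_mem i) hp) (inv_mem (Φ.refl_mem i))
    obtain ⟨h1, h2⟩ := Φ.decomp_unique hu1 ha hu2 hp (by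
      rw [show Φ.refl i * a * (Φ.refl i)⁻¹ * (Φ.refl i * p * (Φ.refl i)⁻¹) = Φ.refl i * (a * p) * (Φ.refl i)⁻¹ by
        group, ← e, ← hxu.eq, mul_inv_cancel_right])
    obtain ⟨d, rfl⟩ : p ∈ Φ.hom.range := Φ.hom_range.symm ▸ hp
    exact ⟨(⟨a, ha, Subgroup.mem_centralizer_singleton_iff.2 (mul_inv_eq_iff_eq_mul.1 h1).symm⟩,
      ⟨d, (hV d).2 (mul_inv_eq_iff_eq_mul.1 h2).symm⟩), Subtype.ext e.symm⟩

/-- `|C(t, u)|` times the number of elements of `O` inverted by `u` -/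
theorem card_cent_pair_mul (i : ZMod (2 ^ Φ.k)) :
    Nat.card ↥(Subgroup.centralizer ({Φ.t, Φ.refl i} : Set G)) *
      Nat.card {y : G // y ∈ Φ.O ∧ Φ.refl i * y * (Φ.refl i)⁻¹ = y⁻¹} = 4 * Nat.card Φ.O := by
  rw [Φ.card_cent_pair, ← Fusion.card_inverted (Φ.refl_order i)
    (mem_norm_of_conj fun y hy => Φ.O_norm _ (Φ.S_le (Φ.refl_mem i)) y hy) Φ.O_odd, mul_assoc]
  congr 1
  rw [Subgroup.relIndex, ← Nat.card_congr (Subgroup.subgroupOfEquivOfLe (inf_le_left :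
    Φ.O ⊓ Subgroup.centralizer ({Φ.refl i} : Set G) ≤ Φ.O)).toEquiv]
  exact Subgroup.card_mul_index _

end Frame

/-- **no fixed part unless a reflection fixes part of the second centre** -/
theorem QHyp.linear_case (hG : Minimal G) (Φ : Frame G) (hk : 2 ≤ Φ.k) (h : QHyp Φ.t Φ.O) {q : ℕ} (hq : q.Prime)
    (hq2 : q ≠ 2) (i : ZMod (2 ^ Φ.k))
    (hD : fq q (Subgroup.centralizer ({Φ.t} : Set G)) ⊓ Subgroup.centralizer ({Φ.refl i} : Set G) ≠ ⊥)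
    (hII : ∀ j, ∀ x ∈ z2 (fq q (Subgroup.centralizer ({Φ.t} : Set G))), Commute x (Φ.refl j) → x = 1) : False := by
  haveI := Fact.mk hq
  haveI : Fact (Nat.Prime 2) := ⟨Nat.prime_two⟩
  haveI : NeZero (2 ^ Φ.k) := ⟨by positivity⟩
  set C := Subgroup.centralizer ({Φ.t} : Set G) with hC
  set F := fq q C with hF
  obtain ⟨N, v, T, c⟩ := h.exists_qcfg hq hq2 (Φ.uu i) (Φ.refl_ne_one i) (Φ.refl_ne i) (Φ.refl_comm i) hD
  have hFO : F ≤ Φ.O := h.mc.fq_odd_le_core hq hq2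
  have hsrC : ∀ j, Φ.refl j ∈ C := fun j => Φ.S_le (Φ.refl_mem j)
  have hsrF : ∀ j, Φ.refl j ∈ Subgroup.normalizer (F : Set G) := fun j => fq_le_norm q hq _ (hsrC j)
  have hZn : ∀ g ∈ C, ∀ x ∈ z2 F, g * x * g⁻¹ ∈ z2 F := fun g hg x hx => z2_conj (fq_le_norm q hq _ hg) hx
  have hinv : ∀ j, ∀ x ∈ z2 F, Φ.refl j * x * (Φ.refl j)⁻¹ = x⁻¹ := fun j =>
    inverts (Φ.uu j) (mem_norm_of_conj fun x hx => hZn _ (hsrC j) x hx) (hII j)
  have hZc : ∀ a ∈ z2 F, ∀ b ∈ z2 F, a * b = b * a := by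
    intro a ha b hb
    have h1 := hinv i (a * b) (mul_mem ha hb)
    rw [show Φ.refl i * (a * b) * (Φ.refl i)⁻¹ = (Φ.refl i * a * (Φ.refl i)⁻¹) * (Φ.refl i * b * (Φ.refl i)⁻¹) by
      group, hinv i a ha, hinv i b hb, mul_inv_rev] at h1
    exact inv_injective (by rw [mul_inv_rev, mul_inv_rev]; exact h1.symm)
  -- `B = C_F(Z)` is inverted by every reflection
  obtain ⟨B, hB⟩ : ∃ B, B = F ⊓ Subgroup.centralizer (z2 F : Set G) := ⟨_, rfl⟩
  have hBn : ∀ g ∈ C, ∀ x ∈ B, g * x * g⁻¹ ∈ B := by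
    intro g hg x hx
    rw [hB] at hx ⊢
    refine ⟨conj_fq hq hg hx.1, Subgroup.mem_centralizer_iff.2 fun z hz => ?_⟩
    have h2 := hZn _ (inv_mem hg) z hz
    rw [inv_inv] at h2
    have h1 := (Commute.conj_iff g).2 (show Commute x (g⁻¹ * z * g) from (Subgroup.mem_centralizer_iff.1 hx.2 _ h2).symm)
    rw [show g * (g⁻¹ * z * g) * g⁻¹ = z by group] at h1
    exact h1.eq.symm
  have hBi : ∀ j, ∀ x ∈ B, Φ.refl j * x * (Φ.refl j)⁻¹ = x⁻¹ := fun j =>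
    inverts (Φ.uu j) (mem_norm_of_conj (hBn _ (hsrC j))) fun x hx hxu => by
      rw [hB] at hx
      by_contra hx1
      obtain ⟨N', v', T', c'⟩ := h.exists_qcfg hq hq2 (Φ.uu j) (Φ.refl_ne_one j) (Φ.refl_ne j) (Φ.refl_comm j)
        fun e => hx1 (Subgroup.mem_bot.1 (e ▸ ⟨hx.1, Subgroup.mem_centralizer_singleton_iff.2 hxu.eq⟩))
      exact c'.no_central_z2 (hII j) (c'.mem_D_of_commute hx.1 hxu) hx1 fun z hz =>
        (Subgroup.mem_centralizer_iff.1 hx.2 z hz).symm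
  have hstep : ∀ j, ∀ f ∈ F, f⁻¹ * (Φ.refl j * f * (Φ.refl j)⁻¹) ∈ B := by
    intro j f hf
    have he : Φ.refl j * f⁻¹ * (Φ.refl j)⁻¹ * f ∈ B := by
      rw [hB]
      refine ⟨mul_mem ((Subgroup.mem_normalizer_iff.1 (hsrF j) _).1 (inv_mem hf)) hf,
        Subgroup.mem_centralizer_iff.2 fun x hx => ?_⟩
      exact (split_commute (hinv j) (fun y hy => z2_conj (Subgroup.le_normalizer hf) hy) hx
        (Subgroup.mem_zpowers _)).eq.symm
    have := inv_mem he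
    rwa [show (Φ.refl j * f⁻¹ * (Φ.refl j)⁻¹ * f)⁻¹ = f⁻¹ * (Φ.refl j * f * (Φ.refl j)⁻¹) by group] at this
  -- rotations centralise the cores
  have hrot : ∀ j, ∀ a ∈ Φ.O, Commute (Φ.hom (r j)) a := by
    intro j
    obtain ⟨s, hs⟩ : ∃ s, s = Φ.hom (r j) := ⟨_, rfl⟩
    rw [← hs]
    have hsC : s ∈ C := hs ▸ Φ.S_le (Φ.hom_range ▸ ⟨_, rfl⟩)
    have hse : s = Φ.refl 0 * Φ.refl j := hs.trans (Φ.hom_r_eq j)
    obtain ⟨n, hn⟩ := Φ.S.isPGroup' (⟨s, hs ▸ Φ.hom_range ▸ ⟨_, rfl⟩⟩ : ↥(Φ.S : Subgroup G))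
    have hn' : s ^ 2 ^ n = 1 := congrArg Subtype.val hn
    refine h.mc.centralises_of_cores hsC hn' fun p hp hp2 x hx => ?_
    by_cases hpq : p = q
    · subst hpq
      have hsB : ∀ b ∈ B, Commute s b := fun b hb => mul_inv_eq_iff_eq_mul.1 (by
        rw [hse]
        calc Φ.refl 0 * Φ.refl j * b * (Φ.refl 0 * Φ.refl j)⁻¹
            = Φ.refl 0 * (Φ.refl j * b * (Φ.refl j)⁻¹) * (Φ.refl 0)⁻¹ := by group
          _ = _ := by rw [hBi j b hb, hBi 0 _ (inv_mem hb), inv_inv])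
      obtain ⟨β, hβ⟩ : ∃ β, β = x⁻¹ * (s * x * s⁻¹) := ⟨_, rfl⟩
      have hβB : β ∈ B := by
        rw [hβ, hse, show x⁻¹ * (Φ.refl 0 * Φ.refl j * x * (Φ.refl 0 * Φ.refl j)⁻¹) =
          (x⁻¹ * (Φ.refl 0 * x * (Φ.refl 0)⁻¹)) *
            (Φ.refl 0 * (x⁻¹ * (Φ.refl j * x * (Φ.refl j)⁻¹)) * (Φ.refl 0)⁻¹) by group]
        exact mul_mem (hstep 0 x hx) (hBn _ (hsrC 0) _ (hstep j x hx))
      have hpow : ∀ m : ℕ, s ^ m * x * (s ^ m)⁻¹ = x * β ^ m := by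
        intro m
        induction m with
        | zero => simp
        | succ m ih =>
          rw [pow_succ', show s * s ^ m * x * (s * s ^ m)⁻¹ = s * (s ^ m * x * (s ^ m)⁻¹) * s⁻¹ by group, ih,
            show s * (x * β ^ m) * s⁻¹ = s * x * s⁻¹ * (s * β ^ m * s⁻¹) by group,
            ((hsB β hβB).pow_right m).eq, mul_inv_cancel_right, show s * x * s⁻¹ = x * β by rw [hβ, mul_inv_cancel_left],
            mul_assoc, ← pow_succ']
      have h1 := hpow (2 ^ n)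
      rw [hn', one_mul, inv_one, mul_one, left_eq_mul] at h1
      have hβ1 : β = 1 := orderOf_eq_one_iff.1 (Nat.eq_one_of_dvd_coprimes
        ((h.mc.core_orderOf (hFO (hB.le hβB).1)).coprime_two_left.pow_left n) (orderOf_dvd_of_pow_eq_one h1) dvd_rfl)
      rw [hβ, inv_mul_eq_one, eq_comm] at hβ1
      exact mul_inv_eq_iff_eq_mul.1 hβ1
    · have hab := h.mc.fq_comm c.tN c.layer_ne c.facts hp hp2 (c.cores_le p hp hp2 hpq)
      have hz : ∀ k, ∀ y ∈ fq p C, Φ.refl k * y * (Φ.refl k)⁻¹ = y⁻¹ := fun k y hy =>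
        h.center_inv hp hp2 (Φ.uu k) (Φ.refl_ne_one k) (Φ.refl_ne k) (Φ.refl_comm k) hy fun z hz => hab y hy z hz
      refine mul_inv_eq_iff_eq_mul.1 ?_
      rw [hse]
      calc Φ.refl 0 * Φ.refl j * x * (Φ.refl 0 * Φ.refl j)⁻¹
          = Φ.refl 0 * (Φ.refl j * x * (Φ.refl j)⁻¹) * (Φ.refl 0)⁻¹ := by group
        _ = _ := by rw [hz j x hx, hz 0 _ (inv_mem hx), inv_inv]
  have hsame : ∀ j, ∀ a ∈ Φ.O, Φ.refl j * a * (Φ.refl j)⁻¹ = Φ.refl i * a * (Φ.refl i)⁻¹ := by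
    intro j a ha
    have hh : Φ.refl j = Φ.hom (r (i - j)) * Φ.refl i := by
      rw [← Φ.hom_sr, ← Φ.hom_sr, ← map_mul, r_mul_sr, sub_sub_cancel]
    have h1 := (hrot (i - j) _ (Φ.O_norm _ (hsrC i) a ha)).eq
    rw [hh, show Φ.hom (r (i - j)) * Φ.refl i * a * (Φ.hom (r (i - j)) * Φ.refl i)⁻¹ =
      Φ.hom (r (i - j)) * (Φ.refl i * a * (Φ.refl i)⁻¹) * (Φ.hom (r (i - j)))⁻¹ by group, h1, mul_inv_cancel_right]
  have hScent : ∀ p ∈ (Φ.S : Subgroup G), ∀ a ∈ Φ.O, ∀ x ∈ z2 F,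
      (p * a * p⁻¹) * x * (p * a * p⁻¹)⁻¹ = a * x * a⁻¹ := by
    intro p hp a ha x hx
    rw [← Φ.hom_range] at hp
    obtain ⟨d | d, rfl⟩ := hp
    · rw [show Φ.hom (r d) * a * (Φ.hom (r d))⁻¹ = a by rw [(hrot d a ha).eq, mul_inv_cancel_right]]
    · rw [Φ.hom_sr]
      obtain ⟨u, hu⟩ : ∃ u, u = Φ.refl d := ⟨_, rfl⟩
      have hui : u⁻¹ = u := hu ▸ inv_eq_of_mul_eq_one_right (Φ.uu d)
      rw [← hu]
      calc u * a * u⁻¹ * x * (u * a * u⁻¹)⁻¹ = u * (a * (u⁻¹ * x * u) * a⁻¹) * u⁻¹ := by group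
        _ = u * (a * (u * x * u⁻¹) * a⁻¹) * u⁻¹ := by rw [hui]
        _ = u * (a * x * a⁻¹)⁻¹ * u⁻¹ := by
          rw [hu, hinv d x hx]
          group
        _ = _ := by rw [← conj_inv, hu, hinv d _ (hZn _ (Φ.O_le ha) x hx), inv_inv]
  -- the character of `O`
  obtain ⟨d1, hd1D, hd1q, -⟩ := c.exists_d1
  have hd11 : d1 ≠ 1 := fun e => hq.one_lt.ne (by rw [← hd1q, e, orderOf_one])
  have hnotd : ¬ ∀ a ∈ z2 F, Commute d1 a := fun hh => c.no_central_z2 (hII i) hd1D hd11 hh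
  let K0 : Subgroup ↥Φ.O := (Subgroup.centralizer (z2 F : Set G)).subgroupOf Φ.O
  haveI hK0 : K0.Normal := by
    refine ⟨fun x hx g => Subgroup.mem_subgroupOf.2 ?_⟩
    push_cast
    refine (Subgroup.mem_normalizer_iff.1 (normalizer_le_norm_cent (z2 F) ?_) _).1 hx
    exact mem_norm_of_conj fun y hy => hZn _ (Φ.O_le g.2) y hy
  haveI : Group.IsSolvable ↥Φ.O := Solv.Partition.odd_solvable Φ.O_odd
  have hd1O : d1 ∈ Φ.O := hFO hd1D.1
  have hd1K : (⟨d1, hd1O⟩ : ↥Φ.O) ∉ K0 := fun hm => hnotd fun a ha =>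
    (Subgroup.mem_centralizer_iff.1 (Subgroup.mem_subgroupOf.1 hm) a ha).symm
  haveI : Nontrivial (↥Φ.O ⧸ K0) := QuotientGroup.nontrivial_iff.2 fun e => hd1K (e ▸ Subgroup.mem_top _)
  haveI : Group.IsSolvable (↥Φ.O ⧸ K0) :=
    @Group.isSolvable_of_surjective _ _ _ _ (QuotientGroup.mk' K0) (QuotientGroup.mk'_surjective _) inferInstance
  obtain ⟨b, hb⟩ : ∃ b : ↥Φ.O, Abelianization.of (QuotientGroup.mk' K0 b) ≠ 1 := by
    by_contra hall
    push Not at hall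
    refine (Group.IsSolvable.commutator_lt_top_of_nontrivial (↥Φ.O ⧸ K0)).ne (eq_top_iff.2 fun x _ => ?_)
    obtain ⟨a, rfl⟩ := QuotientGroup.mk'_surjective K0 x
    exact (QuotientGroup.eq_one_iff _).1 (hall a)
  obtain ⟨χ, hχ⟩ := CommGroup.exists_apply_ne_one_of_hasEnoughRootsOfUnity (Abelianization (↥Φ.O ⧸ K0)) ℂ hb
  let θ : ↥Φ.O →* ℂˣ := χ.comp (Abelianization.of.comp (QuotientGroup.mk' K0))
  have hθK : ∀ a : ↥Φ.O, a ∈ K0 → θ a = 1 := fun a ha => by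
    show χ (Abelianization.of (QuotientGroup.mk' K0 a)) = 1
    rw [show QuotientGroup.mk' K0 a = 1 from (QuotientGroup.eq_one_iff a).2 ha, map_one, map_one]
  choose oa hoa op hop hdec using fun g : ↥C => Φ.decomp_exists g.2
  have hinvθ : ∀ p ∈ (Φ.S : Subgroup G), ∀ a : ↥Φ.O, ∀ a' : ↥Φ.O, (a' : G) = p * a * p⁻¹ → θ a' = θ a := by
    intro p hp a a' e
    have hm : a⁻¹ * a' ∈ K0 := Subgroup.mem_subgroupOf.2 (Subgroup.mem_centralizer_iff.2 fun x hx => by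
      push_cast
      rw [e]
      have h1 := hScent p hp a a.2 x hx
      calc x * ((a : G)⁻¹ * (p * a * p⁻¹)) = (a : G)⁻¹ * ((a : G) * x * (a : G)⁻¹) * (p * a * p⁻¹) := by group
        _ = _ := by rw [← h1]; group)
    calc θ a' = θ (a * (a⁻¹ * a')) := by rw [mul_inv_cancel_left]
      _ = _ := by rw [map_mul, hθK _ hm, mul_one]
  have hLeq : ∀ (g : ↥C) (a : G) (ha : a ∈ Φ.O) (p : G), p ∈ (Φ.S : Subgroup G) → (g : G) = a * p →
      θ ⟨oa g, hoa g⟩ = θ ⟨a, ha⟩ := fun g a ha p hp e => congrArg θ (Subtype.ext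
        (Φ.decomp_unique (hoa g) ha (hop g) hp ((hdec g).symm.trans e)).1)
  let L : ↥C →* ℂˣ := MonoidHom.mk' (fun g => θ ⟨oa g, hoa g⟩) fun g g' => by
    have hn : op g * oa g' * (op g)⁻¹ ∈ Φ.O := Φ.O_norm _ (Φ.S_le (hop g)) _ (hoa g')
    rw [hLeq (g * g') _ (mul_mem (hoa g) hn) _ (mul_mem (hop g) (hop g')) (by
      rw [Subgroup.coe_mul]
      nth_rewrite 1 [hdec g, hdec g']
      group)]
    rw [← hinvθ _ (hop g) ⟨oa g', hoa g'⟩ ⟨_, hn⟩ rfl, ← map_mul]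
    rfl
  have hLP : ∀ g : ↥C, (g : G) ∈ (Φ.S : Subgroup G) → L g = 1 := fun g hg =>
    (hLeq g 1 (one_mem _) g hg (one_mul (g : G)).symm).trans (map_one θ)
  have hL : L ≠ 1 := by
    intro e
    refine hχ ?_
    have h1 := DFunLike.congr_fun e ⟨(b : G), Φ.O_le b.2⟩
    exact ((hLeq ⟨(b : G), Φ.O_le b.2⟩ b b.2 1 (one_mem _) (mul_one _).symm).symm.trans h1 : θ b = 1)
  -- the fusion
  have hfus : ∀ j : ZMod (2 ^ Φ.k), ∃ g : G, g * Φ.t * g⁻¹ = (Φ.ι (sr j) : G) ∧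
      g ∈ Subgroup.normalizer
        ((Subgroup.zpowers Φ.t ⊔ Subgroup.zpowers ((Φ.ι (sr j) : G)) : Subgroup G) : Set G) ∧
      ∀ k k' : ↥C, (k : G) * (Φ.ι (sr j) : G) = (Φ.ι (sr j) : G) * k → (k' : G) = g * k * g⁻¹ → L k' = L k := by
    intro j
    show ∃ g : G, g * Φ.t * g⁻¹ = Φ.refl j ∧
      g ∈ Subgroup.normalizer ((Subgroup.zpowers Φ.t ⊔ Subgroup.zpowers (Φ.refl j) : Subgroup G) : Set G) ∧ _
    obtain ⟨g, hgt, hgu⟩ := hG.exists_rho Φ j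
    obtain ⟨s, hsS, hst, hsu⟩ := Φ.exists_swap hk j
    obtain ⟨u, hu⟩ : ∃ u, u = Φ.refl j := ⟨_, rfl⟩
    rw [← hu] at hgt hgu hsu ⊢
    have huu : u * u = 1 := hu ▸ Φ.uu j
    have htu : Commute Φ.t u := hu ▸ Φ.commute j
    obtain ⟨hgtu, -, -, -⟩ := rho_sq huu htu hgt hgu
    have hsi : s⁻¹ * Φ.t * s = Φ.t ∧ s⁻¹ * u * s = Φ.t * u := by
      have e1 : s⁻¹ * Φ.t * s = Φ.t := by nth_rewrite 1 [← hst]; group
      refine ⟨e1, ?_⟩
      calc s⁻¹ * u * s = s⁻¹ * (Φ.t * (Φ.t * u)) * s := by rw [← mul_assoc Φ.t, Φ.tt, one_mul]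
        _ = (s⁻¹ * Φ.t * s) * (s⁻¹ * (s * u * s⁻¹) * s) := by rw [hsu]; group
        _ = _ := by rw [e1]; group
    obtain ⟨h0, hh0⟩ : ∃ h0, h0 = s * g * s⁻¹ * g⁻¹ := ⟨_, rfl⟩
    have hh0t : h0 * Φ.t * h0⁻¹ = u := by
      calc h0 * Φ.t * h0⁻¹ = s * (g * (s⁻¹ * (g⁻¹ * (g * (Φ.t * u) * g⁻¹) * g) * s) * g⁻¹) * s⁻¹ := by
            rw [hgtu, hh0]; group
        _ = s * (g * ((s⁻¹ * Φ.t * s) * (s⁻¹ * u * s)) * g⁻¹) * s⁻¹ := by group
        _ = s * (g * u * g⁻¹) * s⁻¹ := by rw [hsi.1, hsi.2, ← mul_assoc Φ.t, Φ.tt, one_mul]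
        _ = (s * Φ.t * s⁻¹) * (s * u * s⁻¹) := by rw [hgu]; group
        _ = _ := by rw [hst, hsu, ← mul_assoc, Φ.tt, one_mul]
    have hh0u : h0 * u * h0⁻¹ = Φ.t * u := by
      calc h0 * u * h0⁻¹ = s * (g * (s⁻¹ * (g⁻¹ * (g * Φ.t * g⁻¹) * g) * s) * g⁻¹) * s⁻¹ := by
            rw [hgt, hh0]; group
        _ = s * (g * (s⁻¹ * Φ.t * s) * g⁻¹) * s⁻¹ := by group
        _ = _ := by rw [hsi.1, hgt, hsu]
    have hgen : ∀ y ∈ ({Φ.t, u} : Set G), h0 * y * h0⁻¹ ∈ Subgroup.zpowers Φ.t ⊔ Subgroup.zpowers u := by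
      rintro y (rfl | rfl)
      · rw [hh0t]; exact Subgroup.mem_sup_right (Subgroup.mem_zpowers _)
      · rw [hh0u]
        exact mul_mem (Subgroup.mem_sup_left (Subgroup.mem_zpowers _)) (Subgroup.mem_sup_right (Subgroup.mem_zpowers _))
    refine ⟨h0, hh0t, mem_norm_of_conj fun y hy => ?_, fun k k' hk' e => ?_⟩
    · have hle : Subgroup.zpowers Φ.t ⊔ Subgroup.zpowers u ≤
          (Subgroup.zpowers Φ.t ⊔ Subgroup.zpowers u).comap (MulAut.conj h0).toMonoidHom :=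
        sup_le (Subgroup.zpowers_le.2 (hgen _ (Set.mem_insert _ _)))
          (Subgroup.zpowers_le.2 (hgen _ (Set.mem_insert_of_mem _ rfl)))
      exact hle hy
    -- the linear character
    obtain ⟨a, ha, p, hp, ek⟩ := Φ.decomp_exists k.2
    have hku : (k : G) * u = u * k := by rw [hu]; exact hk'
    have huC : u ∈ C := hu ▸ hsrC j
    have huS : u ∈ (Φ.S : Subgroup G) := hu ▸ Φ.refl_mem j
    obtain ⟨e1, e2⟩ := Φ.decomp_unique (Φ.O_norm u huC a ha) ha (mul_mem (mul_mem huS hp) (inv_mem huS)) hp (by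
      rw [show u * a * u⁻¹ * (u * p * u⁻¹) = u * (a * p) * u⁻¹ by group, ← ek, ← hku, mul_inv_cancel_right])
    have hau : Commute a u := (mul_inv_eq_iff_eq_mul.1 e1).symm
    -- `s` centralises `C_O(u)`, so `h0` does
    have hsK : ∀ x ∈ Φ.O, Commute x u → Commute s x := by
      intro x hx hxu
      rw [← Φ.hom_range] at hsS
      obtain ⟨d | d, rfl⟩ := hsS
      · exact hrot d x hx
      · refine mul_inv_eq_iff_eq_mul.1 ?_
        rw [Φ.hom_sr, hsame d x hx, ← hsame j x hx, ← hu, ← hxu.eq, mul_inv_cancel_right]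
    have hat : Commute a Φ.t := h.mc.core_commute ha
    have hga : g⁻¹ * a * g ∈ Φ.O ∧ Commute (g⁻¹ * a * g) u := by
      have h1 : g⁻¹ * u * g⁻¹⁻¹ = Φ.t := by rw [← hgt]; group
      have h2 : g⁻¹ * (Φ.t * u) * g⁻¹⁻¹ = u := by rw [← hgu]; group
      refine ⟨Φ.mem_O_of_odd ?_ ?_, ?_⟩
      · have := (Commute.conj_iff g⁻¹).2 hau
        rwa [h1, inv_inv] at this
      · rw [show g⁻¹ * a * g = MulAut.conj g⁻¹ a by simp, MulEquiv.orderOf_eq]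
        exact h.mc.core_orderOf ha
      · have := (Commute.conj_iff g⁻¹).2 (hat.mul_right hau)
        rwa [h2, inv_inv] at this
    have hha : h0 * a * h0⁻¹ = a := by
      calc h0 * a * h0⁻¹ = s * (g * (s⁻¹ * (g⁻¹ * a * g) * s) * g⁻¹) * s⁻¹ := by rw [hh0]; group
        _ = s * (g * (g⁻¹ * a * g) * g⁻¹) * s⁻¹ := by
          rw [((hsK _ hga.1 hga.2).inv_left).eq, inv_mul_cancel_right]
        _ = s * a * s⁻¹ := by group
        _ = _ := by rw [(hsK a ha hau).eq, mul_inv_cancel_right]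
    have hpV : p ∈ Subgroup.zpowers Φ.t ⊔ Subgroup.zpowers u := by
      obtain ⟨d, rfl⟩ : p ∈ Φ.hom.range := Φ.hom_range.symm ▸ hp
      have hd : d ∈ Fusion.DihedralFours.four (2 ^ Φ.k) j := by
        refine Subgroup.mem_centralizer_singleton_iff.2 (Φ.hom_inj ?_)
        rw [map_mul, map_mul, Φ.hom_sr, ← hu]
        exact (mul_inv_eq_iff_eq_mul.1 e2).symm
      rcases (Fusion.DihedralFours.mem_four Φ.two_dvd j d).1 hd with rfl | rfl | rfl | rfl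
      · rw [map_one]; exact one_mem _
      · rw [Φ.hom_half]; exact Subgroup.mem_sup_left (Subgroup.mem_zpowers _)
      · rw [Φ.hom_sr, ← hu]; exact Subgroup.mem_sup_right (Subgroup.mem_zpowers _)
      · rw [show Φ.hom (sr (j + ((2 ^ Φ.k / 2 : ℕ) : ZMod (2 ^ Φ.k)))) = u * Φ.t by
          rw [hu, ← Φ.hom_half, ← Φ.hom_sr, ← map_mul, sr_mul_r]]
        exact mul_mem (Subgroup.mem_sup_right (Subgroup.mem_zpowers _)) (Subgroup.mem_sup_left (Subgroup.mem_zpowers _))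
    have hVS : Subgroup.zpowers Φ.t ⊔ Subgroup.zpowers u ≤ (Φ.S : Subgroup G) :=
      sup_le (Subgroup.zpowers_le.2 Φ.t_mem) (Subgroup.zpowers_le.2 huS)
    have hh0n : h0 * p * h0⁻¹ ∈ (Φ.S : Subgroup G) := by
      have hle : Subgroup.zpowers Φ.t ⊔ Subgroup.zpowers u ≤
          (Subgroup.zpowers Φ.t ⊔ Subgroup.zpowers u).comap (MulAut.conj h0).toMonoidHom :=
        sup_le (Subgroup.zpowers_le.2 (hgen _ (Set.mem_insert _ _)))
          (Subgroup.zpowers_le.2 (hgen _ (Set.mem_insert_of_mem _ rfl)))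
      exact hVS (hle hpV)
    show θ _ = θ _
    rw [hLeq k a ha p hp ek, hLeq k' a ha _ hh0n (by
      rw [e, ek, show h0 * (a * p) * h0⁻¹ = h0 * a * h0⁻¹ * (h0 * p * h0⁻¹) by group, hha])]
  -- conclusion
  haveI := Fintype.ofFinite G
  obtain ⟨M, hM⟩ := Char.exists_pModular Nat.prime_two
  have hcount : ∀ j, Nat.card {y : G // y ∈ Φ.O ∧ Φ.refl j * y * (Φ.refl j)⁻¹ = y⁻¹} =
      Nat.card {y : G // y ∈ Φ.O ∧ Φ.refl i * y * (Φ.refl i)⁻¹ = y⁻¹} := fun j =>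
    Nat.card_congr (Equiv.subtypeEquivRight fun y =>
      ⟨fun hy => ⟨hy.1, hsame j y hy.1 ▸ hy.2⟩, fun hy => ⟨hy.1, (hsame j y hy.1).symm ▸ hy.2⟩⟩)
  refine Eight.Data.eight_degree_false (P := Φ.S) (ι := Φ.ι) hM
    ⟨⟨Φ.k - 2, by congr 1; omega⟩, rfl, Φ.O_odd, Φ.O_le, Φ.O_norm, Φ.O_sup, hLP, hfus⟩ hL
    (A := z2 F) (Φ.O_odd.of_dvd_nat (Subgroup.card_dvd_of_le ((z2_le F).trans hFO))) hZc
    (fun a ha => fq_le q _ (z2_le F ha)) (fun g hg => ?_) (v := Φ.refl i) (hinv i) (p := d1)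
    (h.mc.core_orderOf hd1O) (fun a ha => hZn _ (Φ.O_le hd1O) a ha) hnotd hcount
    (fun j => hcount j ▸ Φ.card_cent_pair_mul j)
  refine (hLeq g g (hFO (z2_le F hg)) 1 (one_mem _) (mul_one _).symm).trans (hθK _ (Subgroup.mem_subgroupOf.2 ?_))
  exact Subgroup.mem_centralizer_iff.2 fun y hy => hZc y hy g hg

end Cfsg.Agent.GW
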