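import Cfsg.Agent.Lib.GW.MaxQLinear
import Cfsg.Agent.Lib.GW.MaxOrder
import Cfsg.Agent.Lib.GW.MaxOneClass
import Cfsg.Agent.Lib.GW.ProperStructure

/-!
# An involution fixing a part of a core: the order formula with two indices

`d (x - δ) = 2^k (a + b)` and `2 |G : C(t)| = d² x (x + δ)` for the degree `x` of the first nonprincipal character of
the principal block, `a` and `b` being the indices in `O` of the centralisers of two neighbouring reflections.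
-/

set_option autoImplicit false
set_option linter.unusedSectionVars false
set_option linter.style.haveILetI false

namespace Cfsg.Agent.GW

open Cfsg Cfsg.Agent DihedralGroup

universe u

/-- the arithmetic of the order formula -/
theorem formula_split {x J m : ℕ} {δ : ℤ} (hδ : δ = 1 ∨ δ = -1) (hJ : Odd J) (h4 : (4 : ℤ) ∣ (x : ℤ) - δ)
    (hne : (x : ℤ) ≠ δ) (heq : 2 * (J : ℤ) * ((x : ℤ) - δ) ^ 2 = (x : ℤ) * ((x : ℤ) + δ) * (m : ℤ) ^ 2) :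
    3 ≤ x ∧ Odd x ∧ ∃ d : ℕ, Odd d ∧ (d : ℤ) * ((x : ℤ) - δ) = m ∧
      2 * (J : ℤ) = (d : ℤ) ^ 2 * (x : ℤ) * ((x : ℤ) + δ) ∧ d ^ 2 ∣ J := by
  have hx3 : 3 ≤ x := by rcases hδ with rfl | rfl <;> omega
  have hxodd : Odd x := by
    rw [Nat.odd_iff]
    rcases hδ with rfl | rfl <;> omega
  obtain ⟨w, hw, hwo⟩ : ∃ w : ℤ, (x : ℤ) + δ = 2 * w ∧ Odd w := by
    obtain ⟨n, hn⟩ := h4
    rcases hδ with rfl | rfl
    · exact ⟨2 * n + 1, by linarith, ⟨n, rfl⟩⟩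
    · exact ⟨2 * n - 1, by linarith, ⟨n - 1, by ring⟩⟩
  have hpos : 0 < (x : ℤ) - δ := by rcases hδ with rfl | rfl <;> omega
  have hco : IsCoprime ((x : ℤ) - δ) ((x : ℤ) * w) := by
    have hxx : IsCoprime ((x : ℤ) - δ) (x : ℤ) := ⟨-δ, δ, by rcases hδ with rfl | rfl <;> ring⟩
    refine hxx.mul_right ?_
    obtain ⟨n, hn⟩ := h4
    have hwδ : w = 2 * n + δ := by linarith
    have h2 : IsCoprime (4 * n) w := by
      refine ⟨-(n + δ), w, ?_⟩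
      rw [hwδ]
      rcases hδ with rfl | rfl <;> ring
    rwa [← hn] at h2
  have hdvd : (x : ℤ) - δ ∣ (m : ℤ) := by
    refine (Int.pow_dvd_pow_iff two_ne_zero).1 ((hco.pow_left (m := 2)).dvd_of_dvd_mul_left ⟨(J : ℤ), ?_⟩)
    have : 2 * (J : ℤ) * ((x : ℤ) - δ) ^ 2 = 2 * ((x : ℤ) * w * (m : ℤ) ^ 2) := by rw [heq, hw]; ring
    linarith
  obtain ⟨d, hd⟩ := hdvd
  have hd0 : 0 ≤ d := by
    by_contra hneg
    rw [not_le] at hneg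
    have := mul_neg_of_pos_of_neg hpos hneg
    omega
  obtain ⟨d', rfl⟩ := Int.eq_ofNat_of_zero_le hd0
  have h2 : 2 * (J : ℤ) = (d' : ℤ) ^ 2 * (x : ℤ) * ((x : ℤ) + δ) := by
    refine mul_right_cancel₀ (pow_ne_zero 2 hpos.ne') ?_
    rw [heq, hd]
    ring
  have hJ' : (J : ℤ) = (d' : ℤ) ^ 2 * ((x : ℤ) * w) := by rw [hw] at h2; linarith
  have hdJ : d' ^ 2 ∣ J := by
    have : ((d' ^ 2 : ℕ) : ℤ) ∣ (J : ℤ) := ⟨(x : ℤ) * w, by push_cast; exact hJ'⟩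
    exact Int.natCast_dvd_natCast.1 this
  exact ⟨hx3, hxodd, d', (Nat.odd_pow_iff two_ne_zero).1 (hJ.of_dvd_nat hdJ), by rw [hd]; ring, h2, hdJ⟩

variable {G : Type u} [Group G] [Finite G]

/-- the indices at `refl 1` and `refl (-1)` agree -/
theorem Frame.card_fixed_neg_one (Φ : Frame G) :
    Nat.card ↥(Φ.O ⊓ Subgroup.centralizer ({Φ.refl (-1)} : Set G)) =
      Nat.card ↥(Φ.O ⊓ Subgroup.centralizer ({Φ.refl 1} : Set G)) := by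
  obtain ⟨s, hs⟩ : ∃ s, s = Φ.refl 0 := ⟨_, rfl⟩
  have hconj : s * Φ.refl (-1) * s⁻¹ = Φ.refl 1 := by
    have := Φ.refl_conj (-1)
    rwa [neg_add_cancel, show (-1 : ZMod (2 ^ Φ.k)) + 2 = 1 by ring, ← hs] at this
  have hsC : s ∈ Subgroup.centralizer ({Φ.t} : Set G) := hs ▸ Φ.S_le (Φ.refl_mem 0)
  refine Nat.card_congr ⟨fun a => ⟨s * (a : G) * s⁻¹, Φ.O_norm s hsC _ a.2.1,
      Subgroup.mem_centralizer_singleton_iff.2 ?_⟩,
    fun a => ⟨s⁻¹ * (a : G) * s, ?_, Subgroup.mem_centralizer_singleton_iff.2 ?_⟩,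
    fun a => Subtype.ext (by group), fun a => Subtype.ext (by group)⟩
  · rw [← hconj]
    exact ((Commute.conj_iff s).2 (Subgroup.mem_centralizer_singleton_iff.1 a.2.2 : Commute (a : G) _)).eq
  · have := Φ.O_norm s⁻¹ (inv_mem hsC) _ a.2.1
    rwa [inv_inv] at this
  · show Commute (s⁻¹ * (a : G) * s) (Φ.refl (-1))
    refine (Commute.conj_iff s).1 ?_
    rw [hconj, show s * (s⁻¹ * (a : G) * s) * s⁻¹ = (a : G) by group]
    exact Subgroup.mem_centralizer_singleton_iff.1 a.2.2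

/-- **the order formula** with the indices of two neighbouring reflections -/
theorem Frame.order_two_indices_of_conj (Φ : Frame G) (hk : 2 ≤ Φ.k) (hconj : ∀ i, IsConj Φ.t (Φ.refl i)) {a b : ℕ}
    (ha : Nat.card ↥(Φ.O ⊓ Subgroup.centralizer ({Φ.refl 0} : Set G)) * a = Nat.card ↥Φ.O)
    (hb : Nat.card ↥(Φ.O ⊓ Subgroup.centralizer ({Φ.refl 1} : Set G)) * b = Nat.card ↥Φ.O) :
    ∃ (x d : ℕ) (δ : ℤ), (δ = 1 ∨ δ = -1) ∧ 3 ≤ x ∧ Odd x ∧ Odd d ∧ ((2 ^ Φ.k : ℕ) : ℤ) ∣ (x : ℤ) - δ ∧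
      (d : ℤ) * ((x : ℤ) - δ) = ((2 ^ Φ.k * (a + b) : ℕ) : ℤ) ∧
      2 * ((Subgroup.centralizer ({Φ.t} : Set G)).index : ℤ) = (d : ℤ) ^ 2 * (x : ℤ) * ((x : ℤ) + δ) ∧
      d ^ 2 ∣ (Subgroup.centralizer ({Φ.t} : Set G)).index := by
  haveI : Fact (Nat.Prime 2) := ⟨Nat.prime_two⟩
  haveI : NeZero (2 ^ Φ.k) := ⟨by positivity⟩
  letI := Fintype.ofFinite G
  obtain ⟨I, hI⟩ := Char.exists_pModular Nat.prime_two
  have hN : 4 ∣ 2 ^ Φ.k := (show (4 : ℕ) = 2 ^ 2 by norm_num) ▸ pow_dvd_pow 2 hk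
  have hD : Char.DihSyl Φ.S Φ.hom := ⟨hN, ⟨Φ.k, rfl⟩, Φ.hom_inj, Φ.hom_range⟩
  obtain ⟨ζ, hζ⟩ : ∃ ζ : ℂ, IsPrimitiveRoot ζ (2 ^ Φ.k) :=
    ⟨_, Complex.isPrimitiveRoot_exp (2 ^ Φ.k) (NeZero.ne _)⟩
  obtain ⟨χ₁, χ₂, χ₃, χ', δ, δ₂, δ₃, hδ, -, -, -, hne1, -, -, -, -, -, -, hmem, hvals, -⟩ :=
    hD.principal_block hI hζ (2 ^ Φ.k / 2) (Nat.mul_div_cancel' ((Dvd.intro 2 rfl).trans hN)).symm
  have hval : ∀ l : ℕ, 0 < l → l < 2 ^ Φ.k → (χ₁ : G → ℂ) (Φ.hom (r (l : ZMod (2 ^ Φ.k)))) = δ :=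
    fun l h h' => (hvals l h h').1
  obtain ⟨hxδ, hord⟩ := hD.order_formula hI (hconj 0)
    (hconj (-1)) χ₁ ((hmem χ₁).mpr (Or.inr (Or.inl rfl))) hne1 δ hδ hval
  obtain ⟨x, hx⟩ : ∃ x, x = charDegree (χ₁ : G → ℂ) := ⟨_, rfl⟩
  rw [← hx] at hxδ hord
  have hdiv : ((2 ^ Φ.k : ℕ) : ℤ) ∣ (x : ℤ) - δ := by
    obtain ⟨n, hn⟩ := Eight.const_value_dvd (H := ULift.{u} (Multiplicative (ZMod (2 ^ Φ.k))))
      ((Φ.hom.comp (MonoidHom.mk' (fun i : Multiplicative (ZMod (2 ^ Φ.k)) => (r i.toAdd : DihedralGroup (2 ^ Φ.k)))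
        fun p q => (r_mul_r _ _).symm)).comp MulEquiv.ulift.toMonoidHom) χ₁ δ (by
        rintro ⟨i⟩ hi
        have h0 : i.toAdd ≠ 0 := fun e => hi (by
          rw [show i = 1 from toAdd_eq_zero.mp e]; rfl)
        show (χ₁ : G → ℂ) (Φ.hom (r i.toAdd)) = _
        rw [← ZMod.natCast_zmod_val i.toAdd]
        exact hval _ (ZMod.val_pos.mpr h0) (ZMod.val_lt _))
    rw [Nat.card_congr Equiv.ulift, Nat.card_congr Multiplicative.toAdd, Nat.card_zmod, ← hx] at hn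
    exact ⟨(n : ℤ) - δ, by linear_combination hn⟩
  -- the orders
  have hcC : Nat.card (Subgroup.centralizer ({Φ.t} : Set G)) = 2 * 2 ^ Φ.k * Nat.card ↥Φ.O := by
    refine (card_cent_prod (P := Φ.S) Φ.O_odd (fun c hc => mem_normalizer_of_conj fun y hy => Φ.O_norm c hc y hy)
      Φ.O_sup).trans ?_
    rw [Nat.card_congr Φ.ι.symm.toEquiv, DihedralGroup.nat_card]
  obtain ⟨J, hJ⟩ : ∃ J, J = (Subgroup.centralizer ({Φ.t} : Set G)).index := ⟨_, rfl⟩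
  have hgC : Nat.card G = J * (2 * 2 ^ Φ.k * Nat.card ↥Φ.O) := by rw [← hcC, hJ, Subgroup.index_mul_card]
  have hJodd : Odd J := by
    rw [hJ, Nat.odd_iff]
    have h : ¬ 2 ∣ (Subgroup.centralizer ({Φ.t} : Set G)).index := fun h =>
      Φ.S.not_dvd_index (h.trans (Subgroup.index_dvd_of_le Φ.S_le))
    omega
  have hcent : ∀ (i : ZMod (2 ^ Φ.k)) (c : ℕ),
      Nat.card ↥(Φ.O ⊓ Subgroup.centralizer ({Φ.refl i} : Set G)) * c = Nat.card ↥Φ.O →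
      1 / (Nat.card (Subgroup.centralizer ({Char.dihJ Φ.hom, Φ.hom (sr i)} : Set G)) : ℚ) =
        (c : ℚ) / (4 * (Nat.card ↥Φ.O : ℚ)) := by
    intro i c hc
    have hc0 : (c : ℚ) ≠ 0 := by
      refine Nat.cast_ne_zero.2 fun e => ?_
      rw [e, mul_zero] at hc
      exact Φ.O_odd.pos.ne' hc.symm
    rw [show Nat.card (Subgroup.centralizer ({Char.dihJ Φ.hom, Φ.hom (sr i)} : Set G)) = _ from Φ.card_cent_refl i,
      ← hc]
    push_cast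
    field_simp
  rw [hcent 0 a ha, hcent (-1) b (by rw [Φ.card_fixed_neg_one]; exact hb)] at hord
  rw [show Nat.card (Subgroup.centralizer ({Char.dihJ Φ.hom} : Set G)) = _ from hcC, hgC] at hord
  have ho0 : (Nat.card ↥Φ.O : ℚ) ≠ 0 := Nat.cast_ne_zero.mpr Φ.O_odd.pos.ne'
  have hN0 : ((2 ^ Φ.k : ℕ) : ℚ) ≠ 0 := Nat.cast_ne_zero.mpr (NeZero.ne _)
  have heq : 2 * (J : ℤ) * ((x : ℤ) - δ) ^ 2 = (x : ℤ) * ((x : ℤ) + δ) * ((2 ^ Φ.k * (a + b) : ℕ) : ℤ) ^ 2 := by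
    have e : 2 * (J : ℚ) * ((x : ℚ) - δ) ^ 2 = (x : ℚ) * ((x : ℚ) + δ) * ((2 ^ Φ.k * (a + b) : ℕ) : ℚ) ^ 2 := by
      push_cast at hord ⊢
      field_simp at hord ⊢
      linear_combination hord / 8
    exact_mod_cast e
  obtain ⟨h3, hxo, d, hdo, hd, h2, hdJ⟩ :=
    formula_split hδ hJodd ((Int.natCast_dvd_natCast.2 hN).trans hdiv) hxδ heq
  exact ⟨x, d, δ, hδ, h3, hxo, hdo, hdiv, hd, hJ ▸ h2, hJ ▸ hdJ⟩

/-- the order formula in the minimal counterexample -/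
theorem Minimal.order_two_indices (hG : Minimal G) (Φ : Frame G) (hk : 2 ≤ Φ.k) {a b : ℕ}
    (ha : Nat.card ↥(Φ.O ⊓ Subgroup.centralizer ({Φ.refl 0} : Set G)) * a = Nat.card ↥Φ.O)
    (hb : Nat.card ↥(Φ.O ⊓ Subgroup.centralizer ({Φ.refl 1} : Set G)) * b = Nat.card ↥Φ.O) :
    ∃ (x d : ℕ) (δ : ℤ), (δ = 1 ∨ δ = -1) ∧ 3 ≤ x ∧ Odd x ∧ Odd d ∧ ((2 ^ Φ.k : ℕ) : ℤ) ∣ (x : ℤ) - δ ∧
      (d : ℤ) * ((x : ℤ) - δ) = ((2 ^ Φ.k * (a + b) : ℕ) : ℤ) ∧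
      2 * ((Subgroup.centralizer ({Φ.t} : Set G)).index : ℤ) = (d : ℤ) ^ 2 * (x : ℤ) * ((x : ℤ) + δ) ∧
      d ^ 2 ∣ (Subgroup.centralizer ({Φ.t} : Set G)).index :=
  Φ.order_two_indices_of_conj hk (fun i => hG.oneClass Φ.t _ Φ.t_order (Φ.refl_order i)) ha hb

section Arith

variable {x d J m : ℕ} {δ : ℤ}

/-- a prime of `m` prime to `d` does not divide `J` -/
theorem not_dvd_of_formula (hδ : δ = 1 ∨ δ = -1) (hd : (d : ℤ) * ((x : ℤ) - δ) = m)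
    (hJ : 2 * (J : ℤ) = (d : ℤ) ^ 2 * (x : ℤ) * ((x : ℤ) + δ)) {p : ℕ} (hp : p.Prime) (hp2 : p ≠ 2) (hpm : p ∣ m)
    (hpd : ¬ p ∣ d) : ¬ p ∣ J := by
  intro hpJ
  have hP : Prime (p : ℤ) := Nat.prime_iff_prime_int.1 hp
  have h1 : (p : ℤ) ∣ (x : ℤ) - δ := (hP.dvd_or_dvd (hd ▸ Int.natCast_dvd_natCast.2 hpm)).resolve_left
    fun h => hpd (Int.natCast_dvd_natCast.1 h)
  have h2 : (p : ℤ) ∣ 2 := by
    have hJ2 : (p : ℤ) ∣ 2 * (J : ℤ) := dvd_mul_of_dvd_right (Int.natCast_dvd_natCast.2 hpJ) 2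
    rw [hJ] at hJ2
    rcases hP.dvd_or_dvd hJ2 with h | h
    · rcases hP.dvd_or_dvd h with h' | h'
      · exact absurd (Int.natCast_dvd_natCast.1 (hP.dvd_of_dvd_pow h')) hpd
      · have := dvd_sub h' h1
        rw [sub_sub_cancel] at this
        exact this.trans ⟨2 * δ, by rcases hδ with rfl | rfl <;> norm_num⟩
    · have := dvd_sub h h1
      rw [show (x : ℤ) + δ - ((x : ℤ) - δ) = 2 * δ by ring] at this
      exact this.trans ⟨δ, by rcases hδ with rfl | rfl <;> norm_num⟩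
  exact hp2 ((Nat.prime_dvd_prime_iff_eq hp Nat.prime_two).1 (Int.natCast_dvd_natCast.1 h2))

/-- `d` divides the part `l` when the other part has only primes prime to `J` -/
theorem dvd_of_formula {l c : ℕ} (hdJ : d ^ 2 ∣ J) (hdm : d ∣ c * l)
    (hc : ∀ p : ℕ, p.Prime → p ∣ c → p ∣ d → ¬ p ∣ J) : d ∣ l := by
  refine Nat.Coprime.dvd_of_dvd_mul_left (Nat.coprime_of_dvd fun p hp hpd hpc => ?_) hdm
  exact hc p hp hpc hpd ((dvd_pow hpd two_ne_zero).trans hdJ)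

/-- `d` divides the odd part of `2^k (a + b)` -/
theorem odd_dvd_of_formula {k m₀ : ℕ} (hdo : Odd d) (hd : (d : ℤ) * ((x : ℤ) - δ) = ((2 ^ k * m₀ : ℕ) : ℤ)) :
    d ∣ m₀ := by
  refine (Nat.Coprime.pow_right k (Nat.coprime_two_right.2 hdo)).dvd_of_dvd_mul_left ?_
  exact Int.natCast_dvd_natCast.1 ⟨_, hd.symm⟩

/-- **`d = 1`** -/
theorem d_eq_one_of_formula {q l : ℕ} (hδ : δ = 1 ∨ δ = -1) (hd : (d : ℤ) * ((x : ℤ) - δ) = m)
    (hJ : 2 * (J : ℤ) = (d : ℤ) ^ 2 * (x : ℤ) * ((x : ℤ) + δ)) (hdo : Odd d) (hq : q.Prime) (hq2 : q ≠ 2)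
    (hqm : q ∣ m) (hJq : J % q = 1) (hdl : d ∣ l) (hl0 : 0 < l) (hl : 2 * l ≤ q + 1) : d = 1 := by
  have hdle : d ≤ l := Nat.le_of_dvd hl0 hdl
  have hq3 : 3 ≤ q := by have := hq.two_le; omega
  have hP : Prime (q : ℤ) := Nat.prime_iff_prime_int.1 hq
  have hqd : ¬ q ∣ d := fun h => by
    have := Nat.le_of_dvd hdo.pos h
    omega
  have h1 : (q : ℤ) ∣ (x : ℤ) - δ := (hP.dvd_or_dvd (hd ▸ Int.natCast_dvd_natCast.2 hqm)).resolve_left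
    fun h => hqd (Int.natCast_dvd_natCast.1 h)
  obtain ⟨c, hc⟩ := h1
  have hJ1 : (q : ℤ) ∣ (J : ℤ) - 1 := by
    refine ⟨((J / q : ℕ) : ℤ), ?_⟩
    have := Nat.div_add_mod J q
    rw [hJq] at this
    have : ((q * (J / q) + 1 : ℕ) : ℤ) = (J : ℤ) := by rw [this]
    push_cast at this ⊢
    linarith
  have h2 : (q : ℤ) ∣ 2 * (((d : ℤ) - 1) * ((d : ℤ) + 1)) := by
    obtain ⟨e, he⟩ := hJ1
    refine ⟨2 * e - (d : ℤ) ^ 2 * (c * ((q : ℤ) * c + δ) + 2 * c * δ), ?_⟩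
    have hx : (x : ℤ) = δ + q * c := by linarith
    have hδ2 : δ * δ = 1 := by rcases hδ with rfl | rfl <;> norm_num
    rw [hx] at hJ
    linear_combination 2 * he - hJ - 2 * (d : ℤ) ^ 2 * hδ2
  have h3 : q ∣ d - 1 ∨ q ∣ d + 1 := by
    rcases hP.dvd_or_dvd h2 with h | h
    · exact absurd ((Nat.prime_dvd_prime_iff_eq hq Nat.prime_two).1 (Int.natCast_dvd_natCast.1 h)) hq2
    · rcases hP.dvd_or_dvd h with h' | h'
      · exact Or.inl (Int.natCast_dvd_natCast.1 (by rw [Nat.cast_sub hdo.pos]; exact_mod_cast h'))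
      · exact Or.inr (Int.natCast_dvd_natCast.1 (by push_cast; exact h'))
  obtain ⟨n, hn⟩ := hdo
  rcases h3 with h | h
  · rcases Nat.eq_zero_or_pos (d - 1) with e | e
    · omega
    · have := Nat.le_of_dvd e h; omega
  · have := Nat.le_of_dvd (Nat.succ_pos d) h; omega

/-- **a prime power dividing the order divides `x` or `x + δ`** -/
theorem prime_pow_dvd_of_formula {p f C : ℕ} (hp : p.Prime) (hδ : δ = 1 ∨ δ = -1)
    (hJ : 2 * (J : ℤ) = (d : ℤ) ^ 2 * (x : ℤ) * ((x : ℤ) + δ)) (hrG : p ^ f ∣ J * C) (hpC : ¬ p ∣ C)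
    (hpd : ¬ p ∣ d) : ((p ^ f : ℕ) : ℤ) ∣ (x : ℤ) ∨ ((p ^ f : ℕ) : ℤ) ∣ (x : ℤ) + δ := by
  have hrJ : ((p ^ f : ℕ) : ℤ) ∣ 2 * (J : ℤ) := dvd_mul_of_dvd_right (Int.natCast_dvd_natCast.2
    ((Nat.Coprime.pow_left f (hp.coprime_iff_not_dvd.2 hpC)).dvd_of_dvd_mul_right hrG)) 2
  rw [hJ, mul_assoc] at hrJ
  have hP : Prime (p : ℤ) := Nat.prime_iff_prime_int.1 hp
  push_cast at hrJ ⊢
  have h1 := hP.pow_dvd_of_dvd_mul_left f
    (fun h => hpd (Int.natCast_dvd_natCast.1 (hP.dvd_of_dvd_pow h))) hrJ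
  by_cases hx : (p : ℤ) ∣ (x : ℤ)
  · refine Or.inl (hP.pow_dvd_of_dvd_mul_right f (fun h => ?_) h1)
    have := dvd_sub h hx
    rw [add_sub_cancel_left] at this
    rcases hδ with rfl | rfl
    · exact hP.not_dvd_one this
    · exact hP.not_dvd_one (dvd_neg.1 this)
  · exact Or.inr (hP.pow_dvd_of_dvd_mul_left f hx h1)

end Arith

end Cfsg.Agent.GW
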