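import Cfsg.Agent.Lib.GW.MaxQTwo
import Mathlib.Data.Nat.Choose.Dvd

/-!
# A reflection fixing a noncentral element of the second centre: the index of `N ∩ O` in `O`

For `d` of order `q` in `D ∩ Z₂(O_q(C))` the map `x ↦ [d, x]` shows `|O_q(C) : O_q(C) ∩ N| = q`; the conjugates of `⟨d⟩`
lie among the at most `q ^ 3` elements of the second centre with `x ^ q = 1`, so `|O : N ∩ O| = q l` with `l ≤ q` odd.
-/

set_option autoImplicit false
set_option linter.unusedSectionVars false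
set_option linter.style.haveILetI false

namespace Cfsg.Agent.GW

open Cfsg Cfsg.Agent
open scoped commutatorElement

universe w

variable {G : Type w} [Group G]

/-- collecting a central commutator -/
theorem pow_mul_collect {x y c : G} (h : y * x = c * x * y) (hx : Commute c x) (hy : Commute c y) :
    ∀ n : ℕ, y ^ n * x = c ^ n * x * y ^ n ∧ (x * y) ^ n = c ^ n.choose 2 * x ^ n * y ^ n := by
  intro n
  induction n with
  | zero => simp
  | succ n ih =>
    constructor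
    · calc y ^ (n + 1) * x = y * (y ^ n * x) := by rw [pow_succ']; group
        _ = (y * c ^ n) * (x * y ^ n) := by rw [ih.1]; group
        _ = c ^ n * (y * x) * y ^ n := by rw [← (hy.pow_left n).eq]; group
        _ = _ := by rw [h, pow_succ, pow_succ']; group
    · calc (x * y) ^ (n + 1) = c ^ n.choose 2 * x ^ n * (y ^ n * x) * y := by rw [pow_succ, ih.2]; group
        _ = c ^ n.choose 2 * (x ^ n * c ^ n) * (x * y ^ n * y) := by rw [ih.1]; group
        _ = _ := by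
          rw [← ((hx.pow_left n).pow_right n).eq, show (n + 1).choose 2 = n.choose 2 + n by
            rw [Nat.choose_succ_succ, Nat.choose_one_right, add_comm], pow_add, pow_succ x, pow_succ y]
          group

/-- the elements of exponent `q` of the second centre are closed under multiplication -/
theorem z2_mul_pow {F : Subgroup G} {q : ℕ} (hq : q.Prime) (hq2 : q ≠ 2) {x y : G} (hx : x ∈ z2 F) (hy : y ∈ z2 F)
    (hxq : x ^ q = 1) (hyq : y ^ q = 1) : (x * y) ^ q = 1 := by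
  obtain ⟨c, hc⟩ : ∃ c, c = ⁅y, x⁆ := ⟨_, rfl⟩
  have hcx : Commute c x := hc ▸ hy.2 x hx.1 x hx.1
  have hcy : Commute c y := hc ▸ hy.2 x hx.1 y hy.1
  have h : y * x = c * x * y := by rw [hc, commutatorElement_def]; group
  have hcq : c ^ q = 1 := by
    have h1 := (pow_mul_collect h hcx hcy q).1
    rw [hyq, one_mul, mul_one] at h1
    exact right_eq_mul.1 h1 |>.trans rfl
  obtain ⟨e, he⟩ := hq.dvd_choose_self two_ne_zero (lt_of_le_of_ne hq.two_le hq2.symm)
  rw [(pow_mul_collect h hcx hcy q).2, hxq, hyq, he, pow_mul, hcq, one_pow, one_mul, one_mul]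

variable [Finite G]

/-- a finite cyclic subgroup has at most `n` elements with `x ^ n = 1` -/
theorem card_pow_eq_one_le {H : Subgroup G} (hH : IsCyclic ↥H) {n : ℕ} (hn : 0 < n) :
    Nat.card {x : ↥H // x ^ n = 1} ≤ n := by
  classical
  letI : Fintype ↥H := Fintype.ofFinite _
  rw [Nat.card_eq_fintype_card, Fintype.card_subtype]
  exact IsCyclic.card_pow_eq_one_le hn

/-- the index in a normal subgroup divides the index -/
theorem relIndex_dvd_index_of_normal_right {X : Type w} [Group X] [Finite X] (H K : Subgroup X) [K.Normal] :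
    H.relIndex K ∣ H.index := by
  have hcard : ∀ A B : Subgroup X, A ≤ B → A.relIndex B * Nat.card ↥A = Nat.card ↥B := fun A B hAB => by
    rw [mul_comm, ← Nat.card_congr (Subgroup.subgroupOfEquivOfLe hAB).toEquiv]
    exact (A.subgroupOf B).card_mul_index
  have h1 := hcard H (H ⊔ K) le_sup_left
  have h2 := hcard K (H ⊔ K) le_sup_right
  rw [Subgroup.relIndex_sup_right] at h2
  have h3 := hcard (H ⊓ K) H inf_le_left
  rw [Subgroup.inf_relIndex_left] at h3
  have h4 := hcard (H ⊓ K) K inf_le_right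
  rw [Subgroup.inf_relIndex_right] at h4
  have h5 : H.relIndex (H ⊔ K) = H.relIndex K := by
    refine Nat.eq_of_mul_eq_mul_right (Nat.card_pos (α := ↥H)) ?_
    rw [h1, ← h2, ← h4, ← h3]
    ring
  exact h5 ▸ Subgroup.relIndex_dvd_index_of_le le_sup_left

variable [IsSimpleGroup G] {t u : G} {O N : Subgroup G} {v : G} {T : Subgroup G} {q : ℕ} {d : G}

set_option quotPrecheck false in
local notation "Cz" => Subgroup.centralizer ({t} : Set G)

set_option quotPrecheck false in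
local notation "Fq" => fq q (Subgroup.centralizer ({t} : Set G))

namespace QCfg

variable (c : QCfg t u O q N v T)
include c

/-- the elements of order dividing `q` of `O_q(C) ∩ N` -/
theorem card_torsion : Nat.card {a : G // a ∈ Fq ∧ a ∈ N ∧ a ^ q = 1} ≤ q * q := by
  classical
  have hdec : ∀ a : {a : G // a ∈ Fq ∧ a ∈ N ∧ a ^ q = 1}, ∃ r : {r : ↥T // r ^ q = 1},
      ∃ e : {e : ↥(Fq ⊓ layCent N) // e ^ q = 1}, (a : G) = ((r : ↥T) : G) * ((e : ↥(Fq ⊓ layCent N)) : G) := by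
    rintro ⟨a, ha, haN, haq⟩
    obtain ⟨r, hr, -, -, e, heF, heN, he, rfl⟩ := c.hyp.mc.decomp_part c.facts c.prime c.odd ha haN
    have hre : Commute r e := Subgroup.mem_centralizer_iff.1 he r (c.facts.T_le hr).1
    rw [hre.mul_pow] at haq
    have hrq : r ^ q = 1 := Subgroup.mem_bot.1 (c.facts.T_disj ▸ (⟨pow_mem hr q,
      (eq_inv_of_mul_eq_one_left haq).symm ▸ Subgroup.inv_mem _ (Subgroup.pow_mem _ he q)⟩ : r ^ q ∈ T ⊓ _))
    rw [hrq, one_mul] at haq
    exact ⟨⟨⟨r, hr⟩, Subtype.ext hrq⟩, ⟨⟨e, heF, heN, he⟩, Subtype.ext haq⟩, rfl⟩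
  choose r e he using hdec
  calc Nat.card {a : G // a ∈ Fq ∧ a ∈ N ∧ a ^ q = 1}
      ≤ Nat.card ({r : ↥T // r ^ q = 1} × {e : ↥(Fq ⊓ layCent N) // e ^ q = 1}) :=
        Nat.card_le_card_of_injective (fun a => (r a, e a)) fun a b h => Subtype.ext (by
          rw [he a, he b, (Prod.mk.inj h).1, (Prod.mk.inj h).2])
    _ ≤ q * q := by
        rw [Nat.card_prod]
        exact Nat.mul_le_mul (card_pow_eq_one_le c.facts.T_cyclic c.prime.pos)
          (card_pow_eq_one_le c.D_cyclic c.prime.pos)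

/-- `|O_q(C) : O_q(C) ∩ N| = q` -/
theorem relIndex_part (hd : d ∈ Fq ⊓ layCent N) (hdq : orderOf d = q) (hdz : d ∈ z2 Fq) : N.relIndex Fq = q := by
  haveI := Fact.mk c.prime
  have hd1 : d ≠ 1 := fun e => c.prime.one_lt.ne' (hdq ▸ orderOf_eq_one_iff.2 e)
  have hZ : ∀ x ∈ Fq, ⁅d, x⁆ ∈ T := fun x hx =>
    (c.central_mem (by
      rw [commutatorElement_def]
      exact mul_mem (mul_mem (mul_mem hd.1 hx) (inv_mem hd.1)) (inv_mem hx)) fun w hw => hdz.2 x hx w hw).1
  have hmul : ∀ x ∈ Fq, ∀ y ∈ Fq, ⁅d, x * y⁆ = ⁅d, x⁆ * ⁅d, y⁆ := fun x hx y hy => by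
    rw [commutatorElement_def, show d * (x * y) * d⁻¹ * (x * y)⁻¹ = ⁅d, x⁆ * (x * ⁅d, y⁆ * x⁻¹) by
      rw [commutatorElement_def, commutatorElement_def]; group, ← (hdz.2 y hy x hx).eq, mul_inv_cancel_right]
  obtain ⟨φ, hφ⟩ : ∃ φ : ↥Fq →* ↥T, ∀ x, (φ x : G) = ⁅d, (x : G)⁆ :=
    ⟨MonoidHom.mk' (fun x => ⟨_, hZ x x.2⟩) fun x y => Subtype.ext (hmul x x.2 y y.2), fun x => rfl⟩
  have hker : φ.ker = N.subgroupOf Fq := by
    ext x
    rw [MonoidHom.mem_ker, Subgroup.mem_subgroupOf, ← SetLike.coe_eq_coe, hφ, Subgroup.coe_one,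
      commutatorElement_eq_one_iff_commute]
    exact ⟨fun h => c.cent_mem hd hd1 h.symm, fun h => c.A_comm hd.1 hd.2.1 x.2 h⟩
  have hle : Nat.card ↥φ.range ≤ q := by
    refine le_trans (Nat.card_le_card_of_injective (fun x : ↥φ.range => (⟨x, ?_⟩ : {r : ↥T // r ^ q = 1})) ?_)
      (card_pow_eq_one_le c.facts.T_cyclic c.prime.pos)
    · obtain ⟨x, hx⟩ := x.2
      rw [← hx, ← map_pow]
      refine Subtype.ext ?_
      rw [hφ, Subgroup.coe_one, Subgroup.coe_pow]
      have hc : ∀ n : ℕ, ⁅d, (x : G) ^ n⁆ = ⁅d ^ n, (x : G)⁆ := by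
        intro n
        induction n with
        | zero => simp
        | succ n ih =>
          rw [pow_succ, hmul _ (pow_mem x.2 n) _ x.2, ih, pow_succ', commutatorElement_def, commutatorElement_def,
            commutatorElement_def]
          have h1 := (hdz.2 (x : G) x.2 (d ^ n) (pow_mem hd.1 n)).symm
          rw [commutatorElement_def] at h1
          calc d ^ n * (x : G) * (d ^ n)⁻¹ * (x : G)⁻¹ * (d * x * d⁻¹ * (x : G)⁻¹)
              = (d * x * d⁻¹ * (x : G)⁻¹) * (d ^ n * x * (d ^ n)⁻¹ * (x : G)⁻¹) :=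
                (hdz.2 (x : G) x.2 _ (mul_mem (mul_mem (mul_mem (pow_mem hd.1 n) x.2) (inv_mem (pow_mem hd.1 n)))
                  (inv_mem x.2))).symm.eq ▸ by rw [commutatorElement_def]
            _ = d ^ n * (d * x * d⁻¹ * (x : G)⁻¹) * (x * (d ^ n)⁻¹ * (x : G)⁻¹) := by
                rw [h1.eq]; group
            _ = _ := by group
      rw [hc q, show d ^ q = 1 from orderOf_dvd_iff_pow_eq_one.1 hdq.dvd, commutatorElement_one_left]
    · exact fun a b h => Subtype.ext (congrArg (fun z : {r : ↥T // r ^ q = 1} => (z : ↥T)) h :)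
  have hidx : N.relIndex Fq = Nat.card ↥φ.range := by rw [Subgroup.relIndex, ← hker, Subgroup.index_ker]
  obtain ⟨k, hk⟩ := IsPGroup.iff_card.1 (fq_isPGroup q Cz)
  obtain ⟨j, -, hj⟩ := (Nat.dvd_prime_pow c.prime).1 (hk ▸ (N.subgroupOf Fq).index_dvd_card)
  rw [hidx]
  rcases j with _ | _ | j
  · refine (c.F_not_le ?_).elim
    rw [pow_zero, Subgroup.index_eq_one] at hj
    exact Subgroup.subgroupOf_eq_top.1 hj
  · rw [← hidx, Subgroup.relIndex, hj, pow_one]
  · exfalso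
    rw [← hidx, Subgroup.relIndex, hj] at hle
    exact absurd hle (not_le.2 (lt_self_pow₀ c.prime.one_lt (by omega)))

/-- `|O : N ∩ O| = q l` with `l ≤ q` odd -/
theorem relIndex_core_eq (hd : d ∈ Fq ⊓ layCent N) (hdq : orderOf d = q) (hdz : d ∈ z2 Fq) :
    ∃ l : ℕ, Odd l ∧ l ≤ q ∧ (N ⊓ O).relIndex O = q * l := by
  classical
  haveI := Fact.mk c.prime
  have hFO : Fq ≤ O := c.hyp.mc.fq_odd_le_core c.prime c.odd
  have hdvd : q ∣ (N ⊓ O).relIndex O := by
    haveI : ((Fq).subgroupOf O).Normal := (Subgroup.normal_subgroupOf_iff_le_normalizer hFO).2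
      fun g hg => fq_le_norm q c.prime _ (c.hyp.mc.core_le hg)
    have h1 := c.relIndex_part hd hdq hdz
    have h2 : (N ⊓ O).relIndex Fq = q := by
      rw [← Subgroup.inf_relIndex_right (N ⊓ O), inf_assoc, inf_eq_right.2 hFO, Subgroup.inf_relIndex_right, h1]
    rw [← h2, ← Subgroup.relIndex_subgroupOf (H := N ⊓ O) hFO]
    exact relIndex_dvd_index_of_normal_right _ _
  obtain ⟨l, hl⟩ := hdvd
  have hodd : Odd ((N ⊓ O).relIndex O) := c.hyp.mc.core_odd.of_dvd_nat (Subgroup.index_dvd_card _)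
  rw [hl] at hodd
  refine ⟨l, (Nat.odd_mul.1 hodd).2, ?_, hl⟩
  -- the elements of exponent `q` of the second centre
  have hE : Nat.card {x : G // x ∈ z2 Fq ∧ x ^ q = 1} ≤ q * (q * q) := by
    let g : ↥Fq ⧸ N.subgroupOf Fq → G := fun B =>
      if h : ∃ x : G, ∃ hx : x ∈ z2 Fq, x ^ q = 1 ∧ QuotientGroup.mk (⟨x, hx.1⟩ : ↥Fq) = B then h.choose else 1
    have hg : ∀ x : {x : G // x ∈ z2 Fq ∧ x ^ q = 1},
        let x₀ := g (QuotientGroup.mk ⟨x, x.2.1.1⟩)
        x₀⁻¹ * x ∈ Fq ∧ x₀⁻¹ * x ∈ N ∧ (x₀⁻¹ * x) ^ q = 1 := by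
      rintro ⟨x, hx, hxq⟩
      have h : ∃ y : G, ∃ hy : y ∈ z2 Fq, y ^ q = 1 ∧
          QuotientGroup.mk (⟨y, hy.1⟩ : ↥Fq) = (QuotientGroup.mk ⟨x, hx.1⟩ : ↥Fq ⧸ N.subgroupOf Fq) :=
        ⟨x, hx, hxq, rfl⟩
      simp only [g, dif_pos h]
      obtain ⟨hy, hyq, hyx⟩ := h.choose_spec
      exact ⟨mul_mem (inv_mem hy.1) hx.1, Subgroup.mem_subgroupOf.1 (QuotientGroup.eq.1 hyx),
        z2_mul_pow c.prime c.odd (inv_mem hy) hx (by rw [inv_pow, hyq, inv_one]) hxq⟩
    refine le_trans (Nat.card_le_card_of_injective (fun x : {x : G // x ∈ z2 Fq ∧ x ^ q = 1} =>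
      ((QuotientGroup.mk (⟨x, x.2.1.1⟩ : ↥Fq) : ↥Fq ⧸ N.subgroupOf Fq),
        (⟨_, hg x⟩ : {a : G // a ∈ Fq ∧ a ∈ N ∧ a ^ q = 1}))) ?_) ?_
    · intro x y h
      obtain ⟨h1, h2⟩ := Prod.mk.inj h
      have h3 := congrArg Subtype.val h2
      simp only [h1] at h3
      exact Subtype.ext (mul_left_cancel h3)
    · rw [Nat.card_prod, ← Subgroup.index_eq_card, ← Subgroup.relIndex, c.relIndex_part hd hdq hdz]
      exact Nat.mul_le_mul_left _ c.card_torsion
  -- the conjugates of `⟨d⟩`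
  have hone : ∀ i : {i : ↥(Subgroup.zpowers d) // i ≠ 1}, Subgroup.zpowers ((i : ↥(Subgroup.zpowers d)) : G) =
      Subgroup.zpowers d := fun i => by
    refine Subgroup.eq_of_le_of_card_ge (Subgroup.zpowers_le.2 i.1.2) (le_of_eq ?_)
    have h1 : orderOf ((i : ↥(Subgroup.zpowers d)) : G) = q := ((Nat.dvd_prime c.prime).1
      (hdq ▸ Nat.card_zpowers d ▸ Subgroup.orderOf_dvd_natCard _ i.1.2)).resolve_left
      fun h => i.2 (Subtype.ext (orderOf_eq_one_iff.1 h))
    rw [Nat.card_zpowers, Nat.card_zpowers, hdq, h1]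
  have hcount : (N ⊓ O).relIndex O * (q - 1) + 1 ≤ Nat.card {x : G // x ∈ z2 Fq ∧ x ^ q = 1} := by
    have hi : Nat.card {i : ↥(Subgroup.zpowers d) // i ≠ 1} + 1 = q := by
      rw [← Finite.card_option, Nat.card_congr (Equiv.optionSubtypeNe _), Nat.card_zpowers, hdq]
    rw [show q - 1 = Nat.card {i : ↥(Subgroup.zpowers d) // i ≠ 1} by omega, Subgroup.relIndex, Subgroup.index_eq_card,
      ← Nat.card_prod, ← Finite.card_option]
    have hmem : ∀ (a : ↥O) (i : {i : ↥(Subgroup.zpowers d) // i ≠ 1}),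
        (a : G) * ((i : ↥(Subgroup.zpowers d)) : G) * (a : G)⁻¹ ∈ z2 Fq ∧
          ((a : G) * ((i : ↥(Subgroup.zpowers d)) : G) * (a : G)⁻¹) ^ q = 1 := fun a i => by
      refine ⟨z2_conj (fq_le_norm q c.prime _ (c.hyp.mc.core_le a.2)) (Subgroup.zpowers_le.2 hdz i.1.2), ?_⟩
      rw [conj_pow, show ((i : ↥(Subgroup.zpowers d)) : G) ^ q = 1 from orderOf_dvd_iff_pow_eq_one.1
        (hdq ▸ Nat.card_zpowers d ▸ Subgroup.orderOf_dvd_natCard _ i.1.2), mul_one, mul_inv_cancel]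
    refine Nat.card_le_card_of_injective (fun z => z.elim (⟨1, one_mem _, one_pow _⟩ : {x : G // x ∈ z2 Fq ∧ x ^ q = 1})
      fun p => ⟨_, hmem p.1.out p.2⟩) ?_
    intro z z' e
    rcases z with _ | ⟨B, i⟩ <;> rcases z' with _ | ⟨B', i'⟩
    · rfl
    · exact (i'.2 (Subtype.ext (conj_eq_one_iff.1 (congrArg Subtype.val e).symm))).elim
    · exact (i.2 (Subtype.ext (conj_eq_one_iff.1 (congrArg Subtype.val e)))).elim
    · have e' : (B.out : G) * ((i : ↥(Subgroup.zpowers d)) : G) * (B.out : G)⁻¹ =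
          (B'.out : G) * ((i' : ↥(Subgroup.zpowers d)) : G) * (B'.out : G)⁻¹ := congrArg Subtype.val e
      obtain ⟨a, ha⟩ : ∃ a, a = (B'.out : G)⁻¹ * B.out := ⟨_, rfl⟩
      have hai : a * ((i : ↥(Subgroup.zpowers d)) : G) * a⁻¹ = ((i' : ↥(Subgroup.zpowers d)) : G) := by
        rw [ha, show (B'.out : G)⁻¹ * B.out * ((i : ↥(Subgroup.zpowers d)) : G) * ((B'.out : G)⁻¹ * B.out)⁻¹ =
          (B'.out : G)⁻¹ * ((B.out : G) * ((i : ↥(Subgroup.zpowers d)) : G) * (B.out : G)⁻¹) * B'.out by group, e']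
        group
      have haN : a ∈ N := c.norm_le (X := Subgroup.zpowers d)
        (by simpa [Subgroup.zpowers_eq_bot] using fun e : d = 1 => c.prime.one_lt.ne' (hdq ▸ orderOf_eq_one_iff.2 e))
        (Subgroup.zpowers_le.2 hd) (mem_norm_of_conj fun x hx => by
          rw [← hone i] at hx
          rw [← hone i']
          obtain ⟨n, rfl⟩ := Subgroup.mem_zpowers_iff.1 hx
          rw [← conj_zpow, hai]
          exact zpow_mem (Subgroup.mem_zpowers _) n)
      have hB : B' = B := by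
        rw [← QuotientGroup.out_eq' B, ← QuotientGroup.out_eq' B']
        rw [ha] at haN
        exact QuotientGroup.eq.2 (Subgroup.mem_subgroupOf.2 ⟨haN, (B'.out⁻¹ * B.out : ↥O).2⟩)
      subst hB
      rw [show a = 1 by rw [ha, inv_mul_cancel], one_mul, inv_one, mul_one] at hai
      rw [show i' = i from Subtype.ext (Subtype.ext hai.symm)]
  have h := hcount.trans hE
  rw [hl] at h
  by_contra hlt
  have h2 : q + 2 ≤ l := by
    rcases Nat.lt_or_ge (q + 1) l with h' | h'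
    · exact h'
    · exfalso
      have h3 : l = q + 1 := by omega
      have := Nat.odd_iff.1 (Nat.odd_mul.1 hodd).2
      have := Nat.odd_iff.1 (c.prime.odd_of_ne_two c.odd)
      omega
  obtain ⟨w, hw⟩ : ∃ w, q = w + 3 := ⟨q - 3, by have := c.prime.two_le; have := c.odd; omega⟩
  rw [hw, show w + 3 - 1 = w + 2 by omega] at h
  have h4 : (w + 3) * (w + 5) * (w + 2) ≤ (w + 3) * l * (w + 2) :=
    Nat.mul_le_mul_right _ (Nat.mul_le_mul_left _ (by omega))
  nlinarith

end QCfg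

end Cfsg.Agent.GW
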