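import Mathlib
import Cfsg.Agent.Lib.Solv.GL2Odd

/-!
# Abelian subgroups of `SL₂(q)` of order prime to `q` and the lines they move

`cyclic_dvd`: such a group is cyclic of order dividing `q - 1` or `q + 1`.  `comm_of_odd`: a group of odd order in
`GL₂(q)` without nontrivial normal `q`-subgroup is abelian of order prime to `q`.  `sq_one_of_line`,
`eigen_of_commute`, `orbit_of_inverted`: the orbit of the fixed line of an involution of determinant `-1`.
-/

set_option autoImplicit false
set_option linter.style.haveILetI false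
set_option linter.unusedSectionVars false

namespace Cfsg.Agent.GW.Line

open Cfsg.Agent.Solv.GL2Odd

variable {q : ℕ} [hq : Fact q.Prime] {H : Type*} [Group H] [Finite H]
variable {V : Type*} [AddCommGroup V] [Module (ZMod q) V] [Finite V]

local notation "E" => Module.End (ZMod q) V

theorem finite_module : Module.Finite (ZMod q) V := Module.Finite.of_finite

/-- Cayley–Hamilton in dimension two. -/
theorem cayley (h2 : Module.finrank (ZMod q) V = 2) (f : E) :
    f * f - LinearMap.trace (ZMod q) V f • f + LinearMap.det f • (1 : E) = 0 := by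
  haveI : Module.Finite (ZMod q) V := finite_module
  let e := Module.finBasisOfFinrankEq (ZMod q) V h2
  refine (LinearMap.toMatrixAlgEquiv e).injective ?_
  rw [map_add, map_sub, map_mul, map_smul, map_smul, map_one, map_zero, LinearMap.trace_eq_matrix_trace (ZMod q) e,
    ← LinearMap.det_toMatrix e, show LinearMap.toMatrix e e f = LinearMap.toMatrixAlgEquiv e f from rfl]
  generalize LinearMap.toMatrixAlgEquiv e f = A
  ext i j
  fin_cases i <;> fin_cases j <;>
    simp [Matrix.mul_apply, Matrix.trace_fin_two, Matrix.det_fin_two, Fin.sum_univ_two] <;> ring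

/-- A scalar of determinant one squares to one. -/
theorem sq_of_scalar (h2 : Module.finrank (ZMod q) V = 2) {f : E} {r : ZMod q} (hf : f = r • 1)
    (hd : LinearMap.det f = 1) : f * f = 1 := by
  haveI : Module.Finite (ZMod q) V := finite_module
  rw [hf, LinearMap.det_smul, h2, map_one, mul_one] at hd
  rw [hf, smul_mul_smul_comm, one_mul, ← pow_two, hd, one_smul]

/-- An element of determinant one fixing a nonzero vector is the identity if its order is prime to `q`. -/
theorem eq_one_of_fixed (h2 : Module.finrank (ZMod q) V = 2) {σ : H →* E} (hσ : Function.Injective σ) {h : H}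
    (hd : LinearMap.det (σ h) = 1) (hco : (orderOf h).Coprime q) {e : V} (he : e ≠ 0) (hfix : σ h e = e) : h = 1 := by
  haveI : Module.Finite (ZMod q) V := finite_module
  have hch := cayley h2 (σ h)
  rw [hd, one_smul] at hch
  have ht : LinearMap.trace (ZMod q) V (σ h) = 2 := by
    have h1 := LinearMap.congr_fun hch e
    simp [hfix] at h1
    have h3 : ((2 : ZMod q) - LinearMap.trace (ZMod q) V (σ h)) • e = 0 := by
      rw [sub_smul, two_smul]; rw [← h1]; abel
    exact (sub_eq_zero.1 ((smul_eq_zero.1 h3).resolve_right he)).symm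
  rw [ht] at hch
  obtain ⟨n, hn⟩ : ∃ n : E, n = σ h - 1 := ⟨_, rfl⟩
  have hn2 : n * n = 0 := by
    rw [hn, ← hch, two_smul]; noncomm_ring
  have hpow : ∀ k : ℕ, σ h ^ k = 1 + (k : ZMod q) • n := by
    intro k
    induction k with
    | zero => simp
    | succ k ih =>
      rw [pow_succ, ih, show σ h = 1 + n by rw [hn]; abel, add_mul, mul_add, mul_add, smul_mul_assoc, smul_mul_assoc,
        hn2, smul_zero, one_mul, one_mul, mul_one, Nat.cast_succ, add_smul, one_smul]
      abel
  have hq1 : h ^ q = 1 := hσ (by rw [map_pow, hpow, ZMod.natCast_self, zero_smul, add_zero, map_one])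
  exact orderOf_eq_one_iff.1 (Nat.eq_one_of_dvd_coprimes hco dvd_rfl (orderOf_dvd_of_pow_eq_one hq1))

/-- **An abelian subgroup of `SL₂(q)` of order prime to `q` is cyclic of order dividing `q - 1` or `q + 1`.** -/
theorem cyclic_dvd (hq2 : q ≠ 2) (h2 : Module.finrank (ZMod q) V = 2) {σ : H →* E} (hσ : Function.Injective σ)
    (hdet : ∀ h, LinearMap.det (σ h) = 1) (hcomm : ∀ a b : H, Commute a b) (hco : (Nat.card H).Coprime q) :
    IsCyclic H ∧ (Nat.card H ∣ q - 1 ∨ Nat.card H ∣ q + 1) := by
  classical
  haveI : Module.Finite (ZMod q) V := finite_module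
  haveI : Nontrivial V := Module.nontrivial_of_finrank_eq_succ h2
  have hqodd : Odd q := hq.out.odd_of_ne_two hq2
  by_cases hall : ∀ h, ∃ r : ZMod q, σ h = r • 1
  · -- scalars: at most two elements
    let χ : H → ZMod q := fun h => (hall h).choose
    have hχ : ∀ h, σ h = χ h • (1 : E) := fun h => (hall h).choose_spec
    have hone : Function.Injective (fun c : ZMod q => c • (1 : E)) := fun a b hab => by
      obtain ⟨v, hv⟩ := exists_ne (0 : V)
      have h1 := LinearMap.congr_fun hab v
      simp only [LinearMap.smul_apply, Module.End.one_apply] at h1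
      exact smul_left_injective (ZMod q) hv h1
    let f : H →* ZMod q :=
      { toFun := χ
        map_one' := hone (show χ 1 • (1 : E) = (1 : ZMod q) • 1 by rw [← hχ, map_one, one_smul])
        map_mul' := fun a b => hone (show χ (a * b) • (1 : E) = (χ a * χ b) • 1 by
          rw [← hχ, map_mul, hχ a, hχ b, smul_mul_smul_comm, one_mul]) }
    have hcyc : IsCyclic H := isCyclic_of_subgroup_isDomain f fun a b hab => hσ (by
      rw [hχ a, hχ b]; exact congrArg (fun c : ZMod q => c • (1 : E)) hab)
    refine ⟨hcyc, Or.inr ?_⟩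
    obtain ⟨g, hg⟩ := IsCyclic.exists_generator (α := H)
    rw [← orderOf_eq_card_of_forall_mem_zpowers hg]
    refine dvd_trans (orderOf_dvd_of_pow_eq_one (n := 2) (hσ ?_)) hqodd.add_one.two_dvd
    rw [map_pow, map_one, pow_two]
    exact sq_of_scalar h2 (hχ g) (hdet g)
  push Not at hall
  obtain ⟨b, hb⟩ := hall
  obtain ⟨v, hli⟩ : ∃ v, LinearIndependent (ZMod q) ![v, σ b v] := by
    by_contra hcon
    push Not at hcon
    obtain ⟨r, hr⟩ := LinearMap.exists_eq_smul_id_of_forall_notLinearIndependent hcon
    exact hb r hr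
  have hgen : ∀ f : E, Commute f (σ b) → ∃ u w : ZMod q, f = u • 1 + w • σ b := fun f hf => eq_add_smul h2 hli hf
  have hσb : ∀ h, Commute (σ h) (σ b) := fun h => (hcomm h b).map σ
  by_cases heig : ∃ e : V, e ≠ 0 ∧ ∃ c : ZMod q, σ b e = c • e
  · -- split
    obtain ⟨e, he, c, hce⟩ := heig
    have hline : ∀ h, ∃ d : ZMod q, σ h e = d • e := fun h => by
      obtain ⟨u, w, huw⟩ := hgen _ (hσb h)
      exact ⟨u + w * c, by rw [huw]; simp [hce, add_smul, mul_smul]⟩
    let χ : H → ZMod q := fun h => (hline h).choose
    have hχ : ∀ h, σ h e = χ h • e := fun h => (hline h).choose_spec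
    have hone : Function.Injective (fun c : ZMod q => c • e) := smul_left_injective (ZMod q) he
    let f : H →* ZMod q :=
      { toFun := χ
        map_one' := hone (show χ 1 • e = (1 : ZMod q) • e by rw [← hχ, map_one, one_smul]; rfl)
        map_mul' := fun a b => hone (show χ (a * b) • e = (χ a * χ b) • e by
          rw [← hχ, map_mul, Module.End.mul_apply, hχ b, map_smul, hχ a, smul_smul, mul_comm]) }
    have hf : Function.Injective f := (injective_iff_map_eq_one f).2 fun h hh => eq_one_of_fixed h2 hσ (hdet h)
      (hco.coprime_dvd_left (orderOf_dvd_natCard h)) he (by rw [hχ h, show χ h = 1 from hh, one_smul])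
    refine ⟨isCyclic_of_subgroup_isDomain f hf, Or.inl ?_⟩
    have := Subgroup.card_dvd_of_injective (f.toHomUnits) fun a b hab =>
      hf (by simpa using congrArg Units.val hab)
    rwa [Nat.card_units, Nat.card_zmod] at this
  · -- nonsplit: the centraliser of `σ b` is a domain
    push Not at heig
    let A : Subalgebra (ZMod q) E := Subalgebra.centralizer (ZMod q) {σ b}
    have hmem : ∀ f : E, f ∈ A ↔ Commute f (σ b) := fun f => by
      rw [Subalgebra.mem_centralizer_iff]
      exact ⟨fun h => (h _ rfl).symm, fun h g hg => by rw [Set.mem_singleton_iff.1 hg]; exact h.symm⟩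
    letI : CommRing A :=
      { (inferInstance : Ring A) with
        mul_comm := fun x y => Subtype.ext (by
          obtain ⟨u, w, huw⟩ := hgen _ ((hmem _).1 x.2)
          show (x : E) * y = y * x
          rw [huw, add_mul, mul_add, smul_mul_assoc, smul_mul_assoc, mul_smul_comm, mul_smul_comm, one_mul, mul_one,
            ((hmem _).1 y.2).eq]) }
    haveI : NoZeroDivisors A := by
      refine ⟨fun {x y} hxy => or_iff_not_imp_right.2 fun hy => ?_⟩
      have hinj : Function.Injective (y : E) := by
        rw [← LinearMap.ker_eq_bot, LinearMap.ker_eq_bot']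
        intro z hz
        by_contra hz0
        obtain ⟨u, w, huw⟩ := hgen _ ((hmem _).1 y.2)
        rw [huw] at hz
        simp only [LinearMap.add_apply, LinearMap.smul_apply, Module.End.one_apply] at hz
        rcases eq_or_ne w 0 with hw | hw
        · rw [hw, zero_smul, add_zero, smul_eq_zero] at hz
          exact hy (Subtype.ext (by rw [huw, hw, hz.resolve_right hz0]; simp))
        · refine heig z hz0 (-(w⁻¹ * u)) ?_
          rw [neg_smul, mul_smul, ← smul_neg, ← eq_neg_of_add_eq_zero_right hz, smul_smul, inv_mul_cancel₀ hw,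
            one_smul]
      have hsurj := LinearMap.injective_iff_surjective.1 hinj
      refine Subtype.ext (LinearMap.ext fun z => ?_)
      obtain ⟨z', rfl⟩ := hsurj z
      exact LinearMap.congr_fun (congrArg Subtype.val hxy) z'
    haveI : Nontrivial A := ⟨0, 1, fun h => by
      obtain ⟨z, hz⟩ := exists_ne (0 : V)
      exact hz (LinearMap.congr_fun (congrArg Subtype.val h) z).symm⟩
    haveI : IsDomain A := NoZeroDivisors.to_isDomain A
    haveI : CharP A q := charP_of_injective_algebraMap (algebraMap (ZMod q) A).injective q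
    let f : H →* A :=
      { toFun := fun h => ⟨σ h, (hmem _).2 (hσb h)⟩
        map_one' := Subtype.ext (map_one σ)
        map_mul' := fun a b => Subtype.ext (map_mul σ a b) }
    have hf : Function.Injective f := fun a b hab => hσ (congrArg Subtype.val hab)
    have hcyc : IsCyclic H := isCyclic_of_subgroup_isDomain f hf
    refine ⟨hcyc, Or.inr ?_⟩
    obtain ⟨g, hg⟩ := IsCyclic.exists_generator (α := H)
    rw [← orderOf_eq_card_of_forall_mem_zpowers hg]
    refine orderOf_dvd_of_pow_eq_one (hf ?_)
    rw [map_pow, map_one]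
    have hroot : f g * f g - algebraMap (ZMod q) A (LinearMap.trace (ZMod q) V (σ g)) * f g + 1 = 0 := Subtype.ext (by
      have := cayley h2 (σ g)
      rw [hdet g, one_smul, Algebra.smul_def] at this
      exact this)
    obtain ⟨c, hc⟩ : ∃ c, c = LinearMap.trace (ZMod q) V (σ g) := ⟨_, rfl⟩
    rw [← hc] at hroot
    have hfrob : (f g) ^ q * (f g) ^ q - algebraMap (ZMod q) A c * (f g) ^ q + 1 = 0 := by
      have h1 := congrArg (frobenius A q) hroot
      simp only [map_add, map_sub, map_mul, map_one, map_zero, frobenius_def] at h1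
      rwa [← map_pow (algebraMap (ZMod q) A) c q, ZMod.pow_card] at h1
    have hfact : ((f g) ^ q - f g) * ((f g) ^ (q + 1) - 1) = 0 := by
      rw [pow_succ]; linear_combination (f g) * hfrob - (f g) ^ q * hroot
    rcases mul_eq_zero.1 hfact with h0 | h0
    · -- a scalar
      have hdeg : (Polynomial.X ^ q - Polynomial.X : Polynomial A).natDegree = q := by
        rw [Polynomial.natDegree_sub_eq_left_of_natDegree_lt (by
          rw [Polynomial.natDegree_X_pow, Polynomial.natDegree_X]; exact hq.out.one_lt), Polynomial.natDegree_X_pow]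
      have hne0 : (Polynomial.X ^ q - Polynomial.X : Polynomial A) ≠ 0 := fun h => by
        rw [h, Polynomial.natDegree_zero] at hdeg; exact hq.out.ne_zero hdeg.symm
      obtain ⟨r, hr⟩ : ∃ r : ZMod q, f g = algebraMap (ZMod q) A r := by
        by_contra hno
        push Not at hno
        have hroots : ∀ y ∈ insert (f g) (Finset.univ.image (algebraMap (ZMod q) A)),
            y ∈ (Polynomial.X ^ q - Polynomial.X : Polynomial A).roots := by
          intro y hy
          rw [Polynomial.mem_roots hne0, Polynomial.IsRoot,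
            Polynomial.eval_sub, Polynomial.eval_pow, Polynomial.eval_X]
          rcases Finset.mem_insert.1 hy with rfl | hy
          · exact h0
          · obtain ⟨r, -, rfl⟩ := Finset.mem_image.1 hy
            rw [← map_pow, ZMod.pow_card, sub_self]
        have hle := (Finset.card_le_card (fun y hy => Multiset.mem_toFinset.2 (hroots y hy))).trans
          ((Multiset.toFinset_card_le _).trans (Polynomial.card_roots' _))
        rw [Finset.card_insert_of_notMem (by simpa using fun r => (hno r).symm),
          Finset.card_image_of_injective _ (algebraMap (ZMod q) A).injective, Finset.card_univ, ZMod.card,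
          hdeg] at hle
        omega
      have h2' : σ g * σ g = 1 := sq_of_scalar h2 (r := r) (by
        have := congrArg Subtype.val hr
        simpa [Algebra.algebraMap_eq_smul_one, f] using this) (hdet g)
      obtain ⟨k, hk⟩ := hqodd.add_one.two_dvd
      rw [hk, pow_mul, pow_two]
      have : f g * f g = 1 := Subtype.ext h2'
      rw [this, one_pow]
    · exact sub_eq_zero.1 h0

/-- **A group of odd order in `GL₂(q)` without nontrivial normal `q`-subgroup is abelian of order prime to `q`.** -/
theorem comm_of_odd (hq2 : q ≠ 2) (h2 : Module.finrank (ZMod q) V = 2) {σ : H →* E} (hσ : Function.Injective σ)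
    [Group.IsSolvable H] (hodd : Odd (Nat.card H)) (hno : ∀ N : Subgroup H, N.Normal → IsPGroup q N → N = ⊥) :
    (∀ a b : H, Commute a b) ∧ (Nat.card H).Coprime q := by
  haveI : Module.Finite (ZMod q) V := finite_module
  have hV : Nat.card V ≤ q ^ 2 := by rw [Module.natCard_eq_pow_finrank (K := ZMod q), Nat.card_zmod, h2]
  have hc := hno _ inferInstance (commutator_isPGroup hodd hq2 hV σ hσ)
  have hcomm : ∀ a b : H, Commute a b := fun a b => commutatorElement_eq_one_iff_commute.1
    (Subgroup.mem_bot.1 (hc ▸ Subgroup.commutator_mem_commutator (Subgroup.mem_top a) (Subgroup.mem_top b)))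
  refine ⟨hcomm, ?_⟩
  rw [Nat.coprime_comm, hq.out.coprime_iff_not_dvd]
  intro hd
  obtain ⟨x, hx⟩ := exists_prime_orderOf_dvd_card' q hd
  have hn : (Subgroup.zpowers x).Normal := ⟨fun y hy z => by rwa [(hcomm z y).eq, mul_inv_cancel_right]⟩
  have := hno _ hn (IsPGroup.of_card (n := 1) (by rw [Nat.card_zpowers, hx, pow_one]))
  rw [Subgroup.zpowers_eq_bot] at this
  rw [this, orderOf_one] at hx
  exact hq.out.ne_one hx.symm

/-- an involution inverts `h` and fixes `e`: if `h` preserves the line of `e` then `h² = 1` -/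
theorem sq_one_of_line (h2 : Module.finrank (ZMod q) V = 2) {σ : H →* E} (hσ : Function.Injective σ)
    (hdet : ∀ h, LinearMap.det (σ h) = 1) (hco : (Nat.card H).Coprime q) {u : E} {e : V} (he : e ≠ 0) (hue : u e = e)
    {h : H} (hinv : u * σ h * u = σ h⁻¹) {c : ZMod q} (hc : σ h e = c • e) : h * h = 1 := by
  refine eq_one_of_fixed h2 hσ (hdet _) (hco.coprime_dvd_left (orderOf_dvd_natCard _)) he ?_
  have h1 : σ h⁻¹ e = c • e := by
    rw [← hinv, Module.End.mul_apply, Module.End.mul_apply, hue, hc, map_smul, hue]
  have h3 : e = σ h (σ h⁻¹ e) := by rw [← Module.End.mul_apply, ← map_mul, mul_inv_cancel, map_one]; rfl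
  rw [h1, map_smul, hc, smul_smul] at h3
  rw [map_mul, Module.End.mul_apply, hc, map_smul, hc, smul_smul, ← h3]

/-- an element of order two in `SL₂(q)` is `-1` -/
theorem neg_of_sq (hq2 : q ≠ 2) (h2 : Module.finrank (ZMod q) V = 2) {f : E} (hd : LinearMap.det f = 1)
    (hf : f * f = 1) : f = 1 ∨ f = -1 := by
  haveI : Module.Finite (ZMod q) V := finite_module
  haveI : Nontrivial V := Module.nontrivial_of_finrank_eq_succ h2
  have hch := cayley h2 f
  rw [hd, one_smul, hf] at hch
  obtain ⟨t, ht⟩ : ∃ t, t = LinearMap.trace (ZMod q) V f := ⟨_, rfl⟩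
  rw [← ht] at hch
  have h2' : (2 : ZMod q) • (1 : E) = t • f := by rw [two_smul]; exact sub_eq_zero.1 (by rw [← hch]; abel)
  have h20 : (2 : ZMod q) ≠ 0 := by
    rw [show (2 : ZMod q) = ((2 : ℕ) : ZMod q) by norm_num, Ne, ZMod.natCast_eq_zero_iff]
    exact fun h => hq2 ((Nat.prime_dvd_prime_iff_eq hq.out Nat.prime_two).1 h)
  have ht0 : t ≠ 0 := fun h => by
    rw [h, zero_smul, smul_eq_zero] at h2'
    exact one_ne_zero (h2'.resolve_left h20)
  have hfs : f = (t⁻¹ * 2) • 1 := by rw [mul_smul, h2', smul_smul, inv_mul_cancel₀ ht0, one_smul]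
  have hsq : (t⁻¹ * 2) * (t⁻¹ * 2) = 1 := by
    rw [hfs, LinearMap.det_smul, h2, map_one, mul_one, pow_two] at hd
    exact hd
  rcases mul_self_eq_one_iff.1 hsq with h | h <;> rw [h] at hfs
  · exact Or.inl (by rw [hfs, one_smul])
  · exact Or.inr (by rw [hfs, neg_smul, one_smul])

/-- **the orbit of the fixed line of an inverting involution has `|H| / gcd(2, |H|)` members** -/
theorem orbit_of_inverted (hq2 : q ≠ 2) (h2 : Module.finrank (ZMod q) V = 2) {σ : H →* E}
    (hσ : Function.Injective σ) (hdet : ∀ h, LinearMap.det (σ h) = 1) (hco : (Nat.card H).Coprime q) {u : E} {e : V}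
    (he : e ≠ 0) (hue : u e = e) (hinv : ∀ h, u * σ h * u = σ h⁻¹) :
    Nat.card (Set.range fun h : H => Submodule.span (ZMod q) {σ h e}) * Nat.gcd 2 (Nat.card H) = Nat.card H := by
  classical
  have hneg : ∀ h : H, h * h = 1 → σ h = 1 ∨ σ h = -1 := fun h hh =>
    neg_of_sq hq2 h2 (hdet h) (by rw [← map_mul, hh, map_one])
  let Z : Subgroup H :=
    { carrier := {h | σ h = 1 ∨ σ h = -1}
      one_mem' := Or.inl (map_one σ)
      mul_mem' := fun {a b} ha hb => by rcases ha with ha | ha <;> rcases hb with hb | hb <;> simp [map_mul, ha, hb]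
      inv_mem' := fun {a} ha => by
        have h1 : σ a⁻¹ * σ a = 1 := by rw [← map_mul, inv_mul_cancel, map_one]
        rcases ha with ha | ha <;> rw [ha] at h1
        · exact Or.inl (by simpa using h1)
        · refine Or.inr ?_
          rw [mul_neg, mul_one] at h1
          exact neg_eq_iff_eq_neg.1 h1 }
  have hsame : ∀ a b : H, Submodule.span (ZMod q) {σ a e} = Submodule.span (ZMod q) {σ b e} ↔ a⁻¹ * b ∈ Z := by
    intro a b
    constructor
    · intro hab
      obtain ⟨c, hc⟩ := Submodule.mem_span_singleton.1 (hab.symm ▸ Submodule.mem_span_singleton_self (σ b e) :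
        σ b e ∈ Submodule.span (ZMod q) {σ a e})
      refine hneg _ (sq_one_of_line h2 hσ hdet hco he hue (hinv _) (c := c) ?_)
      rw [map_mul, Module.End.mul_apply, ← hc, map_smul, ← Module.End.mul_apply, ← map_mul, inv_mul_cancel, map_one]
      rfl
    · intro hz
      have hb : σ b = σ a * σ (a⁻¹ * b) := by rw [← map_mul, mul_inv_cancel_left]
      rcases hz with hz | hz
      · rw [hb, hz, mul_one]
      · rw [hb, hz, mul_neg, mul_one, LinearMap.neg_apply, ← Set.neg_singleton, Submodule.span_neg]
  have hq' : Nat.card (Set.range fun h : H => Submodule.span (ZMod q) {σ h e}) = Nat.card (H ⧸ Z) := by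
    refine (Nat.card_congr (Equiv.ofBijective (fun x : H ⧸ Z => Quotient.liftOn' x
      (fun h => (⟨_, Set.mem_range_self h⟩ : Set.range fun h : H => Submodule.span (ZMod q) {σ h e}))
      fun a b hab => Subtype.ext ((hsame a b).2 (QuotientGroup.leftRel_apply.1 hab))) ⟨?_, ?_⟩)).symm
    · rintro ⟨a⟩ ⟨b⟩ hab
      exact QuotientGroup.eq.2 ((hsame a b).1 (congrArg Subtype.val hab))
    · rintro ⟨_, a, rfl⟩
      exact ⟨(a : H ⧸ Z), rfl⟩
  have hZ : Nat.card Z = Nat.gcd 2 (Nat.card H) := by
    have hle : Nat.card Z ≤ 2 := by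
      have := Finite.card_range_le (fun b : Bool => if b then (1 : E) else -1)
      refine (Nat.card_le_card_of_injective (fun z : Z => (⟨σ z, by
        rcases z.2 with h | h
        · exact ⟨true, by simp [h]⟩
        · exact ⟨false, by simp [h]⟩⟩ : Set.range fun b : Bool => if b then (1 : E) else -1))
        fun x y hxy => Subtype.ext (hσ (congrArg Subtype.val hxy))).trans (this.trans (by simp))
    have hpos : 0 < Nat.card Z := Nat.card_pos
    rcases (show Nat.card Z = 1 ∨ Nat.card Z = 2 by omega) with hz | hz <;> rw [hz]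
    · refine (Nat.coprime_iff_gcd_eq_one.1 ((Nat.prime_two.coprime_iff_not_dvd).2 fun hd => ?_)).symm
      obtain ⟨x, hx⟩ := exists_prime_orderOf_dvd_card' 2 hd
      have hxZ : x ∈ Z := hneg x (by rw [← pow_two, ← hx, pow_orderOf_eq_one])
      rw [Subgroup.card_eq_one.1 hz, Subgroup.mem_bot] at hxZ
      rw [hxZ, orderOf_one] at hx
      omega
    · exact (Nat.gcd_eq_left (hz ▸ Subgroup.card_subgroup_dvd_card Z)).symm
  rw [hq', ← hZ, ← Subgroup.card_eq_card_quotient_mul_card_subgroup]

/-- what commutes with an involution of determinant `-1` preserves its fixed line -/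
theorem eigen_of_commute (hq2 : q ≠ 2) (h2 : Module.finrank (ZMod q) V = 2) {u f : E}
    (hd : LinearMap.det u = -1) {e : V} (he : e ≠ 0) (hue : u e = e) (hc : Commute u f) :
    ∃ c : ZMod q, f e = c • e := by
  haveI : Module.Finite (ZMod q) V := finite_module
  by_contra hcon
  push Not at hcon
  have hli : LinearIndependent (ZMod q) ![e, f e] := by
    rw [LinearIndependent.pair_iff' he]
    exact fun c hc => hcon c hc.symm
  have hspan := hli.span_eq_top_of_card_eq_finrank (by simp [h2])
  have hu : u = 1 := LinearMap.ext_on_range hspan fun i => by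
    fin_cases i
    · simp [hue]
    · show u (f e) = f e
      rw [← Module.End.mul_apply, hc.eq, Module.End.mul_apply, hue]
  rw [hu, map_one] at hd
  have : ((2 : ℕ) : ZMod q) = 0 := by push_cast; linear_combination hd
  rw [ZMod.natCast_eq_zero_iff] at this
  exact hq2 ((Nat.prime_dvd_prime_iff_eq hq.out Nat.prime_two).1 this)

end Cfsg.Agent.GW.Line
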