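import Cfsg.Agent.Lib.GW.MaxQPart
import Cfsg.Agent.Lib.GW.MaxControlBase

/-!
# An involution fixing a part of a core: the index of the centraliser and the primes of the odd cores

A Sylow `p`-subgroup `P` of `C(t)` holds the centre of `O_p(C(t))`, so `C(P) ≤ C(t)` and `t` is the only involution
of `C(P)`; so `N(P) ≤ C(t)` and `P` is a Sylow subgroup of `G`.
-/

set_option autoImplicit false
set_option linter.unusedSectionVars false
set_option linter.style.haveILetI false

namespace Cfsg.Agent.GW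

open Cfsg Cfsg.Agent

universe w

variable {G : Type w} [Group G] [Finite G] [IsSimpleGroup G] {t : G} {O : Subgroup G}

set_option quotPrecheck false in
local notation "Cz" => Subgroup.centralizer ({t} : Set G)

/-- the normaliser of a Sylow subgroup of `C(t)` for a prime of an odd core lies in `C(t)` -/
theorem QHyp.norm_sylow_le (h : QHyp t O) {p : ℕ} [hp : Fact p.Prime] (hp2 : p ≠ 2) (hne : fq p Cz ≠ ⊥)
    (P : Sylow p ↥(Subgroup.centralizer ({t} : Set G))) :
    Subgroup.normalizer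
      (((P : Subgroup ↥(Subgroup.centralizer ({t} : Set G))).map (Subgroup.centralizer ({t} : Set G)).subtype :
        Subgroup G) : Set G) ≤ Cz := by
  obtain ⟨P', hP'⟩ : ∃ P', P' = (P : Subgroup ↥(Subgroup.centralizer ({t} : Set G))).map
    (Subgroup.centralizer ({t} : Set G)).subtype := ⟨_, rfl⟩
  rw [← hP']
  have hfP : fq p Cz ≤ P' := hP' ▸ Subgroup.map_mono (Fusion.pCore_le_sylow P)
  have hP'C : P' ≤ Cz := hP' ▸ Subgroup.map_subtype_le _
  obtain ⟨Z, hZ⟩ : ∃ Z, Z = fq p Cz ⊓ Subgroup.centralizer (fq p Cz : Set G) := ⟨_, rfl⟩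
  obtain ⟨y, hy, hy1, hyc⟩ : ∃ y ∈ fq p Cz, y ≠ 1 ∧ ∀ x ∈ fq p Cz, Commute y x := by
    obtain ⟨a, -, ha1, hac⟩ := exists_central_mem (fq_isPGroup p Cz) ⊤ (fun e => hne ((Subgroup.eq_bot_iff_forall _).2
      fun z hz => by
        have hm := Subgroup.mem_top (⟨z, hz⟩ : ↥(fq p Cz))
        rw [e, Subgroup.mem_bot] at hm
        exact congrArg Subtype.val hm))
    exact ⟨a, a.2, fun e => ha1 (Subtype.ext e),
      fun x hx => (congrArg Subtype.val (hac ⟨x, hx⟩).eq : x * (a : G) = (a : G) * x).symm⟩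
  have hyZ : y ∈ Z := hZ ▸ ⟨hy, Subgroup.mem_centralizer_iff.2 fun x hx => (hyc x hx).eq.symm⟩
  have hZn : Subgroup.normalizer (Z : Set G) = Cz := by
    refine h.mc.normalizer_eq (fun e => hy1 (Subgroup.mem_bot.1 (e ▸ hyZ)))
      (hZ ▸ inf_le_left.trans (h.mc.fq_le_core hp.out hp2)) (hZ ▸ fun c hc => Subgroup.inf_normalizer_le_normalizer_inf
        ⟨fq_le_norm p hp.out _ hc, normalizer_le_norm_cent _ (fq_le_norm p hp.out _ hc)⟩)
  intro g hg
  -- the conjugate of `t` centralises `P`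
  obtain ⟨z, hz⟩ : ∃ z, z = g * t * g⁻¹ := ⟨_, rfl⟩
  have hzP : ∀ a ∈ P', Commute z a := by
    intro a ha
    have h1 : g⁻¹ * a * g ∈ P' := by
      have := (Subgroup.mem_normalizer_iff.1 (inv_mem hg) a).1 ha
      rwa [inv_inv] at this
    have := (Commute.conj_iff g).2 (Subgroup.mem_centralizer_singleton_iff.1 (hP'C h1) : Commute (g⁻¹ * a * g) t)
    rw [← hz, show g * (g⁻¹ * a * g) * g⁻¹ = a by group] at this
    exact this.symm
  have hzC : z ∈ Cz := by
    rw [← hZn]
    refine mem_norm_of_conj fun a ha => ?_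
    rw [(hzP a (hfP (hZ ▸ ha).1)).eq, mul_inv_cancel_right]
    exact ha
  have hzt : z = t := by
    by_contra hzt
    refine hy1 (h.np p hp.out hp2 z (by rw [hz, conj_mul, h.mc.sq, mul_one, mul_inv_cancel]) (fun e => h.mc.ne ?_) hzt
      (Subgroup.mem_centralizer_singleton_iff.1 hzC) y hy hyc (hzP y (hfP hy)))
    rw [hz, conj_eq_one_iff] at e
    exact e
  exact Subgroup.mem_centralizer_singleton_iff.2 (mul_inv_eq_iff_eq_mul.1 (hz.symm.trans hzt))

/-- **a prime of an odd core does not divide the index of `C(t)`** -/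
theorem QHyp.not_dvd_index (h : QHyp t O) {p : ℕ} (hp : p.Prime) (hp2 : p ≠ 2) (hne : fq p Cz ≠ ⊥) :
    ¬ p ∣ (Subgroup.centralizer ({t} : Set G)).index := by
  haveI := Fact.mk hp
  obtain ⟨P⟩ := (inferInstance : Nonempty (Sylow p ↥(Subgroup.centralizer ({t} : Set G))))
  obtain ⟨P', hP'⟩ : ∃ P', P' = (P : Subgroup ↥(Subgroup.centralizer ({t} : Set G))).map
    (Subgroup.centralizer ({t} : Set G)).subtype := ⟨_, rfl⟩
  have hPp : IsPGroup p ↥P' := hP' ▸ P.isPGroup'.map _
  obtain ⟨S, hS⟩ := hPp.exists_le_sylow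
  have hSC : (S : Subgroup G) ≤ Cz := by
    rcases hS.lt_or_eq with hlt | he
    · exfalso
      have hlt' := Char.lt_inf_normalizer hp S.isPGroup' hlt
      obtain ⟨R, hR⟩ : ∃ R, R = (S : Subgroup G) ⊓ Subgroup.normalizer (P' : Set G) := ⟨_, rfl⟩
      rw [← hR] at hlt'
      have hRC : R ≤ Cz := fun a ha => h.norm_sylow_le hp2 hne P (hP' ▸ (hR ▸ ha).2)
      have hRp : IsPGroup p ↥R := hR ▸ S.isPGroup'.to_le inf_le_left
      have hle : (P : Subgroup ↥(Subgroup.centralizer ({t} : Set G))) ≤ R.subgroupOf _ := fun a ha => by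
        rw [Subgroup.mem_subgroupOf]
        exact hlt'.le (hP' ▸ ⟨a, ha, rfl⟩)
      have heq := P.is_maximal' hRp.comap_subtype hle
      refine hlt'.not_ge fun a ha => ?_
      rw [hP']
      exact ⟨⟨a, hRC ha⟩, heq ▸ Subgroup.mem_subgroupOf.2 ha, rfl⟩
    · rw [← he, hP']
      exact Subgroup.map_subtype_le _
  exact fun hd => S.not_dvd_index (hd.trans (Subgroup.index_dvd_of_le hSC))

/-- the index of `C(t)` is prime to a number all whose primes are primes of odd cores -/
theorem QHyp.index_coprime (h : QHyp t O) {n : ℕ}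
    (hn : ∀ p : ℕ, p.Prime → p ∣ n → p ≠ 2 ∧ fq p Cz ≠ ⊥) :
    (Subgroup.centralizer ({t} : Set G)).index.Coprime n :=
  Nat.coprime_of_dvd fun p hp hd hdn => h.not_dvd_index hp (hn p hp hdn).1 (hn p hp hdn).2 hd

/-- if `O_p(C(t))` is a Sylow subgroup of `C(t)` the index of `C(t)` is `1` modulo `p` -/
theorem QHyp.index_mod (h : QHyp t O) {p : ℕ} [hp : Fact p.Prime] (hp2 : p ≠ 2) (hne : fq p Cz ≠ ⊥)
    (hsyl : Solv.IsSylIn p (fq p Cz) Cz) : (Subgroup.centralizer ({t} : Set G)).index % p = 1 := by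
  obtain ⟨P, hP⟩ := hsyl.exists_sylow
  obtain ⟨S, hS⟩ := (hP ▸ P.isPGroup'.map _ : IsPGroup p ↥(fq p Cz)).exists_le_sylow
  have heq : fq p Cz = (S : Subgroup G) := by
    refine Subgroup.eq_of_le_of_card_ge hS (le_of_eq ?_)
    rw [S.card_eq_multiplicity, hsyl.2]
    refine congrArg (p ^ ·) ?_
    rw [← Subgroup.card_mul_index (Subgroup.centralizer ({t} : Set G)),
      Nat.factorization_mul Nat.card_pos.ne' Subgroup.index_ne_zero_of_finite, Finsupp.add_apply,
      Nat.factorization_eq_zero_of_not_dvd (h.not_dvd_index hp.out hp2 hne), add_zero]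
  have hn : Subgroup.normalizer ((S : Subgroup G) : Set G) = Cz := by
    rw [← heq]
    exact h.mc.normalizer_eq hne (h.mc.fq_le_core hp.out hp2) (fq_le_norm p hp.out _)
  have h1 := card_sylow_modEq_one p G
  have hn' : Subgroup.normalizer (S : Set G) = Cz := hn
  rw [S.card_eq_index_normalizer, hn', Nat.ModEq, Nat.one_mod_eq_one.2 hp.out.one_lt.ne'] at h1
  exact h1

end Cfsg.Agent.GW
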