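import Cfsg.Agent.Lib.GW.EightLinear
import Cfsg.Agent.Lib.GW.MaxControlResidual
import Cfsg.Agent.Lib.GW.FourLinear
import Cfsg.Agent.Lib.GW.MaxQPrimes

/-!
# An involution fixing a part of a core: the image of the core centralised by the reflections

If `S` centralises `O/F ≠ 1` for a normal subgroup `F` of `C` and a three-cycle of `⟨t, u⟩` keeps `F ∩ C_O(u)` in `F`,
a linear character of `O/F` gives a linear character of `C` fixed by the fusion; it cannot exist when the common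
index `|O : C_O(u)|` is prime to `|G : C|`.
-/

set_option autoImplicit false
set_option linter.unusedSectionVars false
set_option linter.style.haveILetI false

namespace Cfsg.Agent.GW

open Cfsg Cfsg.Agent DihedralGroup

universe u

variable {G : Type u} [Group G] [Finite G] (Φ : Frame G)

theorem Frame.eq_one_of_mem_OS {a : G} (ha : a ∈ Φ.O) (hs : a ∈ (Φ.S : Subgroup G)) : a = 1 := by
  haveI : Fact (Nat.Prime 2) := ⟨Nat.prime_two⟩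
  obtain ⟨j, hj⟩ := IsPGroup.iff_orderOf.1 Φ.S.isPGroup' ⟨a, hs⟩
  rw [Subgroup.orderOf_mk] at hj
  exact orderOf_eq_one_iff.1 (Nat.eq_one_of_dvd_coprimes ((odd_orderOf Φ.O_odd ha).coprime_two_left.pow_left j)
    (hj ▸ dvd_rfl) dvd_rfl)

theorem Frame.exists_mul {c : G} (hc : c ∈ Subgroup.centralizer ({Φ.t} : Set G)) :
    ∃ o ∈ Φ.O, ∃ s ∈ (Φ.S : Subgroup G), c = o * s := by
  have hn : (Φ.S : Subgroup G) ≤ Subgroup.normalizer (Φ.O : Set G) := fun s hs =>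
    mem_normalizer_of_conj fun a ha => Φ.O_norm s (Φ.S_le hs) a ha
  have hc' : c ∈ ((Φ.O ⊔ (Φ.S : Subgroup G) : Subgroup G) : Set G) := by rw [Φ.O_sup]; exact hc
  rw [Subgroup.coe_mul_of_right_le_normalizer_left Φ.O (Φ.S : Subgroup G) hn] at hc'
  obtain ⟨o, ho, s, hs, rfl⟩ := hc'
  exact ⟨o, ho, s, hs, rfl⟩

/-- an element of `C(t)` commuting with a reflection splits -/
theorem Frame.split_commute (i : ZMod (2 ^ Φ.k)) {c : G} (hc : c ∈ Subgroup.centralizer ({Φ.t} : Set G))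
    (hci : Commute c (Φ.refl i)) : ∃ a ∈ Φ.U i, ∃ b ∈ Φ.O, Commute b (Φ.refl i) ∧ c = b * a := by
  obtain ⟨o, ho, s, hs, rfl⟩ := Φ.exists_mul hc
  obtain ⟨z, hz⟩ : ∃ z, z = Φ.refl i := ⟨_, rfl⟩
  rw [← hz] at hci
  have hzS : z ∈ (Φ.S : Subgroup G) := hz ▸ Φ.refl_mem i
  have h1 : z * (o * s) * z⁻¹ = o * s := by rw [← hci.eq, mul_inv_cancel_right]
  rw [show z * (o * s) * z⁻¹ = (z * o * z⁻¹) * (z * s * z⁻¹) by group] at h1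
  have h2 : o⁻¹ * (z * o * z⁻¹) = s * (z * s * z⁻¹)⁻¹ := by
    calc o⁻¹ * (z * o * z⁻¹) = o⁻¹ * ((z * o * z⁻¹) * (z * s * z⁻¹)) * (z * s * z⁻¹)⁻¹ := by group
      _ = _ := by rw [h1]; group
  have h3 : s * (z * s * z⁻¹)⁻¹ = 1 := Φ.eq_one_of_mem_OS
    (h2 ▸ mul_mem (inv_mem ho) (Φ.O_norm z (Φ.S_le hzS) o ho))
    (mul_mem hs (inv_mem (mul_mem (mul_mem hzS hs) (inv_mem hzS))))
  have hso : z * o * z⁻¹ = o := by
    rw [h3] at h2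
    exact (inv_mul_eq_one.1 h2).symm
  exact ⟨s, Φ.mem_U_of_commute hs (hz ▸ (mul_inv_eq_iff_eq_mul.1 (mul_inv_eq_one.1 h3).symm).symm), o, ho,
    hz ▸ (mul_inv_eq_iff_eq_mul.1 hso).symm, rfl⟩

/-- `|C(t, u)| = 4|C_O(u)|` -/
theorem Frame.card_cent_refl (i : ZMod (2 ^ Φ.k)) :
    Nat.card (Subgroup.centralizer ({Φ.t, Φ.refl i} : Set G)) =
      4 * Nat.card ↥(Φ.O ⊓ Subgroup.centralizer ({Φ.refl i} : Set G)) := by
  rw [mul_comm, ← Φ.U_card i, ← Nat.card_prod]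
  refine (Nat.card_eq_of_bijective (fun c : ↥(Φ.O ⊓ Subgroup.centralizer ({Φ.refl i} : Set G)) × ↥(Φ.U i) =>
    (⟨(c.1 : G) * (c.2 : G), ?_⟩ : ↥(Subgroup.centralizer ({Φ.t, Φ.refl i} : Set G)))) ⟨?_, ?_⟩).symm
  · refine Subgroup.mem_centralizer_iff.2 fun x hx => ?_
    have hbx : Commute (c.1 : G) x := by
      rcases hx with rfl | rfl
      · exact Subgroup.mem_centralizer_singleton_iff.1 (Φ.O_le c.1.2.1)
      · exact Subgroup.mem_centralizer_singleton_iff.1 c.1.2.2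
    have hUx : Commute (c.2 : G) x := by
      have htu := Φ.commute i
      rcases hx with rfl | rfl <;> rcases (Φ.mem_U_iff _).1 c.2.2 with e | e | e | e <;> rw [e]
      all_goals first
        | exact Commute.one_left _ | exact Commute.refl _ | exact htu | exact htu.symm
        | exact (Commute.refl Φ.t).mul_left htu.symm | exact htu.mul_left (Commute.refl (Φ.refl i))
    exact (hbx.mul_left hUx).symm.eq
  · rintro ⟨b, a⟩ ⟨b', a'⟩ e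
    have e1 : (b : G) * a = b' * a' := congrArg Subtype.val e
    have h1 : (b' : G)⁻¹ * b = 1 := Φ.eq_one_of_mem_OS (mul_mem (inv_mem b'.2.1) b.2.1) (by
      rw [show (b' : G)⁻¹ * b = (a' : G) * (a : G)⁻¹ by rw [eq_mul_inv_iff_mul_eq, mul_assoc, e1, inv_mul_cancel_left]]
      exact mul_mem (Φ.U_le i a'.2) (inv_mem (Φ.U_le i a.2)))
    obtain rfl : b' = b := Subtype.ext (inv_mul_eq_one.1 h1)
    obtain rfl : a = a' := Subtype.ext (mul_left_cancel e1)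
    rfl
  · rintro ⟨c, hc⟩
    rw [Subgroup.mem_centralizer_iff] at hc
    obtain ⟨a, ha, b, hb, hbu, e⟩ := Φ.split_commute i
      (Subgroup.mem_centralizer_singleton_iff.2 (hc Φ.t (Or.inl rfl)).symm) (hc (Φ.refl i) (Or.inr rfl)).symm
    exact ⟨(⟨b, hb, Subgroup.mem_centralizer_singleton_iff.2 hbu.eq⟩, ⟨a, ha⟩), Subtype.ext e.symm⟩

variable [IsSimpleGroup G]

/-- **no linear character of `C(t)` trivial on `S` and stable under the three-cycles** -/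
theorem Frame.linear_false (hk : 2 ≤ Φ.k) (hrot : Rotates Φ.t)
    (L : Subgroup.centralizer ({Φ.t} : Set G) →* ℂˣ)
    (hLS : ∀ c : Subgroup.centralizer ({Φ.t} : Set G), (c : G) ∈ (Φ.S : Subgroup G) → L c = 1) (hL : L ≠ 1)
    (hker : ∀ (i : ZMod (2 ^ Φ.k)) (ρ : G), ρ * Φ.t * ρ⁻¹ = Φ.refl i → ρ * Φ.refl i * ρ⁻¹ = Φ.t * Φ.refl i →
      ∀ v ∈ (Φ.S : Subgroup G), ∀ b ∈ Φ.O, Commute b (Φ.refl i) → Commute (b⁻¹ * (v⁻¹ * b * v)) (Φ.refl i) →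
        ∀ c : Subgroup.centralizer ({Φ.t} : Set G), (c : G) = ρ * (b⁻¹ * (v⁻¹ * b * v)) * ρ⁻¹ → L c = 1)
    {r₀ : ℕ} (hr : 1 < r₀)
    (hidx : ∀ i, Nat.card ↥(Φ.O ⊓ Subgroup.centralizer ({Φ.refl i} : Set G)) * r₀ = Nat.card ↥Φ.O)
    (hcop : (Subgroup.centralizer ({Φ.t} : Set G)).index.Coprime r₀) : False := by
  haveI : NeZero (2 ^ Φ.k) := ⟨by positivity⟩
  obtain ⟨a, ha⟩ : ∃ a, Φ.k = a + 2 := ⟨Φ.k - 2, by omega⟩
  refine eightLinear_false Φ.S (a := a) (by rw [ha]) Φ.ι rfl Φ.O Φ.O_odd Φ.O_le Φ.O_norm Φ.O_sup L hLS hL (fun i => ?_)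
    r₀ hr (fun i => ?_) (fun i => ?_) hcop
  swap
  · have hn : Φ.refl i ∈ Subgroup.normalizer (Φ.O : Set G) :=
      mem_normalizer_of_conj fun a ha => Φ.O_norm _ (Φ.S_le (Φ.refl_mem i)) a ha
    have h1 := inv_count Φ.O_odd (Φ.uu i) hn
    refine Nat.eq_of_mul_eq_mul_right
      (Nat.card_pos (α := ↥(Φ.O ⊓ Subgroup.centralizer ({Φ.refl i} : Set G)))) ?_
    rw [mul_comm r₀, hidx i]
    refine Eq.trans ?_ h1
    congr 1
    exact Nat.card_congr ⟨fun y => ⟨⟨y.1, y.2.1⟩, y.2.2⟩, fun w => ⟨(w.1 : G), w.1.2, w.2⟩, fun _ => rfl,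
      fun _ => rfl⟩
  swap
  · show Nat.card (Subgroup.centralizer ({Φ.t, Φ.refl i} : Set G)) * r₀ = _
    rw [Φ.card_cent_refl i, mul_assoc, hidx i]
  obtain ⟨ρ, hρt, hρu⟩ := hrot _ (Φ.uu i) (Φ.refl_ne_one i) (Φ.refl_ne i) (Φ.commute i)
  have hρe : ρ * (Φ.t * Φ.refl i) * ρ⁻¹ = Φ.t := (rho_sq (Φ.uu i) (Φ.commute i) hρt hρu).1
  show ∃ g : G, g * Φ.t * g⁻¹ = Φ.refl i ∧
    g ∈ Subgroup.normalizer ((Subgroup.zpowers Φ.t ⊔ Subgroup.zpowers (Φ.refl i) : Subgroup G) : Set G) ∧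
    ∀ k k' : Subgroup.centralizer ({Φ.t} : Set G), (k : G) * Φ.refl i = Φ.refl i * k →
      (k' : G) = g * k * g⁻¹ → L k' = L k
  refine ⟨ρ, hρt, ?_, ?_⟩
  · refine mem_normalizer_of_conj fun x hx => ?_
    have hle : (Subgroup.zpowers Φ.t ⊔ Subgroup.zpowers (Φ.refl i) : Subgroup G) ≤
        (Subgroup.zpowers Φ.t ⊔ Subgroup.zpowers (Φ.refl i) : Subgroup G).comap (MulAut.conj ρ).toMonoidHom := by
      refine sup_le (Subgroup.zpowers_le.2 ?_) (Subgroup.zpowers_le.2 ?_) <;>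
        rw [Subgroup.mem_comap, MulEquiv.coe_toMonoidHom, MulAut.conj_apply]
      · rw [hρt]; exact Subgroup.mem_sup_right (Subgroup.mem_zpowers _)
      · rw [hρu]; exact Subgroup.mul_mem_sup (Subgroup.mem_zpowers _) (Subgroup.mem_zpowers _)
    exact hle hx
  -- the three-cycle fixes the character on `C_O(u)`
  obtain ⟨v, hv⟩ : ∃ v, v = Φ.refl (i + ((2 ^ (Φ.k - 2) : ℕ) : ZMod (2 ^ Φ.k))) := ⟨_, rfl⟩
  have hvS : v ∈ (Φ.S : Subgroup G) := hv ▸ Φ.refl_mem _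
  have hvC : v ∈ Subgroup.centralizer ({Φ.t} : Set G) := Φ.S_le hvS
  have hvt : v * Φ.t * v⁻¹ = Φ.t := by rw [Φ.t_central v hvS, mul_inv_cancel_right]
  have hvu : v * Φ.refl i * v⁻¹ = Φ.t * Φ.refl i := by
    have hh : ((2 ^ Φ.k / 2 : ℕ) : ZMod (2 ^ Φ.k)) =
        ((2 ^ (Φ.k - 2) : ℕ) : ZMod (2 ^ Φ.k)) + ((2 ^ (Φ.k - 2) : ℕ) : ZMod (2 ^ Φ.k)) := by
      rw [← Nat.cast_add]
      congr 1
      rw [ha, Nat.add_sub_cancel, pow_add]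
      omega
    rw [hv, ← Φ.hom_sr, ← Φ.hom_sr, ← Φ.hom_half, ← map_inv, ← map_mul, ← map_mul, ← map_mul, inv_sr,
      sr_mul_sr, r_mul_sr, r_mul_sr, hh]
    congr 2
    have hz := Φ.half_add
    rw [hh] at hz
    linear_combination hz
  have hvinv : v⁻¹ = v := inv_eq_of_mul_eq_one_right (hv ▸ Φ.uu _)
  have hKC : ∀ b ∈ Φ.O, b ∈ Subgroup.centralizer ({Φ.t} : Set G) := fun b hb => Φ.O_le hb
  have hfromtu : ∀ b, Commute b Φ.t → Commute b (Φ.t * Φ.refl i) → Commute b (Φ.refl i) := fun b h1 h2 => by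
    have := h1.mul_right h2
    rwa [← mul_assoc, Φ.tt, one_mul] at this
  have hρK : ∀ b ∈ Φ.O, Commute b (Φ.refl i) → ρ * b * ρ⁻¹ ∈ Φ.O ∧ Commute (ρ * b * ρ⁻¹) (Φ.refl i) := by
    intro b hb hbu
    have hbt : Commute b Φ.t := Subgroup.mem_centralizer_singleton_iff.1 (Φ.O_le hb)
    have h1 := (Commute.conj_iff ρ).2 hbt
    have h2 := (Commute.conj_iff ρ).2 (hbt.mul_right hbu)
    rw [hρt] at h1
    rw [hρe] at h2
    refine ⟨?_, h1⟩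
    obtain ⟨o, ho, s, hs, e⟩ := Φ.exists_mul (Subgroup.mem_centralizer_singleton_iff.2 h2.eq)
    have hodd : Odd (orderOf (ρ * b * ρ⁻¹)) := by
      rw [show ρ * b * ρ⁻¹ = MulAut.conj ρ b from rfl, MulEquiv.orderOf_eq]
      exact odd_orderOf Φ.O_odd hb
    -- an element of odd order of `C(t)` lies in `O`
    haveI : Fact (Nat.Prime 2) := ⟨Nat.prime_two⟩
    obtain ⟨j, hj⟩ := IsPGroup.iff_orderOf.1 Φ.S.isPGroup' ⟨s, hs⟩
    rw [Subgroup.orderOf_mk] at hj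
    have hpow : ∀ n : ℕ, ∃ o' ∈ Φ.O, (o * s) ^ n = o' * s ^ n := by
      intro n
      induction n with
      | zero => exact ⟨1, one_mem _, by simp⟩
      | succ n ih =>
        obtain ⟨o', ho', e'⟩ := ih
        refine ⟨o' * (s ^ n * o * (s ^ n)⁻¹), mul_mem ho' (Φ.O_norm _ (pow_mem (Φ.S_le hs) n) o ho), ?_⟩
        rw [pow_succ, e', pow_succ]
        group
    obtain ⟨o', ho', e'⟩ := hpow (orderOf (ρ * b * ρ⁻¹))
    rw [← e, pow_orderOf_eq_one] at e'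
    have hsn : s ^ orderOf (ρ * b * ρ⁻¹) = 1 := Φ.eq_one_of_mem_OS
      (by rw [← inv_eq_of_mul_eq_one_right e'.symm]; exact inv_mem ho') (pow_mem hs _)
    have hs1 : s = 1 := orderOf_eq_one_iff.1 (Nat.eq_one_of_dvd_coprimes (hodd.coprime_two_left.pow_left j)
      (hj ▸ dvd_rfl) (orderOf_dvd_of_pow_eq_one hsn))
    rw [e, hs1, mul_one]
    exact ho
  have hvK : ∀ b ∈ Φ.O, Commute b (Φ.refl i) → v⁻¹ * b * v ∈ Φ.O ∧ Commute (v⁻¹ * b * v) (Φ.refl i) := by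
    intro b hb hbu
    have hm : v⁻¹ * b * v ∈ Φ.O := by
      have := Φ.O_norm v⁻¹ (inv_mem hvC) b hb
      rwa [inv_inv] at this
    refine ⟨hm, hfromtu _ (Subgroup.mem_centralizer_singleton_iff.1 (Φ.O_le hm)) ?_⟩
    have h2 := (Commute.conj_iff v⁻¹).2 hbu
    rwa [inv_inv, show v⁻¹ * Φ.refl i * v = Φ.t * Φ.refl i by
      rw [hvinv]; nth_rewrite 2 [← hvinv]; exact hvu] at h2
  obtain ⟨ℓ, hℓ⟩ : ∃ ℓ : G → ℂˣ, ∀ c (hc : c ∈ Subgroup.centralizer ({Φ.t} : Set G)), ℓ c = L ⟨c, hc⟩ := by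
    classical
    exact ⟨fun c => if hc : c ∈ Subgroup.centralizer ({Φ.t} : Set G) then L ⟨c, hc⟩ else 1, fun c hc => dif_pos hc⟩
  have hmul : ∀ x y, x ∈ Subgroup.centralizer ({Φ.t} : Set G) → y ∈ Subgroup.centralizer ({Φ.t} : Set G) →
      ℓ (x * y) = ℓ x * ℓ y := fun x y hx hy => by
    rw [hℓ _ (mul_mem hx hy), hℓ x hx, hℓ y hy, ← map_mul]
    rfl
  have hinvar : ∀ w, Commute w Φ.t → ∀ b ∈ Subgroup.centralizer ({Φ.t} : Set G), ℓ (w * b * w⁻¹) = ℓ b := by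
    intro w hwt b hb
    have hw : w ∈ Subgroup.centralizer ({Φ.t} : Set G) := Subgroup.mem_centralizer_singleton_iff.2 hwt.eq
    rw [hℓ _ (mul_mem (mul_mem hw hb) (inv_mem hw)), hℓ b hb,
      show (⟨w * b * w⁻¹, mul_mem (mul_mem hw hb) (inv_mem hw)⟩ :
        Subgroup.centralizer ({Φ.t} : Set G)) = ⟨w, hw⟩ * ⟨b, hb⟩ * ⟨w, hw⟩⁻¹ from rfl,
      map_mul, map_mul, map_inv, mul_comm (L _), mul_assoc, mul_inv_cancel, mul_one]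
  have hsq : ∀ b ∈ Φ.O, Commute b (Φ.refl i) → ℓ (ρ * (ρ * b * ρ⁻¹) * ρ⁻¹) = ℓ b := by
    intro b hb hbu
    obtain ⟨w, hw⟩ : ∃ w, w = v * ρ * v⁻¹ * ρ := ⟨_, rfl⟩
    have hit : v⁻¹ * Φ.t * v⁻¹⁻¹ = Φ.t := by rw [hvinv]; exact hvt
    have hiu : v⁻¹ * Φ.refl i * v⁻¹⁻¹ = Φ.t * Φ.refl i := by rw [hvinv]; exact hvu
    have hw1 : w * Φ.t * w⁻¹ = Φ.t := by
      rw [hw, show v * ρ * v⁻¹ * ρ * Φ.t * (v * ρ * v⁻¹ * ρ)⁻¹ =
        v * (ρ * (v⁻¹ * (ρ * Φ.t * ρ⁻¹) * v⁻¹⁻¹) * ρ⁻¹) * v⁻¹ by group, hρt, hiu, hρe, hvt]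
    obtain ⟨hb1, hb1u⟩ := hρK b hb hbu
    obtain ⟨hb2, hb2u⟩ := hvK _ hb1 hb1u
    obtain ⟨hb3, -⟩ := hρK _ hb2 hb2u
    have h1 := hinvar w (mul_inv_eq_iff_eq_mul.1 hw1) b (hKC b hb)
    rw [hw, show v * ρ * v⁻¹ * ρ * b * (v * ρ * v⁻¹ * ρ)⁻¹ =
      v * (ρ * (v⁻¹ * (ρ * b * ρ⁻¹) * v) * ρ⁻¹) * v⁻¹ by group,
      hinvar v (mul_inv_eq_iff_eq_mul.1 hvt) _ (hKC _ hb3)] at h1
    obtain ⟨d, hd⟩ : ∃ d, d = (ρ * b * ρ⁻¹)⁻¹ * (v⁻¹ * (ρ * b * ρ⁻¹) * v) := ⟨_, rfl⟩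
    have hdO : d ∈ Φ.O := hd ▸ mul_mem (inv_mem hb1) hb2
    have hdu : Commute d (Φ.refl i) := hd ▸ hb1u.inv_left.mul_left hb2u
    have hd1 : ℓ (ρ * d * ρ⁻¹) = 1 := by
      rw [hℓ _ (hKC _ (hρK d hdO hdu).1)]
      exact hker i ρ hρt hρu v hvS _ hb1 hb1u (hd ▸ hdu) _ (by show ρ * d * ρ⁻¹ = _; rw [hd])
    rw [show v⁻¹ * (ρ * b * ρ⁻¹) * v = ρ * b * ρ⁻¹ * d by rw [hd]; group,
      show ρ * (ρ * b * ρ⁻¹ * d) * ρ⁻¹ = (ρ * (ρ * b * ρ⁻¹) * ρ⁻¹) * (ρ * d * ρ⁻¹) by group,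
      hmul _ _ (hKC _ (hρK _ hb1 hb1u).1) (hKC _ (hρK d hdO hdu).1), hd1, mul_one] at h1
    exact h1
  have hcyc : ∀ b ∈ Φ.O, Commute b (Φ.refl i) → ℓ (ρ * b * ρ⁻¹) = ℓ b := by
    intro b hb hbu
    have h1 : ρ * ρ * ρ * Φ.t * (ρ * ρ * ρ)⁻¹ = Φ.t := by
      rw [show ρ * ρ * ρ * Φ.t * (ρ * ρ * ρ)⁻¹ = ρ * (ρ * (ρ * Φ.t * ρ⁻¹) * ρ⁻¹) * ρ⁻¹ by group, hρt, hρu, hρe]
    have h2 := hinvar (ρ * ρ * ρ) (mul_inv_eq_iff_eq_mul.1 h1) b (hKC b hb)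
    rw [show ρ * ρ * ρ * b * (ρ * ρ * ρ)⁻¹ = ρ * (ρ * (ρ * b * ρ⁻¹) * ρ⁻¹) * ρ⁻¹ by group] at h2
    obtain ⟨hb1, hb1u⟩ := hρK b hb hbu
    rw [← hsq _ hb1 hb1u]
    exact h2
  intro k k' hku hk'
  obtain ⟨a', ha', b, hb, hbu, e⟩ := Φ.split_commute i k.2 hku
  have hρa : ρ * a' * ρ⁻¹ ∈ (Φ.S : Subgroup G) := by
    rcases (Φ.mem_U_iff _).1 ha' with e' | e' | e' | e' <;> rw [e']
    · rw [mul_one, mul_inv_cancel]; exact one_mem _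
    · rw [hρt]; exact Φ.refl_mem i
    · rw [hρu]; exact mul_mem Φ.t_mem (Φ.refl_mem i)
    · rw [hρe]; exact Φ.t_mem
  have haC : a' ∈ Subgroup.centralizer ({Φ.t} : Set G) := Φ.S_le (Φ.U_le i ha')
  have hρaC : ρ * a' * ρ⁻¹ ∈ Subgroup.centralizer ({Φ.t} : Set G) := Φ.S_le hρa
  have hρbC : ρ * b * ρ⁻¹ ∈ Subgroup.centralizer ({Φ.t} : Set G) := hKC _ (hρK b hb hbu).1
  rw [show k = ⟨b, hKC b hb⟩ * ⟨a', haC⟩ from Subtype.ext e,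
    show k' = ⟨ρ * b * ρ⁻¹, hρbC⟩ * ⟨ρ * a' * ρ⁻¹, hρaC⟩ from Subtype.ext
      (by rw [hk', e, Subgroup.coe_mul]; group),
    map_mul, map_mul, hLS ⟨_, hρaC⟩ hρa, hLS ⟨_, haC⟩ (Φ.U_le i ha'), mul_one, mul_one, ← hℓ, ← hℓ]
  exact hcyc b hb hbu

/-- **case (II): `S` centralises `O/F`** -/
theorem Frame.image_centralised_false (hk : 2 ≤ Φ.k) (hrot : Rotates Φ.t) (hsol : Group.IsSolvable ↥Φ.O)
    {F : Subgroup G} (hFO : F ≤ Φ.O) (hne : F ≠ Φ.O)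
    (hFn : ∀ c ∈ Subgroup.centralizer ({Φ.t} : Set G), ∀ a ∈ F, c * a * c⁻¹ ∈ F)
    (hS : ∀ s ∈ (Φ.S : Subgroup G), ∀ b ∈ Φ.O, b⁻¹ * (s⁻¹ * b * s) ∈ F)
    (hρ : ∀ (i : ZMod (2 ^ Φ.k)) (ρ : G), ρ * Φ.t * ρ⁻¹ = Φ.refl i → ρ * Φ.refl i * ρ⁻¹ = Φ.t * Φ.refl i →
      ∀ b ∈ F, Commute b (Φ.refl i) → ρ * b * ρ⁻¹ ∈ F)
    {r₀ : ℕ} (hr : 1 < r₀)
    (hidx : ∀ i, Nat.card ↥(Φ.O ⊓ Subgroup.centralizer ({Φ.refl i} : Set G)) * r₀ = Nat.card ↥Φ.O)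
    (hcop : (Subgroup.centralizer ({Φ.t} : Set G)).index.Coprime r₀) : False := by
  haveI := hsol
  haveI : (F.subgroupOf Φ.O).Normal := ⟨fun a ha g => by
    rw [Subgroup.mem_subgroupOf] at ha ⊢
    exact hFn _ (Φ.O_le g.2) _ ha⟩
  haveI : Nontrivial (↥Φ.O ⧸ F.subgroupOf Φ.O) := by
    obtain ⟨x, hxO, hxF⟩ := SetLike.exists_of_lt (lt_of_le_of_ne hFO hne)
    exact ⟨QuotientGroup.mk' _ ⟨x, hxO⟩, 1, fun e => hxF (Subgroup.mem_subgroupOf.1 ((QuotientGroup.eq_one_iff _).1 e))⟩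
  haveI : Group.IsSolvable (↥Φ.O ⧸ F.subgroupOf Φ.O) := Group.isSolvable_of_surjective (QuotientGroup.mk'_surjective _)
  haveI : Fintype G := Fintype.ofFinite G
  haveI : Fintype (↥Φ.O ⧸ F.subgroupOf Φ.O) := Fintype.ofFinite _
  obtain ⟨g₀, -, hg₀⟩ := SetLike.exists_of_lt
    (Group.IsSolvable.commutator_lt_top_of_nontrivial (↥Φ.O ⧸ F.subgroupOf Φ.O))
  obtain ⟨l, hl⟩ := Char.exists_linear_ne_one hg₀
  obtain ⟨g₁, rfl⟩ := QuotientGroup.mk'_surjective _ g₀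
  have hSn : (Φ.S : Subgroup G) ≤ Subgroup.normalizer (F : Set G) := fun s hs =>
    mem_normalizer_of_conj fun a ha => hFn s (Φ.S_le hs) a ha
  have hRmem : ∀ r' ∈ F ⊔ (Φ.S : Subgroup G), ∃ f ∈ F, ∃ s ∈ (Φ.S : Subgroup G), r' = f * s := by
    intro r' hr'
    have hr'' : r' ∈ ((F ⊔ (Φ.S : Subgroup G) : Subgroup G) : Set G) := hr'
    rw [Subgroup.coe_mul_of_right_le_normalizer_left F (Φ.S : Subgroup G) hSn] at hr''
    obtain ⟨f, hf, s, hs, rfl⟩ := hr''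
    exact ⟨f, hf, s, hs, rfl⟩
  have hcs : ∀ o ∈ Φ.O, ∀ s ∈ (Φ.S : Subgroup G), o * s * o⁻¹ ∈ F ⊔ (Φ.S : Subgroup G) := by
    intro o ho s hs
    rw [show o * s * o⁻¹ = ((o⁻¹)⁻¹ * (s * o⁻¹ * s⁻¹)) * s by group]
    refine Subgroup.mul_mem_sup ?_ hs
    have := hS s⁻¹ (inv_mem hs) o⁻¹ (inv_mem ho)
    rwa [inv_inv s] at this
  obtain ⟨L, hLK, hLR⟩ := exists_ext_of_sup (Subgroup.centralizer ({Φ.t} : Set G)) Φ.O (F ⊔ (Φ.S : Subgroup G))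
    Φ.O_le (sup_le (hFO.trans Φ.O_le) Φ.S_le)
    (fun o ho r' hr' => by
      obtain ⟨f, hf, s, hs, rfl⟩ := hRmem r' hr'
      rw [show o * (f * s) * o⁻¹ = (o * f * o⁻¹) * (o * s * o⁻¹) by group]
      exact mul_mem (Subgroup.mem_sup_left (hFn o (Φ.O_le ho) f hf)) (hcs o ho s hs))
    (fun c hc => by
      obtain ⟨o, ho, s, hs, rfl⟩ := Φ.exists_mul hc
      exact ⟨o * s * o⁻¹, hcs o ho s hs, o, ho, by group⟩)
    (l.comp (QuotientGroup.mk' _)) (fun o ho => by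
      obtain ⟨f, hf, s, hs, e⟩ := hRmem _ ho
      have h1 : s = 1 := Φ.eq_one_of_mem_OS (by
        rw [show s = f⁻¹ * (o : G) by rw [e]; group]
        exact mul_mem (inv_mem (hFO hf)) o.2) hs
      rw [h1, mul_one] at e
      show l (QuotientGroup.mk' _ o) = 1
      rw [show QuotientGroup.mk' (F.subgroupOf Φ.O) o = 1 from
        (QuotientGroup.eq_one_iff o).2 (Subgroup.mem_subgroupOf.2 (e ▸ hf)), map_one])
  refine Φ.linear_false hk hrot L (fun c hc => hLR c (Subgroup.mem_sup_right hc)) (fun e => hl ?_)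
    (fun i ρ hρt hρu v hv b hb _ hbu c hc => hLR c (hc ▸ Subgroup.mem_sup_left (hρ i ρ hρt hρu _ (hS v hv b hb) hbu)))
    hr hidx hcop
  have := hLK ⟨g₁, Φ.O_le g₁.2⟩ g₁ rfl
  rw [e] at this
  exact this.symm

end Cfsg.Agent.GW
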