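import Cfsg.Agent.Lib.GW.MaxQCfg
import Cfsg.Agent.Lib.GW.MaxLayerTop
import Cfsg.Agent.Lib.GW.MaxLayerProof
import Cfsg.Agent.Lib.GW.SolvPslFacts

/-!
# A reflection fixing a part of `O_q(C(t))`: the layer of the maximal subgroup

For `|S| ≥ 8` the subgroup `N` of a configuration holds an element of order four with square `t`, so `t` lies in the
layer; the layer is over `L₂(r)`, the centraliser of `t` in it is dihedral of order `r - eps = 2^j |T|` modulo the core,
and `(r + eps)/2` is odd.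
-/

set_option autoImplicit false
set_option linter.unusedSectionVars false
set_option linter.style.haveILetI false

namespace Cfsg.Agent.GW

open Cfsg Cfsg.Agent Cfsg.Agent.GW.Reduced Cfsg.Agent.Small

universe w

section Dihedral

open DihedralGroup

/-- in a dihedral group an involution centralising an element of order four is its square -/
theorem dihedral_square_of_four {m : ℕ} [NeZero m] {d z : DihedralGroup m} (hd2 : d * d ≠ 1)
    (hd4 : d * d * (d * d) = 1) (hz : z * z = 1) (hz1 : z ≠ 1) (hc : Commute z d) : z = d * d := by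
  obtain ⟨i, rfl⟩ : ∃ i, d = r i := by
    rcases d with i | i
    · exact ⟨i, rfl⟩
    · exact absurd (sr_mul_self i) hd2
  rw [r_mul_r, DihedralGroup.one_def] at hd2
  have hi : i + i ≠ 0 := fun e => hd2 (by rw [e])
  rw [r_mul_r, r_mul_r, DihedralGroup.one_def] at hd4
  have hi2 := (Fusion.zmod_double_eq_zero (DihedralGroup.r.inj hd4)).resolve_left hi
  rcases z with l | l
  · rw [r_mul_r, DihedralGroup.one_def] at hz
    have hl := (Fusion.zmod_double_eq_zero (DihedralGroup.r.inj hz)).resolve_left fun e =>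
      hz1 (by rw [e, DihedralGroup.one_def])
    rw [r_mul_r, hl, hi2]
  · exfalso
    have h := hc.eq
    rw [sr_mul_r, r_mul_sr] at h
    exact hi (by linear_combination DihedralGroup.sr.inj h)

/-- outside a noncyclic normal subgroup of a dihedral two-group the involutions are conjugate under that subgroup -/
theorem dihedral_outer_conj {n : ℕ} (Q : Subgroup (DihedralGroup (2 ^ n))) [hQn : Q.Normal] (hc : ¬ IsCyclic Q)
    {x y : DihedralGroup (2 ^ n)} (hx : x ∉ Q) (hy : y ∉ Q) (hx2 : x * x = 1) (hy2 : y * y = 1) :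
    ∃ g ∈ Q, g * x * g⁻¹ = y := by
  haveI : NeZero (2 ^ n) := ⟨by positivity⟩
  obtain ⟨j, hj⟩ : ∃ j, sr j ∈ Q := by
    by_contra hno
    push Not at hno
    refine hc ?_
    have hle : Q ≤ Subgroup.zpowers (r 1 : DihedralGroup (2 ^ n)) := fun z hz => by
      rcases z with i | i
      · exact ⟨(i.val : ℤ), by simp [r_one_pow]⟩
      · exact absurd hz (hno i)
    exact isCyclic_of_injective (Subgroup.inclusion hle) (Subgroup.inclusion_injective hle)
  have h2 : r 2 ∈ Q := by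
    have h1 := Q.mul_mem (hQn.conj_mem _ hj (r 1)) hj
    rwa [inv_r, r_mul_sr, sr_mul_r, sr_mul_sr, show j - (j - 1 + -1) = (2 : ZMod (2 ^ n)) by ring] at h1
  have hev : ∀ a : ℕ, r ((2 * a : ℕ) : ZMod (2 ^ n)) ∈ Q := fun a => by
    have := Q.pow_mem h2 a
    rwa [show (r (2 : ZMod (2 ^ n)) : DihedralGroup (2 ^ n)) = r 1 ^ 2 by rw [r_one_pow]; norm_num, ← pow_mul,
      r_one_pow] at this
  have hone : (r 1 : DihedralGroup (2 ^ n)) ∉ Q := fun h => hx (by
    have hr : ∀ a : ZMod (2 ^ n), r a ∈ Q := fun a => by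
      rw [← ZMod.natCast_rightInverse a, ← r_one_pow]; exact Q.pow_mem h _
    rcases x with a | a
    · exact hr a
    · rw [show (sr a : DihedralGroup (2 ^ n)) = sr j * r (a - j) by rw [sr_mul_r, add_sub_cancel]]
      exact Q.mul_mem hj (hr _))
  have hsr : ∀ z : DihedralGroup (2 ^ n), z ∉ Q → z * z = 1 → ∃ a, z = sr a := by
    intro z hz hz2
    rcases z with a | a
    · exfalso
      rw [r_mul_r, DihedralGroup.one_def] at hz2
      rcases Fusion.zmod_double_eq_zero (DihedralGroup.r.inj hz2) with rfl | rfl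
      · exact hz (by rw [← DihedralGroup.one_def]; exact Q.one_mem)
      · rcases n with _ | _ | n
        · exact hz (by norm_num)
        · refine hone ?_
          exfalso
          refine hc ?_
          have hle : Nat.card Q ≤ 3 := by
            by_contra h4
            have h5 := Subgroup.card_subgroup_dvd_card Q
            rw [DihedralGroup.nat_card] at h5
            exact hz (Subgroup.eq_top_of_card_eq Q (by
              have := Nat.le_of_dvd (by positivity) h5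
              rw [DihedralGroup.nat_card]; norm_num at this ⊢; omega) ▸ Subgroup.mem_top _)
          have hd := Subgroup.card_subgroup_dvd_card Q
          rw [DihedralGroup.nat_card] at hd
          norm_num at hd
          have h0 : 0 < Nat.card Q := Nat.card_pos
          rcases (show Nat.card Q = 1 ∨ Nat.card Q = 2 by interval_cases h : Nat.card Q <;> omega) with h1 | h1
          · haveI : Subsingleton Q := (Nat.card_eq_one_iff_unique.1 h1).1
            infer_instance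
          · haveI : Fact (Nat.Prime 2) := ⟨Nat.prime_two⟩
            exact isCyclic_of_prime_card (p := 2) h1
        · exact hz (by
            rw [show 2 ^ (n + 1 + 1) / 2 = 2 * 2 ^ n by rw [pow_succ, pow_succ]; omega]
            exact hev _)
    · exact ⟨a, rfl⟩
  obtain ⟨a, rfl⟩ := hsr x hx hx2
  obtain ⟨b, rfl⟩ := hsr y hy hy2
  obtain ⟨v, hv⟩ : ∃ v : ℕ, (v : ZMod (2 ^ n)) = a - b := ⟨(a - b).val, ZMod.natCast_rightInverse _⟩
  rcases Nat.even_or_odd' v with ⟨e, rfl | rfl⟩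
  · have key : r (e : ZMod (2 ^ n)) * sr a * (r (e : ZMod (2 ^ n)))⁻¹ = sr b := by
      rw [inv_r, r_mul_sr, sr_mul_r]
      congr 1
      push_cast at hv
      linear_combination -hv
    by_cases he : r (e : ZMod (2 ^ n)) ∈ Q
    · exact ⟨_, he, key⟩
    · refine ⟨r (e : ZMod (2 ^ n)) * sr a, dihedral_normal_index Q hc _ _ he hx, ?_⟩
      rw [← key, mul_inv_rev, inv_sr]
      simp
      ring
  · exfalso
    refine hone ?_
    have h1 := dihedral_normal_index Q hc _ _ hy hx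
    rw [sr_mul_sr, ← hv] at h1
    have h3 := Q.mul_mem (Q.inv_mem (hev e)) h1
    rwa [inv_r, r_mul_r, show -((2 * e : ℕ) : ZMod (2 ^ n)) + ((2 * e + 1 : ℕ) : ZMod (2 ^ n)) = 1 by
      push_cast; ring] at h3

end Dihedral

/-- the two ways to the index of an intersection -/
theorem index_cross {X : Type w} [Group X] (H K : Subgroup X) :
    H.index * K.relIndex H = H.relIndex K * K.index := by
  have h1 := Subgroup.relIndex_mul_index (inf_le_left : H ⊓ K ≤ H)
  have h2 := Subgroup.relIndex_mul_index (inf_le_right : H ⊓ K ≤ K)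
  rw [Subgroup.inf_relIndex_left] at h1
  rw [Subgroup.inf_relIndex_right] at h2
  rw [mul_comm, h1, ← h2]

section Almost

variable {X : Type w} [Group X] [Finite X]

/-- in `A₇` an involution has in its centraliser a further involution commuting with an element of order three -/
theorem seven_commuting_pair {σ : Equiv.Perm (Fin 7)} (hs : Equiv.Perm.sign σ = 1) (h2 : σ * σ = 1) (h1 : σ ≠ 1) :
    ∃ z x : Equiv.Perm (Fin 7), Equiv.Perm.sign z = 1 ∧ Equiv.Perm.sign x = 1 ∧ z * z = 1 ∧ z ≠ 1 ∧ z ≠ σ ∧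
      Commute z σ ∧ x ^ 3 = 1 ∧ x ≠ 1 ∧ Commute x σ ∧ Commute z x := by
  open AltSeven in
  obtain ⟨τ', hconj, hl⟩ := representative h1 h2
  obtain ⟨c, hc⟩ := isConj_iff.1 hconj
  have hs' : Equiv.Perm.sign τ' = 1 := by
    rw [← hc, map_mul, map_mul, map_inv, mul_comm (Equiv.Perm.sign c), mul_inv_cancel_right] at hs
    exact hs
  have hdbl : τ' = dbl := by
    open AltSeven in
    rcases hl with h | h | h
    · exfalso
      rw [show τ' = AltSeven.ofList τ₁ (m := τ₁) from toList_injective (h.trans (by decide +kernel))] at hs'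
      exact absurd hs' (by decide +kernel)
    · exact toList_injective (h.trans (by decide +kernel))
    · exfalso
      rw [show τ' = AltSeven.ofList τ₃ (m := τ₃) from toList_injective (h.trans (by decide +kernel))] at hs'
      exact absurd hs' (by decide +kernel)
  subst hdbl
  obtain ⟨φ, hφ⟩ : ∃ φ : Equiv.Perm (Fin 7) →* Equiv.Perm (Fin 7), φ = (MulAut.conj c).toMonoidHom := ⟨_, rfl⟩
  have hφinj : Function.Injective φ := hφ ▸ (MulAut.conj c).injective
  have hσ : φ dbl = σ := by rw [hφ]; exact hc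
  have hsign : ∀ y, Equiv.Perm.sign (φ y) = Equiv.Perm.sign y := fun y => by
    subst hφ
    show Equiv.Perm.sign (c * y * c⁻¹) = _
    rw [map_mul, map_mul, map_inv, mul_comm (Equiv.Perm.sign c), mul_inv_cancel_right]
  obtain ⟨z₀, hz₀⟩ : ∃ z₀ : Equiv.Perm (Fin 7), z₀ = AltSeven.ofList [2, 3, 0, 1, 4, 5, 6] (m := [2, 3, 0, 1, 4, 5, 6]) :=
    ⟨_, rfl⟩
  refine ⟨φ z₀, φ cyc, by rw [hsign, hz₀]; decide +kernel, by rw [hsign]; decide +kernel,
    by rw [← map_mul, ← map_one φ]; exact congrArg φ (by rw [hz₀]; decide +kernel),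
    fun e => ?_, fun e => ?_, hσ ▸ Commute.map (by rw [hz₀]; show _ * _ = _ * _; decide +kernel) φ,
    by rw [← map_pow, ← map_one φ]; exact congrArg φ (by decide +kernel), fun e => ?_,
    hσ ▸ Commute.map (by show _ * _ = _ * _; decide +kernel) φ,
    Commute.map (by rw [hz₀]; show _ * _ = _ * _; decide +kernel) φ⟩
  · exact absurd (hφinj (e.trans (map_one φ).symm)) (by rw [hz₀]; decide +kernel)
  · exact absurd (hφinj (e.trans hσ.symm)) (by rw [hz₀]; decide +kernel)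
  · exact absurd (hφinj (e.trans (map_one φ).symm)) (by decide +kernel)

/-- the trace of a model on a Sylow `2`-subgroup is not cyclic -/
theorem model_trace_not_cyclic {L : Subgroup X} [hLn : L.Normal] (hmod : IsModel L) (P : Sylow 2 X) :
    ¬ IsCyclic ↥((P : Subgroup X) ⊓ L) := by
  haveI : Fact (Nat.Prime 2) := ⟨Nat.prime_two⟩
  obtain ⟨hsimp, hnab⟩ := hmod.simple
  haveI := hsimp
  haveI : Group.IsPerfect L := perfect_of_simple hnab
  intro hcyc
  obtain ⟨TL⟩ := (inferInstance : Nonempty (Sylow 2 L))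
  obtain ⟨R, hR⟩ := (TL.isPGroup'.map L.subtype).exists_le_sylow
  obtain ⟨g, hg⟩ := MulAction.exists_smul_eq X R P
  let j : (TL : Subgroup L) →* ↥((P : Subgroup X) ⊓ L) :=
    ((MulAut.conj g).toMonoidHom.comp (L.subtype.comp (TL : Subgroup L).subtype)).codRestrict _ fun x =>
      ⟨by
        rw [← hg, Sylow.coe_subgroup_smul]
        exact ⟨_, hR ⟨x, x.2, rfl⟩, rfl⟩,
      hLn.conj_mem _ (x : L).2 g⟩
  refine not_cyclic_of_perfect TL (even_of_simple hnab) (isCyclic_of_injective j fun x y h => ?_)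
  exact Subtype.ext (Subtype.ext ((MulAut.conj g).injective (congrArg Subtype.val h)))

/-- an involution which is a square of an element of order four lies in the model -/
theorem square_mem_model {L : Subgroup X} [hLn : L.Normal] (hmod : IsModel L)
    (hS : ∀ P : Sylow 2 X, ∃ m, 2 ≤ m ∧ Nonempty ((P : Subgroup X) ≃* DihedralGroup m))
    {s : X} (hs2 : s * s ≠ 1) (hs4 : s * s * (s * s) = 1) : s * s ∈ L := by
  haveI : Fact (Nat.Prime 2) := ⟨Nat.prime_two⟩
  obtain ⟨P, hP⟩ := (show IsPGroup 2 (Subgroup.zpowers s) from by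
    obtain ⟨j, -, hj⟩ := (Nat.dvd_prime_pow Nat.prime_two).1
      (orderOf_dvd_of_pow_eq_one (show s ^ 2 ^ 2 = 1 by
        rw [show 2 ^ 2 = 2 + 2 from rfl, pow_add, pow_two, hs4]))
    exact IsPGroup.of_card (n := j) (by rw [Nat.card_zpowers, hj])).exists_le_sylow
  obtain ⟨m, hm, ⟨e⟩⟩ := hS P
  haveI : NeZero m := ⟨by omega⟩
  have hne : L.subgroupOf (P : Subgroup X) ≠ ⊥ := fun h => model_trace_not_cyclic hmod P (by
    rw [Subgroup.subgroupOf_eq_bot, disjoint_iff, inf_comm] at h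
    rw [h]
    infer_instance)
  obtain ⟨z, hzL, hz1, hzc⟩ := exists_central_mem P.isPGroup' (L.subgroupOf (P : Subgroup X)) hne
  obtain ⟨n, hn⟩ := exists_prime_orderOf_dvd_card' (G := Subgroup.zpowers z) 2 (by
    rw [Nat.card_zpowers]
    obtain ⟨j, hj⟩ := IsPGroup.iff_orderOf.1 P.isPGroup' z
    rw [hj]
    exact dvd_pow_self 2 fun h0 => hz1 (orderOf_eq_one_iff.1 (by rw [hj, h0, pow_zero])))
  obtain ⟨y, hy⟩ := Subgroup.mem_zpowers_iff.1 n.2
  have hyL : (n : (P : Subgroup X)) ∈ L.subgroupOf (P : Subgroup X) := hy ▸ Subgroup.zpow_mem _ hzL y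
  have hyc : Commute (⟨s, hP (Subgroup.mem_zpowers s)⟩ : (P : Subgroup X)) (n : (P : Subgroup X)) :=
    hy ▸ (hzc _).zpow_right y
  have hn2 : (n : (P : Subgroup X)) * (n : (P : Subgroup X)) = 1 := by
    have := pow_orderOf_eq_one n
    rw [hn, pow_two] at this
    exact congrArg Subtype.val this
  have hn1 : (n : (P : Subgroup X)) ≠ 1 := fun h => by
    rw [show n = 1 from Subtype.ext h, orderOf_one] at hn
    omega
  let d : (P : Subgroup X) := ⟨s, hP (Subgroup.mem_zpowers s)⟩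
  have key := dihedral_square_of_four (d := e d) (z := e n)
    (by rw [← map_mul, ← map_one e]; exact fun h => hs2 (congrArg Subtype.val (e.injective h)))
    (by rw [← map_mul, ← map_mul, ← map_one e]; exact congrArg e (Subtype.ext hs4))
    (by rw [← map_mul, hn2, map_one]) (fun h => hn1 (e.injective (h.trans (map_one e).symm)))
    (hyc.symm.map e.toMonoidHom)
  rw [← map_mul] at key
  exact (e.injective key ▸ hyL :)

variable {F : Type} [Field F] [Fintype F]

local notation "P2" => Matrix.ProjectiveSpecialLinearGroup (Fin 2) F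

/-- the centraliser in `L` of an inner involution: twice a power of two times the torus -/
theorem psl_torus_card (h2 : (2 : F) ≠ 0) (h5 : 5 ≤ Fintype.card F) {L : Subgroup X} [L.Normal] (i : L ≃* P2)
    (hC : Subgroup.centralizer (L : Set X) = ⊥)
    (hS : ∀ P : Sylow 2 X, ∃ m, 2 ≤ m ∧ Nonempty ((P : Subgroup X) ≃* DihedralGroup m))
    {a : X} (ha : a * a = 1) (ha1 : a ≠ 1) (haL : a ∈ L) {v : X} {R : Subgroup X} (f : TorusFacts L a v R) :
    ∃ j : ℕ, 2 ≤ j ∧ Nat.card (Subgroup.centralizer ({a} : Set X) ⊓ L : Subgroup X) = 2 ^ j * Nat.card R ∧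
      (2 ^ j * Nat.card R = Fintype.card F - 1 ∨ 2 ^ j * Nat.card R = Fintype.card F + 1) := by
  obtain ⟨k, g, hk2, hk, hg, hgm⟩ := psl_cent h2 h5 i hC hS ha ha1
  haveI : NeZero k := ⟨by omega⟩
  have hcard : Nat.card (Subgroup.centralizer ({a} : Set X) ⊓ L : Subgroup X) = 2 * k := by
    rw [← SetLike.ext hgm, ← Nat.card_congr (MonoidHom.ofInjective hg).toEquiv, DihedralGroup.nat_card]
  -- `a` is central
  have hkev : Even k := by
    obtain ⟨d, hd⟩ : a ∈ g.range := (hgm a).2 ⟨Subgroup.mem_centralizer_singleton_iff.2 rfl, haL⟩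
    have hcen : ∀ e, Commute d e := fun e => hg (by
      rw [map_mul, map_mul, hd]
      exact (Subgroup.mem_centralizer_singleton_iff.1 ((hgm (g e)).1 ⟨e, rfl⟩).1).symm)
    rcases d with j | j
    · have h1 := (hcen (DihedralGroup.sr 0)).eq
      rw [DihedralGroup.r_mul_sr, DihedralGroup.sr_mul_r] at h1
      have hj2 : j + j = 0 := by linear_combination -(DihedralGroup.sr.inj h1)
      rcases Fusion.zmod_double_eq_zero hj2 with rfl | rfl
      · exact absurd (by rw [← hd, ← DihedralGroup.one_def, map_one]) ha1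
      · by_contra hodd
        rw [← Nat.cast_add, ZMod.natCast_eq_zero_iff] at hj2
        obtain ⟨c, hc⟩ := Nat.not_even_iff_odd.1 hodd
        have := Nat.le_of_dvd (by omega) hj2
        omega
    · have h1 := (hcen (DihedralGroup.r 1)).eq
      rw [DihedralGroup.r_mul_sr, DihedralGroup.sr_mul_r] at h1
      have h20 : ((2 : ℕ) : ZMod k) = 0 := by push_cast; linear_combination DihedralGroup.sr.inj h1
      rw [ZMod.natCast_eq_zero_iff] at h20
      exact even_iff_two_dvd.2 (by rw [show k = 2 by have := Nat.le_of_dvd two_pos h20; omega])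
  obtain ⟨s, k', hk', hks⟩ := Nat.exists_eq_pow_mul_and_not_dvd (NeZero.ne k) 2 (by norm_num)
  have hk'o : Odd k' := Nat.odd_iff.2 (Nat.two_dvd_ne_zero.1 hk')
  have hs : 1 ≤ s := by
    rcases s with _ | s
    · rw [pow_zero, one_mul] at hks
      exact absurd (hks ▸ even_iff_two_dvd.1 hkev) hk'
    · omega
  have hR : Nat.card R = k' := by
    refine Nat.dvd_antisymm ?_ ?_
    · have h := Subgroup.card_dvd_of_le (show R ≤ Subgroup.centralizer ({a} : Set X) ⊓ L from fun x hx =>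
        ⟨Subgroup.mem_centralizer_singleton_iff.2 (f.R_comm x hx).eq, f.R_le hx⟩)
      rw [hcard, hks, ← mul_assoc, ← pow_succ'] at h
      exact ((Nat.coprime_two_right.2 f.R_odd).pow_right _).dvd_of_dvd_mul_left h
    · obtain ⟨y, hy⟩ : ∃ y, y = g (DihedralGroup.r 1 ^ 2 ^ s) := ⟨_, rfl⟩
      have hyo : orderOf y = k' := by
        rw [hy, orderOf_injective g hg, orderOf_pow_of_dvd (by positivity)
          (by rw [DihedralGroup.orderOf_r_one, hks]; exact dvd_mul_right _ _), DihedralGroup.orderOf_r_one, hks,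
          Nat.mul_div_cancel_left _ (by positivity)]
      obtain ⟨h1, h2⟩ := (hgm y).1 ⟨_, hy.symm⟩
      rw [← hyo]
      exact Subgroup.orderOf_dvd_natCard _
        (f.R_all y h2 (Subgroup.mem_centralizer_singleton_iff.1 h1) (hyo ▸ hk'o))
  refine ⟨s + 1, by omega, ?_, ?_⟩
  · rw [hcard, hR, hks]; ring
  · have h : 2 ^ (s + 1) * Nat.card R = 2 * k := by rw [hR, hks]; ring
    omega

end Almost

/-- involutions of one outer coset of the model are conjugate under it -/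
theorem coset_conj_of_model {X : Type w} [Group X] [Finite X] {L : Subgroup X} [hLn : L.Normal] (hmod : IsModel L)
    (hS : ∀ P : Sylow 2 X, ∃ m, 2 ≤ m ∧ Nonempty ((P : Subgroup X) ≃* DihedralGroup m))
    {x y : X} (hx : x * x = 1) (hy : y * y = 1) (hxL : x ∉ L) (hyx : y * x ∈ L) : ∃ l ∈ L, l * x * l⁻¹ = y := by
  haveI : Fact (Nat.Prime 2) := ⟨Nat.prime_two⟩
  obtain ⟨D, hD⟩ : ∃ D, D = L ⊔ Subgroup.zpowers x := ⟨_, rfl⟩
  have hmem : ∀ g ∈ D, g ∈ L ∨ g * x ∈ L := by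
    intro g hg
    rw [hD] at hg
    obtain ⟨l, hl, z, hz, rfl⟩ := Subgroup.mem_sup_of_normal_left.1 hg
    obtain ⟨i, rfl⟩ := Subgroup.mem_zpowers_iff.1 hz
    rcases Int.even_or_odd' i with ⟨k, rfl | rfl⟩
    · left; rwa [zpow_mul, zpow_two, hx, one_zpow, mul_one]
    · right; rwa [zpow_add_one, zpow_mul, zpow_two, hx, one_zpow, one_mul, mul_assoc, hx, mul_one]
  have hLD : L ≤ D := hD ▸ le_sup_left
  have hxD : x ∈ D := hD ▸ Subgroup.mem_sup_right (Subgroup.mem_zpowers x)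
  have hyD : y ∈ D := by
    have := D.mul_mem (hLD hyx) hxD
    rwa [mul_assoc, hx, mul_one] at this
  have hyL : y ∉ L := fun h => hxL (by simpa using L.mul_mem (L.inv_mem h) hyx)
  have hmodD : IsModel ↥(L.subgroupOf D) := by
    rcases hmod with ⟨F, hF, hFt, ho, h3, ⟨i⟩⟩ | ⟨⟨i⟩⟩
    · exact Or.inl ⟨F, hF, hFt, ho, h3, ⟨(Subgroup.subgroupOfEquivOfLe hLD).trans i⟩⟩
    · exact Or.inr ⟨(Subgroup.subgroupOfEquivOfLe hLD).trans i⟩
  have hp : ∀ z : ↥D, z * z = 1 → IsPGroup 2 ↥(Subgroup.zpowers z) := fun z hz => by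
    obtain ⟨j, -, hj⟩ := (Nat.dvd_prime_pow Nat.prime_two).1
      (orderOf_dvd_of_pow_eq_one (show z ^ 2 ^ 1 = 1 by rw [pow_one, pow_two, hz]))
    exact IsPGroup.of_card (n := j) (by rw [Nat.card_zpowers, hj])
  obtain ⟨P, hP⟩ := (hp ⟨x, hxD⟩ (Subtype.ext hx)).exists_le_sylow
  obtain ⟨P', hP'⟩ := (hp ⟨y, hyD⟩ (Subtype.ext hy)).exists_le_sylow
  obtain ⟨g, hg⟩ := MulAction.exists_smul_eq ↥D P' P
  have hxP := hP (Subgroup.mem_zpowers _)
  have hyP : g * ⟨y, hyD⟩ * g⁻¹ ∈ (P : Subgroup ↥D) := by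
    rw [← hg, Sylow.coe_subgroup_smul]
    exact ⟨_, hP' (Subgroup.mem_zpowers _), rfl⟩
  have hnc := model_trace_not_cyclic hmodD P
  obtain ⟨PX, hPX⟩ := (P.isPGroup'.map D.subtype).exists_le_sylow
  obtain ⟨m, hm, ⟨eX⟩⟩ := hS PX
  let g₁ : (P : Subgroup ↥D) ≃* (P : Subgroup ↥D).map D.subtype :=
    (P : Subgroup ↥D).equivMapOfInjective _ D.subtype_injective
  rcases two_subgroup_cases eX _ hPX with h | ⟨-, h4⟩ | ⟨k, hk, ⟨eP⟩⟩
  · exfalso
    haveI : IsCyclic (P : Subgroup ↥D) := g₁.isCyclic.2 h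
    exact hnc (isCyclic_of_injective (Subgroup.inclusion inf_le_left) (Subgroup.inclusion_injective _))
  · exfalso
    rw [← Nat.card_congr g₁.toEquiv] at h4
    obtain ⟨n, hn⟩ := IsPGroup.iff_card.1 (P.isPGroup'.to_le (inf_le_left :
      (P : Subgroup ↥D) ⊓ L.subgroupOf D ≤ P))
    rcases (show n ≤ 1 ∨ 2 ≤ n by omega) with h1 | h1
    · refine hnc ?_
      rcases (show n = 0 ∨ n = 1 by omega) with rfl | rfl
      · haveI : Subsingleton ↥((P : Subgroup ↥D) ⊓ L.subgroupOf D) :=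
          (Nat.card_eq_one_iff_unique.1 (hn.trans (pow_zero 2))).1
        infer_instance
      · exact isCyclic_of_prime_card (p := 2) (hn.trans (pow_one 2))
    · have := Nat.pow_le_pow_right two_pos h1
      have heq := Subgroup.eq_of_le_of_card_ge (inf_le_left : (P : Subgroup ↥D) ⊓ L.subgroupOf D ≤ P) (by omega)
      exact hxL (Subgroup.mem_subgroupOf.1 (heq.ge hxP).2)
  obtain ⟨n, -, rfl⟩ := dihedral_pow P (by omega) (g₁.trans eP)
  obtain ⟨e, -⟩ : ∃ e : (P : Subgroup ↥D) ≃* DihedralGroup (2 ^ n), e = g₁.trans eP := ⟨_, rfl⟩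
  haveI hQn : (((L.subgroupOf D).subgroupOf (P : Subgroup ↥D)).map e.toMonoidHom).Normal :=
    (inferInstance : ((L.subgroupOf D).subgroupOf (P : Subgroup ↥D)).Normal).map _ e.surjective
  have hout : ∀ z : (P : Subgroup ↥D), ((z : ↥D) : X) ∉ L →
      e z ∉ ((L.subgroupOf D).subgroupOf (P : Subgroup ↥D)).map e.toMonoidHom := fun z hz h =>
    hz ((Subgroup.mem_map_iff_mem (f := e.toMonoidHom) e.injective).1 h)
  obtain ⟨c, hc, hcc⟩ := dihedral_outer_conj (((L.subgroupOf D).subgroupOf (P : Subgroup ↥D)).map e.toMonoidHom)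
    (fun h => hnc (by
      haveI : IsCyclic ↥((L.subgroupOf D).subgroupOf (P : Subgroup ↥D)) :=
        ((L.subgroupOf D).subgroupOf (P : Subgroup ↥D)).equivMapOfInjective _ e.injective |>.isCyclic.2 h
      rw [inf_comm]
      exact isCyclic_of_surjective (((P : Subgroup ↥D).subtype.comp
          ((L.subgroupOf D).subgroupOf (P : Subgroup ↥D)).subtype).codRestrict (L.subgroupOf D ⊓ P) fun z =>
            ⟨z.2, (z : (P : Subgroup ↥D)).2⟩) fun z => ⟨⟨⟨z, z.2.2⟩, z.2.1⟩, rfl⟩))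
    (x := e ⟨_, hxP⟩) (y := e ⟨_, hyP⟩) (hout _ hxL) (hout _ fun h => hyL (by
      have := hLn.conj_mem _ h (g : X)⁻¹
      simpa [mul_assoc] using this))
    (by rw [← map_mul, ← map_one e]; exact congrArg e (Subtype.ext (Subtype.ext hx)))
    (by
      rw [← map_mul, ← map_one e]
      refine congrArg e (Subtype.ext (Subtype.ext ?_))
      simp only [Subgroup.coe_mul, Subgroup.coe_inv, OneMemClass.coe_one]
      calc (g : X) * y * (g : X)⁻¹ * ((g : X) * y * (g : X)⁻¹) = (g : X) * (y * y) * (g : X)⁻¹ := by group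
        _ = 1 := by rw [hy]; group)
  obtain ⟨d, hd, rfl⟩ := hc
  rw [MulEquiv.coe_toMonoidHom, ← map_inv, ← map_mul, ← map_mul] at hcc
  have hdy := congrArg (fun z : (P : Subgroup ↥D) => ((z : ↥D) : X)) (e.injective hcc)
  simp only [Subgroup.coe_mul, Subgroup.coe_inv] at hdy
  obtain ⟨l₀, hl₀⟩ : ∃ l₀, l₀ = (g : X)⁻¹ * ((d : ↥D) : X) := ⟨_, rfl⟩
  have hl : l₀ * x * l₀⁻¹ = y := by
    rw [hl₀, show (g : X)⁻¹ * ((d : ↥D) : X) * x * ((g : X)⁻¹ * ((d : ↥D) : X))⁻¹ =
      (g : X)⁻¹ * (((d : ↥D) : X) * x * ((d : ↥D) : X)⁻¹) * g by group, hdy]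
    group
  rcases hmem l₀ (hl₀ ▸ D.mul_mem (D.inv_mem g.2) (d : ↥D).2) with h | h
  · exact ⟨l₀, h, hl⟩
  · refine ⟨l₀ * x, h, ?_⟩
    rw [show l₀ * x * x * (l₀ * x)⁻¹ = l₀ * (x * x) * x⁻¹ * l₀⁻¹ by group, hx, mul_one,
      inv_eq_of_mul_eq_one_right hx, hl]

variable {G : Type w} [Group G] [Finite G]

/-- what is used about the layer of `N`, the model being `L₂(r)` with `r - eps = 2^j |T|` and `2 m = r + eps` -/
structure QModel (t : G) (N T : Subgroup G) (r m j : ℕ) (eps : ℤ) : Prop where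
  prime_pow : IsPrimePow r
  odd : Odd r
  five : 5 ≤ r
  sign : eps = 1 ∨ eps = -1
  two_le : 2 ≤ j
  num : (r : ℤ) = 2 ^ j * (Nat.card ↥T : ℤ) + eps
  other : 2 * (m : ℤ) = r + eps
  other_odd : Odd m
  cop : r.Coprime (2 * Nat.card ↥T)
  t_mem : t ∈ lay N
  cent_index : (layCent N).relIndex (lay N ⊓ Subgroup.centralizer ({t} : Set G)) = 2 ^ j * Nat.card ↥T
  lay_index : (layCent N).relIndex (lay N) = r * m * (2 ^ j * Nat.card ↥T)
  dvd : r * m * (2 ^ j * Nat.card ↥T) ∣ Nat.card G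
  index_dvd : r * m ∣ (N ⊓ Subgroup.centralizer ({t} : Set G)).relIndex N
  outer : ∀ z ∈ N, z * z = 1 → z ∉ lay N →
    (N ⊓ Subgroup.centralizer ({z} : Set G)).relIndex N =
      r * (2 ^ (j - 1) * Nat.card ↥T) * (layCent N ⊓ Subgroup.centralizer ({z} : Set G)).relIndex (layCent N)
  two_group : ∀ P : Subgroup G, IsPGroup 2 ↥P →
    Nat.card ↥(P ⊓ N : Subgroup G) ≤ 2 * Nat.card ↥(P ⊓ lay N : Subgroup G)
  sylow : ∀ P : Subgroup G, P ≤ N ⊓ Subgroup.centralizer ({t} : Set G) → IsPGroup 2 ↥P →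
    (∀ Q : Subgroup G, IsPGroup 2 ↥Q → P ≤ Q → Q ≤ N ⊓ Subgroup.centralizer ({t} : Set G) → Q = P) →
    Nat.card ↥(P ⊓ lay N : Subgroup G) = 2 ^ j

/-- the trace of a two-group on `N` against its trace on the layer, as indices -/
theorem QModel.index_le {t : G} {N T : Subgroup G} {r m j : ℕ} {eps : ℤ} (h : QModel t N T r m j eps)
    {S : Subgroup G} (hS : IsPGroup 2 ↥S) : (lay N).relIndex S ≤ 2 * N.relIndex S := by
  have key : ∀ H : Subgroup G, H.relIndex S * Nat.card ↥(S ⊓ H : Subgroup G) = Nat.card ↥S := fun H => by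
    rw [mul_comm, inf_comm, ← Subgroup.inf_relIndex_right H S,
      ← Subgroup.relIndex_bot_left, ← Subgroup.relIndex_bot_left, Subgroup.relIndex_mul_relIndex _ _ _ bot_le inf_le_right]
  have h1 := key (lay N)
  have h2 := key N
  have h3 := h.two_group S hS
  have hpos : 0 < Nat.card ↥(S ⊓ lay N : Subgroup G) := Nat.card_pos
  refine Nat.le_of_mul_le_mul_right ?_ hpos
  calc (lay N).relIndex S * Nat.card ↥(S ⊓ lay N : Subgroup G)
      = N.relIndex S * Nat.card ↥(S ⊓ N : Subgroup G) := h1.trans h2.symm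
    _ ≤ N.relIndex S * (2 * Nat.card ↥(S ⊓ lay N : Subgroup G)) := Nat.mul_le_mul_left _ h3
    _ = _ := by ring

namespace QCfg

open DihedralGroup in
/-- `N` holds an element with square `t` -/
theorem exists_four [IsSimpleGroup G] {Φ : Frame G} {u v : G} {N T : Subgroup G} {q : ℕ}
    (c : QCfg Φ.t u Φ.O q N v T) (hk : 2 ≤ Φ.k) : ∃ s ∈ N, s * s = Φ.t := by
  haveI : Fact (Nat.Prime 2) := ⟨Nat.prime_two⟩
  haveI : NeZero (2 ^ Φ.k) := ⟨by positivity⟩
  set C := Subgroup.centralizer ({Φ.t} : Set G) with hC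
  have huC : u ∈ C := c.uC
  -- `u` is conjugate to a reflection of `S` in `C`
  obtain ⟨Q, hQ⟩ := (IsPGroup.of_card (p := 2) (n := 1) (G := Subgroup.zpowers (⟨u, huC⟩ : C))
    (by rw [Nat.card_zpowers, Subgroup.orderOf_mk, orderOf_eq_prime (by rw [pow_two, c.uu]) c.u_ne, pow_one])).exists_le_sylow
  obtain ⟨x, hxQ⟩ := MulAction.exists_smul_eq C Q (Φ.S.subtype Φ.S_le)
  have hmem : x * ⟨u, huC⟩ * x⁻¹ ∈ ((Φ.S.subtype Φ.S_le : Sylow 2 C) : Subgroup C) := by
    rw [← hxQ, Sylow.coe_subgroup_smul]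
    exact ⟨_, hQ (Subgroup.mem_zpowers _), rfl⟩
  have hS : (x : G) * u * (x : G)⁻¹ ∈ (Φ.S : Subgroup G) := Subgroup.mem_subgroupOf.1 hmem
  have hxt : Commute (x : G) Φ.t := Subgroup.mem_centralizer_singleton_iff.1 x.2
  have hne : (x : G) * u * (x : G)⁻¹ ≠ Φ.t := fun e => c.u_ne_t (by
    calc u = (x : G)⁻¹ * ((x : G) * u * (x : G)⁻¹) * (x : G) := by group
      _ = Φ.t := by rw [e, mul_assoc, ← hxt.eq, inv_mul_cancel_left])
  have hne1 : (x : G) * u * (x : G)⁻¹ ≠ 1 := fun e => c.u_ne (conj_eq_one_iff.1 e)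
  obtain ⟨i, hi⟩ : ∃ i, (x : G) * u * (x : G)⁻¹ = Φ.refl i := by
    obtain ⟨d, hd⟩ : (x : G) * u * (x : G)⁻¹ ∈ Φ.hom.range := Φ.hom_range ▸ hS
    have hd2 : d * d = 1 := Φ.hom_inj (by
      rw [map_mul, hd, map_one]
      calc (x : G) * u * (x : G)⁻¹ * ((x : G) * u * (x : G)⁻¹) = (x : G) * (u * u) * (x : G)⁻¹ := by group
        _ = 1 := by rw [c.uu]; group)
    rcases d with j | i
    · exfalso
      rw [r_mul_r, DihedralGroup.one_def] at hd2
      rcases Fusion.zmod_double_eq_zero (DihedralGroup.r.inj hd2) with rfl | rfl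
      · exact hne1 (by rw [← hd, ← DihedralGroup.one_def, map_one])
      · exact hne (by rw [← hd, Φ.hom_half])
    · exact ⟨i, hd.symm⟩
  obtain ⟨h, hh⟩ : ∃ h : ZMod (2 ^ Φ.k), h + h = ((2 ^ Φ.k / 2 : ℕ) : ZMod (2 ^ Φ.k)) :=
    ⟨((2 ^ (Φ.k - 2) : ℕ) : ZMod (2 ^ Φ.k)), by
      obtain ⟨e, he⟩ := Nat.exists_eq_add_of_le hk
      rw [← Nat.cast_add, he, Nat.add_sub_cancel_left]
      congr 1
      rw [pow_add]; omega⟩
  obtain ⟨s, hs⟩ : ∃ s, s = (x : G)⁻¹ * Φ.hom (r h) * (x : G) := ⟨_, rfl⟩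
  have hconj : ∀ y : G, (x : G)⁻¹ * y * x * ((x : G)⁻¹ * y * x) = (x : G)⁻¹ * (y * y) * x := fun y => by group
  have hss : s * s = Φ.t := by
    rw [hs, hconj, ← map_mul, r_mul_r, hh, Φ.hom_half, mul_assoc, ← hxt.eq, inv_mul_cancel_left]
  have hsC : s ∈ C := Subgroup.mem_centralizer_singleton_iff.2 (by rw [← hss]; group)
  have hsu : s * u * s⁻¹ = Φ.t * u := by
    have e1 : Φ.hom (r h) * Φ.refl i * (Φ.hom (r h))⁻¹ = Φ.t * Φ.refl i := by
      rw [← Φ.hom_sr, ← Φ.hom_half, ← map_inv, ← map_mul, ← map_mul, ← map_mul, inv_r, r_mul_sr, r_mul_sr, sr_mul_r]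
      congr 2
      linear_combination -hh
    rw [hs, show (x : G)⁻¹ * Φ.hom (r h) * x * u * ((x : G)⁻¹ * Φ.hom (r h) * x)⁻¹ =
      (x : G)⁻¹ * (Φ.hom (r h) * ((x : G) * u * (x : G)⁻¹) * (Φ.hom (r h))⁻¹) * x by group, hi, e1, ← hi,
      show (x : G)⁻¹ * (Φ.t * ((x : G) * u * (x : G)⁻¹)) * x = ((x : G)⁻¹ * Φ.t * x) * u by group,
      mul_assoc (x : G)⁻¹, ← hxt.eq, inv_mul_cancel_left]
  refine ⟨s, ?_, hss⟩
  obtain ⟨y, hyD, hy1, -, -⟩ := c.y_mem
  refine c.norm_le (X := fq q C ⊓ layCent N) (fun e => hy1 (Subgroup.mem_bot.1 (e ▸ hyD))) le_rfl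
    (mem_norm_of_conj fun z hz => ?_)
  refine c.mem_D_of_commute (conj_fq c.prime hsC hz.1) ?_
  have h1 : Commute (s * z * s⁻¹) (Φ.t * u) := hsu ▸ (Commute.conj_iff s).2 (c.D_commute hz)
  have h2 : Commute (s * z * s⁻¹) Φ.t :=
    Subgroup.mem_centralizer_singleton_iff.1 (fq_le q C (conj_fq c.prime hsC hz.1))
  have := h2.mul_right h1
  rwa [← mul_assoc, Φ.tt, one_mul] at this

/-- **the layer of `N`** -/
theorem exists_model [IsSimpleGroup G] (hG : Minimal G) {Φ : Frame G} {u v : G} {N T : Subgroup G} {q : ℕ}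
    (c : QCfg Φ.t u Φ.O q N v T) (hk : 2 ≤ Φ.k) :
    q ∣ Nat.card ↥T ∧ ∃ (r m j : ℕ) (eps : ℤ), QModel Φ.t N T r m j eps := by
  classical
  haveI : Fact (Nat.Prime 2) := ⟨Nat.prime_two⟩
  haveI := Fact.mk c.prime
  refine ⟨?_, ?_⟩
  · -- a central element of `O_q(C)`
    obtain ⟨y, hy, hy1, -, -⟩ := c.y_mem
    haveI : Nontrivial ↥(fq q (Subgroup.centralizer ({Φ.t} : Set G))) :=
      (Subgroup.nontrivial_iff_ne_bot _).2 fun e => hy1 (Subgroup.mem_bot.1 (e ▸ hy.1))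
    haveI := (fq_isPGroup q (Subgroup.centralizer ({Φ.t} : Set G))).center_nontrivial
    obtain ⟨⟨z, hz⟩, hz1⟩ := exists_ne (1 : Subgroup.center ↥(fq q (Subgroup.centralizer ({Φ.t} : Set G))))
    obtain ⟨hzT, -⟩ := c.central_mem z.2 fun w hw =>
      (congrArg Subtype.val (Subgroup.mem_center_iff.1 hz ⟨w, hw⟩)).symm
    obtain ⟨n, hn⟩ := IsPGroup.iff_orderOf.1 (fq_isPGroup q (Subgroup.centralizer ({Φ.t} : Set G))) z
    refine dvd_trans ?_ (Subgroup.orderOf_dvd_natCard T hzT)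
    rw [Subgroup.orderOf_coe, hn]
    exact dvd_pow_self q fun h0 => hz1 (Subtype.ext (orderOf_eq_one_iff.1 (by rw [hn, h0, pow_zero])))
  haveI hQn : (Cfsg.oddCore ↥N).Normal := Solv.pPrimeCore_normal 2
  have hodd : Odd (Nat.card (Cfsg.oddCore ↥N)) := Nat.coprime_two_right.1 (Fusion.card_pPrimeCore_coprime 2 ↥N)
  haveI : Group.IsSolvable ↥(Cfsg.oddCore ↥N) := Solv.Partition.odd_solvable hodd
  haveI : Group.IsPerfect ↥(Cfsg.layer ↥N) := S1247.layer_perfect'
  obtain ⟨L, hLn, hmod, hC⟩ := model_over_core hG c.coatom.1 c.layer_ne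
  haveI := hLn
  have hLE := model_le_layer hmod hC c.layer_ne
  set π := QuotientGroup.mk' (Cfsg.oddCore ↥N) with hπ
  have hπ1 : ∀ x : ↥N, π x = 1 ↔ x ∈ Cfsg.oddCore ↥N := fun x => QuotientGroup.eq_one_iff x
  have hS : ∀ P : Sylow 2 (↥N ⧸ Cfsg.oddCore ↥N),
      ∃ m, 2 ≤ m ∧ Nonempty ((P : Subgroup (↥N ⧸ Cfsg.oddCore ↥N)) ≃* DihedralGroup m) := by
    obtain ⟨T₀, k, hk', ⟨f⟩⟩ := sylow_of_layer Φ.S Φ.ι.symm N c.layer_ne
    obtain ⟨sq⟩ := sylow_quotient (Cfsg.oddCore ↥N) hodd T₀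
    exact fun P => ⟨k, hk', ⟨(P.equiv (T₀.mapSurjective (QuotientGroup.mk'_surjective _))).trans (sq.symm.trans f)⟩⟩
  let t' : ↥N := ⟨Φ.t, c.tN⟩
  have ht2 : t' * t' = 1 := Subtype.ext Φ.tt
  have hker1 : ∀ x : ↥N, x * x = 1 → π x = 1 → x = 1 := fun x hx h =>
    orderOf_eq_one_iff.1 (Nat.eq_one_of_dvd_coprimes hodd.coprime_two_left
      (orderOf_dvd_of_pow_eq_one (by rw [pow_two, hx])) (Subgroup.orderOf_dvd_natCard _ ((hπ1 x).1 h)))
  obtain ⟨a, ha⟩ : ∃ a, a = π t' := ⟨_, rfl⟩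
  have haa : a * a = 1 := by rw [ha, ← map_mul, ht2, map_one]
  have ha1 : a ≠ 1 := fun h => Φ.t_ne (congrArg Subtype.val (hker1 t' ht2 (ha ▸ h)))
  -- `t` lies in the layer
  obtain ⟨s, hsN, hss⟩ := c.exists_four hk
  have hsa : π ⟨s, hsN⟩ * π ⟨s, hsN⟩ = a := by
    rw [ha, ← map_mul]; exact congrArg π (Subtype.ext hss)
  have haL : a ∈ L := hsa ▸ square_mem_model hmod hS (hsa.symm ▸ ha1) (hsa.symm ▸ haa)
  obtain ⟨v₀, R, f⟩ := torus_model hmod hC hS haa ha1
  set E := Cfsg.layer ↥N with hEdef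
  have hEn : E.Normal := Local.layer_normal
  have hp : ⁅E, E⁆ = E := by
    rw [← Subgroup.map_subtype_commutator, (inferInstance : Group.IsPerfect ↥E).commutator_eq_top,
      ← MonoidHom.range_eq_map, Subgroup.range_subtype]
  have hπE : E.map π = L := by
    refine le_antisymm ?_ hLE
    rw [← hp, Subgroup.map_commutator, Subgroup.commutator_le]
    intro x _ y _
    rw [commutatorElement_def]
    exact f.comm x y
  have hO : ⁅E, Cfsg.oddCore ↥N⁆ = ⊥ :=
    Solv.layer_commutator_solvable (Solv.pPrimeCore_normal 2).isSubnormal inferInstance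
  have hEO : ∀ {e o : ↥N}, e ∈ E → π o = 1 → Commute e o := fun {e o} he ho =>
    commutatorElement_eq_one_iff_mul_comm.1 (Subgroup.mem_bot.1
      (hO ▸ Subgroup.commutator_mem_commutator he ((hπ1 o).1 ho)))
  have hmemE : ∀ {x : ↥N}, (x : G) ∈ lay N ↔ x ∈ E := fun {x} =>
    Subgroup.mem_map_iff_mem N.subtype_injective
  have htlay : Φ.t ∈ lay N := mem_layer_of_involution hLE (z := t') ht2 (ha ▸ haL)
  have htE : t' ∈ E := hmemE.1 htlay
  -- commutation with `t` is decided in the quotient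
  have hcomm : ∀ x : ↥N, Commute (π x) a → Commute x t' := by
    intro x hx
    obtain ⟨y, hy, hyx⟩ := commute_lift (Cfsg.oddCore ↥N) hodd ht2 (ha ▸ hx)
    have ho : π (y⁻¹ * x) = 1 := by rw [map_mul, map_inv, hyx, inv_mul_cancel]
    have := hy.mul_left (hEO htE ho).symm
    rwa [mul_inv_cancel_left] at this
  have hcl : layCent N = (Cfsg.oddCore ↥N).map N.subtype := by
    refine le_antisymm ?_ ?_
    · intro x hx
      refine ⟨⟨x, hx.1⟩, (hπ1 _).1 ?_, rfl⟩
      refine Subgroup.mem_bot.1 (hC ▸ Subgroup.mem_centralizer_iff.2 fun l hl => ?_)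
      obtain ⟨e, he, rfl⟩ := hπE.ge hl
      exact Commute.map (Subtype.ext (Subgroup.mem_centralizer_iff.1 hx.2 _ (hmemE.2 he)) : Commute e ⟨x, hx.1⟩) π
    · rintro _ ⟨o, ho, rfl⟩
      refine ⟨o.2, Subgroup.mem_centralizer_iff.2 ?_⟩
      rintro _ ⟨e, he, rfl⟩
      exact congrArg Subtype.val (hEO he ((hπ1 o).2 ho)).eq
  have hcl1 : ∀ x : ↥N, (x : G) ∈ layCent N ↔ π x = 1 := fun x => by
    rw [hcl, hπ1]; exact Subgroup.mem_map_iff_mem N.subtype_injective
  -- the torus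
  have hTN : ∀ {x : G}, x ∈ T → x ∈ N := fun hx => Subgroup.map_subtype_le _ (c.facts.T_le hx).1
  have hTmap : ∀ (x : G) (hx : x ∈ T), π ⟨x, hTN hx⟩ ∈ R := fun x hx =>
    f.R_all _ (hπE.le ⟨⟨x, hTN hx⟩, hmemE.1 (c.facts.T_le hx).1, rfl⟩)
      (ha ▸ Commute.map (Subtype.ext (Subgroup.mem_centralizer_singleton_iff.1 (Φ.O_le (c.facts.T_le hx).2)) :
        Commute (⟨x, hTN hx⟩ : ↥N) t') π)
      (Φ.O_odd.of_dvd_nat ((orderOf_map_dvd π _).trans (by
        rw [← Subgroup.orderOf_coe]; exact Subgroup.orderOf_dvd_natCard _ (c.facts.T_le hx).2)))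
  have hsurj : ∀ y ∈ R, ∃ (x : G) (hx : x ∈ T), π ⟨x, hTN hx⟩ = y := by
    intro y hy
    obtain ⟨e, he, hey⟩ := hπE.ge (f.R_le hy)
    have het : Commute (e : G) Φ.t := (hcomm e (hey ▸ f.R_comm y hy)).map N.subtype
    have heo : Odd (orderOf (e : G)) := by
      rw [Subgroup.orderOf_coe]
      have h1 : orderOf e ∣ orderOf y * Nat.card (Cfsg.oddCore ↥N) := by
        refine orderOf_dvd_of_pow_eq_one ?_
        rw [pow_mul]
        exact congrArg Subtype.val (pow_card_eq_one' (x := (⟨e ^ orderOf y, (hπ1 _).1 (by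
          rw [map_pow, hey, pow_orderOf_eq_one])⟩ : Cfsg.oddCore ↥N)))
      exact ((f.R_odd.of_dvd_nat (Subgroup.orderOf_dvd_natCard R hy)).mul hodd).of_dvd_nat h1
    obtain ⟨x, hx, hxc⟩ := c.torus.1.2 (e : G) ⟨hmemE.2 he, Φ.mem_O_of_odd het heo⟩
    refine ⟨x, hx, ?_⟩
    have h1 := (hcl1 (⟨x, hTN hx⟩⁻¹ * e)).1 ⟨(⟨x, hTN hx⟩⁻¹ * e : ↥N).2, hxc⟩
    rw [map_mul, map_inv, inv_mul_eq_one] at h1
    exact h1.trans hey
  have hTR : Nat.card ↥T = Nat.card ↥R := by
    refine Nat.card_eq_of_bijective (fun x : ↥T => (⟨π ⟨x, hTN x.2⟩, hTmap x x.2⟩ : ↥R))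
      ⟨fun x y h => ?_, fun y => ?_⟩
    · have h' : π (⟨x, hTN x.2⟩⁻¹ * ⟨y, hTN y.2⟩) = 1 := by
        rw [map_mul, map_inv, inv_mul_eq_one]; exact congrArg Subtype.val h
      exact Subtype.ext (inv_mul_eq_one.1 (Subgroup.mem_bot.1 (c.facts.T_disj ▸
        (⟨T.mul_mem (T.inv_mem x.2) y.2, ((hcl1 _).2 h').2⟩ : (x : G)⁻¹ * (y : G) ∈ T ⊓ Subgroup.centralizer (lay N : Set G)))))
    · obtain ⟨x, hx, hxy⟩ := hsurj y y.2
      exact ⟨⟨x, hx⟩, Subtype.ext hxy⟩
  -- a two-element over the model lies in the layer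
  have htwo : ∀ z : ↥N, π z ∈ L → (∃ n : ℕ, z ^ 2 ^ n = 1) → z ∈ E := by
    rintro z hz ⟨n, hn⟩
    obtain ⟨e, he, hez⟩ := hπE.ge hz
    have ho : π (e⁻¹ * z) = 1 := by rw [map_mul, map_inv, hez, inv_mul_cancel]
    obtain ⟨o, hoz, hoc⟩ : ∃ o, z = e * o ∧ π o = 1 := ⟨_, (mul_inv_cancel_left e z).symm, ho⟩
    have hpw : o ^ 2 ^ n ∈ E := by
      rw [hoz, (hEO he hoc).mul_pow] at hn
      rw [eq_inv_of_mul_eq_one_right hn]
      exact inv_mem (pow_mem he _)
    obtain ⟨l, hl⟩ := exists_pow_eq_self_of_coprime (x := o) (n := 2 ^ n)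
      ((hodd.of_dvd_nat (Subgroup.orderOf_dvd_natCard _ ((hπ1 o).1 hoc))).coprime_two_left.pow_left n)
    rw [hoz]
    exact E.mul_mem he (hl ▸ pow_mem hpw l)
  -- the model is not `A₇`
  rcases hmod with ⟨F, hF, hFt, ho, h3, ⟨i⟩⟩ | ⟨⟨i⟩⟩
  swap
  · exfalso
    obtain ⟨z, x, hzs, hxs, hz2, hz1, hza, hzc, hx3, hx1, hxa, hzx⟩ := seven_commuting_pair
      (σ := ((i ⟨a, haL⟩ : alternatingGroup (Fin 7)) : Equiv.Perm (Fin 7)))
      (Equiv.Perm.mem_alternatingGroup.1 (i ⟨a, haL⟩).2)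
      (by rw [← Subgroup.coe_mul, ← map_mul, show (⟨a, haL⟩ : L) * ⟨a, haL⟩ = 1 from Subtype.ext haa, map_one]; rfl)
      (fun h => ha1 (congrArg Subtype.val (i.injective ((Subtype.ext h : i ⟨a, haL⟩ = 1).trans (map_one i).symm))))
    obtain ⟨Z, hZ⟩ := i.surjective ⟨z, Equiv.Perm.mem_alternatingGroup.2 hzs⟩
    obtain ⟨Y, hY⟩ := i.surjective ⟨x, Equiv.Perm.mem_alternatingGroup.2 hxs⟩
    have hback : ∀ (U V : L), (i U : Equiv.Perm (Fin 7)) = (i V : Equiv.Perm (Fin 7)) → U = V := fun _ _ h =>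
      i.injective (Subtype.ext h)
    have hZY : Commute (Z : ↥N ⧸ Cfsg.oddCore ↥N) Y := congrArg Subtype.val (hback (Z * Y) (Y * Z)
      (by rw [map_mul, map_mul, hZ, hY]; exact hzx.eq))
    have hZa : Commute (Z : ↥N ⧸ Cfsg.oddCore ↥N) a := congrArg Subtype.val (hback (Z * ⟨a, haL⟩)
      ((⟨a, haL⟩ : L) * Z) (by rw [map_mul, map_mul, hZ]; exact hzc.eq))
    have hYa : Commute (Y : ↥N ⧸ Cfsg.oddCore ↥N) a := congrArg Subtype.val (hback (Y * ⟨a, haL⟩)
      ((⟨a, haL⟩ : L) * Y) (by rw [map_mul, map_mul, hY]; exact hxa.eq))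
    have hZ2 : (Z : ↥N ⧸ Cfsg.oddCore ↥N) * Z = 1 := congrArg Subtype.val (hback (Z * Z) (1)
      (by rw [map_mul, map_one, hZ]; exact hz2))
    have hY3 : (Y : ↥N ⧸ Cfsg.oddCore ↥N) ^ 3 = 1 := congrArg Subtype.val (hback (Y ^ 3) (1)
      (by rw [map_pow, map_one, hY]; exact hx3))
    have hYo : Odd (orderOf (Y : ↥N ⧸ Cfsg.oddCore ↥N)) :=
      (show Odd 3 by decide).of_dvd_nat (orderOf_dvd_of_pow_eq_one hY3)
    obtain ⟨e, he, heZ⟩ := hπE.ge Z.2
    obtain ⟨n, hn1, hn2⟩ := involution_of_image π (by rw [QuotientGroup.ker_mk']; exact hodd) (y := e)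
      (by rw [heZ]; exact hZ2)
    rw [heZ] at hn1
    obtain ⟨r, hr, hrY⟩ := hsurj _ (f.R_all _ Y.2 hYa hYo)
    have hinv := c.torus.2.1 ((e ^ n : ↥N) : G) (e ^ n).2 (congrArg Subtype.val hn2)
      (fun h => hz1 (by
        rw [show e ^ n = 1 from Subtype.ext h, map_one] at hn1
        rw [show Z = 1 from Subtype.ext hn1.symm, map_one] at hZ
        exact (congrArg Subtype.val hZ).symm))
      (fun h => hza (by
        rw [show e ^ n = t' from Subtype.ext h, ← ha] at hn1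
        rw [show Z = ⟨a, haL⟩ from Subtype.ext hn1.symm] at hZ
        exact (congrArg Subtype.val hZ).symm))
      ((hcomm (e ^ n) (hn1.symm ▸ hZa)).map N.subtype) r hr
    have h1 := congrArg π (Subtype.ext hinv :
      e ^ n * ⟨r, hTN hr⟩ * (e ^ n)⁻¹ = (⟨r, hTN hr⟩ : ↥N)⁻¹)
    rw [map_mul, map_mul, map_inv, map_inv, hn1, hrY, hZY.eq, mul_inv_cancel_right] at h1
    have hY1 := eq_one_of_inverted _ hYo h1
    rw [show Y = 1 from Subtype.ext hY1, map_one] at hY
    exact hx1 (congrArg Subtype.val hY).symm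
  have h2F : (2 : F) ≠ 0 := by
    obtain ⟨p, hp'⟩ := CharP.exists F
    obtain ⟨d, hpp, hd⟩ := FiniteField.card F p
    intro h
    haveI : CharP F 2 := CharTwo.of_one_ne_zero_of_two_eq_zero one_ne_zero h
    have := CharP.eq F hp' (inferInstance : CharP F 2)
    rw [hd, this] at ho
    exact Nat.not_even_iff_odd.2 ho (Nat.even_pow.2 ⟨even_two, d.ne_zero⟩)
  have h5 : 5 ≤ Fintype.card F := by obtain ⟨j, hj⟩ := ho; omega
  obtain ⟨j, hj2, hcard, hnum⟩ := psl_torus_card h2F h5 i hC hS haa ha1 haL f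
  rw [← hTR] at hcard hnum
  have hcidx : (layCent N).relIndex (lay N ⊓ Subgroup.centralizer ({Φ.t} : Set G)) = 2 ^ j * Nat.card ↥T := by
    have hmap : lay N ⊓ Subgroup.centralizer ({Φ.t} : Set G) =
        (E ⊓ Subgroup.centralizer ({t'} : Set ↥N)).map N.subtype := by
      ext x
      constructor
      · rintro ⟨⟨y, hy, rfl⟩, hx⟩
        exact ⟨y, ⟨hy, Subgroup.mem_centralizer_singleton_iff.2 (Subtype.ext
          (Subgroup.mem_centralizer_singleton_iff.1 hx))⟩, rfl⟩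
      · rintro ⟨y, ⟨hy, hy'⟩, rfl⟩
        exact ⟨⟨y, hy, rfl⟩, Subgroup.mem_centralizer_singleton_iff.2
          (congrArg Subtype.val (Subgroup.mem_centralizer_singleton_iff.1 hy'))⟩
    rw [hcl, hmap, Subgroup.relIndex_map_map_of_injective _ _ N.subtype_injective,
      ← QuotientGroup.ker_mk' (Cfsg.oddCore ↥N), Subgroup.relIndex_ker, ← hcard]
    refine congrArg (fun H : Subgroup (↥N ⧸ Cfsg.oddCore ↥N) => Nat.card ↥H) (le_antisymm ?_ ?_)
    · rintro _ ⟨y, ⟨hy, hy'⟩, rfl⟩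
      exact ⟨Subgroup.mem_centralizer_singleton_iff.2
        (ha ▸ (Commute.map (Subgroup.mem_centralizer_singleton_iff.1 hy' : Commute y t') π).eq), hπE ▸ Subgroup.mem_map_of_mem π hy⟩
    · rintro x ⟨hxa, hxL⟩
      obtain ⟨y, hy, rfl⟩ := hπE.ge hxL
      exact ⟨y, ⟨hy, Subgroup.mem_centralizer_singleton_iff.2
        (hcomm y (Subgroup.mem_centralizer_singleton_iff.1 hxa)).eq⟩, rfl⟩
  have hlidx : (layCent N).relIndex (lay N) = Nat.card ↥L := by
    rw [hcl, lay, Subgroup.relIndex_map_map_of_injective _ _ N.subtype_injective, ← hEdef]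
    refine (show (Cfsg.oddCore ↥N).relIndex E = π.ker.relIndex E by rw [hπ, QuotientGroup.ker_mk']).trans ?_
    rw [Subgroup.relIndex_ker]
    exact congrArg (fun H : Subgroup (↥N ⧸ Cfsg.oddCore ↥N) => Nat.card ↥H) hπE
  obtain ⟨X, hX⟩ : ∃ X, X = 2 ^ j * Nat.card ↥T := ⟨_, rfl⟩
  obtain ⟨X', hX'⟩ : ∃ X', X' = 2 ^ (j - 1) * Nat.card ↥T := ⟨_, rfl⟩
  have hXX : X = 2 * X' := by rw [hX, hX', ← mul_assoc, ← pow_succ', show j - 1 + 1 = j by omega]
  have hX'e : Even X' := by rw [hX']; exact (Nat.even_pow.2 ⟨even_two, by omega⟩).mul_right _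
  have hX'pos : 0 < X' := hX' ▸ Nat.mul_pos (by positivity) Nat.card_pos
  have hTX : 2 * Nat.card ↥T ∣ X := hX ▸ Nat.mul_dvd_mul_right (dvd_pow_self 2 (by omega)) _
  have hLcard : Nat.card ↥L * 2 = Fintype.card F * (Fintype.card F ^ 2 - 1) := by
    have h := Classical.Dickson.card_psl F
    rw [Psl.gcd_two h2F] at h
    rw [Nat.card_congr i.toEquiv, h]
  rw [← hX] at hnum
  obtain ⟨m, eps, hsign, hnumZ, hother, hmodd, hLm⟩ : ∃ (m : ℕ) (eps : ℤ), (eps = 1 ∨ eps = -1) ∧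
      (Fintype.card F : ℤ) = (X : ℤ) + eps ∧ 2 * (m : ℤ) = Fintype.card F + eps ∧ Odd m ∧
      Nat.card ↥L = Fintype.card F * m * X := by
    rcases hnum with h | h
    · refine ⟨X' + 1, 1, Or.inl rfl, by omega, by push_cast; omega, hX'e.add_one, ?_⟩
      have e1 : Fintype.card F = X + 1 := by omega
      have e2 : (X + 1) ^ 2 - 1 = X * (2 * (X' + 1)) := by
        have : (X + 1) ^ 2 = X * (2 * (X' + 1)) + 1 := by rw [hXX]; ring
        omega
      rw [e1, e2] at hLcard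
      rw [e1]
      linarith
    · refine ⟨X' - 1, -1, Or.inr rfl, by omega, by omega, Nat.Even.sub_odd hX'pos hX'e odd_one, ?_⟩
      obtain ⟨Y, rfl⟩ : ∃ Y, X' = Y + 1 := ⟨X' - 1, by omega⟩
      have e1 : Fintype.card F = 2 * Y + 1 := by omega
      have e2 : (2 * Y + 1) ^ 2 - 1 = X * (2 * Y) := by
        have : (2 * Y + 1) ^ 2 = X * (2 * Y) + 1 := by rw [hXX]; ring
        omega
      rw [e1, e2] at hLcard
      rw [e1, Nat.add_sub_cancel]
      linarith
  refine ⟨Fintype.card F, m, j, eps,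
    { prime_pow := FiniteField.isPrimePow_card F, odd := ho, five := h5, sign := hsign, two_le := hj2
      num := by rw [hnumZ, hX]; push_cast; ring
      other := hother, other_odd := hmodd, cop := ?_, t_mem := htlay, cent_index := hcidx
      lay_index := by rw [hlidx, hLm, hX]
      dvd := ?_, index_dvd := ?_, outer := ?_, two_group := ?_, sylow := ?_ }⟩
  · refine Nat.Coprime.coprime_dvd_right hTX (Nat.coprime_of_dvd fun l hl hlr hlX => hl.one_lt.ne' (Nat.dvd_one.1 ?_))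
    rcases hnum with h | h
    · have := Nat.dvd_sub hlr hlX
      rwa [show Fintype.card F - X = 1 by omega] at this
    · have := Nat.dvd_sub hlX hlr
      rwa [show X - Fintype.card F = 1 by omega] at this
  · rw [← hX, ← hLm, ← hlidx]
    exact (Subgroup.relIndex_dvd_card _ _).trans (lay N).card_subgroup_dvd_card
  · -- the index of `N ∩ C(t)`
    have hTpos : 0 < Nat.card ↥T := Nat.card_pos
    have h1 : (Subgroup.centralizer ({Φ.t} : Set G)).relIndex (lay N) = Fintype.card F * m := by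
      have h := Subgroup.relIndex_inf_mul_relIndex (layCent N) (Subgroup.centralizer ({Φ.t} : Set G)) (lay N)
      rw [inf_eq_left.2 c.cent_le, inf_comm, hcidx, hlidx, hLm, ← hX] at h
      exact Nat.eq_of_mul_eq_mul_left (show 0 < X from hXX ▸ by omega) (by linarith)
    obtain ⟨Cn, hCn⟩ : ∃ Cn, Cn = (Subgroup.centralizer ({Φ.t} : Set G)).subgroupOf N := ⟨_, rfl⟩
    have h2 : Cn.relIndex E = (Subgroup.centralizer ({Φ.t} : Set G)).relIndex (lay N) := by
      rw [hCn, Subgroup.subgroupOf, Subgroup.relIndex_comap]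
      rfl
    have h3 : (N ⊓ Subgroup.centralizer ({Φ.t} : Set G)).relIndex N = Cn.index := by
      rw [inf_comm, Subgroup.inf_relIndex_right, hCn]; rfl
    obtain ⟨k, hk⟩ := Subgroup.relIndex_dvd_index_of_normal E Cn
    have h4 := index_cross Cn E
    rw [hk] at h4
    have hpos : 0 < E.relIndex Cn := Nat.pos_of_ne_zero fun h0 => E.index_ne_zero_of_finite (by rw [hk, h0, zero_mul])
    rw [h3, ← h1, ← h2]
    exact ⟨k, Nat.eq_of_mul_eq_mul_right hpos (by rw [h4]; ring)⟩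
  · -- an outer involution
    intro z hzN hz hzl
    let z' : ↥N := ⟨z, hzN⟩
    have hz' : z' * z' = 1 := Subtype.ext hz
    have hzL : π z' ∉ L := fun h => hzl (mem_layer_of_involution hLE hz' h)
    have hzz : π z' * π z' = 1 := by rw [← map_mul, hz', map_one]
    obtain ⟨r', s', -, -, -, hL', hs', hw', -⟩ := psl_pgl h2F h5 i hC hS haa ha1 haL hzz
      (fun h => hzL (h ▸ L.one_mem)) hzL
    rw [hcard, ← hX] at hs'
    have hFpos : 0 < Fintype.card F * X := Nat.mul_pos (by omega) (hXX ▸ by omega)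
    have hrm : r' = m := Nat.eq_of_mul_eq_mul_left hFpos (by
      rw [← hs'] at hL'
      rw [← hL', hLm]; ring)
    obtain ⟨CX, hCX⟩ : ∃ CX, CX = Subgroup.centralizer ({π z'} : Set (↥N ⧸ Cfsg.oddCore ↥N)) := ⟨_, rfl⟩
    have hrel : CX.relIndex L = Fintype.card F * X' := by
      have h := Subgroup.relIndex_mul_relIndex (⊥ : Subgroup _) (CX ⊓ L) L bot_le inf_le_right
      rw [Subgroup.relIndex_bot_left, Subgroup.relIndex_bot_left, Subgroup.inf_relIndex_right, hCX, hw', hrm, hLm,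
        hXX] at h
      rw [hCX]
      exact Nat.eq_of_mul_eq_mul_left (show 0 < 2 * m by have := hmodd.pos; omega) (by rw [h]; ring)
    have htop : CX ⊔ L = ⊤ := by
      refine eq_top_iff.2 fun g _ => ?_
      obtain ⟨l, hl, hlz⟩ := coset_conj_of_model (Or.inl ⟨F, hF, hFt, ho, h3, ⟨i⟩⟩) hS hzz
        (y := g * π z' * g⁻¹) (by rw [show g * π z' * g⁻¹ * (g * π z' * g⁻¹) = g * (π z' * π z') * g⁻¹ by group, hzz]; group)
        hzL (by
          have := f.comm g (π z')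
          rwa [inv_eq_of_mul_eq_one_right hzz] at this)
      have hgc : l⁻¹ * g ∈ CX := hCX ▸ Subgroup.mem_centralizer_singleton_iff.2 (mul_inv_eq_iff_eq_mul.1 (by
        calc l⁻¹ * g * π z' * (l⁻¹ * g)⁻¹ = l⁻¹ * (g * π z' * g⁻¹) * l := by group
          _ = π z' := by rw [← hlz]; group))
      rw [← mul_inv_cancel_left l g]
      exact (CX ⊔ L).mul_mem (Subgroup.mem_sup_right hl) (Subgroup.mem_sup_left hgc)
    have hidx : CX.index = Fintype.card F * X' := by
      have h := index_cross CX L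
      rw [← Subgroup.relIndex_sup_right, htop, Subgroup.relIndex_top_right, hrel] at h
      exact Nat.eq_of_mul_eq_mul_right (Nat.pos_of_ne_zero L.index_ne_zero_of_finite) h
    obtain ⟨Cn, hCn⟩ : ∃ Cn, Cn = (Subgroup.centralizer ({z} : Set G)).subgroupOf N := ⟨_, rfl⟩
    have hmemC : ∀ y : ↥N, y ∈ Cn ↔ Commute y z' := fun y => by
      rw [hCn, Subgroup.mem_subgroupOf, Subgroup.mem_centralizer_singleton_iff]
      exact ⟨fun h => Subtype.ext h, fun h => congrArg Subtype.val h⟩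
    have hmap : Cn.map π = CX := by
      refine le_antisymm ?_ fun x hx => ?_
      · rintro _ ⟨y, hy, rfl⟩
        exact hCX ▸ Subgroup.mem_centralizer_singleton_iff.2 (Commute.map ((hmemC y).1 hy) π).eq
      · obtain ⟨y, hy, rfl⟩ := commute_lift (Cfsg.oddCore ↥N) hodd hz' (x := x)
          (Subgroup.mem_centralizer_singleton_iff.1 (hCX ▸ hx))
        exact ⟨y, (hmemC y).2 hy, rfl⟩
    have h3 : (N ⊓ Subgroup.centralizer ({z} : Set G)).relIndex N = Cn.index := by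
      rw [inf_comm, Subgroup.inf_relIndex_right, hCn]; rfl
    have h4 : (layCent N ⊓ Subgroup.centralizer ({z} : Set G)).relIndex (layCent N) =
        Cn.relIndex (Cfsg.oddCore ↥N) := by
      rw [inf_comm, Subgroup.inf_relIndex_right, hcl, hCn, Subgroup.subgroupOf, Subgroup.relIndex_comap]
    have h5' := index_cross Cn (Cfsg.oddCore ↥N)
    have h6 : (Cfsg.oddCore ↥N).relIndex Cn = Nat.card ↥CX := by
      refine (show (Cfsg.oddCore ↥N).relIndex Cn = π.ker.relIndex Cn by rw [hπ, QuotientGroup.ker_mk']).trans ?_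
      rw [Subgroup.relIndex_ker, hmap]
    have h7 : (Cfsg.oddCore ↥N).index = Nat.card ↥CX * CX.index := by
      rw [Subgroup.card_mul_index]; rfl
    rw [h6, h7] at h5'
    rw [h3, h4, ← hX', ← hidx]
    exact Nat.eq_of_mul_eq_mul_right Nat.card_pos (by rw [h5']; ring)
  · -- two-groups
    intro P hP
    set Q := P ⊓ N with hQdef
    have hQ2 : ∀ z : ↥N, (z : G) ∈ Q → ∃ n : ℕ, z ^ 2 ^ n = 1 := fun z hz => by
      obtain ⟨n, hn⟩ := hP ⟨(z : G), hz.1⟩
      exact ⟨n, Subtype.ext (by simpa using congrArg Subtype.val hn)⟩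
    obtain ⟨PX, hPX⟩ := ((hP.to_le inf_le_left : IsPGroup 2 ↥Q).comap_of_injective N.subtype
      N.subtype_injective |>.map π).exists_le_sylow
    obtain ⟨d, hd2, ⟨e⟩⟩ := hS PX
    haveI : NeZero d := ⟨by omega⟩
    haveI hD : ((L.subgroupOf (PX : Subgroup _)).map e.toMonoidHom).Normal :=
      (inferInstance : (L.subgroupOf (PX : Subgroup _)).Normal).map _ e.surjective
    have hnc : ¬ IsCyclic ↥((L.subgroupOf (PX : Subgroup _)).map e.toMonoidHom) := fun h =>
      model_trace_not_cyclic (Or.inl ⟨F, hF, hFt, ho, h3, ⟨i⟩⟩) PX (by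
        haveI := h
        exact isCyclic_of_surjective
          ((PX : Subgroup (↥N ⧸ Cfsg.oddCore ↥N)).subtype.comp
            (e.symm.toMonoidHom.comp ((L.subgroupOf (PX : Subgroup _)).map e.toMonoidHom).subtype) |>.codRestrict _
            fun y => by
              obtain ⟨w, hw, hwy⟩ := y.2
              refine ⟨Subtype.coe_prop _, ?_⟩
              show ((e.symm (y : DihedralGroup d)) : ↥N ⧸ Cfsg.oddCore ↥N) ∈ L
              rw [← hwy, MulEquiv.coe_toMonoidHom, MulEquiv.symm_apply_apply]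
              exact hw)
          fun y => ⟨⟨e ⟨y, y.2.1⟩, ⟨⟨y, y.2.1⟩, y.2.2, rfl⟩⟩, Subtype.ext (by
            show ((e.symm (e ⟨(y : ↥N ⧸ Cfsg.oddCore ↥N), y.2.1⟩) : (PX : Subgroup (↥N ⧸ Cfsg.oddCore ↥N))) :
              ↥N ⧸ Cfsg.oddCore ↥N) = _
            rw [MulEquiv.symm_apply_apply])⟩)
    have hpair : ∀ x ∈ Q, ∀ y ∈ Q, x ∉ lay N → y ∉ lay N → x * y ∈ lay N := by
      intro x hx y hy hxl hyl
      have hin : ∀ z : ↥N, (z : G) ∈ Q → π z ∈ (PX : Subgroup (↥N ⧸ Cfsg.oddCore ↥N)) := fun z hz => hPX ⟨z, hz, rfl⟩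
      have hout : ∀ z : ↥N, ∀ hz : (z : G) ∈ Q,
          e ⟨π z, hin z hz⟩ ∈ (L.subgroupOf (PX : Subgroup _)).map e.toMonoidHom → (z : G) ∈ lay N := by
        intro z hz hz'
        obtain ⟨w, hw, hwz⟩ := hz'
        rw [show w = ⟨π z, hin z hz⟩ from e.injective hwz] at hw
        exact hmemE.2 (htwo z hw (hQ2 z hz))
      have h1 := dihedral_normal_index _ hnc (e ⟨π ⟨x, hx.2⟩, hin _ hx⟩) (e ⟨π ⟨y, hy.2⟩, hin _ hy⟩)
        (fun h => hxl (hout _ hx h)) (fun h => hyl (hout _ hy h))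
      rw [← map_mul] at h1
      refine hout (⟨x, hx.2⟩ * ⟨y, hy.2⟩) (Q.mul_mem hx hy) ?_
      rw [show (⟨π (⟨x, hx.2⟩ * ⟨y, hy.2⟩), _⟩ : (PX : Subgroup (↥N ⧸ Cfsg.oddCore ↥N))) =
        ⟨π ⟨x, hx.2⟩, hin _ hx⟩ * ⟨π ⟨y, hy.2⟩, hin _ hy⟩ from Subtype.ext (map_mul π _ _)]
      exact h1
    have hinf : Q ⊓ lay N = P ⊓ lay N := by
      rw [hQdef, inf_assoc, inf_eq_right.2 (lay_le N)]
    rw [← hinf]
    have hidx : ((lay N).subgroupOf Q).index ≤ 2 := by
      by_cases htop : (lay N).subgroupOf Q = ⊤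
      · rw [htop, Subgroup.index_top]; norm_num
      · obtain ⟨x, hx⟩ : ∃ x, x ∉ (lay N).subgroupOf Q := by
          by_contra hno
          push Not at hno
          exact htop (eq_top_iff.2 fun z _ => hno z)
        refine (Subgroup.index_eq_two_iff.2 ⟨x, fun y => ?_⟩).le
        by_cases hy : y ∈ (lay N).subgroupOf Q
        · exact Or.inr ⟨hy, fun h => hx (by simpa using mul_mem (inv_mem hy) h)⟩
        · exact Or.inl ⟨hpair y y.2 x x.2 hy hx, hy⟩
    calc Nat.card ↥Q = Nat.card ↥((lay N).subgroupOf Q) * ((lay N).subgroupOf Q).index :=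
        (Subgroup.card_mul_index _).symm
      _ ≤ Nat.card ↥((lay N).subgroupOf Q) * 2 := Nat.mul_le_mul_left _ hidx
      _ = _ := by
        rw [mul_comm, ← Nat.card_congr (Subgroup.subgroupOfEquivOfLe (inf_le_left : Q ⊓ lay N ≤ Q)).toEquiv,
          Subgroup.inf_subgroupOf_left]
  · -- Sylow
    intro P hPH hP hmax
    set M := lay N ⊓ Subgroup.centralizer ({Φ.t} : Set G) with hM
    have hMH : M ≤ N ⊓ Subgroup.centralizer ({Φ.t} : Set G) := inf_le_inf_right _ (Subgroup.map_subtype_le _)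
    refine le_antisymm ?_ ?_
    · -- at most `2^j`
      obtain ⟨n, hn⟩ := IsPGroup.iff_card.1 ((hP.to_le inf_le_left : IsPGroup 2 ↥(P ⊓ lay N : Subgroup G)))
      have hle : P ⊓ lay N ≤ M := fun x hx => ⟨hx.2, (hPH hx.1).2⟩
      have hd : Nat.card ↥(P ⊓ lay N : Subgroup G) ∣ 2 ^ j * Nat.card ↥T * Nat.card ↥(layCent N ⊓ M : Subgroup G) := by
        refine (Subgroup.card_dvd_of_le hle).trans (dvd_of_eq ?_)
        rw [← hcidx, mul_comm, ← Subgroup.inf_relIndex_right (layCent N), ← Subgroup.relIndex_bot_left,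
          ← Subgroup.relIndex_bot_left, Subgroup.relIndex_mul_relIndex _ _ _ bot_le inf_le_right]
      rw [hn, mul_assoc] at hd
      rw [hn]
      refine Nat.le_of_dvd (by positivity) ((Nat.Coprime.pow_left n ?_).dvd_of_dvd_mul_right hd)
      refine Nat.coprime_two_left.2 ((hTR ▸ f.R_odd).mul ?_)
      exact c.facts.cent_odd.of_dvd_nat (Subgroup.card_dvd_of_le inf_le_left)
    · -- at least `2^j`
      let H := N ⊓ Subgroup.centralizer ({Φ.t} : Set G)
      have h2d : 2 ^ j ∣ Nat.card ↥M :=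
        (Dvd.intro _ hcidx.symm).trans (Subgroup.relIndex_dvd_card _ _)
      obtain ⟨Q₀, hQ₀⟩ := Sylow.exists_subgroup_card_pow_prime 2 h2d
      let Q₁ : Subgroup ↥H := (Q₀.map M.subtype).subgroupOf H
      have hQ₁le : Q₀.map M.subtype ≤ H := (Subgroup.map_subtype_le _).trans hMH
      have hQ₁ : IsPGroup 2 ↥Q₁ := IsPGroup.of_card (n := j) (by
        rw [Nat.card_congr (Subgroup.subgroupOfEquivOfLe hQ₁le).toEquiv,
          Subgroup.card_map_of_injective M.subtype_injective, hQ₀])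
      obtain ⟨P₁, hP₁⟩ := hQ₁.exists_le_sylow
      let P₂ : Sylow 2 ↥H :=
        { toSubgroup := P.subgroupOf H
          isPGroup' := hP.of_equiv (Subgroup.subgroupOfEquivOfLe hPH).symm
          is_maximal' := fun {K} hK hle => by
            have h1 := hmax (K.map H.subtype) (hK.map _)
              (fun x hx => ⟨⟨x, hPH hx⟩, hle (show (⟨x, hPH hx⟩ : ↥H) ∈ P.subgroupOf H from hx), rfl⟩)
              (Subgroup.map_subtype_le _)
            rw [← h1, Subgroup.subgroupOf, Subgroup.comap_map_eq_self_of_injective H.subtype_injective] }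
      obtain ⟨g, hg⟩ := MulAction.exists_smul_eq ↥H P₁ P₂
      have hmem : ∀ z : ↥Q₁, (g : G) * ((z : ↥H) : G) * (g : G)⁻¹ ∈ P ⊓ lay N := fun z => by
        refine ⟨?_, ?_⟩
        · have : g * (z : ↥H) * g⁻¹ ∈ (P₂ : Subgroup ↥H) := by
            rw [← hg, Sylow.coe_subgroup_smul]
            exact ⟨_, hP₁ z.2, rfl⟩
          exact (Subgroup.mem_subgroupOf.1 this :)
        · obtain ⟨w, -, hw⟩ := (Subgroup.mem_subgroupOf.1 z.2 : ((z : ↥H) : G) ∈ Q₀.map M.subtype)
          rw [← hw]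
          exact (Subgroup.mem_normalizer_iff.1 (lay_norm N g.2.1) _).1 w.2.1
      calc 2 ^ j = Nat.card ↥Q₁ := by
            rw [Nat.card_congr (Subgroup.subgroupOfEquivOfLe hQ₁le).toEquiv,
              Subgroup.card_map_of_injective M.subtype_injective, hQ₀]
        _ ≤ _ := Nat.card_le_card_of_injective (fun z => (⟨_, hmem z⟩ : ↥(P ⊓ lay N : Subgroup G))) fun x y h =>
            Subtype.ext (Subtype.ext (mul_left_cancel (mul_right_cancel (congrArg Subtype.val h))))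

variable [IsSimpleGroup G] {u v : G} {N T : Subgroup G} {q : ℕ}

/-- an outer involution of `N` beside `t` -/
theorem outer_case (hG : Minimal G) (Φ : Frame G) (hk : 2 ≤ Φ.k) (c : QCfg Φ.t u Φ.O q N v T) (_htL : Φ.t ∈ lay N)
    {z : G} (hzN : z ∈ N) (hz : z * z = 1) (_hz1 : z ≠ 1) (_hzt : z ≠ Φ.t) (_hzc : Commute z Φ.t) (hzL : z ∉ lay N) :
    ∃ s a : ℕ, Odd s ∧ q < s ∧ ¬ q ∣ s ∧ s ∣ (N ⊓ Subgroup.centralizer ({Φ.t} : Set G)).relIndex N ∧
      (N ⊓ Subgroup.centralizer ({z} : Set G)).relIndex N =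
        a * (layCent N ⊓ Subgroup.centralizer ({z} : Set G)).relIndex (layCent N) ∧ s.Coprime a := by
  obtain ⟨hqT, r, m, j, eps, h⟩ := c.exists_model hG hk
  obtain ⟨X', hX'⟩ : ∃ X', X' = 2 ^ (j - 1) * Nat.card ↥T := ⟨_, rfl⟩
  have hqX : q ∣ X' := hX' ▸ dvd_mul_of_dvd_right hqT _
  have hnum : (r : ℤ) = 2 * (X' : ℤ) + eps := by
    rw [h.num, hX', show j = j - 1 + 1 by have := h.two_le; omega, Nat.add_sub_cancel, pow_succ]
    push_cast
    ring
  have hm : (m : ℤ) = X' + eps := by have := h.other; omega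
  have h2q : 2 * q ≤ X' := by
    refine le_trans (Nat.mul_le_mul ?_ (Nat.le_of_dvd Nat.card_pos hqT)) hX'.ge
    exact Nat.le_self_pow (by have := h.two_le; omega) 2
  have hq2 : 2 ≤ q := c.prime.two_le
  have hsign := h.sign
  refine ⟨m, r * X', h.other_odd, by omega, fun hd => ?_, (dvd_mul_left m r).trans h.index_dvd,
    by rw [hX']; exact h.outer z hzN hz hzL, Nat.Coprime.mul_right ?_ ?_⟩
  · have h1 : q ∣ 1 := by
      rcases hsign with rfl | rfl
      · have := Nat.dvd_sub hd hqX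
        rwa [show m - X' = 1 by omega] at this
      · have := Nat.dvd_sub hqX hd
        rwa [show X' - m = 1 by omega] at this
    exact c.prime.one_lt.ne' (Nat.dvd_one.1 h1)
  · refine Nat.coprime_of_dvd fun l hl hlm hlr => hl.one_lt.ne' (Nat.dvd_one.1 ?_)
    rcases hsign with rfl | rfl
    · have := Nat.dvd_sub (hlm.mul_left 2) hlr
      rwa [show 2 * m - r = 1 by omega] at this
    · have := Nat.dvd_sub hlr (hlm.mul_left 2)
      rwa [show r - 2 * m = 1 by omega] at this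
  · refine Nat.coprime_of_dvd fun l hl hlm hlX => hl.one_lt.ne' (Nat.dvd_one.1 ?_)
    rcases hsign with rfl | rfl
    · have := Nat.dvd_sub hlm hlX
      rwa [show m - X' = 1 by omega] at this
    · have := Nat.dvd_sub hlX hlm
      rwa [show X' - m = 1 by omega] at this

/-- all of `S` in the layer -/
theorem inner_case (hG : Minimal G) (Φ : Frame G) (hk : 2 ≤ Φ.k) (c : QCfg Φ.t u Φ.O q N v T)
    (hS : (Φ.S : Subgroup G) ≤ lay N) :
    ∃ (p f : ℕ) (ε : ℤ), p.Prime ∧ p ≠ 2 ∧ (ε = 1 ∨ ε = -1) ∧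
      ((p ^ f : ℕ) : ℤ) - ε = 2 * 2 ^ Φ.k * (Nat.card ↥T : ℤ) ∧
      ((p ^ f : ℕ) : ℤ) * (((p ^ f : ℕ) : ℤ) + ε) ∣
        2 * ((N ⊓ Subgroup.centralizer ({Φ.t} : Set G)).relIndex N : ℤ) := by
  haveI : NeZero (2 ^ Φ.k) := ⟨by positivity⟩
  obtain ⟨-, r, m, j, eps, h⟩ := c.exists_model hG hk
  have hj : 2 ^ j = 2 * 2 ^ Φ.k := by
    have h1 := h.sylow (Φ.S : Subgroup G) (le_inf (hS.trans (lay_le N)) Φ.S_le) Φ.S.isPGroup'
      fun Q hQ hle _ => Φ.S.is_maximal' hQ hle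
    rw [inf_eq_left.2 hS, ← Nat.card_congr Φ.ι.toEquiv, DihedralGroup.nat_card] at h1
    exact h1.symm
  obtain ⟨p, f, hp, -, hpf⟩ := (isPrimePow_nat_iff r).1 h.prime_pow
  subst hpf
  refine ⟨p, f, eps, hp, fun h2 => ?_, h.sign, ?_, ?_⟩
  · refine Nat.not_even_iff_odd.2 h.odd ?_
    rw [h2]
    exact Nat.even_pow.2 ⟨even_two, fun h0 => by have := h.five; rw [h0, pow_zero] at this; omega⟩
  · rw [h.num, show (2 : ℤ) ^ j = 2 * 2 ^ Φ.k by exact_mod_cast hj]
    ring
  · obtain ⟨k, hk'⟩ := h.index_dvd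
    rw [hk', ← h.other]
    exact ⟨(k : ℤ), by push_cast; ring⟩

end QCfg

end Cfsg.Agent.GW
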