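import Cfsg.Agent.Lib.GW.MaxTrick
import Cfsg.Agent.Lib.GW.MaxGood
import Cfsg.Agent.Lib.Local.CentralizerTrick

/-!
# An involution fixing a part of a core: maximal subgroups holding a self-centralising part of `O_q(C(t))`

`QHyp`: no noncentral involution of `C(t)` fixes a nontrivial central element of an odd core.  For a maximal subgroup
`M` over the other cores in which `O_q(C(t)) ∩ M` is self-centralising, the torus is inverted by the involutions of
`M ∩ C(t)` and an element of `O_q(C(t)) ∩ M` fixed by one of them centralises the layer.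
-/

set_option autoImplicit false
set_option linter.unusedSectionVars false
set_option linter.style.haveILetI false

namespace Cfsg.Agent.GW

open Cfsg Cfsg.Agent
open scoped commutatorElement

universe w

variable {G : Type w} [Group G] [Finite G] [IsSimpleGroup G] {t : G} {O : Subgroup G}

set_option quotPrecheck false in
local notation "Cz" => Subgroup.centralizer ({t} : Set G)

/-- the hypotheses of the case of a fixed part -/
structure QHyp (t : G) (O : Subgroup G) : Prop where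
  nonab : ¬ IsMulCommutative G
  kproper : Cfsg.IsKProper G
  mc : MaxCent t O
  rot : Rotates t
  layer : MaxLayer t O
  noLayer : NoLayer t
  np : ∀ s : ℕ, s.Prime → s ≠ 2 → ∀ z : G, z * z = 1 → z ≠ 1 → z ≠ t → Commute z t →
    ∀ y ∈ fq s (Subgroup.centralizer ({t} : Set G)),
      (∀ x ∈ fq s (Subgroup.centralizer ({t} : Set G)), Commute y x) → Commute z y → y = 1

/-- the noncentral involutions invert the central elements of the cores -/
theorem QHyp.center_inv (h : QHyp t O) {s : ℕ} (hs : s.Prime) (hs2 : s ≠ 2) {z : G} (hz : z * z = 1) (hz1 : z ≠ 1)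
    (hzt : z ≠ t) (hzc : Commute z t) {y : G} (hy : y ∈ fq s Cz) (hyc : ∀ x ∈ fq s Cz, Commute y x) :
    z * y * z⁻¹ = y⁻¹ := by
  have hzC : z ∈ Cz := Subgroup.mem_centralizer_singleton_iff.2 hzc.eq
  refine inverts hz (W := fq s Cz ⊓ Subgroup.centralizer (fq s Cz : Set G))
    (Subgroup.inf_normalizer_le_normalizer_inf
      ⟨fq_le_norm s hs _ hzC, normalizer_le_norm_cent _ (fq_le_norm s hs _ hzC)⟩)
    (fun w hw hwz => h.np s hs hs2 z hz hz1 hzt hzc w hw.1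
      (fun x hx => (Subgroup.mem_centralizer_iff.1 hw.2 x hx).symm) hwz.symm) y
    ⟨hy, Subgroup.mem_centralizer_iff.2 fun x hx => (hyc x hx).eq.symm⟩

/-- an involution centralising a self-centralising part of `O_q(C)` centralises `O_q(C)` -/
theorem MaxCent.centralises_core (_h : MaxCent t O) {q : ℕ} (hq : q.Prime) (hq2 : q ≠ 2) {z : G} (hz : z * z = 1)
    (hzc : Commute z t) {A : Subgroup G} (hA : A ≤ fq q Cz)
    (hself : ∀ x ∈ fq q Cz, (∀ a ∈ A, Commute x a) → x ∈ A) (hzA : ∀ a ∈ A, Commute z a) :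
    ∀ x ∈ fq q Cz, Commute z x := by
  haveI := Fact.mk hq
  have hzC : z ∈ Cz := Subgroup.mem_centralizer_singleton_iff.2 hzc.eq
  have hn : Subgroup.zpowers z ≤ Subgroup.normalizer (fq q Cz : Set G) :=
    Subgroup.zpowers_le.2 (fq_le_norm q hq _ hzC)
  obtain ⟨n, hn'⟩ := IsPGroup.iff_card.1 (fq_isPGroup q Cz)
  have hco : (Nat.card ↥(Subgroup.zpowers z)).Coprime (Nat.card ↥(fq q Cz)) := by
    rw [Nat.card_zpowers, hn']
    exact Nat.Coprime.coprime_dvd_left (orderOf_dvd_of_pow_eq_one (by rw [pow_two, hz]))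
      ((hq.odd_of_ne_two hq2).pow.coprime_two_left)
  have hmem : ∀ a ∈ A, a ∈ fq q Cz ⊓ Subgroup.centralizer (Subgroup.zpowers z : Set G) := fun a ha =>
    ⟨hA ha, Subgroup.mem_centralizer_iff.2 fun b hb => by
      obtain ⟨i, rfl⟩ := Subgroup.mem_zpowers_iff.1 hb
      exact ((hzA a ha).zpow_left i).eq⟩
  have hle := CentTrick.centralizes_of_self_centralizing (fq_isPGroup q Cz).isNilpotent hn hco fun x hx =>
    hmem x (hself x hx.1 fun a ha => (Subgroup.mem_centralizer_iff.1 hx.2 a (hmem a ha)).symm)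
  exact fun x hx => (Subgroup.mem_centralizer_iff.1 (hle (Subgroup.mem_zpowers z)) x hx).symm

/-- an element of `O_p(C) ∩ M` is the product of a torus element and one centralising the layer -/
theorem MaxCent.decomp_part (h : MaxCent t O) {M : Subgroup G} {v : G} {T : Subgroup G} (f : LayerFacts t O M v T)
    {p : ℕ} (hp : p.Prime) (hp2 : p ≠ 2) {a : G} (ha : a ∈ fq p Cz) (haM : a ∈ M) :
    ∃ r ∈ T, r ∈ fq p Cz ∧ r ∈ M ∧
      ∃ d ∈ fq p Cz, d ∈ M ∧ d ∈ Subgroup.centralizer (lay M : Set G) ∧ a = r * d := by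
  haveI := Fact.mk hp
  have hvM : v ∈ M := lay_le M f.v_mem
  have hvC : v ∈ Cz := Subgroup.mem_centralizer_singleton_iff.2 f.v_comm.eq
  have hvinv : v⁻¹ = v := inv_eq_of_mul_eq_one_right f.v_sq
  obtain ⟨y, hy⟩ : ∃ y, y = a * (v * a⁻¹ * v⁻¹) := ⟨_, rfl⟩
  have hyF : y ∈ fq p Cz := hy ▸ mul_mem ha (conj_fq hp hvC (inv_mem ha))
  have hyM : y ∈ M := hy ▸ mul_mem haM (mul_mem (mul_mem hvM (inv_mem haM)) (inv_mem hvM))
  have hyL : y ∈ lay M := by
    rw [hy, show a * (v * a⁻¹ * v⁻¹) = a * v * a⁻¹ * v⁻¹ by group]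
    exact mul_mem ((Subgroup.mem_normalizer_iff.1 (lay_norm M haM) v).1 f.v_mem) (inv_mem f.v_mem)
  have hyi : v * y * v⁻¹ = y⁻¹ := by
    rw [hy]
    calc v * (a * (v * a⁻¹ * v⁻¹)) * v⁻¹ = v * a * v * a⁻¹ * (v * v)⁻¹ := by group
      _ = v * a * v⁻¹ * a⁻¹ := by rw [f.v_sq, hvinv, inv_one, mul_one]
      _ = _ := by group
  have hFO := h.fq_le_core hp hp2
  obtain ⟨k, hk⟩ := odd_orderOf h.core_odd (hFO hyF)
  obtain ⟨r, hr⟩ : ∃ r, r = y ^ (k + 1) := ⟨_, rfl⟩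
  have hrr : r * r = y := by
    rw [hr, ← pow_add, show k + 1 + (k + 1) = orderOf y + 1 by omega, pow_succ, pow_orderOf_eq_one, one_mul]
  have hrF : r ∈ fq p Cz := hr ▸ pow_mem hyF _
  have hri : v * r * v⁻¹ = r⁻¹ := by rw [hr, ← conj_pow, hyi, inv_pow]
  have hrM : r ∈ M := hr ▸ pow_mem hyM _
  refine ⟨r, f.T_inv r ⟨hr ▸ pow_mem hyL _, hFO hrF⟩ hri, hrF, hrM, r⁻¹ * a, mul_mem (inv_mem hrF) ha,
    mul_mem (inv_mem hrM) haM, ?_, (mul_inv_cancel_left r a).symm⟩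
  refine f.fixed p hp hp2 (fq p Cz ⊓ M) (le_inf inf_le_right (inf_le_left.trans (fq_le p _)))
    ((fq_isPGroup p _).to_le inf_le_left)
    (fun g hg => Subgroup.inf_normalizer_le_normalizer_inf ⟨fq_le_norm p hp _ hg.2, Subgroup.le_normalizer hg.1⟩)
    ⟨⟨(fq p Cz).mul_mem ((fq p Cz).inv_mem hrF) ha, M.mul_mem (M.inv_mem hrM) haM⟩, Subgroup.mem_centralizer_singleton_iff.2 ?_⟩
  have e : v * (r⁻¹ * a) * v⁻¹ = r⁻¹ * a := by
    calc v * (r⁻¹ * a) * v⁻¹ = (v * r * v⁻¹)⁻¹ * (v * a⁻¹ * v⁻¹)⁻¹ := by group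
      _ = r * (a⁻¹ * y)⁻¹ := by rw [hri, inv_inv, hy]; group
      _ = r * (r * r)⁻¹ * a := by rw [hrr]; group
      _ = _ := by group
  exact (mul_inv_eq_iff_eq_mul.1 e).symm

/-- the torus is inverted by the involutions of `M ∩ C` -/
theorem QHyp.part_torus (h : QHyp t O) {M : Subgroup G} {v : G} {T : Subgroup G} (f : LayerFacts t O M v T)
    {q : ℕ} (hq : q.Prime) (hq2 : q ≠ 2) (hs : ∀ s : ℕ, s.Prime → s ≠ 2 → s ≠ q → fq s Cz ≤ M)
    (hA : ∀ x ∈ fq q Cz, (∀ a ∈ fq q Cz, a ∈ M → Commute x a) → x ∈ M) :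
    (M ⊓ Cz ≤ Subgroup.normalizer (T : Set G) ∧
        ∀ l ∈ lay M ⊓ O, ∃ r ∈ T, r⁻¹ * l ∈ Subgroup.centralizer (lay M : Set G)) ∧
      (∀ z ∈ M, z * z = 1 → z ≠ 1 → z ≠ t → Commute z t → ∀ x ∈ T, z * x * z⁻¹ = x⁻¹) ∧
      (layCent M ≤ Cz → ∀ T' : Subgroup G, T' ≤ lay M ⊓ O → ¬ T' ≤ Subgroup.centralizer (lay M : Set G) →
        M ⊓ Subgroup.normalizer (T' : Set G) ≤ Cz) := by
  have kill : ∀ z ∈ lay M, z * z = 1 → z ≠ 1 → z ≠ t → Commute z t → (∀ x ∈ T, Commute z x) → False := by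
    intro z hzL hz hz1 hzt hzc hzT
    have hzF : ∀ p : ℕ, p.Prime → p ≠ 2 → ∀ a ∈ fq p Cz, a ∈ M → Commute z a := by
      intro p hp hp2 a ha haM
      obtain ⟨r, hr, -, -, d, -, -, hd, rfl⟩ := h.mc.decomp_part f hp hp2 ha haM
      exact (hzT r hr).mul_right (Subgroup.mem_centralizer_iff.1 hd z hzL)
    refine h.mc.no_central h.rot hz hz1 hzt hzc.symm fun s hs' hs2 x hx => ?_
    by_cases hsq : s = q
    · subst hsq
      exact h.mc.centralises_core hq hq2 hz hzc (A := fq s Cz ⊓ M) inf_le_left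
        (fun y hy hc => ⟨hy, hA y hy fun a ha haM => hc a ⟨ha, haM⟩⟩) (fun a ha => hzF s hq hq2 a ha.1 ha.2) x hx
    · exact hzF s hs' hs2 x hx (hs s hs' hs2 hsq hx)
  rcases f.torus with h0 | ⟨z₀, hz₀L, hz₀, hz₀1, hz₀t, hz₀c, hz₀T⟩ | ⟨h1, h2, h3, -⟩
  · refine (kill v f.v_mem f.v_sq f.v_ne f.v_ne_t f.v_comm fun x hx => ?_).elim
    rw [h0, Subgroup.mem_bot] at hx
    rw [hx]
    exact Commute.one_right _
  · exact (kill z₀ hz₀L hz₀ hz₀1 hz₀t hz₀c hz₀T).elim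
  · exact ⟨h1, h2, h3⟩

/-- an element of `O_p(C) ∩ M` fixed by an involution of `M ∩ C` centralises the layer -/
theorem QHyp.fixed_of_commute (h : QHyp t O) {M : Subgroup G} {v : G} {T : Subgroup G} (f : LayerFacts t O M v T)
    {q : ℕ} (hq : q.Prime) (hq2 : q ≠ 2) (hs : ∀ s : ℕ, s.Prime → s ≠ 2 → s ≠ q → fq s Cz ≤ M)
    (hA : ∀ x ∈ fq q Cz, (∀ a ∈ fq q Cz, a ∈ M → Commute x a) → x ∈ M)
    {p : ℕ} (hp : p.Prime) (hp2 : p ≠ 2) {a : G} (ha : a ∈ fq p Cz) (haM : a ∈ M) {z : G} (hzM : z ∈ M)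
    (hz : z * z = 1) (hz1 : z ≠ 1) (hzt : z ≠ t) (hzc : Commute z t) (haz : Commute a z) :
    a ∈ Subgroup.centralizer (lay M : Set G) := by
  obtain ⟨r, hrT, -, -, d, -, -, hd, rfl⟩ := h.mc.decomp_part f hp hp2 ha haM
  have hri : z * r * z⁻¹ = r⁻¹ := (h.part_torus f hq hq2 hs hA).2.1 z hzM hz hz1 hzt hzc r hrT
  obtain ⟨d', hd'⟩ : ∃ d', d' = z * d * z⁻¹ := ⟨_, rfl⟩
  have hd'c : d' ∈ Subgroup.centralizer (lay M : Set G) :=
    hd' ▸ (Subgroup.mem_normalizer_iff.1 (normalizer_le_norm_cent _ (lay_norm M hzM)) d).1 hd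
  have e : r * r = d' * d⁻¹ := by
    have h1 : r⁻¹ * d' = r * d := by
      rw [← hri, hd']
      calc z * r * z⁻¹ * (z * d * z⁻¹) = z * (r * d) * z⁻¹ := by group
        _ = _ := by rw [← haz.eq, mul_inv_cancel_right]
    calc r * r = r * (r * d) * d⁻¹ := by group
      _ = _ := by rw [← h1]; group
  have h2 : r * r = 1 := Subgroup.mem_bot.1
    (f.T_disj ▸ (⟨T.mul_mem hrT hrT, e ▸ Subgroup.mul_mem _ hd'c (Subgroup.inv_mem _ hd)⟩ : r * r ∈ T ⊓ _))
  obtain ⟨k, hk⟩ := odd_orderOf h.mc.core_odd (f.T_le hrT).2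
  have h3 : r = 1 := by
    have := pow_orderOf_eq_one r
    rwa [hk, pow_succ, pow_mul, pow_two, h2, one_pow, one_mul] at this
  rwa [h3, one_mul]

end Cfsg.Agent.GW
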