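import Cfsg.Agent.Lib.GW.MaxQIndex
import Cfsg.Agent.Lib.GW.MaxQCount
import Cfsg.Agent.Lib.GW.MaxQModel
import Cfsg.Agent.Lib.GW.MaxQFixedLinear
import Cfsg.Agent.Lib.GW.MaxControlBase
import Cfsg.Agent.Lib.GW.MaxOrder

/-!
# A reflection fixing a noncentral element of the second centre: the shape

`t` lies in the layer of `N`; an outer involution of `N ∩ C(t)` would give an odd `s > q` dividing `|O : N ∩ O|`, so the
Sylow subgroup lies in the layer, every reflection centralises `D` and inverts exactly `|O : N ∩ O| |T|` elements of `O`.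
-/

set_option autoImplicit false
set_option linter.unusedSectionVars false
set_option linter.style.haveILetI false

namespace Cfsg.Agent.GW

open Cfsg Cfsg.Agent DihedralGroup
open scoped commutatorElement

universe w

variable {G : Type w} [Group G] [Finite G] [IsSimpleGroup G] {u : G} {N : Subgroup G} {v : G} {T : Subgroup G}
  {q : ℕ}

namespace QCfg

variable {t : G} {O : Subgroup G}

set_option quotPrecheck false in
local notation "Cz" => Subgroup.centralizer ({t} : Set G)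

set_option quotPrecheck false in
local notation "Fq" => fq q (Subgroup.centralizer ({t} : Set G))

variable (c : QCfg t u O q N v T)
include c

/-- a part of another core centralising the layer is trivial -/
theorem core_part_trivial {s : ℕ} (hs : s.Prime) (hs2 : s ≠ 2) (hsq : s ≠ q) {e : G} (he : e ∈ fq s Cz)
    (heL : e ∈ Subgroup.centralizer (lay N : Set G)) : e = 1 := by
  haveI := Fact.mk hs
  by_contra he1
  obtain ⟨H, hH⟩ : ∃ H, H = fq s Cz ⊓ Subgroup.centralizer (lay N : Set G) := ⟨_, rfl⟩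
  obtain ⟨w, -, hw1, hwc⟩ := exists_central_mem ((fq_isPGroup s Cz).to_le (hH.le.trans inf_le_left))
    (⊤ : Subgroup ↥H) fun h => he1 (congrArg Subtype.val
      (Subgroup.mem_bot.1 (h.le (Subgroup.mem_top (⟨e, hH.ge ⟨he, heL⟩⟩ : ↥H)))))
  obtain ⟨hwF, hwL⟩ := Subgroup.mem_inf.1 (hH.le w.2)
  refine hw1 (Subtype.ext (c.hyp.np s hs hs2 v c.facts.v_sq c.facts.v_ne c.facts.v_ne_t c.facts.v_comm (w : G) hwF
    (fun x hx => ?_) (Subgroup.mem_centralizer_iff.1 hwL v c.facts.v_mem)))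
  obtain ⟨r, hr, -, -, d, hdF, -, hd, rfl⟩ := c.hyp.mc.decomp_part c.facts hs hs2 hx (c.cores_le s hs hs2 hsq hx)
  exact Commute.mul_right (Subgroup.mem_centralizer_iff.1 hwL r (c.facts.T_le hr).1).symm
    (congrArg Subtype.val (hwc ⟨d, hH.ge ⟨hdF, hd⟩⟩).eq : d * (w : G) = w * d).symm

/-- an element of the centraliser of the layer inverted by an involution of `N ∩ C` has `q`-power order -/
theorem inverted_layCent {z : G} (hzN : z ∈ N) (hzC : z ∈ Cz) {x : G} (hx : x ∈ layCent N)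
    (hzx : z * x * z⁻¹ = x⁻¹) {p n : ℕ} (hp : p.Prime) (hpq : p ≠ q) (ho : orderOf x = p ^ n) : x = 1 := by
  haveI := Fact.mk c.prime
  have hxO := c.layCent_le_core hx
  have hxC := c.hyp.mc.core_le hxO
  obtain ⟨k, hk⟩ := c.hyp.mc.core_orderOf hxO
  have hxpow : x = (x * x) ^ (k + 1) := by
    rw [← pow_two, ← pow_mul, show 2 * (k + 1) = orderOf x + 1 by omega, pow_succ, pow_orderOf_eq_one, one_mul]
  -- `x` centralises `D`
  haveI := c.D_cyclic
  obtain ⟨g, hg⟩ := IsCyclic.exists_generator (α := ↥(Fq ⊓ layCent N))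
  obtain ⟨g', hg'⟩ : ∃ g', g' = z⁻¹ * (g : G) * z := ⟨_, rfl⟩
  have hg'D : g' ∈ Fq ⊓ layCent N := by
    have := c.norm_D (inv_mem hzN) (inv_mem hzC) g.2
    rwa [inv_inv, ← hg'] at this
  obtain ⟨a, ha⟩ := Subgroup.mem_zpowers_iff.1 (hg ⟨x * (g : G) * x⁻¹, c.norm_D hx.1 hxC g.2⟩)
  replace ha : (g : G) ^ a = x * g * x⁻¹ := by simpa using congrArg Subtype.val ha
  obtain ⟨b, hb⟩ := Subgroup.mem_zpowers_iff.1 (hg ⟨g', hg'D⟩)
  replace hb : (g : G) ^ b = g' := by simpa using congrArg Subtype.val hb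
  have h1 : x * g' * x⁻¹ = g' ^ a := by
    rw [← hb, ← conj_zpow, ← ha, ← zpow_mul, ← zpow_mul, mul_comm]
  have h2 : x⁻¹ * g' * x = g' ^ a := by
    have h : z⁻¹ * (g : G) ^ a * z = z⁻¹ * (x * g * x⁻¹) * z := by rw [ha]
    rw [show z⁻¹ * (g : G) ^ a * z = g' ^ a by
      rw [hg', show z⁻¹ * (g : G) * z = z⁻¹ * g * z⁻¹⁻¹ by rw [inv_inv], conj_zpow, inv_inv]] at h
    rw [h, hg']
    have e : z * x⁻¹ * z⁻¹ = x := by rw [← conj_inv, hzx, inv_inv]
    conv_rhs => rw [← e]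
    group
  have h3 : Commute (x * x) g' := by
    refine mul_inv_eq_iff_eq_mul.1 ?_
    calc x * x * g' * (x * x)⁻¹ = x * (x * g' * x⁻¹) * x⁻¹ := by group
      _ = x * (x⁻¹ * g' * x) * x⁻¹ := by rw [h1, ← h2]
      _ = g' := by group
  have hxg : Commute x (g : G) := by
    have h4 := (Commute.conj_iff z).2 h3
    rw [show z * g' * z⁻¹ = g by rw [hg']; group,
      show z * (x * x) * z⁻¹ = z * x * z⁻¹ * (z * x * z⁻¹) by group, hzx, ← mul_inv_rev] at h4
    rw [hxpow]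
    exact (Commute.inv_left_iff.1 h4).pow_left _
  have hxD : ∀ y ∈ Fq ⊓ layCent N, Commute x y := fun y hy => by
    obtain ⟨j, hj⟩ := Subgroup.mem_zpowers_iff.1 (hg ⟨y, hy⟩)
    replace hj : (g : G) ^ j = y := by simpa using congrArg Subtype.val hj
    exact hj ▸ hxg.zpow_right j
  have hxT : ∀ r ∈ T, Commute x r := fun r hr =>
    (Subgroup.mem_centralizer_iff.1 hx.2 r (c.facts.T_le hr).1).symm
  -- `x` centralises every core
  have hF : ∀ y ∈ Fq, Commute x y := by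
    have hn : Subgroup.zpowers x ≤ Subgroup.normalizer (Fq : Set G) :=
      Subgroup.zpowers_le.2 (fq_le_norm q c.prime _ hxC)
    have hco : (Nat.card ↥(Subgroup.zpowers x)).Coprime (Nat.card ↥Fq) := by
      obtain ⟨j, hj⟩ := IsPGroup.iff_card.1 (fq_isPGroup q Cz)
      rw [Nat.card_zpowers, ho, hj]
      exact ((Nat.coprime_primes hp c.prime).2 hpq).pow _ _
    have hA : ∀ y ∈ Fq, y ∈ N → y ∈ Fq ⊓ Subgroup.centralizer (Subgroup.zpowers x : Set G) := fun y hy hyN => by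
      obtain ⟨r, hr, -, -, d, hdF, hdN, hd, rfl⟩ := c.hyp.mc.decomp_part c.facts c.prime c.odd hy hyN
      refine ⟨hy, Subgroup.mem_centralizer_iff.2 fun b hb => ?_⟩
      obtain ⟨i, rfl⟩ := Subgroup.mem_zpowers_iff.1 hb
      exact (((hxT r hr).mul_right (hxD d ⟨hdF, hdN, hd⟩)).zpow_left i).eq
    have hle := CentTrick.centralizes_of_self_centralizing (fq_isPGroup q Cz).isNilpotent hn hco fun y hy =>
      hA y hy.1 (c.A_self y hy.1 fun a ha haN =>
        (Subgroup.mem_centralizer_iff.1 hy.2 a (hA a ha haN)).symm)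
    exact fun y hy => (Subgroup.mem_centralizer_iff.1 (hle (Subgroup.mem_zpowers x)) y hy).symm
  have hall : ∀ s : ℕ, s.Prime → s ≠ 2 → ∀ y ∈ fq s Cz, Commute x y := by
    intro s hs hs2 y hy
    rcases eq_or_ne s q with rfl | hsq
    · exact hF y hy
    · obtain ⟨r, hr, -, -, d, hdF, -, hd, rfl⟩ := c.hyp.mc.decomp_part c.facts hs hs2 hy (c.cores_le s hs hs2 hsq hy)
      rw [c.core_part_trivial hs hs2 hsq hdF hd, mul_one]
      exact hxT r hr
  have hzc : Commute z x := c.hyp.mc.fit_commute hxO (c.hyp.mc.mem_fit hxO hall) fun s j hs hs2 y hy hoy hyF => by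
    have h0 : y = 1 := by
      rcases eq_or_ne s q with rfl | hsq
      · refine orderOf_eq_one_iff.1 (Nat.eq_one_of_dvd_coprimes (((Nat.coprime_primes hp hs).2 hpq).pow n j) ?_ hoy.dvd)
        obtain ⟨i, rfl⟩ := Subgroup.mem_zpowers_iff.1 hy
        rw [← ho]
        exact orderOf_dvd_of_mem_zpowers hy
      · exact c.core_part_trivial hs hs2 hsq hyF (Subgroup.zpowers_le.2 hx.2 hy)
    exact h0 ▸ Commute.one_right z
  exact eq_one_of_inv_fix (c.hyp.mc.core_orderOf hxO) hzx hzc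

/-- the index of the centraliser of an involution of `N ∩ C` in the centraliser of the layer is a power of `q` -/
theorem prime_of_dvd_layCent {z : G} (hzN : z ∈ N) (hz : z * z = 1) (hzC : z ∈ Cz) {p : ℕ} (hp : p.Prime)
    (hd : p ∣ (layCent N ⊓ Subgroup.centralizer ({z} : Set G)).relIndex (layCent N)) : p = q := by
  haveI := Fact.mk hp
  by_contra hpq
  have hco : (Nat.card ↥(Subgroup.zpowers z)).Coprime (Nat.card ↥(layCent N)) := by
    rw [Nat.card_zpowers]
    exact Nat.Coprime.coprime_dvd_left (orderOf_dvd_of_pow_eq_one (by rw [pow_two, hz]))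
      c.facts.cent_odd.coprime_two_left
  haveI : Group.IsSolvable ↥O := c.hyp.mc.core_solvable
  have hsol : Group.IsSolvable ↥(layCent N) :=
    solvable_of_solvable_injective (f := Subgroup.inclusion c.layCent_le_core)
      (Subgroup.inclusion_injective c.layCent_le_core)
  obtain ⟨P, hP, -, hPn⟩ := Solv.exists_invariant_sylow_ge (Subgroup.zpowers_le.2 (layCent_norm N hzN)) hco
    (Or.inr hsol) (p := p) ⊥ bot_le IsPGroup.of_bot (fun g _ => mem_norm_of_conj fun x hx => by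
      rw [Subgroup.mem_bot] at hx ⊢
      rw [hx, mul_one, mul_inv_cancel])
  have hzP : z ∈ Subgroup.normalizer (P : Set G) := hPn (Subgroup.mem_zpowers z)
  have hPp : IsPGroup p ↥P := IsPGroup.of_card hP.2
  have hPz : P ≤ layCent N ⊓ Subgroup.centralizer ({z} : Set G) := by
    intro y hy
    refine ⟨hP.1 hy, Subgroup.mem_centralizer_singleton_iff.2 ?_⟩
    obtain ⟨w, hw⟩ : ∃ w, w = y⁻¹ * (z * y * z⁻¹) := ⟨_, rfl⟩
    have hwP : w ∈ P := hw ▸ mul_mem (inv_mem hy) ((Subgroup.mem_normalizer_iff.1 hzP y).1 hy)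
    have hwi : z * w * z⁻¹ = w⁻¹ := by
      rw [hw]
      calc z * (y⁻¹ * (z * y * z⁻¹)) * z⁻¹ = (z * y⁻¹ * z⁻¹) * (z * z) * y * (z * z)⁻¹ := by group
        _ = _ := by rw [hz]; group
    obtain ⟨n, hn⟩ := IsPGroup.iff_orderOf.1 hPp ⟨w, hwP⟩
    rw [Subgroup.orderOf_mk] at hn
    have h1 := c.inverted_layCent hzN hzC (hP.1 hwP) hwi hp hpq hn
    rw [hw, inv_mul_eq_one, eq_mul_inv_iff_mul_eq] at h1
    exact h1
  have h1 : p ∣ P.relIndex (layCent N) := hd.trans (Subgroup.relIndex_dvd_of_le_left _ hPz)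
  have h2 : Nat.card ↥P * P.relIndex (layCent N) = Nat.card ↥(layCent N) := by
    rw [← Nat.card_congr (Subgroup.subgroupOfEquivOfLe hP.1).toEquiv]
    exact (P.subgroupOf (layCent N)).card_mul_index
  obtain ⟨e, he⟩ := h1
  have h3 : p ^ ((Nat.card ↥(layCent N)).factorization p + 1) ∣ Nat.card ↥(layCent N) := by
    conv_rhs => rw [← h2, hP.2, he, ← mul_assoc, ← pow_succ]
    exact dvd_mul_right _ _
  exact Nat.pow_succ_factorization_not_dvd Nat.card_pos.ne' hp h3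

end QCfg

variable {Φ : Frame G} {d : G}

set_option quotPrecheck false in
local notation "Fz" => fq q (Subgroup.centralizer ({Φ.t} : Set G))

namespace QCfg

variable (c : QCfg Φ.t u Φ.O q N v T)
include c

/-- `t` lies in the layer -/
theorem t_mem_lay (hk : 2 ≤ Φ.k) (i : ZMod (2 ^ Φ.k)) (hu : Φ.refl i = u) : Φ.t ∈ lay N := by
  obtain ⟨s, hsS, hst, hsu⟩ := Φ.exists_swap hk i
  rw [hu] at hsu
  have hsN : s ∈ N := by
    obtain ⟨y, hy, hy1, -, -⟩ := c.y_mem
    refine c.norm_le (X := Fz ⊓ layCent N) (fun e => hy1 (Subgroup.mem_bot.1 (e ▸ hy))) le_rfl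
      (mem_norm_of_conj fun x hx => ?_)
    refine c.mem_D_of_commute (conj_fq c.prime (Φ.S_le hsS) hx.1) ?_
    have h1 : Commute (s * x * s⁻¹) (Φ.t * u) := hsu ▸ (Commute.conj_iff s).2 (c.D_commute hx)
    have h2 : Commute (s * x * s⁻¹) Φ.t :=
      hst ▸ (Commute.conj_iff s).2 (c.hyp.mc.core_commute (c.hyp.mc.fq_odd_le_core c.prime c.odd hx.1))
    have := h2.inv_right.mul_right h1
    rwa [inv_mul_cancel_left] at this
  have hcomm : Φ.t ∈ lay N ⊔ layCent N := by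
    have := c.facts.comm s hsN u c.uN
    rwa [commutatorElement_def, hsu, mul_inv_cancel_right] at this
  rw [← SetLike.mem_coe, Subgroup.coe_mul_of_left_le_normalizer_right _ _ (lay_le_normalizer_cent N)] at hcomm
  obtain ⟨l, hl, e, he, hle⟩ := hcomm
  obtain ⟨j, hj⟩ := c.facts.cent_odd
  have hec : Commute l e := Subgroup.mem_centralizer_iff.1 he.2 l hl
  have h1 : Φ.t ^ (2 * j + 1) = Φ.t := by rw [pow_succ, pow_mul, pow_two, c.hyp.mc.sq, one_pow, one_mul]
  have h2 : e ^ (2 * j + 1) = 1 := by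
    obtain ⟨i, hi⟩ := Subgroup.orderOf_dvd_natCard (layCent N) he
    rw [← hj, hi, pow_mul, pow_orderOf_eq_one, one_pow]
  rw [← h1, ← hle, hec.mul_pow, h2, mul_one]
  exact pow_mem hl _

/-- no outer involution in `N ∩ C(t)` -/
theorem mem_lay_of_involution (hG : Minimal G) (hk : 2 ≤ Φ.k) (htL : Φ.t ∈ lay N) (hd : d ∈ Fz ⊓ layCent N)
    (hdq : orderOf d = q) (hdz : d ∈ z2 Fz) {z : G} (hzN : z ∈ N) (hz : z * z = 1) (hz1 : z ≠ 1) (hzt : z ≠ Φ.t)
    (hzc : Commute z Φ.t) : z ∈ lay N := by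
  by_contra hzL
  obtain ⟨s, a, hs, hqs, hqs', hsΔ, hab, hsa⟩ := c.outer_case hG Φ hk htL hzN hz hz1 hzt hzc hzL
  obtain ⟨l, -, hlq, hm⟩ := c.relIndex_core_eq hd hdq hdz
  obtain ⟨b, hb⟩ : ∃ b, b = (layCent N ⊓ Subgroup.centralizer ({z} : Set G)).relIndex (layCent N) := ⟨_, rfl⟩
  have hzC : z ∈ Subgroup.centralizer ({Φ.t} : Set G) := Subgroup.mem_centralizer_singleton_iff.2 hzc.eq
  have hsb : s.Coprime b := Nat.coprime_of_dvd fun p hp hps hpb =>
    hqs' (c.prime_of_dvd_layCent hzN hz hzC hp (hb ▸ hpb) ▸ hps)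
  -- the indices of the two centralisers
  obtain ⟨ρ, hρt, -⟩ := c.hyp.rot z hz hz1 hzt hzc.symm
  have hJ : (Subgroup.centralizer ({z} : Set G)).index = (Subgroup.centralizer ({Φ.t} : Set G)).index := by
    have hmap : (Subgroup.centralizer ({Φ.t} : Set G)).map (MulAut.conj ρ).toMonoidHom =
        Subgroup.centralizer ({z} : Set G) := by
      ext x
      rw [Subgroup.mem_centralizer_singleton_iff, ← hρt]
      constructor
      · rintro ⟨y, hy, rfl⟩
        exact ((Commute.conj_iff ρ).2 (Subgroup.mem_centralizer_singleton_iff.1 hy : Commute y Φ.t)).eq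
      · intro hx
        refine ⟨ρ⁻¹ * x * ρ, Subgroup.mem_centralizer_singleton_iff.2 ?_, by
          show ρ * (ρ⁻¹ * x * ρ) * ρ⁻¹ = x
          group⟩
        have := (Commute.conj_iff ρ⁻¹).2 (show Commute x (ρ * Φ.t * ρ⁻¹) from hx)
        rw [inv_inv, show ρ⁻¹ * (ρ * Φ.t * ρ⁻¹) * ρ = Φ.t by group] at this
        exact this.eq
    rw [← hmap]
    exact Subgroup.index_map_equiv (Subgroup.centralizer ({Φ.t} : Set G)) (MulAut.conj ρ)
  have h1 := Subgroup.relIndex_mul_index (H := N ⊓ Subgroup.centralizer ({Φ.t} : Set G)) inf_le_left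
  have h2 := Subgroup.relIndex_mul_index (H := N ⊓ Subgroup.centralizer ({Φ.t} : Set G)) inf_le_right
  have h3 := Subgroup.relIndex_mul_index (H := N ⊓ Subgroup.centralizer ({z} : Set G)) inf_le_left
  have h4 := Subgroup.relIndex_mul_index (H := N ⊓ Subgroup.centralizer ({z} : Set G)) inf_le_right
  rw [hab, ← hb] at h3
  rw [hJ] at h4
  obtain ⟨M, hM⟩ : ∃ M, M = (N ⊓ Subgroup.centralizer ({Φ.t} : Set G)).relIndex
    (Subgroup.centralizer ({Φ.t} : Set G)) := ⟨_, rfl⟩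
  rw [← hM] at h2
  have hpos : 0 < N.index := Nat.pos_of_ne_zero Subgroup.index_ne_zero_of_finite
  have hJpos : 0 < (Subgroup.centralizer ({Φ.t} : Set G)).index := Nat.pos_of_ne_zero Subgroup.index_ne_zero_of_finite
  have hkey : M * (a * b) = (N ⊓ Subgroup.centralizer ({Φ.t} : Set G)).relIndex N *
      (N ⊓ Subgroup.centralizer ({z} : Set G)).relIndex (Subgroup.centralizer ({z} : Set G)) := by
    refine Nat.eq_of_mul_eq_mul_right (Nat.mul_pos hpos hJpos) ?_
    calc M * (a * b) * (N.index * (Subgroup.centralizer ({Φ.t} : Set G)).index)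
        = (M * (Subgroup.centralizer ({Φ.t} : Set G)).index) * (a * b * N.index) := by ring
      _ = ((N ⊓ Subgroup.centralizer ({Φ.t} : Set G)).relIndex N * N.index) *
          ((N ⊓ Subgroup.centralizer ({z} : Set G)).relIndex (Subgroup.centralizer ({z} : Set G)) *
            (Subgroup.centralizer ({Φ.t} : Set G)).index) := by rw [h2, h3, h1, h4]
      _ = _ := by ring
  have hsM : s ∣ M := (Nat.Coprime.mul_right hsa hsb).dvd_of_dvd_mul_right (hkey ▸ hsΔ.mul_right _)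
  -- `M` divides `|S| |O : N ∩ O|`
  have hC : Nat.card ↥(Subgroup.centralizer ({Φ.t} : Set G)) = Nat.card ↥Φ.O * (2 * 2 ^ Φ.k) := by
    rw [card_cent_prod c.hyp.mc.core_odd c.hyp.mc.core_norm Φ.O_sup, Nat.card_congr Φ.ι.symm.toEquiv,
      DihedralGroup.nat_card, mul_comm]
  have hMm : M ∣ 2 * 2 ^ Φ.k * (q * l) := by
    have hcard : ∀ A B : Subgroup G, A ≤ B → A.relIndex B * Nat.card ↥A = Nat.card ↥B := fun A B hAB => by
      rw [mul_comm, ← Nat.card_congr (Subgroup.subgroupOfEquivOfLe hAB).toEquiv]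
      exact (A.subgroupOf B).card_mul_index
    have e1 := hcard (N ⊓ Subgroup.centralizer ({Φ.t} : Set G)) _ inf_le_right
    have e2 := hcard (N ⊓ Φ.O) _ inf_le_right
    obtain ⟨w, hw⟩ := Subgroup.card_dvd_of_le
      (inf_le_inf_left N c.hyp.mc.core_le : N ⊓ Φ.O ≤ N ⊓ Subgroup.centralizer ({Φ.t} : Set G))
    rw [← hM, hw, hC, ← e2, hm] at e1
    refine ⟨w, Nat.eq_of_mul_eq_mul_right (Nat.card_pos (α := ↥(N ⊓ Φ.O))) ?_⟩
    linear_combination -e1
  have h2c : s.Coprime (2 * 2 ^ Φ.k * q) := by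
    refine Nat.Coprime.mul_right ?_ ((Nat.coprime_comm.1 ((c.prime.coprime_iff_not_dvd).2 hqs')))
    rw [← pow_succ']
    exact hs.coprime_two_right.pow_right _
  have hsl : s ∣ l := h2c.dvd_of_dvd_mul_left (by rw [mul_assoc]; exact hsM.trans hMm)
  have hlpos : 0 < l := by
    rcases Nat.eq_zero_or_pos l with rfl | h
    · rw [mul_zero] at hm
      exact (Subgroup.index_ne_zero_of_finite (H := (N ⊓ Φ.O).subgroupOf Φ.O) hm).elim
    · exact h
  have := Nat.le_of_dvd hlpos hsl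
  omega

/-- the Sylow subgroup lies in the layer -/
theorem sylow_le_lay (hG : Minimal G) (hk : 2 ≤ Φ.k) (i : ZMod (2 ^ Φ.k)) (hu : Φ.refl i = u)
    (hd : d ∈ Fz ⊓ layCent N) (hdq : orderOf d = q) (hdz : d ∈ z2 Fz) : (Φ.S : Subgroup G) ≤ lay N := by
  haveI : Fact (Nat.Prime 2) := ⟨Nat.prime_two⟩
  haveI : NeZero (2 ^ Φ.k) := ⟨by positivity⟩
  have htL := c.t_mem_lay hk i hu
  have hrefl : ∀ j, Φ.refl j ∈ N → Φ.refl j ∈ lay N := fun j hj =>
    c.mem_lay_of_involution hG hk htL hd hdq hdz hj (Φ.uu j) (Φ.refl_ne_one j) (Φ.refl_ne j) (Φ.refl_comm j)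
  have hW : (Φ.S : Subgroup G) ⊓ N ≤ lay N := by
    rintro x ⟨hxS, hxN⟩
    rw [SetLike.mem_coe, ← Φ.hom_range] at hxS
    obtain ⟨e | e, rfl⟩ := hxS
    · have h1 : Φ.hom (r e) = Φ.refl i * Φ.refl (i + e) := by rw [Φ.refl_mul_refl, add_sub_cancel_left]
      have h2 : Φ.refl (i + e) ∈ N := by
        have : Φ.refl i * Φ.hom (r e) ∈ N := mul_mem (hu ▸ c.uN) hxN
        rwa [h1, ← mul_assoc, Φ.uu i, one_mul] at this
      rw [h1]
      exact mul_mem (hrefl i (hu ▸ c.uN)) (hrefl _ h2)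
    · exact hrefl e hxN
  by_contra hne
  haveI : Group.IsNilpotent ↥(Φ.S : Subgroup G) := Φ.S.isPGroup'.isNilpotent
  have hlt : N.subgroupOf (Φ.S : Subgroup G) < ⊤ := lt_top_iff_ne_top.2 fun e =>
    hne fun x hx => hW ⟨hx, Subgroup.subgroupOf_eq_top.1 e hx⟩
  obtain ⟨s, hs, hs'⟩ := SetLike.exists_of_lt (Group.normalizerCondition_of_isNilpotent _ hlt)
  refine hs' ?_
  rw [Subgroup.mem_subgroupOf]
  have huS : u ∈ (Φ.S : Subgroup G) := hu ▸ Φ.refl_mem i
  have hsu : (s : G) * u * (s : G)⁻¹ ∈ lay N :=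
    hW ⟨Subgroup.mul_mem _ (Subgroup.mul_mem _ s.2 huS) (Subgroup.inv_mem _ s.2), ((Subgroup.mem_normalizer_iff.1 hs ⟨u, huS⟩).1 c.uN :)⟩
  have hfix := c.fixed_eq (z := (s : G) * u * (s : G)⁻¹) (lay_le N hsu)
    (by rw [conj_mul, c.uu, mul_one, mul_inv_cancel]) (fun e => c.u_ne (conj_eq_one_iff.1 e))
    (fun e => c.u_ne_t (by
      calc u = (s : G)⁻¹ * ((s : G) * u * (s : G)⁻¹) * s := by group
        _ = _ := by rw [e, mul_assoc, ← Φ.t_central _ s.2, inv_mul_cancel_left]))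
    (by
      have := (Commute.conj_iff (s : G)).2 c.tu
      rwa [show (s : G) * Φ.t * (s : G)⁻¹ = Φ.t by rw [Φ.t_central _ s.2, mul_inv_cancel_right]] at this)
    (fun x hx => (Subgroup.mem_centralizer_iff.1 hx.2.2 _ hsu).symm)
  obtain ⟨y, hy, hy1, -, -⟩ := c.y_mem
  exact c.norm_le (X := Fz ⊓ layCent N) (fun e => hy1 (Subgroup.mem_bot.1 (e ▸ hy))) le_rfl
    (mem_norm_of_conj fun x hx => hfix.le
      ⟨conj_fq c.prime (Φ.S_le s.2) hx.1, Subgroup.mem_centralizer_singleton_iff.2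
        ((Commute.conj_iff (s : G)).2 (c.D_commute hx)).eq⟩)

/-- every reflection inverts `|O : N ∩ O| |T|` elements of `O` -/
theorem card_inverted_refl (hS : (Φ.S : Subgroup G) ≤ lay N) (j : ZMod (2 ^ Φ.k)) :
    Nat.card {y : G // y ∈ Φ.O ∧ Φ.refl j * y * (Φ.refl j)⁻¹ = y⁻¹} =
      Nat.card ↥T * (N ⊓ Φ.O).relIndex Φ.O := by
  obtain ⟨w, hw⟩ : ∃ w, w = Φ.refl j := ⟨_, rfl⟩
  rw [← hw]
  have hwL : w ∈ lay N := hw ▸ hS (Φ.refl_mem j)
  have hwN : w ∈ N := lay_le N hwL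
  have hwC : w ∈ Subgroup.centralizer ({Φ.t} : Set G) := hw ▸ Φ.S_le (Φ.refl_mem j)
  have hwn : w ∈ Subgroup.normalizer (Φ.O : Set G) := c.hyp.mc.core_norm hwC
  have hfix := c.fixed_eq hwN (hw ▸ Φ.uu j) (hw ▸ Φ.refl_ne_one j) (hw ▸ Φ.refl_ne j) (hw ▸ Φ.refl_comm j)
    (fun x hx => (Subgroup.mem_centralizer_iff.1 hx.2.2 _ hwL).symm)
  have hle : Φ.O ⊓ Subgroup.centralizer ({w} : Set G) ≤ N ⊓ Φ.O := by
    rintro a ⟨ha, haw⟩
    obtain ⟨y, hy, hy1, -, -⟩ := c.y_mem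
    refine ⟨c.norm_le (X := Fz ⊓ layCent N) (fun e => hy1 (Subgroup.mem_bot.1 (e ▸ hy))) le_rfl
      (mem_norm_of_conj fun x hx => hfix.le
        ⟨conj_fq c.prime (c.hyp.mc.core_le ha) hx.1, Subgroup.mem_centralizer_singleton_iff.2 ?_⟩), ha⟩
    have h1 := (Commute.conj_iff a).2
      (show Commute x w from (Subgroup.mem_centralizer_iff.1 hx.2.2 _ hwL).symm)
    rw [show a * w * a⁻¹ = w by
      rw [(show Commute a w from Subgroup.mem_centralizer_singleton_iff.1 haw).eq, mul_inv_cancel_right]] at h1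
    exact h1.eq
  have heq : Φ.O ⊓ Subgroup.centralizer ({w} : Set G) = (N ⊓ Φ.O) ⊓ Subgroup.centralizer ({w} : Set G) :=
    le_antisymm (le_inf hle inf_le_right) (inf_le_inf_right _ inf_le_right)
  have hword : orderOf w = 2 := hw ▸ Φ.refl_order j
  rw [← Fusion.card_inverted hword hwn c.hyp.mc.core_odd,
    ← Subgroup.relIndex_mul_relIndex _ _ _ hle inf_le_right]
  congr 1
  rw [heq, Fusion.card_inverted hword
    (Subgroup.inf_normalizer_le_normalizer_inf ⟨Subgroup.le_normalizer hwN, hwn⟩)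
    (c.hyp.mc.core_odd.of_dvd_nat (Subgroup.card_dvd_of_le inf_le_right))]
  refine Nat.card_congr (Equiv.subtypeEquivRight fun x => ⟨?_, fun hx => ?_⟩)
  · rintro ⟨⟨hxN, hxO⟩, hxi⟩
    obtain ⟨k, hk⟩ := c.hyp.mc.core_orderOf hxO
    have hsq : x * x ∈ lay N := by
      have h1 : x * (w * x⁻¹ * w⁻¹) ∈ lay N := by
        rw [show x * (w * x⁻¹ * w⁻¹) = (x * w * x⁻¹) * w⁻¹ by group]
        exact mul_mem ((Subgroup.mem_normalizer_iff.1 (lay_norm N hxN) w).1 hwL) (inv_mem hwL)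
      rwa [← conj_inv, hxi, inv_inv] at h1
    have hxL : x ∈ lay N := by
      rw [show x = (x * x) ^ (k + 1) by
        rw [← pow_two, ← pow_mul, show 2 * (k + 1) = orderOf x + 1 by omega, pow_succ, pow_orderOf_eq_one, one_mul]]
      exact pow_mem hsq _
    obtain ⟨r, hr, hrc⟩ := c.torus.1.2 x ⟨hxL, hxO⟩
    obtain ⟨e, he⟩ : ∃ e, e = r⁻¹ * x := ⟨_, rfl⟩
    rw [← he] at hrc
    have hri : w * r * w⁻¹ = r⁻¹ :=
      c.torus.2.1 w hwN (hw ▸ Φ.uu j) (hw ▸ Φ.refl_ne_one j) (hw ▸ Φ.refl_ne j) (hw ▸ Φ.refl_comm j) r hr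
    have hwe : w * e * w⁻¹ = e := by rw [Subgroup.mem_centralizer_iff.1 hrc w hwL, mul_inv_cancel_right]
    have hre : Commute r e := Subgroup.mem_centralizer_iff.1 hrc r (c.facts.T_le hr).1
    rw [show x = r * e by rw [he, mul_inv_cancel_left], show w * (r * e) * w⁻¹ = (w * r * w⁻¹) * (w * e * w⁻¹) by
      group, hri, hwe, mul_inv_rev, ← hre.inv_inv.eq] at hxi
    have he2 : e * e = 1 := by
      nth_rewrite 1 [mul_left_cancel hxi]
      exact inv_mul_cancel e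
    have he1 : e = 1 := by
      obtain ⟨i, hi⟩ : Odd (orderOf e) := c.hyp.mc.core_orderOf (he ▸ mul_mem (inv_mem (c.facts.T_le hr).2) hxO)
      have := pow_orderOf_eq_one e
      rwa [hi, pow_succ, pow_mul, pow_two, he2, one_pow, one_mul] at this
    rw [he, inv_mul_eq_one] at he1
    exact he1 ▸ hr
  · exact ⟨⟨lay_le N (c.facts.T_le hx).1, (c.facts.T_le hx).2⟩,
      c.torus.2.1 w hwN (hw ▸ Φ.uu j) (hw ▸ Φ.refl_ne_one j) (hw ▸ Φ.refl_ne j) (hw ▸ Φ.refl_comm j) x hx⟩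

end QCfg

end Cfsg.Agent.GW
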