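import Cfsg.Agent.Lib.GW.MaxQCfg

/-!
# The second centre of `O_q(C(t))` and a reflection fixing a part of `O_q(C(t))`

The splitting of a group of odd order under an involution, the second centre of a core, the elements of order `q` of
`D` and: if `u` fixes nothing of the second centre, no nontrivial element of `D` centralises the second centre.
-/

set_option autoImplicit false
set_option linter.unusedSectionVars false
set_option linter.style.haveILetI false

namespace Cfsg.Agent.GW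

open Cfsg Cfsg.Agent
open scoped commutatorElement

universe w

variable {G : Type w} [Group G] [Finite G]

/-- the second centre of a subgroup -/
def z2 (F : Subgroup G) : Subgroup G where
  carrier := {x | x ∈ F ∧ ∀ f ∈ F, ∀ g ∈ F, Commute ⁅x, f⁆ g}
  one_mem' := ⟨one_mem F, fun f _ g _ => by rw [commutatorElement_one_left]; exact Commute.one_left g⟩
  mul_mem' := fun {x y} hx hy => ⟨mul_mem hx.1 hy.1, fun f hf g hg => by
    have e : ⁅x * y, f⁆ = x * ⁅y, f⁆ * x⁻¹ * ⁅x, f⁆ := by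
      rw [commutatorElement_def, commutatorElement_def, commutatorElement_def]
      group
    rw [e, (hy.2 f hf x hx.1).symm.eq, mul_inv_cancel_right]
    exact (hy.2 f hf g hg).mul_left (hx.2 f hf g hg)⟩
  inv_mem' := fun {x} hx => ⟨inv_mem hx.1, fun f hf g hg => by
    rw [show ⁅x⁻¹, f⁆ = x⁻¹ * ⁅x, f⁆⁻¹ * x by (rw [commutatorElement_def, commutatorElement_def]; group), mul_assoc,
      (hx.2 f hf x hx.1).inv_left.eq, inv_mul_cancel_left]
    exact (hx.2 f hf g hg).inv_left⟩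

theorem z2_le (F : Subgroup G) : z2 F ≤ F := fun _ hx => hx.1

theorem z2_conj {F : Subgroup G} {g : G} (hg : g ∈ Subgroup.normalizer (F : Set G)) {x : G} (hx : x ∈ z2 F) :
    g * x * g⁻¹ ∈ z2 F := by
  refine ⟨(Subgroup.mem_normalizer_iff.1 hg x).1 hx.1, fun f hf h hh => ?_⟩
  have hback : ∀ {z : G}, z ∈ F → g⁻¹ * z * g ∈ F := fun {z} hz => by
    have := (Subgroup.mem_normalizer_iff.1 (inv_mem hg) z).1 hz
    rwa [inv_inv] at this
  have h1 := (Commute.conj_iff g).2 (hx.2 _ (hback hf) _ (hback hh))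
  rwa [show g * ⁅x, g⁻¹ * f * g⁆ * g⁻¹ = ⁅g * x * g⁻¹, f⁆ by (rw [commutatorElement_def, commutatorElement_def]; group),
    show g * (g⁻¹ * h * g) * g⁻¹ = h by group] at h1

/-- a nonabelian group of prime power order has a noncentral element in its second centre -/
theorem exists_z2_noncentral {p : ℕ} [Fact p.Prime] {F : Subgroup G} (hF : IsPGroup p ↥F) {a b : G} (ha : a ∈ F)
    (hb : b ∈ F) (hab : ¬ Commute a b) : ∃ x ∈ z2 F, ∃ f ∈ F, ¬ Commute x f := by
  haveI : Nontrivial (↥F ⧸ Subgroup.center ↥F) := QuotientGroup.nontrivial_iff.2 fun h => hab (by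
    have h1 := Subgroup.mem_center_iff.1 (h.ge (Subgroup.mem_top (⟨b, hb⟩ : ↥F))) ⟨a, ha⟩
    exact congrArg Subtype.val h1)
  haveI := (hF.to_quotient (Subgroup.center ↥F)).center_nontrivial
  obtain ⟨z, hz⟩ := exists_ne (1 : Subgroup.center (↥F ⧸ Subgroup.center ↥F))
  obtain ⟨x, hx⟩ := QuotientGroup.mk'_surjective (Subgroup.center ↥F) (z : ↥F ⧸ Subgroup.center ↥F)
  have hxc : x ∉ Subgroup.center ↥F := fun h => hz (Subtype.ext (hx.symm.trans ((QuotientGroup.eq_one_iff x).2 h)))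
  refine ⟨(x : G), ⟨x.2, fun f hf g hg => ?_⟩, ?_⟩
  · have h1 : ⁅x, (⟨f, hf⟩ : ↥F)⁆ ∈ Subgroup.center ↥F := by
      refine (QuotientGroup.eq_one_iff _).1 ?_
      show QuotientGroup.mk' (Subgroup.center ↥F) ⁅x, ⟨f, hf⟩⁆ = 1
      rw [map_commutatorElement, hx]
      exact commutatorElement_eq_one_iff_mul_comm.2
        (Subgroup.mem_center_iff.1 z.2 (QuotientGroup.mk' (Subgroup.center ↥F) ⟨f, hf⟩)).symm
    exact (congrArg Subtype.val (Subgroup.mem_center_iff.1 h1 ⟨g, hg⟩)).symm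
  · by_contra h
    push Not at h
    exact hxc (Subgroup.mem_center_iff.2 fun g => Subtype.ext (h g g.2).eq.symm)

/-- an element of a group of odd order is a fixed element times one inverted by the involution -/
theorem exists_split {F : Subgroup G} (hF : Odd (Nat.card ↥F)) {u : G} (hu : u * u = 1)
    (huF : u ∈ Subgroup.normalizer (F : Set G)) {f : G} (hf : f ∈ F) :
    ∃ i ∈ F, i ∈ Subgroup.zpowers (u * f⁻¹ * u⁻¹ * f) ∧ u * i * u⁻¹ = i⁻¹ ∧
      ∃ d ∈ F, Commute d u ∧ f = d * i := by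
  obtain ⟨e, he⟩ : ∃ e, e = u * f⁻¹ * u⁻¹ * f := ⟨_, rfl⟩
  have huinv : u⁻¹ = u := inv_eq_of_mul_eq_one_right hu
  have heF : e ∈ F := he ▸ mul_mem ((Subgroup.mem_normalizer_iff.1 huF _).1 (inv_mem hf)) hf
  have hei : u * e * u⁻¹ = e⁻¹ := by
    calc u * e * u⁻¹ = (u * u) * f⁻¹ * (u⁻¹ * f * u⁻¹) := by rw [he]; group
      _ = f⁻¹ * (u * f * u⁻¹) := by rw [hu, one_mul, huinv]
      _ = _ := by rw [he]; group
  obtain ⟨k, hk⟩ := hF.of_dvd_nat (Subgroup.orderOf_dvd_natCard F heF)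
  obtain ⟨i, hi⟩ : ∃ i, i = e ^ (k + 1) := ⟨_, rfl⟩
  have hii : i * i = e := by
    rw [hi, ← pow_add, show k + 1 + (k + 1) = orderOf e + 1 by omega, pow_succ, pow_orderOf_eq_one, one_mul]
  have hiF : i ∈ F := hi ▸ pow_mem heF _
  have hinv : u * i * u⁻¹ = i⁻¹ := by rw [hi, ← conj_pow, hei, inv_pow]
  refine ⟨i, hiF, he ▸ hi ▸ pow_mem (Subgroup.mem_zpowers e) _, hinv, f * i⁻¹, mul_mem hf (inv_mem hiF), ?_,
    (inv_mul_cancel_right f i).symm⟩
  have h2 : u * (f * i⁻¹) * u⁻¹ = f * i⁻¹ := by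
    rw [show u * (f * i⁻¹) * u⁻¹ = (u * f * u⁻¹) * (u * i * u⁻¹)⁻¹ by group, hinv, inv_inv,
      show u * f * u⁻¹ = f * e⁻¹ by rw [he]; group, ← hii]
    group
  exact (mul_inv_eq_iff_eq_mul.1 h2).symm

/-- the inverting part commutes with what `u` inverts in a subgroup normalised by `f` -/
theorem split_commute {W : Subgroup G} {u : G} (huW : ∀ x ∈ W, u * x * u⁻¹ = x⁻¹) {f : G}
    (hfW : ∀ x ∈ W, f * x * f⁻¹ ∈ W) {x : G} (hx : x ∈ W) {i : G}
    (hi : i ∈ Subgroup.zpowers (u * f⁻¹ * u⁻¹ * f)) : Commute i x := by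
  have h1 : u⁻¹ * (f * x * f⁻¹) * u = (f * x * f⁻¹)⁻¹ := by
    have h := huW _ (W.inv_mem (hfW x hx))
    rw [inv_inv] at h
    nth_rewrite 1 [← h]
    group
  have h2 : (u * f⁻¹ * u⁻¹ * f) * x * (u * f⁻¹ * u⁻¹ * f)⁻¹ = x := by
    calc (u * f⁻¹ * u⁻¹ * f) * x * (u * f⁻¹ * u⁻¹ * f)⁻¹
        = u * (f⁻¹ * (u⁻¹ * (f * x * f⁻¹) * u) * f) * u⁻¹ := by group
      _ = u * (f⁻¹ * (f * x * f⁻¹)⁻¹ * f) * u⁻¹ := by rw [h1]
      _ = u * x⁻¹ * u⁻¹ := by group
      _ = _ := by rw [← conj_inv, huW x hx, inv_inv]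
  obtain ⟨n, rfl⟩ := Subgroup.mem_zpowers_iff.1 hi
  exact ((show Commute (u * f⁻¹ * u⁻¹ * f) x from mul_inv_eq_iff_eq_mul.1 h2)).zpow_left n

namespace QCfg

variable [IsSimpleGroup G] {t u : G} {O N : Subgroup G} {v : G} {T : Subgroup G} {q : ℕ}

set_option quotPrecheck false in
local notation "Cz" => Subgroup.centralizer ({t} : Set G)

set_option quotPrecheck false in
local notation "Fq" => fq q (Subgroup.centralizer ({t} : Set G))

variable (c : QCfg t u O q N v T)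
include c

theorem F_odd : Odd (Nat.card ↥Fq) :=
  c.hyp.mc.core_odd.of_dvd_nat (Subgroup.card_dvd_of_le (c.hyp.mc.fq_odd_le_core c.prime c.odd))

theorem u_norm : u ∈ Subgroup.normalizer (Fq : Set G) := fq_le_norm q c.prime _ c.uC

/-- `O_q(C)` is not abelian -/
theorem not_comm : ∃ a ∈ Fq, ∃ b ∈ Fq, ¬ Commute a b := by
  by_contra h
  push Not at h
  exact c.F_not_le fun f hf => c.A_self f hf fun a ha _ => h f hf a ha

/-- a generator of the elements of order `q` of `D` -/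
theorem exists_d1 : ∃ d ∈ Fq ⊓ layCent N, orderOf d = q ∧
    ∀ x ∈ Fq ⊓ layCent N, x ≠ 1 → d ∈ Subgroup.zpowers x := by
  haveI := Fact.mk c.prime
  obtain ⟨y, hyD, hy1, -, -⟩ := c.y_mem
  obtain ⟨D, hD⟩ : ∃ D, D = Fq ⊓ layCent N := ⟨_, rfl⟩
  have hDp : IsPGroup q ↥D := (fq_isPGroup q Cz).to_le (hD ▸ inf_le_left)
  have hDc : IsCyclic ↥D := hD ▸ c.D_cyclic
  have hcom : ∀ a ∈ D, ∀ b ∈ D, a * b = b * a := fun a ha b hb =>
    (c.A_comm (hD.le ha).1 (hD.le ha).2.1 (hD.le hb).1 (hD.le hb).2.1).eq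
  have hord : ∀ x ∈ om q D, x ≠ 1 → orderOf x = q := fun x hx hx1 =>
    orderOf_eq_prime ((mem_om hcom).1 hx).2 hx1
  obtain ⟨⟨d, hd⟩, hd1⟩ := Subgroup.ne_bot_iff_exists_ne_one.1
    (om_ne_bot hDp fun e => hy1 (Subgroup.mem_bot.1 (e ▸ hD.ge hyD)))
  have hd1' : d ≠ 1 := fun e => hd1 (Subtype.ext e)
  refine ⟨d, hD.le ((mem_om hcom).1 hd).1, hord d hd hd1', fun x hx hx1 => ?_⟩
  obtain ⟨k, hk⟩ := IsPGroup.iff_orderOf.1 hDp ⟨x, hD.ge hx⟩
  rw [Subgroup.orderOf_mk] at hk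
  obtain ⟨j, rfl⟩ : ∃ j, k = j + 1 := by
    rcases k with _ | j
    · exact absurd (orderOf_eq_one_iff.1 (hk.trans (pow_zero q))) hx1
    · exact ⟨j, rfl⟩
  have ho : orderOf (x ^ q ^ j) = q := by
    rw [orderOf_pow_of_dvd (pow_ne_zero _ c.prime.ne_zero) (hk ▸ pow_dvd_pow q (Nat.le_succ j)), hk, pow_succ,
      Nat.mul_div_cancel_left _ (pow_pos c.prime.pos _)]
  have hle : Subgroup.zpowers (x ^ q ^ j) ≤ om q D := Subgroup.zpowers_le.2 ((mem_om hcom).2
    ⟨pow_mem (hD.ge hx) _, by rw [← pow_mul, ← pow_succ, ← hk, pow_orderOf_eq_one]⟩)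
  have heq := Subgroup.eq_of_le_of_card_ge hle (by rw [Nat.card_zpowers, ho]; exact om_cyclic_card hDc le_rfl)
  exact Subgroup.zpowers_le.2 (pow_mem (Subgroup.mem_zpowers x) _) (heq.ge hd)

/-- if `u` fixes nothing of the second centre, nothing of `D` centralises it -/
theorem no_central_z2 (hu : ∀ x ∈ z2 Fq, Commute x u → x = 1) {d : G} (hd : d ∈ Fq ⊓ layCent N) (hd1 : d ≠ 1)
    (hdz : ∀ x ∈ z2 Fq, Commute d x) : False := by
  haveI := Fact.mk c.prime
  have hfix := c.fixed_eq c.v_mem c.facts.v_sq c.facts.v_ne c.facts.v_ne_t c.facts.v_comm fun x hx =>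
    (Subgroup.mem_centralizer_iff.1 hx.2.2 v c.facts.v_mem).symm
  have hinvu := inverts c.uu (W := z2 Fq) (mem_norm_of_conj fun x hx => z2_conj c.u_norm hx) hu
  have hinvv : ∀ x ∈ z2 Fq, v * x * v⁻¹ = x⁻¹ := inverts c.facts.v_sq
    (mem_norm_of_conj fun x hx => z2_conj (fq_le_norm q c.prime _ c.vC) hx) fun x hx hxv =>
      hu x hx (c.D_commute (hfix.le ⟨hx.1, Subgroup.mem_centralizer_singleton_iff.2 hxv.eq⟩))
  have hT : ∀ x ∈ z2 Fq, x ∈ T := by
    intro x hx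
    have hxN : x ∈ N := c.cent_mem hd hd1 (hdz x hx).symm
    obtain ⟨r, hr, hrF, -, e, -, -, he, rfl⟩ := c.hyp.mc.decomp_part c.facts c.prime c.odd hx.1 hxN
    have hre : Commute r e := Subgroup.mem_centralizer_iff.1 he r (c.facts.T_le hr).1
    have h1 := hinvv _ hx
    rw [show v * (r * e) * v⁻¹ = (v * r * v⁻¹) * (v * e * v⁻¹) by group,
      c.torus.2.1 v c.v_mem c.facts.v_sq c.facts.v_ne c.facts.v_ne_t c.facts.v_comm r hr,
      Subgroup.mem_centralizer_iff.1 he v c.facts.v_mem, mul_inv_cancel_right, mul_inv_rev, ← hre.inv_inv.eq] at h1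
    have he2 : e * e = 1 := by
      nth_rewrite 2 [mul_left_cancel h1]
      exact mul_inv_cancel e
    have he1 : e = 1 := by
      obtain ⟨k, hk⟩ := c.F_odd.of_dvd_nat (Subgroup.orderOf_dvd_natCard Fq (x := e) (by
        rw [show e = r⁻¹ * (r * e) by group]
        exact Subgroup.mul_mem _ (Subgroup.inv_mem _ hrF) hx.1))
      have := pow_orderOf_eq_one e
      rwa [hk, pow_succ, pow_mul, pow_two, he2, one_pow, one_mul] at this
    rwa [he1, mul_one]
  obtain ⟨a, ha, b, hb, hab⟩ := c.not_comm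
  obtain ⟨x, hx, f, hf, hxf⟩ := exists_z2_noncentral (fq_isPGroup q Cz) ha hb hab
  refine hxf ?_
  obtain ⟨i, -, hi, -, e, heF, heu, rfl⟩ := exists_split c.F_odd c.uu c.u_norm hf
  have hix := split_commute hinvu (fun w hw => z2_conj (Subgroup.le_normalizer hf) hw) hx hi
  exact Commute.mul_right
    (Subgroup.mem_centralizer_iff.1 (c.mem_D_of_commute heF heu).2.2 x (c.facts.T_le (hT x hx)).1)
    hix.symm

end QCfg

end Cfsg.Agent.GW
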