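import Cfsg.Agent.Lib.GW.MaxTrick
import Cfsg.Agent.Lib.Solv.ClassLower.Abelian

/-!
# Layers over a maximal centraliser: the decomposition `F = D × R`

If a maximal subgroup `N` with a layer contains every odd core `O_p(C)`, these are abelian, `O_p(C) = R_p × D_p` with
`R_p` in the torus and `D_p` centralising the layer and cyclic.
-/

set_option autoImplicit false
set_option linter.unusedSectionVars false
set_option linter.style.haveILetI false

namespace Cfsg.Agent.GW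

open Cfsg Cfsg.Agent
open scoped commutatorElement

universe w

variable {G : Type w} [Group G] [Finite G]

/-- the elements `x` of an abelian subgroup with `x ^ p = 1` -/
def om (p : ℕ) (A : Subgroup G) : Subgroup G := Subgroup.closure {x : G | x ∈ A ∧ x ^ p = 1}

theorem mem_om {p : ℕ} {A : Subgroup G} (hA : ∀ a ∈ A, ∀ b ∈ A, a * b = b * a) {x : G} :
    x ∈ om p A ↔ x ∈ A ∧ x ^ p = 1 := by
  refine ⟨fun hx => ?_, fun hx => Subgroup.subset_closure hx⟩
  induction hx using Subgroup.closure_induction with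
  | mem y hy => exact hy
  | one => exact ⟨A.one_mem, one_pow p⟩
  | mul y z _ _ ihy ihz =>
    exact ⟨A.mul_mem ihy.1 ihz.1, by
      rw [(show Commute y z from hA y ihy.1 z ihz.1).mul_pow, ihy.2, ihz.2, one_mul]⟩
  | inv y _ ih => exact ⟨A.inv_mem ih.1, by rw [inv_pow, ih.2, inv_one]⟩

theorem om_le (p : ℕ) (A : Subgroup G) : om p A ≤ A := (Subgroup.closure_le A).2 fun _ h => h.1

theorem om_ne_bot {p : ℕ} [Fact p.Prime] {A : Subgroup G} (hA : IsPGroup p ↥A) (hne : A ≠ ⊥) : om p A ≠ ⊥ := by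
  haveI : Nontrivial ↥A := (Subgroup.nontrivial_iff_ne_bot _).2 hne
  obtain ⟨j, hj, hj'⟩ := (IsPGroup.nontrivial_iff_card hA).1 inferInstance
  obtain ⟨x, hx⟩ := exists_prime_orderOf_dvd_card' p (hj' ▸ dvd_pow_self p hj.ne')
  intro he
  have hm : (x : G) ∈ om p A := Subgroup.subset_closure ⟨x.2, by
    rw [← hx, Subgroup.orderOf_coe x |>.symm]; exact pow_orderOf_eq_one _⟩
  rw [he, Subgroup.mem_bot] at hm
  have h1 : x = 1 := Subtype.ext hm
  rw [h1, orderOf_one] at hx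
  exact (Fact.out : p.Prime).one_lt.ne hx

theorem om_cyclic_card {p : ℕ} [hp : Fact p.Prime] {T : Subgroup G} (hT : IsCyclic ↥T) {A : Subgroup G}
    (hAT : A ≤ T) : Nat.card ↥(om p A) ≤ p := by
  classical
  haveI := hT
  haveI : Fintype ↥T := Fintype.ofFinite _
  have hA : ∀ a ∈ A, ∀ b ∈ A, a * b = b * a := fun a ha b hb =>
    congrArg Subtype.val ((IsCyclic.commGroup (α := ↥T)).mul_comm ⟨a, hAT ha⟩ ⟨b, hAT hb⟩)
  refine (Nat.card_le_card_of_injective (β := {x : ↥T // x ^ p = 1})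
    (fun x => ⟨⟨x.1, hAT ((mem_om hA).1 x.2).1⟩, Subtype.ext ((mem_om hA).1 x.2).2⟩)
    fun x y e => Subtype.ext (congrArg (fun z : {x : ↥T // x ^ p = 1} => (z.1 : G)) e)).trans ?_
  rw [Nat.card_eq_fintype_card, Fintype.card_subtype]
  exact IsCyclic.card_pow_eq_one_le hp.out.pos

variable [IsSimpleGroup G]

/-- The data of the counting argument: `N` contains the odd cores, has a layer with reflection `v`, and contains the
normalizer of the part of `O_q(C)` centralised by `v`; the centraliser of its layer lies in `C`. -/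
structure Cfg (t : G) (O N : Subgroup G) (v : G) (T : Subgroup G) (q : ℕ) : Prop where
  mc : MaxCent t O
  rot : Rotates t
  layer : MaxLayer t O
  nonab : ¬ IsMulCommutative G
  coatom : IsCoatom N
  tN : t ∈ N
  layer_ne : Cfsg.layer ↥N ≠ ⊥
  cores_le : ∀ s : ℕ, s.Prime → s ≠ 2 → fq s (Subgroup.centralizer ({t} : Set G)) ≤ N
  facts : LayerFacts t O N v T
  prime : q.Prime
  odd : q ≠ 2
  D_ne : fq q (Subgroup.centralizer ({t} : Set G)) ⊓ Subgroup.centralizer ({v} : Set G) ≠ ⊥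
  D_norm : Subgroup.normalizer
    ((fq q (Subgroup.centralizer ({t} : Set G)) ⊓ Subgroup.centralizer ({v} : Set G) : Subgroup G) : Set G) ≤ N
  cent_le : layCent N ≤ Subgroup.centralizer ({t} : Set G)

variable {t : G} {O N : Subgroup G} {v : G} {T : Subgroup G}

set_option quotPrecheck false in
local notation "Cz" => Subgroup.centralizer ({t} : Set G)

/-- nothing nontrivial normal in `C` is centralised by a layer -/
theorem MaxCent.no_fixed_normal (h : MaxCent t O) {L : Subgroup G} {v : G} (hL : LSub t L v) {Y : Subgroup G}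
    (hY : Y ≠ ⊥) (hYO : Y ≤ O) (hn : Cz ≤ Subgroup.normalizer (Y : Set G))
    (hLY : L ≤ Subgroup.centralizer (Y : Set G)) : False :=
  hL.not_le (h.normalizer_eq hY hYO hn ▸ hLY.trans (Subgroup.centralizer_le_normalizer _))

/-- the odd cores are abelian -/
theorem MaxCent.fq_comm (h : MaxCent t O) (htN : t ∈ N) (hl : Cfsg.layer ↥N ≠ ⊥) (f : LayerFacts t O N v T)
    {p : ℕ} (hp : p.Prime) (hp2 : p ≠ 2) (hpN : fq p Cz ≤ N) :
    ∀ a ∈ fq p Cz, ∀ b ∈ fq p Cz, a * b = b * a := by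
  haveI := f.T_cyclic
  have hLS := h.lsub htN hl f
  have hY0 : ⁅fq p Cz, fq p Cz⁆ ≤ Subgroup.centralizer (lay N : Set G) := by
    rw [Subgroup.commutator_le]
    intro a ha b hb
    obtain ⟨r, hr, d, hd, rfl⟩ := h.decomp f hp hp2 hpN ha
    obtain ⟨r', hr', d', hd', rfl⟩ := h.decomp f hp hp2 hpN hb
    have hrl : r ∈ lay N := (f.T_le hr.2).1
    have hr'l : r' ∈ lay N := (f.T_le hr'.2).1
    have c1 : Commute r r' := congrArg Subtype.val ((IsCyclic.commGroup (α := ↥T)).mul_comm ⟨r, hr.2⟩ ⟨r', hr'.2⟩)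
    have c2 : Commute r d' := Subgroup.mem_centralizer_iff.1 hd'.2 r hrl
    have c3 : Commute r' d := Subgroup.mem_centralizer_iff.1 hd.2 r' hr'l
    have e : ⁅r * d, r' * d'⁆ = ⁅d, d'⁆ := by
      have e1 : r * d * (r' * d') = r * r' * (d * d') := c3.symm.mul_mul_mul_comm _ _
      have e2 : r' * d' * (r * d) = r * r' * (d' * d) := by
        rw [c2.symm.mul_mul_mul_comm, c1.eq]
      have hcd : Commute (r * r') (d * d' * (d' * d)⁻¹) := by
        have hx : d * d' * (d' * d)⁻¹ ∈ Subgroup.centralizer (lay N : Set G) :=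
          mul_mem (mul_mem hd.2 hd'.2) (inv_mem (mul_mem hd'.2 hd.2))
        exact Subgroup.mem_centralizer_iff.1 hx _ (mul_mem hrl hr'l)
      calc ⁅r * d, r' * d'⁆ = r * d * (r' * d') * (r' * d' * (r * d))⁻¹ := by rw [commutatorElement_def]; group
        _ = r * r' * (d * d' * (d' * d)⁻¹) * (r * r')⁻¹ := by rw [e1, e2]; group
        _ = d * d' * (d' * d)⁻¹ := by rw [hcd.eq, mul_inv_cancel_right]
        _ = _ := by rw [commutatorElement_def]; group
    rw [e, commutatorElement_def]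
    exact mul_mem (mul_mem (mul_mem hd.2 hd'.2) (inv_mem hd.2)) (inv_mem hd'.2)
  intro a ha b hb
  rw [← commutatorElement_eq_one_iff_mul_comm]
  by_contra hne
  refine h.no_fixed_normal hLS (Y := ⁅fq p Cz, fq p Cz⁆) ?_ ?_ ?_ (Subgroup.le_centralizer_iff.1 hY0)
  · exact fun he => hne (Subgroup.mem_bot.1 (he ▸ Subgroup.commutator_mem_commutator ha hb))
  · refine le_trans (Subgroup.commutator_le.2 fun x hx y hy => ?_) (h.fq_le_core hp hp2)
    rw [commutatorElement_def]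
    exact mul_mem (mul_mem (mul_mem hx hy) (inv_mem hx)) (inv_mem hy)
  · intro c hc
    have hmap : (fq p Cz).map (MulAut.conj c).toMonoidHom = fq p Cz :=
      le_antisymm (by rintro _ ⟨x, hx, rfl⟩; exact conj_fq hp hc hx)
        fun x hx => ⟨c⁻¹ * x * c⁻¹⁻¹, conj_fq hp (inv_mem hc) hx, by
          show c * (c⁻¹ * x * c⁻¹⁻¹) * c⁻¹ = x
          group⟩
    refine mem_norm_of_conj fun x hx => ?_
    have h' : (⁅fq p Cz, fq p Cz⁆).map (MulAut.conj c).toMonoidHom = ⁅fq p Cz, fq p Cz⁆ := by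
      rw [Subgroup.map_commutator, hmap]
    exact h' ▸ ⟨x, hx, rfl⟩

variable {q : ℕ}

theorem Cfg.comm (c : Cfg t O N v T q) {p : ℕ} (hp : p.Prime) (hp2 : p ≠ 2) :
    ∀ a ∈ fq p Cz, ∀ b ∈ fq p Cz, a * b = b * a :=
  c.mc.fq_comm c.tN c.layer_ne c.facts hp hp2 (c.cores_le p hp hp2)

theorem Cfg.lsub (c : Cfg t O N v T q) : LSub t (lay N) v := c.mc.lsub c.tN c.layer_ne c.facts

theorem Cfg.fixed (c : Cfg t O N v T q) {p : ℕ} (hp : p.Prime) (hp2 : p ≠ 2) :
    fq p Cz ⊓ Subgroup.centralizer ({v} : Set G) = fq p Cz ⊓ Subgroup.centralizer (lay N : Set G) :=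
  c.mc.fixed_lay c.facts hp hp2 (c.cores_le p hp hp2)

theorem Cfg.decomp (c : Cfg t O N v T q) {p : ℕ} (hp : p.Prime) (hp2 : p ≠ 2) {a : G} (ha : a ∈ fq p Cz) :
    ∃ r ∈ fq p Cz ⊓ T, ∃ d ∈ fq p Cz ⊓ Subgroup.centralizer ({v} : Set G), a = r * d :=
  (c.fixed hp hp2).symm ▸ c.mc.decomp c.facts hp hp2 (c.cores_le p hp hp2) ha

/-- a nontrivial core meets the torus -/
theorem Cfg.R_ne (c : Cfg t O N v T q) {p : ℕ} (hp : p.Prime) (hp2 : p ≠ 2) (hne : fq p Cz ≠ ⊥) :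
    fq p Cz ⊓ T ≠ ⊥ := by
  intro h0
  refine c.mc.no_fixed_normal c.lsub hne (c.mc.fq_le_core hp hp2) (fq_le_norm p hp _)
    (Subgroup.le_centralizer_iff.1 fun a ha => ?_)
  obtain ⟨r, hr, d, hd, rfl⟩ := c.decomp hp hp2 ha
  rw [h0, Subgroup.mem_bot] at hr
  rw [hr, one_mul]
  exact ((c.fixed hp hp2).le hd).2

/-- the torus: `L ∩ O` modulo the centre of the layer, with its properties -/
theorem Cfg.torus (c : Cfg t O N v T q) :
    (N ⊓ Cz ≤ Subgroup.normalizer (T : Set G) ∧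
        ∀ l ∈ lay N ⊓ O, ∃ r ∈ T, r⁻¹ * l ∈ Subgroup.centralizer (lay N : Set G)) ∧
      (∀ z ∈ N, z * z = 1 → z ≠ 1 → z ≠ t → Commute z t → ∀ x ∈ T, z * x * z⁻¹ = x⁻¹) ∧
      (∀ T' : Subgroup G, T' ≤ lay N ⊓ O → ¬ T' ≤ Subgroup.centralizer (lay N : Set G) →
        N ⊓ Subgroup.normalizer (T' : Set G) ≤ Cz) ∧
      (∀ P : Sylow 2 G, (P : Subgroup G) ≤ N ⊓ Cz →
        (max (Nat.card ↥(P : Subgroup G) / 2) 4 * Nat.card ↥T - 1) *
            (max (Nat.card ↥(P : Subgroup G) / 2) 4 * Nat.card ↥T - 2) ≤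
          2 * (N ⊓ Cz).relIndex N) := by
  rcases c.facts.torus with h0 | ⟨z₀, hz₀L, hz₀, hz₀1, hz₀t, hz₀c, hz₀T⟩ | ⟨h1, h2, h3, h4⟩
  · obtain ⟨p, hp, hp2, hne⟩ := c.mc.odd_core_ne
    exact absurd (by rw [h0, inf_bot_eq])
      (c.R_ne hp hp2 fun e => hne ((Subgroup.map_eq_bot_iff_of_injective _ (Subgroup.subtype_injective _)).1 e))
  · refine (c.mc.no_central c.rot hz₀ hz₀1 hz₀t hz₀c.symm fun s hs hs2 a ha => ?_).elim
    obtain ⟨r, hr, d, hd, rfl⟩ := c.decomp hs hs2 ha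
    exact (hz₀T r hr.2).mul_right (Subgroup.mem_centralizer_iff.1 ((c.fixed hs hs2).le hd).2 z₀ hz₀L)
  · exact ⟨h1, h2, h3 c.cent_le, h4⟩

/-- an element of `C` carrying a nontrivial part of `D_p` into `D_p` normalises it -/
theorem Cfg.conj_mem (c : Cfg t O N v T q) {p : ℕ} (hp : p.Prime) (hp2 : p ≠ 2) {g : G} (hg : g ∈ Cz)
    {X : Subgroup G} (hX : X ≠ ⊥) (hXD : X ≤ fq p Cz ⊓ Subgroup.centralizer ({v} : Set G))
    (hXg : ∀ x ∈ X, g⁻¹ * x * g ∈ Subgroup.centralizer ({v} : Set G)) {x : G}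
    (hx : x ∈ fq p Cz ⊓ Subgroup.centralizer ({v} : Set G)) :
    g * x * g⁻¹ ∈ fq p Cz ⊓ Subgroup.centralizer ({v} : Set G) := by
  have hXF : X ≤ fq p Cz := hXD.trans inf_le_left
  have hne : Subgroup.normalizer (X : Set G) ≠ ⊤ := fun htop => by
    rcases (Subgroup.normalizer_eq_top_iff.1 htop).eq_bot_or_eq_top with he | he
    · exact hX he
    · exact c.mc.max.1 (top_le_iff.1 (he ▸ hXF.trans (fq_le p _)))
  obtain ⟨M, hM, hle⟩ := (eq_top_or_exists_le_coatom _).resolve_left hne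
  have hMF : ∀ s : ℕ, s.Prime → s ≠ 2 → fq s Cz ≤ M := fun s hs _ a ha =>
    hle <| Subgroup.centralizer_le_normalizer _ <| Subgroup.mem_centralizer_iff.2 fun y hy => by
      by_cases hsp : s = p
      · exact c.comm hp hp2 y (hXF hy) a (hsp ▸ ha)
      · exact (commute_fq hp hs (Ne.symm hsp) (hXF hy) ha).eq
  have hLX : lay N ≤ Subgroup.centralizer (X : Set G) :=
    Subgroup.le_centralizer_iff.1 fun y hy => ((c.fixed hp hp2).le (hXD hy)).2
  have hLX' : (lay N).map (MulAut.conj g).toMonoidHom ≤ Subgroup.centralizer (X : Set G) := by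
    refine Subgroup.le_centralizer_iff.1 fun y hy => Subgroup.mem_centralizer_iff.2 ?_
    rintro _ ⟨l, hl, rfl⟩
    have hy' : g⁻¹ * y * g ∈ fq p Cz ⊓ Subgroup.centralizer ({v} : Set G) :=
      ⟨by simpa using conj_fq hp (inv_mem hg) (hXF hy), hXg y hy⟩
    have h1 : Commute l (g⁻¹ * y * g) := Subgroup.mem_centralizer_iff.1 ((c.fixed hp hp2).le hy').2 l hl
    have := (Commute.conj_iff g).2 h1
    rwa [show g * (g⁻¹ * y * g) * g⁻¹ = y by group] at this
  obtain ⟨v₁, T₁, f₁, hle₁, htM, hlM⟩ := c.mc.trick c.nonab c.layer c.lsub hp hX hXF hLX hM hle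
  obtain ⟨v₂, T₂, f₂, hle₂, -, -⟩ := c.mc.trick c.nonab c.layer (c.lsub.conj hg) hp hX hXF hLX' hM hle
  have e1 := c.mc.fixed_sub c.rot f₁ hMF c.lsub hle₁ hp hp2
  have e2 := c.mc.fixed_sub c.rot f₂ hMF (c.lsub.conj hg) hle₂ hp hp2
  rw [e1, ← e2]
  refine ⟨conj_fq hp hg hx.1, Subgroup.mem_centralizer_singleton_iff.2 ?_⟩
  exact ((Commute.conj_iff g).2 (show Commute x v from Subgroup.mem_centralizer_singleton_iff.1 hx.2)).eq

/-- the elements of order `p` in `D_p` form a subgroup of order at most `p` -/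
theorem Cfg.line_card (c : Cfg t O N v T q) {p : ℕ} (hp : p.Prime) (hp2 : p ≠ 2) :
    Nat.card ↥(om p (fq p Cz ⊓ Subgroup.centralizer ({v} : Set G))) ≤ p := by
  haveI := Fact.mk hp
  obtain ⟨D, hD⟩ : ∃ D, D = fq p Cz ⊓ Subgroup.centralizer ({v} : Set G) := ⟨_, rfl⟩
  rw [← hD]
  have hab := c.comm hp hp2
  have hDle : D ≤ fq p Cz := hD ▸ inf_le_left
  have habD : ∀ a ∈ D, ∀ b ∈ D, a * b = b * a := fun a ha b hb => hab a (hDle ha) b (hDle hb)
  by_contra hgt
  rw [not_le] at hgt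
  have hD1 : D ≠ ⊥ := fun e => by
    have : om p D = ⊥ := le_bot_iff.1 ((om_le p D).trans e.le)
    rw [this, Subgroup.card_bot] at hgt
    exact Nat.not_lt.2 hp.pos hgt
  have hbound : Nat.card ↥(om p (fq p Cz)) ≤ Nat.card ↥(om p (fq p Cz ⊓ T)) * Nat.card ↥(om p D) := by
    rw [← Nat.card_prod]
    have hsur : ∀ x ∈ om p (fq p Cz), ∃ r ∈ om p (fq p Cz ⊓ T), ∃ d ∈ om p D, x = r * d := by
      intro x hx
      obtain ⟨hxA, hxp⟩ := (mem_om hab).1 hx
      obtain ⟨r, hr, d, hd, rfl⟩ := c.decomp hp hp2 hxA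
      have hrd : Commute r d := hab r hr.1 d hd.1
      rw [hrd.mul_pow] at hxp
      have hrp : r ^ p ∈ T ⊓ Subgroup.centralizer (lay N : Set G) := by
        refine ⟨pow_mem hr.2 p, ?_⟩
        rw [eq_inv_of_mul_eq_one_left hxp]
        exact (Subgroup.centralizer (lay N : Set G)).inv_mem (pow_mem ((c.fixed hp hp2).le hd).2 p)
      rw [c.facts.T_disj, Subgroup.mem_bot] at hrp
      rw [hrp, one_mul] at hxp
      exact ⟨r, Subgroup.subset_closure ⟨hr, hrp⟩, d, Subgroup.subset_closure ⟨hD ▸ hd, hxp⟩, rfl⟩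
    choose fr hfr fd hfd hfe using hsur
    exact Nat.card_le_card_of_injective
      (fun x : ↥(om p (fq p Cz)) => ((⟨fr x x.2, hfr x x.2⟩ : ↥(om p (fq p Cz ⊓ T))), (⟨fd x x.2, hfd x x.2⟩ : ↥(om p D))))
      fun x y e => by
        have e1 : fr x x.2 = fr y y.2 := congrArg (fun z => (z.1 : G)) e
        have e2 : fd x x.2 = fd y y.2 := congrArg (fun z => (z.2 : G)) e
        exact Subtype.ext (by rw [hfe x x.2, hfe y y.2, e1, e2])
  have hT : Nat.card ↥(om p (fq p Cz ⊓ T)) ≤ p := om_cyclic_card c.facts.T_cyclic inf_le_right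
  -- any two conjugates of the line meet
  have hmeet : ∀ g ∈ Cz, ∃ X : Subgroup G, X ≠ ⊥ ∧ X ≤ D ∧ ∀ x ∈ X, g⁻¹ * x * g ∈ D := by
    intro g hg
    refine ⟨om p D ⊓ (om p D).map (MulAut.conj g).toMonoidHom, ?_, inf_le_left.trans (om_le p D), ?_⟩
    · intro h0
      have hinj : Nat.card (↥(om p D) × ↥(om p D)) ≤ Nat.card ↥(om p (fq p Cz)) := by
        refine Nat.card_le_card_of_injective
          (fun z => ⟨z.1 * (g * (z.2 : G) * g⁻¹), ?_⟩) fun z z' e => ?_
        · refine mul_mem ?_ ?_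
          · exact Subgroup.subset_closure ⟨hDle (om_le p D z.1.2), ((mem_om habD).1 z.1.2).2⟩
          · exact Subgroup.subset_closure ⟨conj_fq hp hg (hDle (om_le p D z.2.2)), by
              rw [conj_pow, ((mem_om habD).1 z.2.2).2, mul_one, mul_inv_cancel]⟩
        · have e' : (z.1 : G) * (g * (z.2 : G) * g⁻¹) = (z'.1 : G) * (g * (z'.2 : G) * g⁻¹) :=
            congrArg Subtype.val e
          have hm : (z'.1 : G)⁻¹ * z.1 ∈ om p D ⊓ (om p D).map (MulAut.conj g).toMonoidHom :=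
            ⟨(om p D).mul_mem ((om p D).inv_mem z'.1.2) z.1.2, (z'.2 : G) * (z.2 : G)⁻¹, mul_mem z'.2.2 (inv_mem z.2.2), by
              show g * ((z'.2 : G) * (z.2 : G)⁻¹) * g⁻¹ = _
              calc g * ((z'.2 : G) * (z.2 : G)⁻¹) * g⁻¹
                  = (z'.1 : G)⁻¹ * ((z'.1 : G) * (g * (z'.2 : G) * g⁻¹)) * (g * (z.2 : G) * g⁻¹)⁻¹ := by group
                _ = _ := by rw [← e']; group⟩
          rw [h0, Subgroup.mem_bot, inv_mul_eq_one] at hm
          refine Prod.ext (Subtype.ext hm.symm) (Subtype.ext ?_)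
          rw [hm] at e'
          exact mul_left_cancel (mul_right_cancel (mul_left_cancel e'))
      rw [Nat.card_prod] at hinj
      have := Nat.le_of_mul_le_mul_right (hinj.trans (hbound.trans (Nat.mul_le_mul_right _ hT))) Nat.card_pos
      omega
    · rintro x ⟨-, y, hy, rfl⟩
      show g⁻¹ * (g * y * g⁻¹) * g ∈ D
      rw [show g⁻¹ * (g * y * g⁻¹) * g = y by group]
      exact om_le p D hy
  refine c.mc.no_fixed_normal c.lsub hD1 (hDle.trans (c.mc.fq_le_core hp hp2)) (fun g hg => ?_)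
    (Subgroup.le_centralizer_iff.1 fun a ha => ((c.fixed hp hp2).le (hD ▸ ha)).2)
  obtain ⟨X, hX, hXD, hXg⟩ := hmeet g hg
  subst hD
  exact mem_norm_of_conj fun x hx => c.conj_mem hp hp2 hg hX hXD (fun y hy => (hXg y hy).2) hx

/-- `D_p` is cyclic -/
theorem Cfg.D_cyclic (c : Cfg t O N v T q) {p : ℕ} (hp : p.Prime) (hp2 : p ≠ 2) :
    IsCyclic ↥(fq p Cz ⊓ Subgroup.centralizer ({v} : Set G) : Subgroup G) := by
  haveI := Fact.mk hp
  have hl := c.line_card hp hp2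
  obtain ⟨D, hD⟩ : ∃ D, D = fq p Cz ⊓ Subgroup.centralizer ({v} : Set G) := ⟨_, rfl⟩
  rw [← hD] at hl ⊢
  letI : CommGroup ↥D := { (inferInstance : Group ↥D) with
    mul_comm := fun a b => Subtype.ext (c.comm hp hp2 a (hD.le a.2).1 b (hD.le b.2).1) }
  refine Solv.ClassLower.isCyclic_of_torsion (p := p) ((fq_isPGroup p Cz).to_le (hD.le.trans inf_le_left))
    (le_trans ?_ hl)
  exact Nat.card_le_card_of_injective (fun x => ⟨(x.1 : G), Subgroup.subset_closure ⟨x.1.2, congrArg Subtype.val x.2⟩⟩)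
    fun x y e => Subtype.ext (Subtype.ext (congrArg (fun z : ↥(om p D) => (z : G)) e))

/-- `D_p` has exponent dividing `|T|` -/
theorem Cfg.D_pow (c : Cfg t O N v T q) {p : ℕ} (hp : p.Prime) (hp2 : p ≠ 2) {d : G}
    (hd : d ∈ fq p Cz ⊓ Subgroup.centralizer ({v} : Set G)) : d ^ Nat.card ↥T = 1 := by
  haveI := Fact.mk hp
  have hab := c.comm hp hp2
  by_contra hne
  obtain ⟨Y, hY⟩ : ∃ Y, Y = Subgroup.closure {x : G | ∃ a ∈ fq p Cz, a ^ Nat.card ↥T = x} := ⟨_, rfl⟩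
  refine c.mc.no_fixed_normal c.lsub (Y := Y) (fun e => hne (Subgroup.mem_bot.1 (e ▸ hY ▸
    Subgroup.subset_closure ⟨d, hd.1, rfl⟩))) ?_ ?_ ?_
  · rw [hY, Subgroup.closure_le]
    rintro _ ⟨a, ha, rfl⟩
    exact pow_mem (c.mc.fq_le_core hp hp2 ha) _
  · intro g hg
    refine mem_norm_of_conj fun x hx => ?_
    rw [hY] at hx ⊢
    induction hx using Subgroup.closure_induction with
    | mem y hy =>
      obtain ⟨a, ha, rfl⟩ := hy
      exact Subgroup.subset_closure ⟨g * a * g⁻¹, conj_fq hp hg ha, conj_pow⟩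
    | one => simp
    | mul y z _ _ ihy ihz => simpa [mul_assoc] using mul_mem ihy ihz
    | inv y _ ih => simpa [mul_assoc] using inv_mem ih
  · refine Subgroup.le_centralizer_iff.1 ?_
    rw [hY, Subgroup.closure_le]
    rintro _ ⟨a, ha, rfl⟩
    obtain ⟨r, hr, e, he, rfl⟩ := c.decomp hp hp2 ha
    rw [(show Commute r e from hab r hr.1 e he.1).mul_pow,
      show r ^ Nat.card ↥T = 1 from congrArg Subtype.val (pow_card_eq_one' (x := (⟨r, hr.2⟩ : ↥T))), one_mul]
    exact pow_mem ((c.fixed hp hp2).le he).2 _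

end Cfsg.Agent.GW
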