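import Cfsg.Agent.Lib.GW.LayerFacts

/-!
# The index of the simple subgroup in an almost simple group over `L₂(q)`
-/

set_option autoImplicit false
set_option linter.style.haveILetI false
set_option linter.unusedSectionVars false

namespace Cfsg.Agent.GW

open Cfsg Cfsg.Agent

universe u

/-- `|X : L|` divides `2 f`. -/
theorem index_dvd_out {X : Type u} [Group X] [Finite X] {L : Subgroup X} [L.Normal]
    (hC : Subgroup.centralizer (L : Set X) = ⊥) {F : Type} [Field F] [Fintype F] {p f : ℕ} [Fact p.Prime]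
    (hf : 0 < f) (hF : Fintype.card F = p ^ f) (h3 : 3 < Fintype.card F)
    (i : L ≃* Matrix.ProjectiveSpecialLinearGroup (Fin 2) F) : L.index ∣ 2 * f := by
  obtain ⟨φ, hφs, -, hφk⟩ := S2602.result (F := F) hf hF (by rw [← hF]; omega)
  let ψ : X →* Cfsg.Out (Matrix.ProjectiveSpecialLinearGroup (Fin 2) F) :=
    (QuotientGroup.mk' _).comp ((MulAut.congr i).toMonoidHom.comp MulAut.conjNormal)
  have hker : ψ.ker ≤ L := by
    intro x hx
    obtain ⟨y, hy⟩ := (QuotientGroup.eq_one_iff _).1 (MonoidHom.mem_ker.1 hx)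
    obtain ⟨w, rfl⟩ := i.surjective y
    have h1 : ((w : X))⁻¹ * x ∈ Subgroup.centralizer (L : Set X) := Subgroup.mem_centralizer_iff.2 fun b hb => by
      have := DFunLike.congr_fun hy (i ⟨b, hb⟩)
      simp [MulAut.congr] at this
      rw [← map_inv, ← map_mul, ← map_mul] at this
      have h := congrArg Subtype.val (i.injective this)
      simp at h
      calc b * ((w : X)⁻¹ * x) = (w : X)⁻¹ * ((w : X) * b * (w : X)⁻¹) * x := by group
        _ = (w : X)⁻¹ * (x * b * x⁻¹) * x := by rw [← h]
        _ = (w : X)⁻¹ * x * b := by group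
    rw [hC, Subgroup.mem_bot] at h1
    rw [← inv_mul_eq_one.1 h1]
    exact w.2
  refine (Subgroup.index_dvd_of_le hker).trans ?_
  rw [Subgroup.index_ker]
  refine (Subgroup.card_subgroup_dvd_card ψ.range).trans ?_
  rw [Subgroup.card_eq_card_quotient_mul_card_subgroup φ.ker, hφk,
    Nat.card_congr (QuotientGroup.quotientKerEquivOfSurjective φ hφs).toEquiv, Nat.card_congr Multiplicative.toAdd,
    Nat.card_zmod, mul_comm]
  exact Nat.mul_dvd_mul_right (Nat.gcd_dvd_left _ _) f

end Cfsg.Agent.GW
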