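import Cfsg.Agent.Lib.GW.Reduce
import Cfsg.Agent.Lib.GW.MaxShape

/-!
# An outer involution centralises no four group of the simple subgroup

`not_klein_centralized`.
-/

set_option autoImplicit false
set_option linter.style.haveILetI false
set_option linter.unusedSectionVars false

namespace Cfsg.Agent.GW

open Cfsg Cfsg.Agent Cfsg.Agent.GW.Reduced

universe u

/-- In a group with dihedral Sylow two-subgroups an involution outside `L` centralises no four group inside `L`. -/
theorem not_klein_centralized {X : Type u} [Group X] [Finite X] (S : Sylow 2 X) {n : ℕ}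
    (e : (S : Subgroup X) ≃* DihedralGroup n) {L : Subgroup X} {a : X} (ha : a * a = 1) (haL : a ∉ L)
    {V : Subgroup X} (hV : IsKleinFour V) (hVL : V ≤ L) : ∃ v ∈ V, v * a ≠ a * v := by
  by_contra hcon
  push Not at hcon
  exact haL (hVL (four_self S e V hV ha hcon))

/-- A dihedral subgroup of `L` centralised by an involution outside `L` has order `2 k` with `k` odd. -/
theorem odd_of_dihedral_centralized {X : Type u} [Group X] [Finite X] (S : Sylow 2 X) {n : ℕ}
    (e : (S : Subgroup X) ≃* DihedralGroup n) {L : Subgroup X} {a : X} (ha : a * a = 1) (haL : a ∉ L)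
    {D : Subgroup X} (hDL : D ≤ L) (hD : ∀ d ∈ D, d * a = a * d) {k : ℕ} [NeZero k] (f : D ≃* DihedralGroup k) :
    Odd k := by
  by_contra hk
  have hk2 : 2 ∣ k := (Nat.not_odd_iff_even.1 hk).two_dvd
  obtain ⟨v, ⟨d, -, rfl⟩, hv⟩ := not_klein_centralized S e ha haL
    (Fusion.DihedralFours.four_map_klein hk2 (D.subtype.comp f.symm.toMonoidHom)
      (D.subtype_injective.comp f.symm.injective) 0)
    (fun x ⟨d, _, hd⟩ => hd ▸ hDL (f.symm d).2)
  exact hv (hD _ (f.symm d).2)

end Cfsg.Agent.GW
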