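import Cfsg.Agent.Lib.GW.PslFour
import Mathlib.NumberTheory.Multiplicity

/-!
# The centraliser of an inner-diagonal involution in `PSL₂(q)` and the automorphisms commuting with it

The fixed points of an inner-diagonal involution form a dihedral group of order `q ± 1`.  A field automorphism of odd
prime order `p` commuting with it cannot act on the rotations through their `p`-part alone.
-/

set_option autoImplicit false
set_option linter.unusedSectionVars false
set_option linter.style.haveILetI false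

namespace Cfsg.Agent.GW.Psl

open Cfsg.Agent.Small Cfsg.Agent.Small.SL2C Cfsg.Agent.Classical.Dickson

variable {F : Type} [Field F] [Fintype F]

local notation "SL2" => Matrix.SpecialLinearGroup (Fin 2) F
local notation "P2" => Matrix.ProjectiveSpecialLinearGroup (Fin 2) F

/-- the fixed points of an inner-diagonal involution: a dihedral group of order `q ± 1` -/
theorem fix_group (h2 : (2 : F) ≠ 0) (h5 : 5 ≤ Fintype.card F) {h : GL (Fin 2) F} (hh : PSL2.conjP h ≠ 1)
    (hhh : PSL2.conjP h * PSL2.conjP h = 1) :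
    ∃ (D : Subgroup P2) (k : ℕ), 2 ≤ k ∧ (2 * k = Fintype.card F - 1 ∨ 2 * k = Fintype.card F + 1) ∧
      Nonempty (D ≃* DihedralGroup k) ∧ ∀ d : P2, PSL2.conjP h d = d ↔ d ∈ D := by
  classical
  haveI : Finite P2 := Finite.of_surjective _ PSL2.pr_surjective
  obtain ⟨hnsc, htr⟩ := involution_matrix hh hhh
  obtain ⟨E, hE, hEfix⟩ := exists_fixed_torN h2 h5 hh hhh
  -- a torus element in the span of `1` and `h`
  obtain ⟨c, hc⟩ : ∃ c, c = -h.val.det := ⟨_, rfl⟩
  have hc0 : c ≠ 0 := by rw [hc, neg_ne_zero]; exact Matrix.GeneralLinearGroup.det_ne_zero h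
  obtain ⟨s, hs0, hsc⟩ : ∃ s : F, s ≠ 0 ∧ s * s ≠ c := by
    by_contra hcon
    push Not at hcon
    have hsub : (Finset.univ.erase (0 : F)) ⊆ (Finset.univ.filter fun x : F => x * x = c) := fun x hx =>
      Finset.mem_filter.2 ⟨Finset.mem_univ _, hcon x (Finset.ne_of_mem_erase hx)⟩
    have h1 := hcon 1 one_ne_zero
    have hle : (Finset.univ.filter fun x : F => x * x = c) ⊆ {1, -1} := fun x hx => by
      have := (Finset.mem_filter.1 hx).2
      rw [← h1, mul_self_eq_mul_self_iff] at this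
      simpa using this
    have := (Finset.card_le_card (hsub.trans hle)).trans Finset.card_le_two
    rw [Finset.card_erase_of_mem (Finset.mem_univ _), Finset.card_univ] at this
    omega
  have hd : s * s - c ≠ 0 := sub_ne_zero.2 hsc
  obtain ⟨b, hb⟩ : ∃ b, b = -2 * s / (s * s - c) := ⟨_, rfl⟩
  obtain ⟨a, ha⟩ : ∃ a, a = 1 + s * b := ⟨_, rfl⟩
  have hb0 : b ≠ 0 := by
    rw [hb]; exact div_ne_zero (mul_ne_zero (neg_ne_zero.2 h2) hs0) hd
  have hab : a * a - b * b * c = 1 := by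
    have e : b * (s * s - c) = -2 * s := by rw [hb, div_mul_cancel₀ _ hd]
    rw [ha]; linear_combination b * e
  have hdet : (a • (1 : Matrix (Fin 2) (Fin 2) F) + b • h.val).det = 1 := by
    have h11 : h.val 1 1 = -h.val 0 0 := by
      rw [Matrix.trace_fin_two] at htr; linear_combination htr
    rw [Matrix.det_fin_two]
    simp [h11]
    rw [hc, Matrix.det_fin_two, h11] at hab
    linear_combination hab
  obtain ⟨g, hg⟩ : ∃ g : SL2, g.1 = a • (1 : Matrix (Fin 2) (Fin 2) F) + b • h.val := ⟨⟨_, hdet⟩, rfl⟩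
  have htg : g.1.trace = 2 * a := by
    rw [hg, Matrix.trace_add, Matrix.trace_smul, Matrix.trace_smul, htr, Matrix.trace_one, Fintype.card_fin]
    simp; ring
  have ht : g.1.trace * g.1.trace ≠ 4 := by
    rw [htg]
    intro h4
    have h4' : (4 : F) ≠ 0 := by
      rw [show (4 : F) = 2 * 2 by norm_num]; exact mul_ne_zero h2 h2
    have h1 : b * b * c * 4 = 0 := by linear_combination h4 - 4 * hab
    simp [hb0, hc0, h4'] at h1
  obtain ⟨hD, k, hiso, hk0⟩ := torN_card h2 h5 ht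
  -- the fixed elements normalise its group
  have hcover : ∀ d : P2, PSL2.conjP h d = d → d ∈ torN' g := by
    intro d hd
    obtain ⟨X, rfl⟩ := PSL2.pr_surjective d
    refine torN_cover ht ?_
    rw [PSL2.conjP_apply, PSL2.pr_eq_iff] at hd
    obtain ⟨ε, hε2, hε⟩ := hd
    rw [PSL2.conjSL_val] at hε
    have hhX : h.val * X.1 = ε • (X.1 * h.val) := by
      calc h.val * X.1 = h.val * X.1 * h⁻¹.val * h.val := by rw [Matrix.mul_assoc _ h⁻¹.val, Units.inv_mul, Matrix.mul_one]
        _ = _ := by rw [hε, Matrix.smul_mul]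
    have hXh : X.1 * h.val = ε • (h.val * X.1) := by rw [hhX, smul_smul, hε2, one_smul]
    rcases mul_self_eq_one_iff.1 hε2 with he | he
    · refine ⟨1, ?_⟩
      show PSL2.pr g ^ (1 : ℤ) = PSL2.pr X * PSL2.pr g * (PSL2.pr X)⁻¹
      rw [zpow_one, eq_mul_inv_iff_mul_eq, ← map_mul, ← map_mul]
      refine congrArg PSL2.pr (Subtype.ext ?_)
      rw [he, one_smul] at hXh
      rw [PSL2.val_mul, PSL2.val_mul, hg, Matrix.add_mul, Matrix.mul_add, Matrix.smul_mul, Matrix.smul_mul,
        Matrix.mul_smul, Matrix.mul_smul, Matrix.one_mul, Matrix.mul_one, hXh]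
    · refine ⟨-1, ?_⟩
      show PSL2.pr g ^ (-1 : ℤ) = PSL2.pr X * PSL2.pr g * (PSL2.pr X)⁻¹
      rw [zpow_neg_one, ← map_inv PSL2.pr g, eq_mul_inv_iff_mul_eq, ← map_mul, ← map_mul]
      refine congrArg PSL2.pr (Subtype.ext ?_)
      rw [PSL2.val_mul, PSL2.val_mul, inv_val, htg, hg]
      rw [he, neg_one_smul] at hXh
      simp only [Matrix.add_mul, Matrix.sub_mul, Matrix.mul_add, Matrix.smul_mul, Matrix.mul_smul, Matrix.one_mul,
        Matrix.mul_one, hXh]
      module
  have hle : E ≤ torN' g := fun d hd => hcover d (hEfix d hd)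
  have hdd := Subgroup.card_dvd_of_le hle
  have heq : E = torN' g := Subgroup.eq_of_le_of_card_ge hle (by
    rcases hE with e | e <;> rcases hD with d | d <;> rw [e, d] at hdd ⊢
    · exfalso
      have h2' : Fintype.card F - 1 ∣ 2 := by
        have := Nat.dvd_sub hdd dvd_rfl
        rwa [show Fintype.card F + 1 - (Fintype.card F - 1) = 2 by omega] at this
      have := Nat.le_of_dvd two_pos h2'
      omega
    · omega)
  obtain ⟨e⟩ := hiso
  haveI : NeZero k := ⟨hk0⟩
  have hk : Nat.card (torN' g) = 2 * k := by rw [Nat.card_congr e.toEquiv, DihedralGroup.nat_card]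
  exact ⟨torN' g, k, by rcases hD with d | d <;> rw [hk] at d <;> omega, by rcases hD with d | d <;> rw [hk] at d <;>
    [left; right] <;> exact d, ⟨e⟩, fun d => ⟨hcover d, fun hd => hEfix d (heq ▸ hd)⟩⟩

/-- an involutory automorphism is inner-diagonal or fixes a four group of inner ones without being inner-diagonal -/
theorem inndiag_or_four (h2 : (2 : F) ≠ 0) {α : MulAut P2} (hα : α * α = 1) :
    (∃ h : GL (Fin 2) F, α = PSL2.conjP h) ∨
    ∃ m₁ m₂ : P2, m₁ * m₁ = 1 ∧ m₂ * m₂ = 1 ∧ m₁ ≠ 1 ∧ m₂ ≠ 1 ∧ m₁ ≠ m₂ ∧ Commute m₁ m₂ ∧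
      α m₁ = m₁ ∧ α m₂ = m₂ := by
  by_cases hex : ∃ h : GL (Fin 2) F, α = PSL2.conjP h
  · exact Or.inl hex
  right
  rcases aut_cases hα with h | ⟨σ, B, rfl⟩
  · exact absurd h hex
  have hσ1 : σ ≠ 1 := fun e => hex ⟨1, by rw [e, map_one, mul_one, mul_inv_cancel, map_one]⟩
  have hσ2 : σ * σ = 1 := by
    refine PSL2.field_unique (g := 1) (g' := 1) ?_
    rw [map_one, one_mul, one_mul, map_one, map_mul]
    calc PSL2.fieldP σ * PSL2.fieldP σ
        = (PSL2.conjP B)⁻¹ * (PSL2.conjP B * PSL2.fieldP σ * (PSL2.conjP B)⁻¹ *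
            (PSL2.conjP B * PSL2.fieldP σ * (PSL2.conjP B)⁻¹)) * PSL2.conjP B := by group
      _ = 1 := by rw [hα]; group
  obtain ⟨m, hm⟩ : ∃ m, m * m = Fintype.card F := by
    by_contra hno
    push Not at hno
    exact hσ1 (field_aut_trivial hσ2 hno)
  obtain ⟨i, hi⟩ : IsSquare (-1 : F) := by
    refine FiniteField.isSquare_neg_one_iff.2 fun h3 => ?_
    rw [← hm, Nat.mul_mod] at h3
    have : m % 4 < 4 := Nat.mod_lt _ (by norm_num)
    interval_cases (m % 4) <;> simp at h3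
  have hi0 : i ≠ 0 := by rintro rfl; simp at hi
  let u : Fˣ := Units.mk0 i hi0
  have hiv : i⁻¹ = -i := inv_eq_of_mul_eq_one_right (by linear_combination hi)
  obtain ⟨w, hw⟩ : ∃ w : P2, w = PSL2.pr (PSL2.wS (F := F)) := ⟨_, rfl⟩
  obtain ⟨s, hs⟩ : ∃ s : P2, s = PSL2.pr (PSL2.hS u) := ⟨_, rfl⟩
  have hww : w * w = 1 := by
    rw [hw, ← map_mul, ← map_one (PSL2.pr (F := F)), PSL2.pr_eq_iff]
    refine ⟨-1, by ring, ?_⟩
    rw [PSL2.val_mul]
    ext a b
    fin_cases a <;> fin_cases b <;> simp [PSL2.wS, Matrix.mul_apply, Fin.sum_univ_two]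
  have hss : s * s = 1 := by
    rw [hs, ← map_mul, ← map_one (PSL2.pr (F := F)), PSL2.pr_eq_iff]
    refine ⟨-1, by ring, ?_⟩
    rw [PSL2.val_mul]
    ext a b
    fin_cases a <;> fin_cases b <;> simp [PSL2.hS, u, hiv, Matrix.mul_apply, Fin.sum_univ_two, ← hi]
  have hw1 : w ≠ 1 := by
    rw [hw, ← map_one (PSL2.pr (F := F)), Ne, PSL2.pr_eq_iff]
    rintro ⟨ε, -, he⟩
    have := congrFun (congrFun he 0) 1
    simp [PSL2.wS] at this
  have hs1 : s ≠ 1 := by
    rw [hs, ← map_one (PSL2.pr (F := F)), Ne, PSL2.pr_eq_iff]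
    rintro ⟨ε, hε, he⟩
    have h1 := congrFun (congrFun he 0) 0
    simp [PSL2.hS, u] at h1
    rw [← h1, ← hi] at hε
    exact h2 (by linear_combination -hε)
  have hne : w ≠ s := by
    rw [hw, hs, Ne, PSL2.pr_eq_iff]
    rintro ⟨ε, -, he⟩
    have := congrFun (congrFun he 0) 1
    simp [PSL2.wS, PSL2.hS] at this
  have hc : Commute w s := by
    show w * s = s * w
    rw [hw, hs, ← map_mul, ← map_mul, PSL2.pr_eq_iff]
    refine ⟨-1, by ring, ?_⟩
    rw [PSL2.val_mul, PSL2.val_mul]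
    ext a b
    fin_cases a <;> fin_cases b <;> simp [PSL2.wS, PSL2.hS, u, hiv, Matrix.mul_apply, Fin.sum_univ_two]
  have hfw : PSL2.fieldP σ w = w := by
    rw [hw, PSL2.fieldP_apply]
    refine congrArg PSL2.pr (Subtype.ext ?_)
    ext a b
    rw [PSL2.fieldSL_apply]
    fin_cases a <;> fin_cases b <;> simp [PSL2.wS]
  have hfs : PSL2.fieldP σ s = s := by
    rw [hs, PSL2.fieldP_apply, PSL2.pr_eq_iff]
    have h4 : σ i * σ i = i * i := by rw [← map_mul, ← hi, map_neg, map_one]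
    rcases mul_self_eq_mul_self_iff.1 h4 with h | h
    · refine ⟨1, by ring, ?_⟩
      ext a b
      rw [PSL2.fieldSL_apply]
      fin_cases a <;> fin_cases b <;> simp [PSL2.hS, u, h]
    · refine ⟨-1, by ring, ?_⟩
      ext a b
      rw [PSL2.fieldSL_apply]
      fin_cases a <;> fin_cases b <;> simp [PSL2.hS, u, h]
  refine ⟨PSL2.conjP B w, PSL2.conjP B s, by rw [← map_mul, hww, map_one], by rw [← map_mul, hss, map_one],
    fun e => hw1 ((PSL2.conjP B).injective (e.trans (map_one _).symm)),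
    fun e => hs1 ((PSL2.conjP B).injective (e.trans (map_one _).symm)),
    fun e => hne ((PSL2.conjP B).injective e), hc.map (PSL2.conjP B).toMonoidHom, ?_, ?_⟩ <;>
  simp [MulAut.mul_apply, hfw, hfs]

/-- the exponent lemma: a multiplier of order `p` which is one away from the `p`-part is nearly one -/
theorem dvd_sub_one_mul {p k N : ℕ} (hp : p.Prime) (hp2 : p ≠ 2) {j : ℤ} (h1 : (k : ℤ) ∣ j ^ p - 1)
    (h2 : (k : ℤ) ∣ (j - 1) * (p : ℤ) ^ N) : (k : ℤ) ∣ (j - 1) * p := by
  haveI := Fact.mk hp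
  have hpj : (p : ℤ) ∣ k → (p : ℤ) ∣ j - 1 := fun hd => by
    have h := hd.trans h1
    rw [← ZMod.intCast_zmod_eq_zero_iff_dvd, Int.cast_sub, Int.cast_pow, ZMod.pow_card, Int.cast_one] at h
    rw [← ZMod.intCast_zmod_eq_zero_iff_dvd, Int.cast_sub, Int.cast_one]
    exact h
  by_cases hpk : (p : ℤ) ∣ k
  · obtain ⟨b, hb⟩ := hpj hpk
    have hj : j = 1 + (p : ℤ) * b := by linarith
    obtain ⟨c, hc⟩ := odd_sq_dvd_geom_sum₂_sub (R := ℤ) 1 b (hp.odd_of_ne_two hp2)
    have hS : (∑ i ∈ Finset.range p, j ^ i * (1 : ℤ) ^ (p - 1 - i)) = (p : ℤ) * (1 + p * c) := by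
      rw [hj]
      linear_combination hc + (p : ℤ) * (one_pow (p - 1) : (1 : ℤ) ^ (p - 1) = 1)
    have hfac : j ^ p - 1 = (j - 1) * p * (1 + p * c) := by
      have := geom_sum₂_mul j 1 p
      rw [hS, one_pow] at this
      linear_combination -this
    rw [hfac] at h1
    have hcop : IsCoprime ((p : ℤ) ^ N) (1 + p * c) := IsCoprime.pow_left ⟨-c, 1, by ring⟩
    obtain ⟨x, y, hxy⟩ := hcop
    have : (j - 1) * (p : ℤ) = x * p * ((j - 1) * (p : ℤ) ^ N) + y * ((j - 1) * p * (1 + p * c)) := by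
      linear_combination -((j - 1) * (p : ℤ)) * hxy
    rw [this]
    exact dvd_add (dvd_mul_of_dvd_right h2 _) (dvd_mul_of_dvd_right h1 _)
  · have hcop : IsCoprime (k : ℤ) ((p : ℤ) ^ N) := by
      refine IsCoprime.pow_right ?_
      rw [Int.isCoprime_iff_nat_coprime]
      simpa [Nat.coprime_comm, hp.coprime_iff_not_dvd] using fun h => hpk (by exact_mod_cast h)
    exact (hcop.dvd_of_dvd_mul_right h2).mul_right _

theorem field_pow (B : GL (Fin 2) F) (σ : F ≃+* F) (n : ℕ) :
    ∃ C : GL (Fin 2) F, (PSL2.conjP B * PSL2.fieldP σ) ^ n = PSL2.conjP C * PSL2.fieldP (σ ^ n) := by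
  induction n with
  | zero => exact ⟨1, by simp⟩
  | succ n ih =>
    obtain ⟨C, hC⟩ := ih
    refine ⟨B * PSL2.glField σ C, ?_⟩
    rw [pow_succ' _ n, hC, pow_succ' σ n, map_mul, map_mul, mul_assoc, ← mul_assoc (PSL2.fieldP σ),
      PSL2.fieldP_conjP]
    simp [mul_assoc]

/-- no field automorphism of odd prime order moves the rotations through their `p`-part only -/
theorem no_field_fix (h2 : (2 : F) ≠ 0) (h5 : 5 ≤ Fintype.card F) {p : ℕ} [hp : Fact p.Prime] (hp2 : p ≠ 2)
    {α : MulAut P2} (hαp : α ^ p = 1) {h : GL (Fin 2) F} (hh : PSL2.conjP h ≠ 1)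
    (hhh : PSL2.conjP h * PSL2.conjP h = 1) (hcomm : Commute α (PSL2.conjP h))
    (hJ : ∀ d : P2, PSL2.conjP h d = d → ∃ N : ℕ, (d⁻¹ * α d) ^ p ^ N = 1) :
    ∃ B : GL (Fin 2) F, α = PSL2.conjP B := by
  classical
  haveI : Finite P2 := Finite.of_surjective _ PSL2.pr_surjective
  obtain ⟨l, hl⟩ := CharP.exists F
  obtain ⟨f, hlp, hlf⟩ := FiniteField.card F l
  haveI := Fact.mk hlp
  obtain ⟨B, σ, hBσ⟩ := PSL2.aut_eq hlf α
  by_cases hσ1 : σ = 1
  · exact ⟨B, by rw [hBσ, hσ1, map_one, mul_one]⟩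
  exfalso
  obtain ⟨C, hC⟩ := field_pow B σ p
  rw [← hBσ, hαp] at hC
  have hσp : σ ^ p = 1 := PSL2.field_unique (g := C) (g' := 1) (by rw [← hC]; simp)
  have hσo : orderOf σ = p := orderOf_eq_prime hσp hσ1
  -- the fixed field
  haveI : Finite (F ≃+* F) := Finite.of_injective (fun e : F ≃+* F => (e : F → F)) DFunLike.coe_injective
  let H : Subgroup (F ≃+* F) := Subgroup.zpowers σ
  letI : Fintype H := Fintype.ofFinite H
  haveI : FaithfulSMul H F := ⟨fun {a b} h => Subtype.ext (RingEquiv.ext h)⟩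
  have hfin := FixedPoints.finrank_eq_card H F
  rw [← Nat.card_eq_fintype_card, Nat.card_zpowers, hσo] at hfin
  let K := FixedPoints.subfield H F
  letI : Fintype K := Fintype.ofFinite _
  have hq := Module.card_eq_pow_finrank (K := K) (V := F)
  rw [hfin] at hq
  have hr3 : 3 ≤ Fintype.card K := by
    by_contra h3
    have h1 : 2 ≤ Fintype.card K := Fintype.one_lt_card
    have hK2 : Fintype.card K = 2 := by omega
    have := card_odd h2
    rw [hq, hK2] at this
    exact Nat.not_even_iff_odd.2 this (Nat.even_pow.2 ⟨even_two, hp.out.ne_zero⟩)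
  have hp3 : 3 ≤ p := by have := hp.out.two_le; omega
  -- the rotations
  obtain ⟨D, k, hk2, hk, ⟨e⟩, hD⟩ := fix_group h2 h5 hh hhh
  have hqk : Fintype.card F ≤ 2 * k + 1 := by omega
  have hbig : 2 * p * Fintype.card K + 1 < Fintype.card F := by
    rw [hq]
    obtain ⟨p', rfl⟩ : ∃ p', p = p' + 3 := ⟨p - 3, by omega⟩
    have h9 : ∀ n : ℕ, 2 * (n + 3) + 1 ≤ Fintype.card K ^ (n + 2) := by
      intro n
      induction n with
      | zero => exact le_trans (by norm_num) (Nat.pow_le_pow_left hr3 2)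
      | succ n ih =>
        calc 2 * (n + 1 + 3) + 1 ≤ (2 * (n + 3) + 1) * 3 := by omega
          _ ≤ Fintype.card K ^ (n + 2) * Fintype.card K := Nat.mul_le_mul ih hr3
    have := Nat.mul_le_mul_right (Fintype.card K) (h9 p')
    rw [← pow_succ] at this
    nlinarith
  have hpr : p * Fintype.card K < k := by nlinarith
  have hk3 : 3 ≤ k := by nlinarith
  haveI : NeZero k := ⟨by omega⟩
  set d₀ : P2 := ((e.symm (DihedralGroup.r 1)) : P2) with hd₀
  have hd₀D : d₀ ∈ D := Subtype.coe_prop _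
  have hd₀o : orderOf d₀ = k := by
    rw [hd₀, Subgroup.orderOf_coe, MulEquiv.orderOf_eq, DihedralGroup.orderOf_r_one]
  have hαD : α d₀ ∈ D := by
    rw [← hD]
    have := DFunLike.congr_fun hcomm.eq d₀
    simp only [MulAut.mul_apply] at this
    rw [← this, (hD d₀).2 hd₀D]
  obtain ⟨j, hj⟩ : ∃ j : ℤ, α d₀ = d₀ ^ j := by
    generalize hx : e ⟨α d₀, hαD⟩ = x
    rcases x with i | i
    · refine ⟨(i.val : ℤ), ?_⟩
      rw [zpow_natCast, hd₀, ← Subgroup.coe_pow, ← map_pow, DihedralGroup.r_one_pow, ZMod.natCast_rightInverse,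
        ← hx, MulEquiv.symm_apply_apply]
    · exfalso
      have h1 : orderOf (e ⟨α d₀, hαD⟩) = 2 := by rw [hx]; exact DihedralGroup.orderOf_sr i
      rw [MulEquiv.orderOf_eq, Subgroup.orderOf_mk, MulEquiv.orderOf_eq, hd₀o] at h1
      omega
  have hjn : ∀ n : ℕ, (α ^ n) d₀ = d₀ ^ (j ^ n) := by
    intro n
    induction n with
    | zero => simp
    | succ n ih => rw [pow_succ' α, MulAut.mul_apply, ih, map_zpow, hj, ← zpow_mul, pow_succ' j]
  have hk1 : (k : ℤ) ∣ j ^ p - 1 := by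
    rw [← hd₀o, orderOf_dvd_iff_zpow_eq_one, zpow_sub, zpow_one, ← hjn, hαp, MulAut.one_apply, mul_inv_cancel]
  obtain ⟨N, hN⟩ := hJ d₀ ((hD d₀).2 hd₀D)
  have hk2' : (k : ℤ) ∣ (j - 1) * (p : ℤ) ^ N := by
    rw [← hd₀o, orderOf_dvd_iff_zpow_eq_one, zpow_mul, ← Nat.cast_pow, zpow_natCast]
    rw [show d₀ ^ (j - 1) = d₀⁻¹ * α d₀ by rw [hj, sub_eq_neg_add, zpow_add, zpow_neg_one]]
    exact hN
  have hfix : α (d₀ ^ p) = d₀ ^ p := by
    have h1 := dvd_sub_one_mul hp.out hp2 hk1 hk2'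
    rw [← hd₀o, orderOf_dvd_iff_zpow_eq_one, sub_mul, one_mul, zpow_sub, mul_inv_eq_one] at h1
    rw [map_pow, hj, ← zpow_natCast, ← zpow_mul, h1, zpow_natCast]
  -- lifts with trace in the fixed field
  obtain ⟨G₀, hG₀⟩ := PSL2.pr_surjective d₀
  have htG : G₀.1.trace * G₀.1.trace ≠ 4 := fun h4 => by
    have h1 := orderOf_dvd_of_pow_eq_one (pr_pow_card_of_trace_sq h4)
    rw [hG₀, hd₀o] at h1
    have h2' : Nat.Coprime k (Fintype.card F) := by
      have h2k : Nat.Coprime (2 * k) (Fintype.card F) := by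
        rcases hk with h | h <;> rw [h]
        · exact (Nat.coprime_self_sub_left (by omega : 1 ≤ Fintype.card F)).2 (Nat.coprime_one_left _)
        · simp
      exact h2k.coprime_dvd_left (dvd_mul_left _ _)
    have := Nat.le_of_dvd one_pos (Nat.Coprime.dvd_of_dvd_mul_right h2' (by simpa using h1))
    omega
  have hG₀ns := not_isSc_of_trace htG
  let S : Subgroup SL2 := Subgroup.closure ({G₀ ^ p, -1} : Set SL2)
  have hStor : ∀ X ∈ S, X ∈ tor G₀ := fun X hX => by
    refine ((Subgroup.closure_le _).2 ?_) hX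
    rintro Y (rfl | rfl)
    · exact pow_mem (self_mem_tor G₀) p
    · rw [SetLike.mem_coe, mem_tor]; simp
  have hSfix : ∀ X ∈ S, α (PSL2.pr X) = PSL2.pr X := fun X hX => by
    refine ((Subgroup.closure_le ((α.toMonoidHom.comp PSL2.pr).eqLocus PSL2.pr)).2 ?_) hX
    rintro Y (rfl | rfl)
    · show α (PSL2.pr (G₀ ^ p)) = PSL2.pr (G₀ ^ p)
      rw [map_pow PSL2.pr, hG₀, hfix]
    · show α (PSL2.pr (-1)) = PSL2.pr (-1)
      rw [show PSL2.pr (-1 : SL2) = 1 by
        rw [← map_one (PSL2.pr (F := F)), PSL2.pr_eq_iff]; exact ⟨-1, by ring, by simp⟩, map_one]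
  have hStr : ∀ X ∈ S, σ X.1.trace = X.1.trace := fun X hX => by
    have h1 := hSfix X hX
    rw [hBσ, MulAut.mul_apply, PSL2.fieldP_apply, PSL2.conjP_apply, PSL2.pr_eq_iff] at h1
    obtain ⟨ε, hε, h1⟩ := h1
    rw [PSL2.conjSL_val] at h1
    have h3 := congrArg Matrix.trace h1
    rw [Matrix.trace_mul_comm, ← Matrix.mul_assoc, Units.inv_mul, Matrix.one_mul, Matrix.trace_smul, smul_eq_mul] at h3
    have h4 : σ X.1.trace = ε * X.1.trace := by
      rw [← h3, Matrix.trace_fin_two, Matrix.trace_fin_two, map_add, PSL2.fieldSL_apply, PSL2.fieldSL_apply]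
    have h5' : (σ ^ 2) X.1.trace = X.1.trace := by
      rw [pow_two, RingAut.mul_apply, h4, map_mul, h4]
      rcases mul_self_eq_one_iff.1 hε with e | e <;> simp [e]
    obtain ⟨m, hm⟩ := exists_pow_eq_self_of_coprime (x := σ) (n := 2)
      (hσo ▸ Nat.coprime_two_left.2 (hp.out.odd_of_ne_two hp2))
    rw [← hm]
    clear hm
    induction m with
    | zero => simp
    | succ m ih => rw [pow_succ, RingAut.mul_apply, h5', ih]
  -- counting
  letI : Fintype S := Fintype.ofFinite S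
  let f : S → K := fun X => ⟨(X : SL2).1.trace, fun ⟨τ, hτ⟩ => by
    exact ((Subgroup.zpowers_le (H := MulAction.stabilizer (F ≃+* F) (X : SL2).1.trace)).2 (hStr _ X.2)) hτ⟩
  have hfib : ∀ c : K, (Finset.univ.filter fun X : S => f X = c).card ≤ 2 := by
    intro c
    by_cases hne : ∃ X : S, f X = c
    · obtain ⟨X, hX⟩ := hne
      refine (Finset.card_le_card (t := {X, X⁻¹}) fun Y hY => ?_).trans Finset.card_le_two
      have hY' : (Y : SL2).1.trace = (X : SL2).1.trace :=
        congrArg Subtype.val ((Finset.mem_filter.1 hY).2.trans hX.symm)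
      obtain ⟨x, y, hxy, hd⟩ := exists_of_mem_tor hG₀ns (hStor _ X.2)
      obtain ⟨x', y', hxy', hd'⟩ := exists_of_mem_tor hG₀ns (hStor _ Y.2)
      rw [hxy, hxy', comb_trace, comb_trace] at hY'
      have hyy : (y' - y) * (y' + y) * (G₀.1.trace * G₀.1.trace - 4) = 0 := by
        linear_combination (2 * x' + y' * G₀.1.trace + 2 * x + y * G₀.1.trace) * hY' - 4 * hd' + 4 * hd
      simp only [mul_eq_zero, sub_ne_zero.2 htG, or_false] at hyy
      simp only [Finset.mem_insert, Finset.mem_singleton]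
      rcases hyy with h | h
      · left
        have e1 : y' = y := sub_eq_zero.1 h
        have e2 : x' = x := mul_left_cancel₀ h2 (by rw [e1] at hY'; linear_combination hY')
        exact Subtype.ext (Subtype.ext (by rw [hxy, hxy', e1, e2]))
      · right
        have e1 : y' = -y := eq_neg_of_add_eq_zero_left h
        have e2 : x' = x + y * G₀.1.trace := mul_left_cancel₀ h2 (by rw [e1] at hY'; linear_combination hY')
        refine Subtype.ext (Subtype.ext ?_)
        rw [hxy', Subgroup.coe_inv, inv_val, hxy, comb_trace, comb, comb, e1, e2]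
        module
    · push Not at hne
      rw [Finset.filter_eq_empty_iff.2 fun X _ => hne X]
      simp
  have hcard := Finset.card_le_mul_card_image (s := Finset.univ) (f := f) 2 fun c _ => hfib c
  have hS : 2 * (k / Nat.gcd k p) ≤ Fintype.card S := by
    let π : S →* P2 := PSL2.pr.comp S.subtype
    have hker : 2 ≤ Nat.card π.ker := by
      have hneg : (-1 : SL2) ≠ 1 := fun e => by
        have := congrFun (congrFun (congrArg Subtype.val e) 0) 0
        simp at this
        exact h2 (by linear_combination -this)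
      haveI : Nontrivial π.ker := ⟨⟨⟨⟨-1, Subgroup.subset_closure (Or.inr rfl)⟩, by
        show PSL2.pr (-1 : SL2) = 1
        rw [← map_one (PSL2.pr (F := F)), PSL2.pr_eq_iff]; exact ⟨-1, by ring, by simp⟩⟩, 1,
        fun e => hneg (congrArg (fun z : π.ker => ((z : S) : SL2)) e)⟩⟩
      exact Finite.one_lt_card
    have him : k / Nat.gcd k p ≤ Nat.card π.range := by
      rw [← hd₀o, ← orderOf_pow d₀ (n := p), ← Nat.card_zpowers]
      refine Nat.card_mono (Set.toFinite _) (SetLike.coe_subset_coe.2 (Subgroup.zpowers_le.2 ?_))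
      exact ⟨⟨G₀ ^ p, Subgroup.subset_closure (Or.inl rfl)⟩, by
        show PSL2.pr (G₀ ^ p) = d₀ ^ p
        rw [map_pow, hG₀]⟩
    rw [← Nat.card_eq_fintype_card, ← π.ker.card_mul_index, Subgroup.index_ker]
    exact Nat.mul_le_mul hker him
  have hle : k / Nat.gcd k p ≤ Fintype.card K := by
    have h1 := hcard.trans (Nat.mul_le_mul_left 2 (Finset.card_le_univ _))
    rw [Finset.card_univ] at h1
    omega
  have hge : k ≤ p * Fintype.card K := by
    calc k = Nat.gcd k p * (k / Nat.gcd k p) := (Nat.mul_div_cancel' (Nat.gcd_dvd_left _ _)).symm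
      _ ≤ p * Fintype.card K := Nat.mul_le_mul (Nat.le_of_dvd hp.out.pos (Nat.gcd_dvd_right _ _)) hle
  omega

end Cfsg.Agent.GW.Psl
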