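import Cfsg.Agent.Lib.GW.RotationMoved
import Cfsg.Agent.Lib.Fusion.DicksonMatrix

/-!
# The action of `O` on `O_q(C)` modulo its centre

The commutator pairing identifies `F/Z(F)` with `GF(q)²`, so `O` acts by elements of `SL₂(q)`; `u` acts as
`diag(1, -1)`.
-/

set_option autoImplicit false
set_option linter.unusedSectionVars false
set_option linter.style.haveILetI false

namespace Cfsg.Agent.GW

open Cfsg Cfsg.Agent
open Cfsg.Agent.Fusion.Dickson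

universe w

variable {G : Type w} [Group G] [Finite G] [IsSimpleGroup G] {t u : G} {O N : Subgroup G} {P : Sylow 2 G} {q : ℕ}
  {ρ : G} {d x : G}

set_option quotPrecheck false in
local notation "Cz" => Subgroup.centralizer ({t} : Set G)

set_option quotPrecheck false in
local notation "Fq" => fq q (Subgroup.centralizer ({t} : Set G))

/-- the coordinates of `f` with respect to `d` and `x` -/
def Coord (z d x f : G) (i j : ℕ) : Prop := f * d * f⁻¹ * d⁻¹ = z ^ j ∧ x * f * x⁻¹ * f⁻¹ = z ^ i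

open scoped _root_.Classical in
/-- the coordinate along `d` -/
noncomputable def coordD (q : ℕ) (z d x f : G) : ZMod q :=
  if h : ∃ p : ℕ × ℕ, Coord z d x f p.1 p.2 then (h.choose.1 : ZMod q) else 0

open scoped _root_.Classical in
/-- the coordinate along `x` -/
noncomputable def coordX (q : ℕ) (z d x f : G) : ZMod q :=
  if h : ∃ p : ℕ × ℕ, Coord z d x f p.1 p.2 then (h.choose.2 : ZMod q) else 0

/-- the action on `F/Z(F)` -/
structure Action (q : ℕ) [Fact q.Prime] (t u : G) (O N : Subgroup G) (d x : G)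
    (Φ : ↥O →* Matrix.SpecialLinearGroup (Fin 2) (ZMod q)) : Prop where
  line : ∀ a : ↥O, (Φ a).1 1 0 = 0 ↔ (a : G) * d * (a : G)⁻¹ ∈ N
  refl : ∀ a b : ↥O, (b : G) = u * a * u⁻¹ → (Φ b).1 0 0 = (Φ a).1 0 0 ∧ (Φ b).1 0 1 = -(Φ a).1 0 1 ∧
    (Φ b).1 1 0 = -(Φ a).1 1 0 ∧ (Φ b).1 1 1 = (Φ a).1 1 1
  ker : ∀ a : ↥O, Φ a = 1 ↔
    (a : G) * d * (a : G)⁻¹ * d⁻¹ ∈ fq q (Subgroup.centralizer ({t} : Set G)) ⊓ (lay N ⊓ O) ∧
    (a : G) * x * (a : G)⁻¹ * x⁻¹ ∈ fq q (Subgroup.centralizer ({t} : Set G)) ⊓ (lay N ⊓ O)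
  fix : ∀ a : ↥O, ∀ f ∈ fq q (Subgroup.centralizer ({t} : Set G)), Commute (a : G) f → f ∉ lay N ⊓ O →
    tr (Φ a) = 2

/-- `O` centralises `Z(F)` -/
theorem RotCfg.core_central (c : RotCfg t u O P q N ρ) (s : Shape q t u O N d x) {r a : G} (hr : r ∈ Fq)
    (hrT : r ∈ lay N ⊓ O) (ha : a ∈ O) : Commute a r := by
  refine c.inverted_central (B := Fq ⊓ Subgroup.centralizer (Fq : Set G)) (fun y hy =>
    Subgroup.inf_normalizer_le_normalizer_inf ⟨fq_le_norm q c.prime _ hy,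
      normalizer_le_norm_cent _ (fq_le_norm q c.prime _ hy)⟩) (fun b hb => ?_) ha
    ⟨hr, Subgroup.mem_centralizer_iff.2 fun f hf => (s.central r hr hrT f hf).symm.eq⟩
  exact c.torus_inv u c.hyp.uP c.hyp.u_ne c.hyp.u_ne_t b
    (c.center_torus hb.1 fun f hf => (Subgroup.mem_centralizer_iff.1 hb.2 f hf).symm)

open scoped _root_.Classical in
/-- **the action exists** -/
theorem RotCfg.exists_action [Fact q.Prime] (c : RotCfg t u O P q N ρ) (s : Shape q t u O N d x) :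
    ∃ Φ : ↥O →* Matrix.SpecialLinearGroup (Fin 2) (ZMod q), Action q t u O N d x Φ := by
  have hd := s.second
  obtain ⟨hiff, -, -, hT, -, -⟩ := c.commMap hd
  obtain ⟨z, hz⟩ : ∃ z, z = x * d * x⁻¹ * d⁻¹ := ⟨_, rfl⟩
  have hzq : orderOf z = q := orderOf_eq_prime (hz ▸ hd.comm_q s.x_mem) fun e =>
    s.x_not ((hiff x s.x_mem).1 (mul_inv_eq_iff_eq_mul.1 (mul_inv_eq_one.1 (hz ▸ e))))
  have hzF : z ∈ Fq := hz ▸ (Fq).mul_mem
    ((Fq).mul_mem ((Fq).mul_mem s.x_mem hd.mem) ((Fq).inv_mem s.x_mem)) ((Fq).inv_mem hd.mem)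
  have hzc : ∀ f ∈ Fq, Commute z f := hz ▸ hd.second x s.x_mem
  have hzT : z ∈ lay N ⊓ O := hz ▸ hT x s.x_mem
  have hmod : ∀ m n : ℕ, z ^ m = z ^ n ↔ (m : ZMod q) = n := fun m n => by
    rw [pow_eq_pow_iff_modEq, hzq, ZMod.natCast_eq_natCast_iff]
  -- coordinates of products
  have hex : ∀ f ∈ Fq, ∃ p : ℕ × ℕ, Coord z d x f p.1 p.2 := by
    intro f hf
    obtain ⟨i, j, hr⟩ := s.decomp f hf
    obtain ⟨r, hr'⟩ : ∃ r, r = (x ^ j * d ^ i)⁻¹ * f := ⟨_, rfl⟩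
    rw [← hr'] at hr
    have hfe : f = x ^ j * d ^ i * r := by rw [hr', mul_inv_cancel_left]
    have hrd : Commute r d := s.central r hr.1 hr.2 d hd.mem
    have hrx : Commute r x := s.central r hr.1 hr.2 x s.x_mem
    refine ⟨(i, j), ?_, ?_⟩
    · calc f * d * f⁻¹ * d⁻¹ = x ^ j * d ^ i * (r * d * r⁻¹) * (d ^ i)⁻¹ * (x ^ j)⁻¹ * d⁻¹ := by rw [hfe]; group
        _ = x ^ j * (d ^ i * d * (d ^ i)⁻¹) * (x ^ j)⁻¹ * d⁻¹ := by rw [hrd.eq, mul_inv_cancel_right]; group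
        _ = z ^ j := by
          rw [((Commute.refl d).pow_left i).eq, mul_inv_cancel_right, hd.comm_pow s.x_mem, hz]
    · have hxd : x * d ^ i * x⁻¹ = z ^ i * d ^ i := by
        rw [← conj_pow, show x * d * x⁻¹ = z * d by rw [hz, inv_mul_cancel_right], (hzc d hd.mem).mul_pow]
      calc x * f * x⁻¹ * f⁻¹ = x ^ j * (x * d ^ i * x⁻¹) * (x * r * x⁻¹) * r⁻¹ * (d ^ i)⁻¹ * (x ^ j)⁻¹ := by
            rw [hfe]
            simp only [mul_inv_rev, mul_assoc]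
            rw [← mul_assoc x (x ^ j), ← pow_succ', pow_succ]
            group
        _ = x ^ j * z ^ i * (x ^ j)⁻¹ := by rw [hxd, hrx.symm.eq, mul_inv_cancel_right]; group
        _ = z ^ i := by rw [← ((hzc _ ((Fq).pow_mem s.x_mem j)).pow_left i).eq, mul_inv_cancel_right]
  obtain ⟨c1, hc1⟩ : ∃ c1, c1 = coordD q z d x := ⟨_, rfl⟩
  obtain ⟨c2, hc2⟩ : ∃ c2, c2 = coordX q z d x := ⟨_, rfl⟩
  have hval : ∀ f, ∀ i j : ℕ, Coord z d x f i j → c1 f = i ∧ c2 f = j := by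
    intro f i j hij
    have h : ∃ p : ℕ × ℕ, Coord z d x f p.1 p.2 := ⟨(i, j), hij⟩
    rw [hc1, hc2, coordD, coordX, dif_pos h, dif_pos h]
    exact ⟨(hmod _ _).1 (h.choose_spec.2.symm.trans hij.2), (hmod _ _).1 (h.choose_spec.1.symm.trans hij.1)⟩
  have hadd : ∀ f ∈ Fq, ∀ g ∈ Fq, c1 (f * g) = c1 f + c1 g ∧ c2 (f * g) = c2 f + c2 g := by
    intro f hf g hg
    obtain ⟨⟨i, j⟩, hfi, hfj⟩ := hex f hf
    obtain ⟨⟨i', j'⟩, hgi, hgj⟩ := hex g hg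
    obtain ⟨e1, e2⟩ := hval f i j ⟨hfi, hfj⟩
    obtain ⟨e1', e2'⟩ := hval g i' j' ⟨hgi, hgj⟩
    have h := hval (f * g) (i + i') (j' + j) ⟨?_, ?_⟩
    · rw [h.1, h.2, e1, e2, e1', e2', Nat.cast_add, Nat.cast_add, add_comm (j' : ZMod q)]
      exact ⟨rfl, rfl⟩
    · calc f * g * d * (f * g)⁻¹ * d⁻¹ = f * (g * d * g⁻¹ * d⁻¹) * f⁻¹ * (f * d * f⁻¹ * d⁻¹) := by group
        _ = z ^ (j' + j) := by
          rw [hfi, hgi, ← ((hzc f hf).pow_left j').eq, mul_inv_cancel_right, pow_add]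
    · calc x * (f * g) * x⁻¹ * (f * g)⁻¹ = (x * f * x⁻¹ * f⁻¹) * (f * (x * g * x⁻¹ * g⁻¹) * f⁻¹) := by group
        _ = z ^ (i + i') := by
          rw [hfj, hgj, ← ((hzc f hf).pow_left i').eq, mul_inv_cancel_right, pow_add]
  have hone : c1 1 = 0 ∧ c2 1 = 0 := by
    have := hval 1 0 0 ⟨by simp, by simp⟩
    simpa using this
  have hR : ∀ r ∈ Fq, r ∈ lay N ⊓ O → c1 r = 0 ∧ c2 r = 0 := fun r hr hrT => by
    have h1 : Commute r d := s.central r hr hrT d hd.mem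
    have h2 : Commute r x := s.central r hr hrT x s.x_mem
    have := hval r 0 0 ⟨by rw [h1.eq, mul_inv_cancel_right, mul_inv_cancel, pow_zero],
      by rw [h2.symm.eq, mul_inv_cancel_right, mul_inv_cancel, pow_zero]⟩
    simpa using this
  have hdco : c1 d = 1 ∧ c2 d = 0 := by
    have := hval d 1 0 ⟨by simp, by rw [pow_one, hz]⟩
    simpa using this
  have hxco : c1 x = 0 ∧ c2 x = 1 := by
    have := hval x 0 1 ⟨by rw [pow_one, hz], by simp⟩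
    simpa using this
  have hpow : ∀ f ∈ Fq, ∀ n : ℕ, c1 (f ^ n) = n * c1 f ∧ c2 (f ^ n) = n * c2 f := by
    intro f hf n
    induction n with
    | zero => simp [hone.1, hone.2]
    | succ n ih =>
      obtain ⟨e1, e2⟩ := hadd _ ((Fq).pow_mem hf n) f hf
      rw [pow_succ, e1, e2, ih.1, ih.2, Nat.cast_succ]
      exact ⟨by ring, by ring⟩
  have hdec : ∀ f ∈ Fq, ∃ i j : ℕ, ∃ r ∈ Fq, r ∈ lay N ⊓ O ∧ f = x ^ j * d ^ i * r ∧ c1 f = i ∧ c2 f = j := by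
    intro f hf
    obtain ⟨i, j, hr⟩ := s.decomp f hf
    obtain ⟨r, hr'⟩ : ∃ r, r = (x ^ j * d ^ i)⁻¹ * f := ⟨_, rfl⟩
    rw [← hr'] at hr
    have hfe : f = x ^ j * d ^ i * r := by rw [hr', mul_inv_cancel_left]
    have hxj := (Fq).pow_mem s.x_mem j
    have hdi := (Fq).pow_mem hd.mem i
    refine ⟨i, j, r, hr.1, hr.2, hfe, ?_, ?_⟩
    · rw [hfe, (hadd _ ((Fq).mul_mem hxj hdi) r hr.1).1, (hadd _ hxj _ hdi).1, (hpow x s.x_mem j).1,
        (hpow d hd.mem i).1, hxco.1, hdco.1, (hR r hr.1 hr.2).1]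
      ring
    · rw [hfe, (hadd _ ((Fq).mul_mem hxj hdi) r hr.1).2, (hadd _ hxj _ hdi).2, (hpow x s.x_mem j).2,
        (hpow d hd.mem i).2, hxco.2, hdco.2, (hR r hr.1 hr.2).2]
      ring
  have hzero : ∀ f ∈ Fq, c1 f = 0 → c2 f = 0 → f ∈ lay N ⊓ O := by
    intro f hf h1 h2
    obtain ⟨i, j, r, hrF, hrT, hfe, e1, e2⟩ := hdec f hf
    rw [h1] at e1; rw [h2] at e2
    obtain ⟨i', rfl⟩ := (ZMod.natCast_eq_zero_iff i q).1 e1.symm
    obtain ⟨j', rfl⟩ := (ZMod.natCast_eq_zero_iff j q).1 e2.symm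
    have hdq : d ^ q = 1 := hd.order ▸ pow_orderOf_eq_one d
    have hxqF := (Fq).pow_mem s.x_mem q
    have hxqN : x ^ q ∈ N := (hiff _ hxqF).1 (mul_inv_eq_iff_eq_mul.1 (mul_inv_eq_one.1 (by
      rw [hd.comm_pow s.x_mem, hd.comm_q s.x_mem])))
    have hxqT : x ^ q ∈ lay N ⊓ O := c.center_torus hxqF fun g hg =>
      c.central_of s.x_mem s.x_not hxqF hxqN ((Commute.refl x).pow_left q) hg
    rw [hfe, pow_mul, pow_mul, hdq, one_pow, mul_one]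
    exact (lay N ⊓ O).mul_mem ((lay N ⊓ O).pow_mem hxqT j') hrT
  have hzero' : ∀ f ∈ Fq, f ∈ lay N ⊓ O ↔ c1 f = 0 ∧ c2 f = 0 := fun f hf =>
    ⟨fun h => hR f hf h, fun h => hzero f hf h.1 h.2⟩
  have hconj : ∀ a : ↥O, ∀ f ∈ Fq, (a : G) * f * (a : G)⁻¹ ∈ Fq := fun a f hf =>
    conj_fq c.prime (c.hyp.mc.core_le a.2) hf
  -- linearity
  have hlin : ∀ a : ↥O, ∀ f ∈ Fq,
      c1 ((a : G) * f * (a : G)⁻¹) = c1 ((a : G) * d * (a : G)⁻¹) * c1 f + c1 ((a : G) * x * (a : G)⁻¹) * c2 f ∧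
      c2 ((a : G) * f * (a : G)⁻¹) = c2 ((a : G) * d * (a : G)⁻¹) * c1 f + c2 ((a : G) * x * (a : G)⁻¹) * c2 f := by
    intro a f hf
    obtain ⟨i, j, r, hrF, hrT, hfe, e1, e2⟩ := hdec f hf
    have hA := hconj a x s.x_mem
    have hB := hconj a d hd.mem
    have hra : (a : G) * r * (a : G)⁻¹ = r := by rw [(c.core_central s hrF hrT a.2).eq, mul_inv_cancel_right]
    have he : (a : G) * f * (a : G)⁻¹ =
        ((a : G) * x * (a : G)⁻¹) ^ j * ((a : G) * d * (a : G)⁻¹) ^ i * r := by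
      rw [hfe, conj_pow, conj_pow]
      conv_rhs => rw [← hra]
      group
    have hAj := (Fq).pow_mem hA j
    have hBi := (Fq).pow_mem hB i
    rw [he, (hadd _ ((Fq).mul_mem hAj hBi) r hrF).1, (hadd _ ((Fq).mul_mem hAj hBi) r hrF).2, (hadd _ hAj _ hBi).1,
      (hadd _ hAj _ hBi).2, (hpow _ hA j).1, (hpow _ hA j).2, (hpow _ hB i).1, (hpow _ hB i).2, (hR r hrF hrT).1,
      (hR r hrF hrT).2, e1, e2]
    exact ⟨by ring, by ring⟩
  -- the pairing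
  have hbr : ∀ f ∈ Fq, ∀ g ∈ Fq, ∀ i j i' j' : ℕ, Coord z d x f i j → Coord z d x g i' j' →
      f * g * f⁻¹ * g⁻¹ * z ^ (i * j') = z ^ (j * i') := by
    intro f hf g hg i j i' j' hcf hcg
    obtain ⟨e1', e2'⟩ := hval g i' j' hcg
    obtain ⟨k, l, r, hrF, hrT, hge, k1, k2⟩ := hdec g hg
    have hk : z ^ (i * j') = z ^ (i * l) := by rw [hmod, Nat.cast_mul, Nat.cast_mul, ← e2', k2]
    have hl : z ^ (j * i') = z ^ (j * k) := by rw [hmod, Nat.cast_mul, Nat.cast_mul, ← e1', k1]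
    have hfd : f * d ^ k * f⁻¹ = z ^ (j * k) * d ^ k := by
      rw [← conj_pow, show f * d * f⁻¹ = z ^ j * d by rw [← hcf.1, inv_mul_cancel_right],
        ((hzc d hd.mem).pow_left j).mul_pow, ← pow_mul]
    have hfr : f * r * f⁻¹ = r := by rw [← (s.central r hrF hrT f hf).eq, mul_inv_cancel_right]
    have hfx : f * x ^ l * f⁻¹ * (x ^ l)⁻¹ * z ^ (i * l) = 1 := by
      have h1 : f * x * f⁻¹ = (z ^ i)⁻¹ * x := by rw [← hcf.2]; group
      rw [← conj_pow, h1, ((hzc x s.x_mem).pow_left i).inv_left.mul_pow, inv_pow, ← pow_mul, mul_inv_cancel_right,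
        inv_mul_cancel]
    have hzk : Commute (z ^ (i * l)) (f * g * f⁻¹ * g⁻¹) :=
      (hzc _ ((Fq).mul_mem ((Fq).mul_mem ((Fq).mul_mem hf hg) ((Fq).inv_mem hf)) ((Fq).inv_mem hg))).pow_left _
    rw [hk, hl]
    have hgexp : f * g * f⁻¹ * g⁻¹ = (f * x ^ l * f⁻¹ * (x ^ l)⁻¹) * z ^ (j * k) := by
      calc f * g * f⁻¹ * g⁻¹
          = (f * x ^ l * f⁻¹) * (f * d ^ k * f⁻¹) * (f * r * f⁻¹) * r⁻¹ * (d ^ k)⁻¹ * (x ^ l)⁻¹ := by
            rw [hge]; group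
        _ = (f * x ^ l * f⁻¹) * (z ^ (j * k) * (x ^ l)⁻¹) := by rw [hfd, hfr]; group
        _ = _ := by rw [((hzc _ ((Fq).inv_mem ((Fq).pow_mem s.x_mem l))).pow_left (j * k)).eq]; group
    rw [hgexp, mul_assoc, ← ((Commute.refl z).pow_pow (i * l) (j * k)).eq, ← mul_assoc, hfx, one_mul]
  have hdet : ∀ a : ↥O, c1 ((a : G) * d * (a : G)⁻¹) * c2 ((a : G) * x * (a : G)⁻¹) -
      c1 ((a : G) * x * (a : G)⁻¹) * c2 ((a : G) * d * (a : G)⁻¹) = 1 := by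
    intro a
    obtain ⟨⟨i, j⟩, hA⟩ := hex _ (hconj a x s.x_mem)
    obtain ⟨⟨i', j'⟩, hB⟩ := hex _ (hconj a d hd.mem)
    obtain ⟨a1, a2⟩ := hval _ i j hA
    obtain ⟨b1, b2⟩ := hval _ i' j' hB
    have h := hbr _ (hconj a x s.x_mem) _ (hconj a d hd.mem) i j i' j' hA hB
    rw [show ((a : G) * x * (a : G)⁻¹) * ((a : G) * d * (a : G)⁻¹) * ((a : G) * x * (a : G)⁻¹)⁻¹ *
        ((a : G) * d * (a : G)⁻¹)⁻¹ = (a : G) * (x * d * x⁻¹ * d⁻¹) * (a : G)⁻¹ by group, ← hz,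
      (c.core_central s hzF hzT a.2).eq, mul_inv_cancel_right, ← pow_succ', hmod] at h
    push_cast at h
    rw [a1, a2, b1, b2]
    linear_combination -h
  -- the homomorphism
  have hdetM : ∀ a : ↥O, (!![c1 ((a : G) * d * (a : G)⁻¹), c1 ((a : G) * x * (a : G)⁻¹);
      c2 ((a : G) * d * (a : G)⁻¹), c2 ((a : G) * x * (a : G)⁻¹)]).det = 1 := fun a => by
    rw [Matrix.det_fin_two]
    simpa using hdet a
  let Φ : ↥O →* Matrix.SpecialLinearGroup (Fin 2) (ZMod q) := MonoidHom.mk'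
    (fun a => ⟨!![c1 ((a : G) * d * (a : G)⁻¹), c1 ((a : G) * x * (a : G)⁻¹);
      c2 ((a : G) * d * (a : G)⁻¹), c2 ((a : G) * x * (a : G)⁻¹)], hdetM a⟩) fun a b => by
      have e : ∀ y : G, ((a * b : ↥O) : G) * y * ((a * b : ↥O) : G)⁻¹ =
          (a : G) * ((b : G) * y * (b : G)⁻¹) * (a : G)⁻¹ := fun y => by rw [Subgroup.coe_mul]; group
      obtain ⟨p1, p2⟩ := hlin a _ (hconj b d hd.mem)
      obtain ⟨p3, p4⟩ := hlin a _ (hconj b x s.x_mem)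
      refine Subtype.ext ?_
      show !![_, _; _, _] = !![_, _; _, _] * !![_, _; _, _]
      rw [e d, e x, p1, p2, p3, p4, Matrix.mul_fin_two]
  have h00 : ∀ a : ↥O, (Φ a).1 0 0 = c1 ((a : G) * d * (a : G)⁻¹) := fun _ => rfl
  have h01 : ∀ a : ↥O, (Φ a).1 0 1 = c1 ((a : G) * x * (a : G)⁻¹) := fun _ => rfl
  have h10 : ∀ a : ↥O, (Φ a).1 1 0 = c2 ((a : G) * d * (a : G)⁻¹) := fun _ => rfl
  have h11 : ∀ a : ↥O, (Φ a).1 1 1 = c2 ((a : G) * x * (a : G)⁻¹) := fun _ => rfl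
  have hsub : ∀ f ∈ Fq, ∀ g ∈ Fq, (f * g⁻¹ ∈ lay N ⊓ O ↔ c1 f = c1 g ∧ c2 f = c2 g) := by
    intro f hf g hg
    have hfg := (Fq).mul_mem hf ((Fq).inv_mem hg)
    obtain ⟨e1, e2⟩ := hadd (f * g⁻¹) hfg g hg
    rw [inv_mul_cancel_right] at e1 e2
    rw [hzero' _ hfg, e1, e2, add_eq_right, add_eq_right]
  refine ⟨Φ, fun a => ?_, fun a b hb => ?_, fun a => ?_, fun a f hf hcom hfR => ?_⟩
  · have hf := hconj a d hd.mem
    obtain ⟨⟨i, j⟩, hi, hj⟩ := hex _ hf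
    rw [h10, (hval _ i j ⟨hi, hj⟩).2]
    constructor
    · intro h0
      refine (hiff _ hf).1 (mul_inv_eq_iff_eq_mul.1 (mul_inv_eq_one.1 (hi.trans ?_)))
      obtain ⟨k, rfl⟩ := (ZMod.natCast_eq_zero_iff j q).1 h0
      rw [pow_mul, ← hzq, pow_orderOf_eq_one, one_pow]
    · intro hN
      rw [← Nat.cast_zero, ← hmod, pow_zero, ← hi, ((hiff _ hf).2 hN).eq, mul_inv_cancel_right, mul_inv_cancel]
  · have hu : ∀ f ∈ Fq, c1 (u * f * u⁻¹) = c1 f ∧ c2 (u * f * u⁻¹) = -c2 f := by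
      intro f hf
      obtain ⟨i, j, r, hrF, hrT, hfe, e1, e2⟩ := hdec f hf
      have hud : u * d * u⁻¹ = d := by rw [hd.comm_u.symm.eq, mul_inv_cancel_right]
      have hur : u * r * u⁻¹ = r⁻¹ := c.torus_inv u c.hyp.uP c.hyp.u_ne c.hyp.u_ne_t r hrT
      have hxi := (Fq).inv_mem s.x_mem
      have he : u * f * u⁻¹ = (x⁻¹) ^ j * d ^ i * r⁻¹ := by
        rw [hfe, show u * (x ^ j * d ^ i * r) * u⁻¹ = (u * x * u⁻¹) ^ j * (u * d * u⁻¹) ^ i * (u * r * u⁻¹) by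
          rw [conj_pow, conj_pow]; group, s.x_inv, hud, hur]
      have hxinv : c1 x⁻¹ = 0 ∧ c2 x⁻¹ = -1 := by
        obtain ⟨a1, a2⟩ := hadd x s.x_mem x⁻¹ hxi
        rw [mul_inv_cancel, hone.1, hxco.1, zero_add] at a1
        rw [mul_inv_cancel, hone.2, hxco.2] at a2
        exact ⟨a1.symm, (neg_eq_of_add_eq_zero_right a2.symm).symm⟩
      have hA := (Fq).pow_mem hxi j
      have hB := (Fq).pow_mem hd.mem i
      have hC := (Fq).inv_mem hrF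
      rw [he, (hadd _ ((Fq).mul_mem hA hB) _ hC).1, (hadd _ ((Fq).mul_mem hA hB) _ hC).2, (hadd _ hA _ hB).1,
        (hadd _ hA _ hB).2, (hpow _ hxi j).1, (hpow _ hxi j).2, (hpow d hd.mem i).1, (hpow d hd.mem i).2,
        (hR _ hC ((lay N ⊓ O).inv_mem hrT)).1, (hR _ hC ((lay N ⊓ O).inv_mem hrT)).2, hxinv.1, hxinv.2,
        hdco.1, hdco.2, e1, e2]
      exact ⟨by ring, by ring⟩
    have hui : u⁻¹ = u := inv_eq_of_mul_eq_one_right c.hyp.uu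
    have hbd : (b : G) * d * (b : G)⁻¹ = u * ((a : G) * d * (a : G)⁻¹) * u⁻¹ := by
      have hud : u⁻¹ * d * u = d := by rw [mul_assoc, hd.comm_u.eq, inv_mul_cancel_left]
      calc (b : G) * d * (b : G)⁻¹ = u * ((a : G) * (u⁻¹ * d * u) * (a : G)⁻¹) * u⁻¹ := by rw [hb]; group
        _ = _ := by rw [hud]
    have hbx : (b : G) * x * (b : G)⁻¹ = u * ((a : G) * x * (a : G)⁻¹)⁻¹ * u⁻¹ := by
      have hux : u⁻¹ * x * u = x⁻¹ := by
        have := s.x_inv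
        rwa [hui] at this ⊢
      calc (b : G) * x * (b : G)⁻¹ = u * ((a : G) * (u⁻¹ * x * u) * (a : G)⁻¹) * u⁻¹ := by rw [hb]; group
        _ = _ := by rw [hux]; group
    have hA := hconj a x s.x_mem
    have hinv : c1 ((a : G) * x * (a : G)⁻¹)⁻¹ = -c1 ((a : G) * x * (a : G)⁻¹) ∧
        c2 ((a : G) * x * (a : G)⁻¹)⁻¹ = -c2 ((a : G) * x * (a : G)⁻¹) := by
      obtain ⟨a1, a2⟩ := hadd _ hA _ ((Fq).inv_mem hA)
      rw [mul_inv_cancel, hone.1] at a1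
      rw [mul_inv_cancel, hone.2] at a2
      exact ⟨(neg_eq_of_add_eq_zero_right a1.symm).symm, (neg_eq_of_add_eq_zero_right a2.symm).symm⟩
    simp only [h00, h01, h10, h11, hbd, hbx]
    obtain ⟨p1, p2⟩ := hu _ (hconj a d hd.mem)
    obtain ⟨p3, p4⟩ := hu _ ((Fq).inv_mem hA)
    exact ⟨p1, p3.trans hinv.1, p2, p4.trans (by rw [hinv.2, neg_neg])⟩
  · have hA := hconj a d hd.mem
    have hB := hconj a x s.x_mem
    rw [Subgroup.mem_inf, Subgroup.mem_inf (p := Fq), and_iff_right ((Fq).mul_mem hA ((Fq).inv_mem hd.mem)),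
      and_iff_right ((Fq).mul_mem hB ((Fq).inv_mem s.x_mem)), hsub _ hA _ hd.mem, hsub _ hB _ s.x_mem, hdco.1, hdco.2,
      hxco.1, hxco.2]
    refine ⟨fun h => ?_, fun h => ?_⟩
    · exact ⟨⟨(h00 a).symm.trans (by rw [h]; rfl), (h10 a).symm.trans (by rw [h]; rfl)⟩,
        (h01 a).symm.trans (by rw [h]; rfl), (h11 a).symm.trans (by rw [h]; rfl)⟩
    · exact ext' ((h00 a).trans h.1.1) ((h01 a).trans h.2.1) ((h10 a).trans h.1.2) ((h11 a).trans h.2.2)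
  · obtain ⟨e1, e2⟩ := hlin a f hf
    rw [hcom.eq, mul_inv_cancel_right] at e1 e2
    rw [← h00, ← h01] at e1
    rw [← h10, ← h11] at e2
    have hd' := det_eq (Φ a)
    have h1 : (1 - (Φ a).1 0 0) * (1 - (Φ a).1 1 1) - (Φ a).1 0 1 * (Φ a).1 1 0 = 0 := by
      by_contra hne
      refine hfR (hzero f hf ((mul_eq_zero.1 ?_).resolve_left hne) ((mul_eq_zero.1 ?_).resolve_left hne))
      · linear_combination (1 - (Φ a).1 1 1) * e1 + (Φ a).1 0 1 * e2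
      · linear_combination (Φ a).1 1 0 * e1 + (1 - (Φ a).1 0 0) * e2
    rw [tr]
    linear_combination hd' - h1

end Cfsg.Agent.GW
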