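import Cfsg.Agent.Lib.GW.RotationLayer
import Cfsg.Agent.Lib.GW.MaxCfg

/-!
# The rotation case: the configuration

If `D = O_q(C(t)) ∩ C(u)` is nontrivial, one maximal subgroup `N` with layer `L` contains the normaliser of every
nontrivial subgroup of `D`; `C_O(u)` lies in `N` and is centralised by a rotation of `L`, the other cores of `C(t)`
lie in the torus `L ∩ O` and `Z(O_q(C(t)))` too.
-/

set_option autoImplicit false
set_option linter.unusedSectionVars false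
set_option linter.style.haveILetI false

namespace Cfsg.Agent.GW

open Cfsg Cfsg.Agent
open scoped commutatorElement

universe w

variable {G : Type w} [Group G] [Finite G] [IsSimpleGroup G] {t u : G} {O : Subgroup G} {P : Sylow 2 G}

set_option quotPrecheck false in
local notation "Cz" => Subgroup.centralizer ({t} : Set G)

set_option quotPrecheck false in
local notation "Kz" => O ⊓ Subgroup.centralizer ({u} : Set G)

/-- the configuration of the rotation case -/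
structure RotCfg (t u : G) (O : Subgroup G) (P : Sylow 2 G) (q : ℕ) (N : Subgroup G) (ρ : G) : Prop where
  hyp : RotHyp t u O P
  prime : q.Prime
  odd : q ≠ 2
  D_ne : fq q (Subgroup.centralizer ({t} : Set G)) ⊓ Subgroup.centralizer ({u} : Set G) ≠ ⊥
  coatom : IsCoatom N
  P_lay : (P : Subgroup G) ≤ lay N
  rho_mem : ρ ∈ lay N
  rho_t : ρ * t * ρ⁻¹ = u
  rho_u : ρ * u * ρ⁻¹ = t * u
  K_le : O ⊓ Subgroup.centralizer ({u} : Set G) ≤ N
  cent_le : layCent N ≤ O ⊓ Subgroup.centralizer ({u} : Set G)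
  comm : ∀ a ∈ N, ∀ b ∈ N, ⁅a, b⁆ ∈ lay N ⊔ layCent N
  D_cent : fq q (Subgroup.centralizer ({t} : Set G)) ⊓ Subgroup.centralizer ({u} : Set G) ≤
    Subgroup.centralizer (lay N : Set G)
  fixed : ∀ p : ℕ, p.Prime → p ≠ 2 → ∀ x ∈ fq p (Subgroup.centralizer ({t} : Set G)), x ∈ N → Commute x u →
    x ∈ Subgroup.centralizer (lay N : Set G)
  norm_le : ∀ X : Subgroup G, X ≠ ⊥ →
    X ≤ fq q (Subgroup.centralizer ({t} : Set G)) ⊓ Subgroup.centralizer ({u} : Set G) →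
    Subgroup.normalizer (X : Set G) ≤ N
  torus_inv : ∀ z ∈ (P : Subgroup G), z ≠ 1 → z ≠ t → ∀ x ∈ lay N ⊓ O, z * x * z⁻¹ = x⁻¹
  torus_norm : ∀ T' : Subgroup G, T' ≤ lay N ⊓ O → T' ≠ ⊥ →
    N ⊓ Subgroup.normalizer (T' : Set G) ≤ Subgroup.centralizer ({t} : Set G)
  torus_cyclic : IsCyclic ↥(lay N ⊓ O)
  torus_index : (4 * Nat.card ↥(lay N ⊓ O) - 1) * (4 * Nat.card ↥(lay N ⊓ O) - 2) ≤
    2 * (N ⊓ Subgroup.centralizer ({t} : Set G)).relIndex N

/-- `N` is the normaliser of its layer -/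
theorem normalizer_lay {N : Subgroup G} (hN : IsCoatom N) (hne : lay N ≠ ⊥) :
    Subgroup.normalizer (lay N : Set G) = N := by
  refine ((lay_norm N).eq_or_lt.resolve_right fun hlt => ?_).symm
  rcases (Subgroup.normalizer_eq_top_iff.1 (hN.2 _ hlt)).eq_bot_or_eq_top with he | he
  · exact hne he
  · exact hN.1 (top_le_iff.1 (he ▸ lay_le N))

theorem ne_top_of_fq {q : ℕ} {X : Subgroup G} (h : MaxCent t O) (hX : X ≠ ⊥) (hXF : X ≤ Cz) :
    Subgroup.normalizer (X : Set G) ≠ ⊤ := fun htop => by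
  rcases (Subgroup.normalizer_eq_top_iff.1 htop).eq_bot_or_eq_top with he | he
  · exact hX he
  · exact h.max.1 (top_le_iff.1 (he ▸ hXF))

open scoped Classical in
/-- **the configuration exists** -/
theorem RotHyp.exists_cfg (h : RotHyp t u O P) {q : ℕ} (hq : q.Prime) (hq2 : q ≠ 2)
    (hD : fq q Cz ⊓ Subgroup.centralizer ({u} : Set G) ≠ ⊥) :
    ∃ (N : Subgroup G) (ρ : G), RotCfg t u O P q N ρ := by
  haveI := Fact.mk hq
  haveI : Fact (Nat.Prime 2) := ⟨Nat.prime_two⟩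
  obtain ⟨hu, htu⟩ := And.intro h.uu h.tu
  obtain ⟨K, hK⟩ : ∃ K, K = Kz := ⟨_, rfl⟩
  obtain ⟨D, hDdef⟩ : ∃ D, D = fq q Cz ⊓ Subgroup.centralizer ({u} : Set G) := ⟨_, rfl⟩
  rw [← hDdef] at hD
  have hKmem : ∀ {x : G}, x ∈ K ↔ x ∈ O ∧ Commute x u := fun {x} => by
    rw [hK, Subgroup.mem_inf, Subgroup.mem_centralizer_singleton_iff]; exact Iff.rfl
  have hDmem : ∀ {x : G}, x ∈ D ↔ x ∈ fq q Cz ∧ Commute x u := fun {x} => by
    rw [hDdef, Subgroup.mem_inf, Subgroup.mem_centralizer_singleton_iff]; exact Iff.rfl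
  have hfO : ∀ s : ℕ, s.Prime → s ≠ 2 → fq s Cz ≤ O := fun s hs hs2 => h.mc.fq_odd_le_core hs hs2
  have hDK : D ≤ K := fun x hx => hKmem.2 ⟨hfO q hq hq2 (hDmem.1 hx).1, (hDmem.1 hx).2⟩
  -- the parts of the cores fixed by `u` lie in the cores of `K`
  have hKs : ∀ s : ℕ, s.Prime → s ≠ 2 → ∀ x ∈ fq s Cz, Commute x u → x ∈ fq s K := by
    intro s hs hs2 x hx hxu
    haveI := Fact.mk hs
    have hle : fq s Cz ⊓ K ≤ K := inf_le_right
    have hn : ((fq s Cz ⊓ K).subgroupOf K).Normal :=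
      (Subgroup.normal_subgroupOf_iff_le_normalizer hle).2 (le_trans (le_inf (fun g hg => fq_le_norm s hs _
        (h.mc.core_le (hKmem.1 hg).1)) Subgroup.le_normalizer) Subgroup.inf_normalizer_le_normalizer_inf)
    have hxK : x ∈ K := hKmem.2 ⟨hfO s hs hs2 hx, hxu⟩
    exact ⟨⟨x, hxK⟩, Solv.normal_le_pCore (((fq_isPGroup s Cz).to_le inf_le_left).of_equiv
      (Subgroup.subgroupOfEquivOfLe hle).symm) (show x ∈ fq s Cz ⊓ K from ⟨hx, hxK⟩), rfl⟩
  -- a central element of `O_q(K)` in `D`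
  obtain ⟨y, hyD, hy1, hyc⟩ : ∃ y ∈ D, y ≠ 1 ∧ ∀ x ∈ fq q K, Commute x y := by
    have hle : D ≤ fq q K := fun x hx => hKs q hq hq2 x (hDmem.1 hx).1 (hDmem.1 hx).2
    have hn : (D.subgroupOf (fq q K)).Normal := by
      refine (Subgroup.normal_subgroupOf_iff_le_normalizer hle).2 fun g hg => mem_norm_of_conj fun x hx => ?_
      have hgK : g ∈ K := fq_le q K hg
      refine hDmem.2 ⟨conj_fq hq (h.mc.core_le (hKmem.1 hgK).1) (hDmem.1 hx).1, ?_⟩
      have := (Commute.conj_iff g).2 (hDmem.1 hx).2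
      rwa [show g * u * g⁻¹ = u by rw [(hKmem.1 hgK).2.eq, mul_inv_cancel_right]] at this
    obtain ⟨z, hz, hz1, hzc⟩ := exists_central_mem (fq_isPGroup q K) (D.subgroupOf (fq q K)) fun e => hD (by
      rw [Subgroup.subgroupOf_eq_bot] at e
      exact disjoint_self.1 (e.mono_right hle))
    exact ⟨z, hz, fun e => hz1 (Subtype.ext e), fun x hx => congrArg Subtype.val (hzc ⟨x, hx⟩).eq⟩
  obtain ⟨hyF, hyu⟩ := hDmem.1 hyD
  have hyne : Subgroup.zpowers y ≠ ⊥ := by simpa [Subgroup.zpowers_eq_bot] using hy1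
  have hyFle : Subgroup.zpowers y ≤ fq q Cz := Subgroup.zpowers_le.2 hyF
  obtain ⟨N, hN, hle⟩ := (eq_top_or_exists_le_coatom _).resolve_left
    (ne_top_of_fq (q := q) h.mc hyne (hyFle.trans (fq_le q _)))
  have hyN : ∀ g : G, Commute g y → g ∈ N := fun g hg => hle (Subgroup.centralizer_le_normalizer _
    (Subgroup.mem_centralizer_iff.2 fun z hz => by
      obtain ⟨i, rfl⟩ := Subgroup.mem_zpowers_iff.1 hz
      exact (hg.symm.zpow_left i).eq))
  have htN : t ∈ N := hyN t (h.mc.core_commute (hfO q hq hq2 hyF)).symm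
  have huN : u ∈ N := hyN u hyu.symm
  have hNC : N ≠ Cz := by
    intro e
    obtain ⟨k, hk⟩ := IsPGroup.iff_orderOf.1 (fq_isPGroup q Cz) ⟨y, hyF⟩
    rw [Subgroup.orderOf_mk] at hk
    refine h.not_isolated hq hq2 (fun e' => hy1 (Subgroup.mem_bot.1 (e' ▸ hyF))) (hfO q hq hq2 hyF) hyu hk ?_
    exact fun g hg => e ▸ hyN g (Subgroup.mem_centralizer_singleton_iff.1 hg)
  -- `F(N) ≤ C`
  have hKN : ∀ s : ℕ, s.Prime → ∀ x ∈ fq s K, x ∈ N := fun s hs x hx => hyN x (by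
    by_cases hsq : s = q
    · exact hyc x (hsq ▸ hx)
    · exact commute_fq hs hq hsq hx (hKs q hq hq2 y hyF hyu))
  obtain ⟨ρ₀, hρ₀t, hρ₀u⟩ := h.rot u hu h.u_ne h.u_ne_t htu
  have hρK : ρ₀ ∈ Subgroup.normalizer (K : Set G) := hK ▸ h.rho_norm hρ₀t hρ₀u
  have hfit : ∀ (ρ : G), ρ ∈ Subgroup.normalizer (K : Set G) → ∀ s : ℕ, s.Prime → s ≠ 2 → ∀ x ∈ fq s Cz,
      Commute x u → ρ * x * ρ⁻¹ ∈ N := by
    intro ρ hρ s hs hs2 x hx hxu
    haveI := Fact.mk hs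
    refine hKN s hs _ ?_
    have hmap : K.map (MulAut.conj ρ).toMonoidHom = K := by
      refine Subgroup.eq_of_le_of_card_ge ?_ (le_of_eq (Subgroup.card_map_of_injective (MulAut.conj ρ).injective).symm)
      rintro _ ⟨z, hz, rfl⟩
      exact (Subgroup.mem_normalizer_iff.1 hρ z).1 hz
    have := fq_map (G := G) s ρ K
    rw [hmap] at this
    exact this ▸ ⟨x, hKs s hs hs2 x hx hxu, rfl⟩
  have hFN := h.mc.fitting_le h.nonab hu htu hρ₀t hρ₀u htN huN (leads hyne (hyFle.trans (fq_le_fitting hq _)) hle)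
    (fun s hs hs2 x hx hxtu => hfit ρ₀ hρK s hs hs2 x hx (by
      have := (h.mc.core_commute (hfO s hs hs2 hx)).mul_right hxtu
      rwa [← mul_assoc, h.mc.sq, one_mul] at this))
    (fun s hs hs2 x hx hxu => hfit (ρ₀ * ρ₀) (mul_mem hρK hρK) s hs hs2 x hx hxu)
  have hlne := h.mc.layer_ne h.nonab h.kproper hN hNC (leads hyne (hyFle.trans (fq_le_fitting hq _)) hle) hFN
  obtain ⟨v, T, f⟩ := h.layer N hN htN hlne
  have hP := h.P_le_lay htN f huN
  have hlne' : lay N ≠ ⊥ := fun e => h.mc.ne (Subgroup.mem_bot.1 (e ▸ hP h.tP))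
  have hL := h.mc.lsub htN hlne f
  have hDN : ∀ x ∈ D, x ∈ N := fun x hx => hKN q hq x (hKs q hq hq2 x (hDmem.1 hx).1 (hDmem.1 hx).2)
  have hDL : D ≤ Subgroup.centralizer (lay N : Set G) := fun x hx =>
    h.fixed_lay htN f huN hq hq2 (hDmem.1 hx).1 (hDN x hx) (hDmem.1 hx).2
  have hLy : lay N ≤ Subgroup.centralizer ({y} : Set G) := fun l hl =>
    Subgroup.mem_centralizer_singleton_iff.2 (Subgroup.mem_centralizer_iff.1 (hDL hyD) l hl)
  -- every maximal subgroup over the normaliser of a part of `D` is `N`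
  have hmax : ∀ X : Subgroup G, X ≠ ⊥ → X ≤ D → Subgroup.normalizer (X : Set G) ≤ N := by
    intro X hX hXD
    obtain ⟨M, hM, hleM⟩ := (eq_top_or_exists_le_coatom _).resolve_left (ne_top_of_fq (q := q) h.mc hX
      (hXD.trans (hDdef.le.trans (inf_le_left.trans (fq_le q _)))))
    have hLX : lay N ≤ Subgroup.centralizer (X : Set G) := Subgroup.le_centralizer_iff.1 (hXD.trans hDL)
    obtain ⟨v', T', f', hLM, htM, hlM⟩ :=
      h.mc.trick h.nonab h.layer hL hq hX (hXD.trans (hDdef.le.trans inf_le_left)) hLX hM hleM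
    have huM : u ∈ M := lay_le M (hLM (hP h.uP))
    have hyM : y ∈ M := hleM (Subgroup.centralizer_le_normalizer _ (Subgroup.mem_centralizer_iff.2 fun x hx =>
      (hyc x (hKs q hq hq2 x (hDmem.1 (hXD hx)).1 (hDmem.1 (hXD hx)).2)).eq))
    have hyL := h.fixed_lay htM f' huM hq hq2 hyF hyM hyu
    have hMN : lay M ≤ N := fun l hl => hyN l (Subgroup.mem_centralizer_iff.1 hyL l hl)
    have heq : lay M = lay N := le_antisymm ((h.mc.lsub htM hlM f').le_lay hMN f) hLM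
    refine hleM.trans ?_
    rw [← normalizer_lay hN hlne', ← heq]
    exact lay_norm M
  have hKle : K ≤ N := fun g hg => hmax D hD le_rfl (mem_norm_of_conj fun x hx => hDmem.2
    ⟨conj_fq hq (h.mc.core_le (hKmem.1 hg).1) (hDmem.1 hx).1, by
      have := (Commute.conj_iff g).2 (hDmem.1 hx).2
      rwa [show g * u * g⁻¹ = u by rw [(hKmem.1 hg).2.eq, mul_inv_cancel_right]] at this⟩)
  have hcle := h.mc.layCent_le htN f.cent_odd hFN
  have hcK : layCent N ≤ K := fun x hx => hKmem.2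
    ⟨h.mc.core x (Subgroup.mem_centralizer_singleton_iff.1 (hcle hx)) (odd_orderOf f.cent_odd hx),
      (Subgroup.mem_centralizer_iff.1 hx.2 u (hP h.uP)).symm⟩
  -- the torus
  obtain ⟨Z, hZdef⟩ : ∃ Z, Z = fq q Cz ⊓ Subgroup.centralizer (fq q Cz : Set G) := ⟨_, rfl⟩
  obtain ⟨z₁, hz₁, hz₁ne⟩ : ∃ z₁ ∈ Z, z₁ ≠ 1 := by
    haveI : Nontrivial ↥(fq q Cz) := (Subgroup.nontrivial_iff_ne_bot _).2 fun e =>
      hy1 (Subgroup.mem_bot.1 (e ▸ hyF))
    haveI := (fq_isPGroup q Cz).center_nontrivial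
    obtain ⟨z, hz⟩ := exists_ne (1 : Subgroup.center ↥(fq q Cz))
    refine ⟨((z : ↥(fq q Cz)) : G), hZdef ▸ ⟨(z : ↥(fq q Cz)).2, Subgroup.mem_centralizer_iff.2 fun w hw =>
      congrArg Subtype.val (Subgroup.mem_center_iff.1 z.2 ⟨w, hw⟩)⟩, fun e => hz (Subtype.ext (Subtype.ext e))⟩
  rw [hZdef] at hz₁
  have hz₁O : z₁ ∈ O := hfO q hq hq2 hz₁.1
  have hz₁N : z₁ ∈ N := hyN z₁ (Subgroup.mem_centralizer_iff.1 hz₁.2 y hyF).symm
  have hinv : ∀ w ∈ (P : Subgroup G), w ≠ 1 → w ≠ t → w * z₁ * w⁻¹ = z₁⁻¹ := by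
    intro w hw hw1 hwt
    have hwn : w ∈ Subgroup.normalizer ((fq q Cz ⊓ Subgroup.centralizer (fq q Cz : Set G) : Subgroup G) : Set G) :=
      Subgroup.inf_normalizer_le_normalizer_inf ⟨fq_le_norm q hq _ (h.P_le hw),
        normalizer_le_norm_cent _ (fq_le_norm q hq _ (h.P_le hw))⟩
    refine inverts (h.sq hw) hwn (fun z hz hzw => h.center q hq hq2 z hz.1
      (fun x hx => (Subgroup.mem_centralizer_iff.1 hz.2 x hx).symm) ?_) z₁ hz₁
    exact h.commute_u (h.mc.core_commute (hfO q hq hq2 hz.1)) hw hw1 hwt hzw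
  have hz₁L : z₁ ∈ lay N := by
    obtain ⟨k, hk⟩ := h.mc.core_orderOf hz₁O
    have h1 : z₁ * (u * z₁⁻¹ * u⁻¹) = z₁ * z₁ := by rw [← conj_inv, hinv u h.uP h.u_ne h.u_ne_t, inv_inv]
    have h2 : z₁ * z₁ ∈ lay N := by
      rw [← h1, show z₁ * (u * z₁⁻¹ * u⁻¹) = (z₁ * u * z₁⁻¹) * u⁻¹ by group]
      exact mul_mem ((Subgroup.mem_normalizer_iff.1 (lay_norm N hz₁N) u).1 (hP h.uP)) (inv_mem (hP h.uP))
    have h3 : (z₁ * z₁) ^ (k + 1) = z₁ := by
      rw [← pow_two, ← pow_mul, show 2 * (k + 1) = orderOf z₁ + 1 by omega, pow_succ, pow_orderOf_eq_one, one_mul]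
    exact h3 ▸ pow_mem h2 _
  obtain ⟨a, ha, haP, ha1, hat⟩ := h.conj_refl f hP
  have hz₁v : v * z₁ * v⁻¹ = z₁⁻¹ := by
    have hza : ∀ b ∈ O, ∀ w ∈ (P : Subgroup G), w ≠ 1 → w ≠ t → b⁻¹ * w * b * z₁ * (b⁻¹ * w * b)⁻¹ = z₁⁻¹ := by
      intro b hb w hw hw1 hwt
      have hbn : b ∈ Subgroup.normalizer ((fq q Cz ⊓ Subgroup.centralizer (fq q Cz : Set G) : Subgroup G) : Set G) :=
        Subgroup.inf_normalizer_le_normalizer_inf ⟨fq_le_norm q hq _ (h.mc.core_le hb),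
          normalizer_le_norm_cent _ (fq_le_norm q hq _ (h.mc.core_le hb))⟩
      have hbz := (Subgroup.mem_normalizer_iff.1 hbn z₁).1 hz₁
      have hwn : w ∈ Subgroup.normalizer ((fq q Cz ⊓ Subgroup.centralizer (fq q Cz : Set G) : Subgroup G) : Set G) :=
        Subgroup.inf_normalizer_le_normalizer_inf ⟨fq_le_norm q hq _ (h.P_le hw),
          normalizer_le_norm_cent _ (fq_le_norm q hq _ (h.P_le hw))⟩
      have hinvw := inverts (h.sq hw) hwn (fun z hz hzw => h.center q hq hq2 z hz.1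
        (fun x hx => (Subgroup.mem_centralizer_iff.1 hz.2 x hx).symm)
        (h.commute_u (h.mc.core_commute (hfO q hq hq2 hz.1)) hw hw1 hwt hzw)) _ hbz
      calc b⁻¹ * w * b * z₁ * (b⁻¹ * w * b)⁻¹ = b⁻¹ * (w * (b * z₁ * b⁻¹) * w⁻¹) * b := by group
        _ = _ := by rw [hinvw]; group
    have := hza a ha.2 _ haP ha1 hat
    rwa [show a⁻¹ * (a * v * a⁻¹) * a = v by group] at this
  have hz₁T : z₁ ∈ T := f.T_inv z₁ ⟨hz₁L, hz₁O⟩ hz₁v
  have hnofix : ∀ z ∈ lay N, z * z = 1 → z ≠ 1 → z ≠ t → Commute z t → ¬ Commute z z₁ := by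
    intro z hzL hz2 hz1 hzt hzc hcomm
    obtain ⟨b, hb, p, hp, e⟩ := h.decomp (Subgroup.mem_centralizer_singleton_iff.2 hzc.eq : z ∈ Cz)
    obtain ⟨H, hH⟩ : ∃ H, H = O ⊔ (P : Subgroup G) := ⟨_, rfl⟩
    have hzH : z ∈ H := hH ▸ e ▸ mul_mem (Subgroup.mem_sup_left hb) (Subgroup.mem_sup_right hp)
    obtain ⟨R, hR⟩ := (IsPGroup.of_card (p := 2) (n := 1) (G := Subgroup.zpowers (⟨z, hzH⟩ : ↥H)) (by
      rw [Nat.card_zpowers, Subgroup.orderOf_mk, orderOf_eq_prime (p := 2) (by rw [pow_two]; exact hz2) hz1,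
        pow_one])).exists_le_sylow
    obtain ⟨g, hg⟩ := MulAction.exists_smul_eq ↥H R (P.subtype (hH ▸ le_sup_right : (P : Subgroup G) ≤ H))
    have hgz : (g : G) * z * (g : G)⁻¹ ∈ (P : Subgroup G) := by
      have : (g * ⟨z, hzH⟩ * g⁻¹ : ↥H) ∈ (P.subtype (hH ▸ le_sup_right : (P : Subgroup G) ≤ H) : Subgroup ↥H) := by
        rw [← hg]; exact ⟨_, hR (Subgroup.mem_zpowers _), rfl⟩
      exact this
    have hgC : (g : G) ∈ Cz := (sup_le h.mc.core_le h.P_le : O ⊔ (P : Subgroup G) ≤ Cz) (hH ▸ g.2)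
    have hgn := Subgroup.inf_normalizer_le_normalizer_inf ⟨fq_le_norm q hq Cz hgC,
      normalizer_le_norm_cent _ (fq_le_norm q hq Cz hgC)⟩
    have h0 := (Subgroup.mem_normalizer_iff.1 hgn z₁).1 hz₁
    refine hz₁ne (conj_eq_one_iff.1 (h.center q hq hq2 _ h0.1
      (fun x hx => (Subgroup.mem_centralizer_iff.1 h0.2 x hx).symm)
      (h.commute_u (h.mc.core_commute (hfO q hq hq2 h0.1)) hgz (fun e => hz1 (conj_eq_one_iff.1 e))
        (fun e => hzt ?_) ((Commute.conj_iff (g : G)).2 hcomm.symm))))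
    calc z = (g : G)⁻¹ * ((g : G) * z * (g : G)⁻¹) * g := by group
      _ = t := by rw [e, mul_assoc, ← Subgroup.mem_centralizer_singleton_iff.1 hgC, inv_mul_cancel_left]
  obtain ⟨hTeq, hTinv, hTn, hTi⟩ : T = lay N ⊓ O ∧
      (∀ z ∈ N, z * z = 1 → z ≠ 1 → z ≠ t → Commute z t → ∀ x ∈ T, z * x * z⁻¹ = x⁻¹) ∧
      (∀ T' : Subgroup G, T' ≤ T → T' ≠ ⊥ → N ⊓ Subgroup.normalizer (T' : Set G) ≤ Cz) ∧
      (∀ P' : Sylow 2 G, (P' : Subgroup G) ≤ N ⊓ Cz →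
        (max (Nat.card ↥(P' : Subgroup G) / 2) 4 * Nat.card ↥T - 1) *
            (max (Nat.card ↥(P' : Subgroup G) / 2) 4 * Nat.card ↥T - 2) ≤
          2 * (N ⊓ Cz).relIndex N) := by
    rcases f.torus with h0 | ⟨z, hzL, hz2, hz1, hzt, hzc, hzT⟩ | ⟨e1, e2, e3, e4⟩
    · exact absurd (Subgroup.mem_bot.1 (h0 ▸ hz₁T)) hz₁ne
    · exact absurd (hzT z₁ hz₁T) (hnofix z hzL hz2 hz1 hzt hzc)
    · have hT : T = lay N ⊓ O := le_antisymm f.T_le fun l hl => by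
        obtain ⟨r, hr, hc⟩ := e1.2 l hl
        have := h.lay_center N hN htN _ (mul_mem (inv_mem (f.T_le hr)) hl) hc
        rwa [← inv_mul_eq_one.1 this]
      refine ⟨hT, e2, fun T' hT' hne => e3 hcle T' (hT'.trans f.T_le) fun hcen => hne ?_, e4⟩
      exact le_bot_iff.1 (f.T_disj ▸ le_inf hT' hcen)
  obtain ⟨ρ, hρL, hρt, hρu⟩ := h.rot_lay hP
  refine ⟨N, ρ, ⟨h, hq, hq2, hDdef ▸ hD, hN, hP, hρL, hρt, hρu, hK ▸ hKle, hK ▸ hcK, f.comm, hDdef ▸ hDL,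
    fun p hp hp2 x hx hxN hxu => h.fixed_lay htN f huN hp hp2 hx hxN hxu, hDdef ▸ hmax, ?_, hTeq ▸ hTn,
    hTeq ▸ f.T_cyclic, ?_⟩⟩
  · intro w hw hw1 hwt x hx
    exact hTinv w (lay_le N (hP hw)) (h.sq hw) hw1 hwt (h.comm hw h.tP) x (hTeq ▸ hx)
  · have := hTi P (le_inf (hP.trans (lay_le N)) h.P_le)
    rw [hTeq, show Nat.card (P : Subgroup G) = 4 from h.card, show max (4 / 2) 4 = 4 by norm_num] at this
    exact this

end Cfsg.Agent.GW
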