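import Cfsg.Agent.Lib.GW.RotationRange

/-!
# The inverted supplement of `O_q(C)` in `O`

`A = C_O(b)` for an inverted `b` of order prime to `q` outside `F(C)` is abelian, inverted by `u`, contains the torus,
supplements `F` and meets it in `Z(F)`.
-/

set_option autoImplicit false
set_option linter.unusedSectionVars false
set_option linter.style.haveILetI false

namespace Cfsg.Agent.GW

open Cfsg Cfsg.Agent
open Cfsg.Agent.Fusion.Dickson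

universe w

/-- the inverted supplement -/
structure Comp {G : Type w} [Group G] (q : ℕ) [Fact q.Prime] (t u : G) (O N : Subgroup G)
    (Φ : ↥O →* Matrix.SpecialLinearGroup (Fin 2) (ZMod q)) (A : Subgroup G) : Prop where
  le : A ≤ O
  comm : ∀ a ∈ A, ∀ b ∈ A, Commute a b
  inv : ∀ a ∈ A, u * a * u⁻¹ = a⁻¹
  torus_le : lay N ⊓ O ≤ A
  torus_iff : ∀ a : ↥O, (a : G) ∈ A → (Φ a = 1 ↔ (a : G) ∈ lay N ⊓ O)
  split : ∀ a ∈ O, ∃ f ∈ fq q (Subgroup.centralizer ({t} : Set G)), ∃ b ∈ A, a = f * b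
  meet : ∀ a ∈ A, a ∈ fq q (Subgroup.centralizer ({t} : Set G)) → a ∈ lay N ⊓ O
  free : ∀ a : ↥O, Φ a ≠ 1 → ∀ f ∈ fq q (Subgroup.centralizer ({t} : Set G)), Commute (a : G) f → f ∈ lay N ⊓ O
  card : Nat.card ↥A = Nat.card ↥Φ.range * Nat.card ↥(lay N ⊓ O)

variable {G : Type w} [Group G] [Finite G] [IsSimpleGroup G] {t u : G} {O N : Subgroup G} {P : Sylow 2 G} {q : ℕ}
  [Fact q.Prime] {ρ : G} {d x : G} {Φ : ↥O →* Matrix.SpecialLinearGroup (Fin 2) (ZMod q)}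

set_option quotPrecheck false in
local notation "Cz" => Subgroup.centralizer ({t} : Set G)

set_option quotPrecheck false in
local notation "Fq" => fq q (Subgroup.centralizer ({t} : Set G))

/-- the torus is central in `O` and killed by `Φ` -/
theorem Range.torus (c : RotCfg t u O P q N ρ) (s : Shape q t u O N d x) (A : Action q t u O N d x Φ)
    (g : Range q t u O N d Φ) {τ : G} (hτ : τ ∈ lay N ⊓ O) :
    Φ ⟨τ, hτ.2⟩ = 1 ∧ ∀ a ∈ O, Commute a τ := by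
  have hd := s.second
  have h1 : Φ ⟨τ, hτ.2⟩ = 1 := by
    refine g.semi _ ?_
    have h10 : (Φ ⟨τ, hτ.2⟩).1 1 0 = 0 := (A.line _).2 (by
      show τ * d * τ⁻¹ ∈ N
      rw [(c.torus_D hτ hd.mem hd.comm_u).eq, mul_inv_cancel_right]
      exact c.fq_N hd.mem hd.comm_u)
    have e : (Φ ⟨τ, hτ.2⟩).1 0 0 = (Φ ⟨τ, hτ.2⟩).1 1 1 := by
      rw [← (A.refl ⟨τ, hτ.2⟩ ⟨_, c.conj_u_mem hτ.2⟩ rfl).1, g.inv ⟨τ, hτ.2⟩ ⟨_, c.conj_u_mem hτ.2⟩ rfl]
      exact (inv_entries _).1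
    have hdt := det_eq (Φ ⟨τ, hτ.2⟩)
    rw [h10, ← e] at hdt
    rw [tr, ← e]
    linear_combination 4 * hdt
  refine ⟨h1, fun a ha => (Subgroup.mem_centralizer_singleton_iff.1 (mem_of_primary
    (K := Subgroup.centralizer ({a} : Set G)) fun y hy p k hp ho => Subgroup.mem_centralizer_singleton_iff.2 ?_)).symm⟩
  obtain ⟨hyO, hyp, hy2⟩ := c.primary hτ.2 ((g.fit _).1 h1) hy hp ho
  rcases hy2 with rfl | hp2
  · rw [one_mul, mul_one]
  by_cases hpq : p = q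
  · exact (c.core_central s (hpq ▸ hyp) (Subgroup.zpowers_le.2 hτ hy) ha).symm.eq
  · exact (c.core_other hp hp2 hpq hyp ha).symm.eq

/-- **the supplement exists** -/
theorem RotCfg.exists_comp (c : RotCfg t u O P q N ρ) (s : Shape q t u O N d x) (A : Action q t u O N d x Φ)
    (g : Range q t u O N d Φ) : ∃ A₀, Comp q t u O N Φ A₀ := by
  have hd := s.second
  have hui : u⁻¹ = u := inv_eq_of_mul_eq_one_right c.hyp.uu
  have hcan : ∀ {f : G}, f ∈ Fq → f ∈ O := fun hf => c.fq_core hf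
  -- `a (u a u) ∈ F`
  have hinvF : ∀ a ∈ O, a * (u * a * u⁻¹) ∈ Fq := by
    intro a ha
    obtain ⟨y, hy⟩ : ∃ y, y = a * (u * a * u⁻¹) := ⟨_, rfl⟩
    rw [← hy]
    have hyO : y ∈ O := hy ▸ O.mul_mem ha (c.conj_u_mem ha)
    have hy1 : Φ ⟨y, hyO⟩ = 1 := by
      rw [show (⟨y, hyO⟩ : ↥O) = ⟨a, ha⟩ * ⟨_, c.conj_u_mem ha⟩ from Subtype.ext hy, map_mul,
        g.inv ⟨a, ha⟩ ⟨_, c.conj_u_mem ha⟩ rfl, mul_inv_cancel]
    have hFn : (lay N ⊓ O) ≤ Subgroup.normalizer (Fq : Set G) := fun τ hτ =>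
      fq_le_norm q c.prime _ (c.hyp.mc.core_le hτ.2)
    have hsplit : y ∈ Fq ⊔ (lay N ⊓ O) := mem_of_primary fun z hz p k hp ho => by
      obtain ⟨hzO, hzp, hz2⟩ := c.primary hyO ((g.fit _).1 hy1) hz hp ho
      rcases hz2 with rfl | hp2
      · exact one_mem _
      by_cases hpq : p = q
      · exact Subgroup.mem_sup_left (hpq ▸ hzp)
      · exact Subgroup.mem_sup_right (c.other hp hp2 hpq hzp)
    rw [← SetLike.mem_coe, Subgroup.coe_mul_of_right_le_normalizer_left _ _ hFn] at hsplit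
    obtain ⟨f, hf, τ, hτ, hfτ⟩ := hsplit
    simp only at hfτ
    have hcomm : Commute a τ := (g.torus c s A hτ).2 a ha
    have hτu := c.torus_inv u c.hyp.uP c.hyp.u_ne c.hyp.u_ne_t τ hτ
    -- apply `u`
    have e1 : u * y * u⁻¹ = a⁻¹ * y * a := by
      rw [hy, show u * (a * (u * a * u⁻¹)) * u⁻¹ = (u * a * u) * a * (u⁻¹ * u⁻¹) by group, hui, c.hyp.uu, mul_one]
      group
    have e2 : u * f * u⁻¹ * τ⁻¹ = a⁻¹ * f * a * τ := by
      calc u * f * u⁻¹ * τ⁻¹ = u * f * u⁻¹ * (u * τ * u⁻¹) := by rw [hτu]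
        _ = u * y * u⁻¹ := by rw [← hfτ]; group
        _ = a⁻¹ * f * (τ * a) := by rw [e1, ← hfτ]; group
        _ = _ := by rw [← hcomm.eq]; group
    have hττ : τ * τ ∈ Fq := by
      have e3 : τ * τ = (a⁻¹ * f * a)⁻¹ * (u * f * u⁻¹) := by
        rw [eq_inv_mul_iff_mul_eq, ← mul_assoc, ← e2, inv_mul_cancel_right]
      rw [e3]
      have hfa := conj_fq c.prime (inv_mem (c.hyp.mc.core_le ha)) hf
      rw [inv_inv] at hfa
      exact (Fq).mul_mem ((Fq).inv_mem hfa) (conj_fq c.prime c.hyp.uC hf)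
    obtain ⟨j, hj⟩ := c.hyp.mc.core_orderOf hτ.2
    have e4 : (τ * τ) ^ (j + 1) = τ := by
      rw [← pow_two, ← pow_mul, show 2 * (j + 1) = orderOf τ + 1 by omega, pow_succ, pow_orderOf_eq_one, one_mul]
    rw [← hfτ]
    exact (Fq).mul_mem hf (e4 ▸ (Fq).pow_mem hττ _)
  have hsqrt : ∀ {y : G}, y ∈ O → y * y ∈ Fq → y ∈ Fq := fun {y} hy h => by
    obtain ⟨j, hj⟩ := c.hyp.mc.core_orderOf hy
    have e4 : (y * y) ^ (j + 1) = y := by
      rw [← pow_two, ← pow_mul, show 2 * (j + 1) = orderOf y + 1 by omega, pow_succ, pow_orderOf_eq_one, one_mul]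
    exact e4 ▸ (Fq).pow_mem h _
  -- `O / F` is abelian
  have hquot : ∀ a ∈ O, ∀ e ∈ O, a * e * a⁻¹ * e⁻¹ ∈ Fq := by
    haveI hn : ((Fq).subgroupOf O).Normal := (Subgroup.normal_subgroupOf_iff_le_normalizer fun f hf => hcan hf).2
      fun y hy => fq_le_norm q c.prime _ (c.hyp.mc.core_le hy)
    intro a ha e he
    obtain ⟨π, hπ⟩ : ∃ π, π = QuotientGroup.mk' ((Fq).subgroupOf O) := ⟨_, rfl⟩
    have hk : ∀ y : ↥O, π y = 1 ↔ (y : G) ∈ Fq := fun y => by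
      rw [hπ, QuotientGroup.mk'_apply, QuotientGroup.eq_one_iff, Subgroup.mem_subgroupOf]
    have hσ : ∀ y : ↥O, π ⟨_, c.conj_u_mem y.2⟩ = (π y)⁻¹ := fun y => by
      refine eq_inv_of_mul_eq_one_right ?_
      rw [← map_mul]
      exact (hk _).2 (hinvF y y.2)
    have h1 := hσ (⟨a, ha⟩ * ⟨e, he⟩)
    have h2 : (⟨_, c.conj_u_mem (⟨a, ha⟩ * ⟨e, he⟩ : ↥O).2⟩ : ↥O) =
        ⟨_, c.conj_u_mem ha⟩ * ⟨_, c.conj_u_mem he⟩ := Subtype.ext (by
      show u * (a * e) * u⁻¹ = u * a * u⁻¹ * (u * e * u⁻¹)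
      group)
    rw [h2, map_mul, hσ ⟨a, ha⟩, hσ ⟨e, he⟩, map_mul, mul_inv_rev] at h1
    have h3 : π ⟨a, ha⟩ * π ⟨e, he⟩ = π ⟨e, he⟩ * π ⟨a, ha⟩ := by
      have := congrArg (·⁻¹) h1
      simpa [mul_inv_rev] using this.symm
    refine (hk (⟨a, ha⟩ * ⟨e, he⟩ * ⟨a, ha⟩⁻¹ * ⟨e, he⟩⁻¹)).1 ?_
    rw [map_mul, map_mul, map_mul, map_inv, map_inv, h3, mul_inv_cancel_right, mul_inv_cancel]
  -- an inverted element of order prime to `q`
  obtain ⟨m, hm, hmd⟩ := s.moved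
  obtain ⟨a₁, ha₁⟩ : ∃ a₁, a₁ = m * (u * m⁻¹ * u⁻¹) := ⟨_, rfl⟩
  have ha₁O : a₁ ∈ O := ha₁ ▸ O.mul_mem hm (c.conj_u_mem (O.inv_mem hm))
  have ha₁i : u * a₁ * u⁻¹ = a₁⁻¹ := by
    rw [ha₁, show u * (m * (u * m⁻¹ * u⁻¹)) * u⁻¹ = (u * m * u) * m⁻¹ * (u⁻¹ * u⁻¹) by group, hui, c.hyp.uu, mul_one]
    group
    simp [zpow_neg, zpow_one, hui]
  have hord : ∀ a : ↥O, Odd (orderOf (Φ a)) := fun a =>
    (c.hyp.mc.core_odd.of_dvd_nat (orderOf_dvd_natCard a)).of_dvd_nat (orderOf_map_dvd Φ a)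
  have ha₁1 : Φ ⟨a₁, ha₁O⟩ ≠ 1 := by
    intro h
    rw [show (⟨a₁, ha₁O⟩ : ↥O) = ⟨m, hm⟩ * ⟨_, c.conj_u_mem (O.inv_mem hm)⟩ from Subtype.ext ha₁, map_mul,
      g.inv ⟨m⁻¹, O.inv_mem hm⟩ ⟨_, c.conj_u_mem (O.inv_mem hm)⟩ rfl,
      show (⟨m⁻¹, O.inv_mem hm⟩ : ↥O) = ⟨m, hm⟩⁻¹ from rfl, map_inv, inv_inv, ← pow_two] at h
    have h1 : Φ ⟨m, hm⟩ = 1 := orderOf_eq_one_iff.1 (Nat.eq_one_of_dvd_coprimes (hord ⟨m, hm⟩).coprime_two_left
      (orderOf_dvd_of_pow_eq_one h) dvd_rfl)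
    refine hmd ((A.line ⟨m, hm⟩).1 ?_)
    rw [h1]; exact (one_entries (F := ZMod q)).2.2.1
  obtain ⟨e, r, hr, her⟩ := Nat.exists_eq_pow_mul_and_not_dvd (orderOf_pos a₁).ne' q c.prime.one_lt.ne'
  obtain ⟨b, hb⟩ : ∃ b, b = a₁ ^ q ^ e := ⟨_, rfl⟩
  have hbO : b ∈ O := hb ▸ O.pow_mem ha₁O _
  have hbord : orderOf b = r := by
    rw [hb, orderOf_pow_of_dvd (pow_ne_zero _ c.prime.ne_zero) (her ▸ dvd_mul_right _ _), her,
      Nat.mul_div_cancel_left _ (pow_pos c.prime.pos _)]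
  have hb1 : Φ ⟨b, hbO⟩ ≠ 1 := by
    intro h
    rw [show (⟨b, hbO⟩ : ↥O) = ⟨a₁, ha₁O⟩ ^ q ^ e from Subtype.ext hb, map_pow] at h
    refine ha₁1 (g.semi _ ?_)
    rw [tr_of_pow_eq_one q h]
    norm_num
  have hbi : u * b * u⁻¹ = b⁻¹ := by rw [hb, ← conj_pow, ha₁i, inv_pow]
  have hfree : ∀ a : ↥O, Φ a ≠ 1 → ∀ f ∈ Fq, Commute (a : G) f → f ∈ lay N ⊓ O := fun a ha f hf hc =>
    by_contra fun hn => ha (g.semi a (by rw [A.fix a f hf hc hn]; norm_num))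
  obtain ⟨A₀, hA₀⟩ : ∃ A₀, A₀ = O ⊓ Subgroup.centralizer ({b} : Set G) := ⟨_, rfl⟩
  have hmem : ∀ {y : G}, y ∈ A₀ ↔ y ∈ O ∧ Commute y b := fun {y} => by
    rw [hA₀, Subgroup.mem_inf, Subgroup.mem_centralizer_singleton_iff]; exact Iff.rfl
  have hconj : u ∈ Subgroup.normalizer (A₀ : Set G) := mem_norm_of_conj fun y hy => by
    obtain ⟨hyO, hyb⟩ := hmem.1 hy
    refine hmem.2 ⟨c.conj_u_mem hyO, ?_⟩
    have := (Commute.conj_iff u).2 hyb.inv_right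
    rwa [← conj_inv, hbi, inv_inv] at this
  have hinv := inverts c.hyp.uu hconj fun y hy hyu => by
    obtain ⟨hyO, hyb⟩ := hmem.1 hy
    have hyz := g.fixed y hyO hyu
    exact c.torus_fix (hfree ⟨b, hbO⟩ hb1 y (Subgroup.zpowers_le.2 hd.mem hyz) hyb.symm) hyu
  have hcomm : ∀ a ∈ A₀, ∀ a' ∈ A₀, Commute a a' := fun a ha a' ha' => by
    have h := hinv _ (A₀.mul_mem ha ha')
    rw [show u * (a * a') * u⁻¹ = u * a * u⁻¹ * (u * a' * u⁻¹) by group, hinv a ha, hinv a' ha', ← mul_inv_rev] at h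
    exact (inv_injective h).symm
  -- the coset argument
  have hsplit : ∀ a ∈ O, ∃ f ∈ Fq, ∃ y ∈ A₀, a = f * y := by
    intro a ha
    have hnorm : Subgroup.zpowers b ≤ Subgroup.normalizer (O : Set G) :=
      (Subgroup.zpowers_le.2 hbO).trans Subgroup.le_normalizer
    have hFn : Subgroup.zpowers b ≤ Subgroup.normalizer (Fq : Set G) :=
      (Subgroup.zpowers_le.2 hbO).trans fun y hy => fq_le_norm q c.prime _ (c.hyp.mc.core_le hy)
    obtain ⟨n, hn⟩ := IsPGroup.iff_card.1 (fq_isPGroup q Cz)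
    obtain ⟨f, hf, hfix⟩ := Solv.exists_fixed_in_coset (Subgroup.zpowers b) Fq hFn
      (by rw [Nat.card_zpowers, hbord, hn]; exact ((c.prime.coprime_iff_not_dvd.2 hr).symm).pow_right n)
      (Or.inl (Group.isSolvable_of_comm fun y z =>
        (inferInstance : IsMulCommutative (Subgroup.zpowers b)).is_comm.comm y z))
      (x := a) fun y hy => by
        obtain ⟨i, rfl⟩ := Subgroup.mem_zpowers_iff.1 hy
        exact hquot a⁻¹ (O.inv_mem ha) (b ^ i) (O.zpow_mem hbO i) |> fun h => by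
          rwa [inv_inv, show a⁻¹ * b ^ i * a * (b ^ i)⁻¹ = a⁻¹ * (b ^ i * a * (b ^ i)⁻¹) by group] at h
    have haf : a * f ∈ O := O.mul_mem ha (hcan hf)
    have hcm : Commute (a * f) b := by
      obtain ⟨i, hi⟩ := (Subgroup.mem_normalizer_iff.1 hfix b).1 (Subgroup.mem_zpowers b)
      have hi : b ^ i = a * f * b * (a * f)⁻¹ := hi
      have hF : b ^ i * b⁻¹ ∈ Fq := hi ▸ hquot _ haf b hbO
      have hq1 : b ^ i * b⁻¹ = 1 := by
        obtain ⟨k, hk⟩ := IsPGroup.iff_orderOf.1 (fq_isPGroup q Cz) ⟨_, hF⟩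
        rw [Subgroup.orderOf_mk] at hk
        have hdvd : orderOf (b ^ i * b⁻¹) ∣ r := hbord ▸
          orderOf_dvd_of_mem_zpowers (mul_mem (Subgroup.zpow_mem_zpowers b i) (inv_mem (Subgroup.mem_zpowers b)))
        refine orderOf_eq_one_iff.1 (Nat.eq_one_of_dvd_coprimes ?_ (hk.le.trans' le_rfl |> fun _ => hk.dvd) hdvd)
        exact (c.prime.coprime_iff_not_dvd.2 hr).pow_left k
      rw [mul_inv_eq_one, hi] at hq1
      exact mul_inv_eq_iff_eq_mul.1 hq1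
    refine ⟨a * f⁻¹ * a⁻¹, ?_, a * f, hmem.2 ⟨haf, hcm⟩, by group⟩
    exact conj_fq c.prime (c.hyp.mc.core_le ha) ((Fq).inv_mem hf)
  have htor : lay N ⊓ O ≤ A₀ := fun τ hτ => hmem.2 ⟨hτ.2, ((g.torus c s A hτ).2 b hbO).symm⟩
  have hmeet : ∀ a ∈ A₀, a ∈ Fq → a ∈ lay N ⊓ O := fun a ha haF =>
    hfree ⟨b, hbO⟩ hb1 a haF (hmem.1 ha).2.symm
  have hiff : ∀ a : ↥O, (a : G) ∈ A₀ → (Φ a = 1 ↔ (a : G) ∈ lay N ⊓ O) := fun a haA => by
    refine ⟨fun h => ?_, fun h => (g.torus c s A h).1⟩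
    refine mem_of_primary fun y hy p k hp ho => ?_
    obtain ⟨hyO, hyp, hy2⟩ := c.primary a.2 ((g.fit a).1 h) hy hp ho
    rcases hy2 with rfl | hp2
    · exact one_mem _
    by_cases hpq : p = q
    · exact hmeet y (Subgroup.zpowers_le.2 haA hy) (hpq ▸ hyp)
    · exact c.other hp hp2 hpq hyp
  refine ⟨A₀, fun y hy => (hmem.1 hy).1, hcomm, hinv, htor, hiff, hsplit, hmeet, hfree, ?_⟩
  -- the index
  have hle : A₀ ≤ O := fun y hy => (hmem.1 hy).1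
  obtain ⟨ψ, hψ⟩ : ∃ ψ : ↥A₀ →* ↥Φ.range, ψ = Φ.rangeRestrict.comp (Subgroup.inclusion hle) := ⟨_, rfl⟩
  have hsurj : Function.Surjective ψ := by
    rintro ⟨_, a, rfl⟩
    obtain ⟨f, hf, y, hy, e'⟩ := hsplit a a.2
    refine ⟨⟨y, hy⟩, Subtype.ext ?_⟩
    rw [hψ]
    show Φ ⟨y, hle hy⟩ = Φ a
    rw [show a = ⟨f, hcan hf⟩ * ⟨y, hle hy⟩ from Subtype.ext e', map_mul,
      (g.fit ⟨f, hcan hf⟩).2 (inFit_fq c.prime hf), one_mul]
  have hker : ψ.ker = (lay N ⊓ O).subgroupOf A₀ := Subgroup.ext fun y => by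
    rw [MonoidHom.mem_ker, hψ, Subgroup.mem_subgroupOf, ← hiff ⟨y, hle y.2⟩ y.2]
    exact Subtype.ext_iff
  rw [← Subgroup.card_mul_index ψ.ker, Subgroup.index_ker, MonoidHom.range_eq_top.2 hsurj, Subgroup.card_top, hker,
    Nat.card_congr (Subgroup.subgroupOfEquivOfLe htor).toEquiv, mul_comm]

end Cfsg.Agent.GW
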