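import Cfsg.Agent.Lib.GW.RotationBlock
import Cfsg.Agent.Lib.GW.FourLinear
import Cfsg.Agent.Lib.Char.IndValue

/-!
# The pair count weighted by a character of the centralizer

Both involutions of a pair with product in the `t`-coset of the odd part lie in `C(t)`, in the classes of `u` and
`t u`, so the count weighted by `ξ` is the principal one times `ξ(u)² / ξ(1)`.
-/

set_option autoImplicit false
set_option linter.unusedSectionVars false
set_option linter.style.haveILetI false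

open scoped ComplexConjugate
open Cfsg

namespace Cfsg.Agent.GW

universe u

variable {G : Type u} [Group G] [Fintype G] {M : Ideal AlgInt} {P : Sylow 2 G} {t v : G}

local notation "W" => Subgroup.centralizer ((P : Subgroup G) : Set G)
set_option quotPrecheck false in
local notation "C" => Subgroup.centralizer ({t} : Set G)

theorem sum_conj' {H : Type*} [Group H] [Fintype H] (g : H) [DecidablePred (IsConj g)] (f : H → ℂ) :
    ∑ x : H, f (x * g * x⁻¹) =
      (Nat.card (Subgroup.centralizer ({g} : Set H)) : ℂ) * ∑ y : H with IsConj g y, f y := by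
  rw [← Char.sum_conj_eq g f]
  exact Fintype.sum_equiv (Equiv.inv H) _ _ fun x => by simp

open scoped Classical in
/-- The weighted column counts pairs of conjugates. -/
theorem pairSum_eq (k : G) :
    pairSum t k = (Nat.card G : ℂ)⁻¹ *
      ((Finset.univ.filter fun p : G × G => (p.1 * t * p.1⁻¹) * (p.2 * t * p.2⁻¹) = k⁻¹).card : ℂ) := by
  have hg : (Nat.card G : ℂ) ≠ 0 := Nat.cast_ne_zero.mpr Nat.card_pos.ne'
  let ab : G × G → G := fun p => (p.1 * t * p.1⁻¹) * (p.2 * t * p.2⁻¹)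
  have hc : ∀ χ : IrrCharacter G, (χ : G → ℂ) t ^ 2 / (χ : G → ℂ) 1 * (χ : G → ℂ) k =
      (Nat.card G : ℂ)⁻¹ * ((Nat.card G : ℂ)⁻¹ *
        ∑ p : G × G, (χ : G → ℂ) (ab p) * (χ : G → ℂ) k) := by
    intro χ
    have hz : ∀ z : G, ∑ w : G, (χ : G → ℂ) ((z * t * z⁻¹) * (w * t * w⁻¹)) =
        (Nat.card G : ℂ) * (χ : G → ℂ) t * (χ : G → ℂ) t / (χ : G → ℂ) 1 := by
      intro z
      rw [eq_div_iff (Char.irr_one_ne_zero χ.2), mul_comm, Char.sum_conj_mul χ.2,
        Char.isClassFunction_character (Char.irr_isCharacter χ.2)]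
    rw [Fintype.sum_prod_type]
    simp only [ab, ← Finset.sum_mul, hz, Finset.sum_const, Finset.card_univ, ← Nat.card_eq_fintype_card,
      nsmul_eq_mul]
    field_simp
  simp only [pairSum, hc, ← Finset.mul_sum]
  rw [Finset.sum_comm, Finset.sum_congr rfl (g := fun p : G × G =>
    if IsConj (ab p) k⁻¹ then ((Nat.card G : ℂ) / Nat.card {x : G // IsConj k⁻¹ x}) else 0) fun p _ => by
    rw [← Char.second_orth]
    exact Finset.sum_congr rfl fun χ _ => by
      rw [← Char.char_inv (Char.irr_isCharacter χ.2), inv_inv],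
    ← Finset.sum_filter, Finset.sum_const, nsmul_eq_mul]
  -- every conjugate of `k⁻¹` is a product equally often
  have hfib : (Finset.univ.filter fun p : G × G => IsConj (ab p) k⁻¹).card =
      Nat.card {x : G // IsConj k⁻¹ x} * (Finset.univ.filter fun p : G × G => ab p = k⁻¹).card := by
    rw [Finset.card_eq_sum_card_fiberwise (f := ab) (t := Finset.univ.filter fun x => IsConj k⁻¹ x)
      (fun p hp => Finset.mem_filter.2 ⟨Finset.mem_univ _, ((Finset.mem_filter.1 hp).2).symm⟩),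
      Nat.card_eq_fintype_card, Fintype.card_subtype]
    refine (Finset.sum_congr rfl fun x hx => ?_).trans (by rw [Finset.sum_const, smul_eq_mul])
    obtain ⟨c, rfl⟩ := isConj_iff.1 (Finset.mem_filter.1 hx).2
    have hconj : ∀ p : G × G, ab (c * p.1, c * p.2) = c * ab p * c⁻¹ := fun p => by
      simp only [ab]; group
    refine Finset.card_nbij' (fun p => (c⁻¹ * p.1, c⁻¹ * p.2)) (fun p => (c * p.1, c * p.2)) ?_ ?_ ?_ ?_
    · intro p hp
      simp only [Finset.coe_filter, Finset.mem_filter, Finset.mem_univ, true_and, Set.mem_setOf_eq] at hp ⊢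
      have h := hconj (c⁻¹ * p.1, c⁻¹ * p.2)
      simp only [mul_inv_cancel_left, Prod.mk.eta] at h
      rw [hp.2] at h
      exact (mul_left_cancel (mul_right_cancel h)).symm
    · intro p hp
      simp only [Finset.coe_filter, Finset.mem_filter, Finset.mem_univ, true_and, Set.mem_setOf_eq] at hp ⊢
      rw [hconj, hp]
      exact ⟨(isConj_iff.2 ⟨c, rfl⟩).symm, rfl⟩
    · intro p _; simp
    · intro p _; simp
  rw [hfib, Nat.cast_mul]
  have hx : (Nat.card {x : G // IsConj k⁻¹ x} : ℂ) ≠ 0 := by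
    haveI : Nonempty {x : G // IsConj k⁻¹ x} := ⟨⟨k⁻¹, IsConj.refl _⟩⟩
    exact Nat.cast_ne_zero.mpr Nat.card_pos.ne'
  field_simp
  rfl

open scoped Classical in
/-- The weighted count in terms of the value at `u`. -/
theorem weighted_count_aux (D : LinData P t v (fun _ => 1) 1) :
    ∃ κ : ℂ, ∀ ξ : IrrCharacter C,
      (∀ a c : C, (a : G) = t → (ξ : C → ℂ) (a * c) = (ξ : C → ℂ) c) → ∀ uC : C, (uC : G) = v * t * v⁻¹ →
      ∑ χ : IrrCharacter G, (χ : G → ℂ) t ^ 2 / (χ : G → ℂ) 1 * xiCoeff t ξ (χ : G → ℂ) =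
        κ * ((ξ : C → ℂ) uC * (ξ : C → ℂ) uC / (ξ : C → ℂ) 1) := by
  letI : Fintype C := Fintype.ofFinite _
  haveI : Fact (Nat.Prime 2) := ⟨Nat.prime_two⟩
  obtain ⟨η, hη, hη1, hKc, hK4⟩ := exists_proj D
  set u := v * t * v⁻¹ with hu
  have huC : u ∈ C := Subgroup.mem_centralizer_singleton_iff.mpr
    (Char.comm_of_exp_two (P := (P : Subgroup G)) D.exp u D.uP t D.tP)
  let uC : C := ⟨u, huC⟩
  let tC : C := ⟨t, Subgroup.mem_centralizer_singleton_iff.mpr rfl⟩
  have hηt : η tC = ⟨t, D.tP⟩ := hη tC D.tP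
  have hηu : η uC = ⟨u, D.uP⟩ := hη uC D.uP
  have htt : tC * tC = 1 := Subtype.ext (D.sq D.tP)
  have huu : uC * uC = 1 := Subtype.ext (D.sq D.uP)
  set Csu : ℂ := (Nat.card (Subgroup.centralizer ({uC} : Set C)) : ℂ)
  set Cstu : ℂ := (Nat.card (Subgroup.centralizer ({tC * uC} : Set C)) : ℂ)
  refine ⟨4 * (Nat.card C : ℂ)⁻¹ * (Nat.card G : ℂ)⁻¹ * ((Nat.card C : ℂ) * (Nat.card C : ℂ)) *
    (2 * ((Nat.card C : ℂ) * (Nat.card C : ℂ)) * (Csu⁻¹ * Cstu⁻¹)), fun ξ hξt uC' huC' => ?_⟩
  obtain rfl : uC' = uC := Subtype.ext huC'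
  -- the weight of a product
  let Φ : G → ℂ := fun x => if h : x ∈ C then (if η ⟨x, h⟩ = η tC then (ξ : C → ℂ) ⟨x, h⟩ else 0) else 0
  have hterm : ∑ χ : IrrCharacter G, (χ : G → ℂ) t ^ 2 / (χ : G → ℂ) 1 * xiCoeff t ξ (χ : G → ℂ) =
      4 * (Nat.card C : ℂ)⁻¹ * (Nat.card G : ℂ)⁻¹ *
        ∑ p : G × G, Φ ((p.1 * t * p.1⁻¹) * (p.2 * t * p.2⁻¹)) := by
    simp only [xiCoeff, Finset.mul_sum]
    rw [Finset.sum_comm]
    rw [Finset.sum_congr rfl (g := fun y : C => 4 * (Nat.card C : ℂ)⁻¹ * (Nat.card G : ℂ)⁻¹ *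
        ∑ p : G × G, if (p.1 * t * p.1⁻¹) * (p.2 * t * p.2⁻¹) = (t * (y : G))⁻¹
          then conj ((ξ : C → ℂ) y) else 0) fun y _ => by
      rw [← Finset.sum_filter, Finset.sum_const, nsmul_eq_mul]
      calc ∑ χ : IrrCharacter G, (χ : G → ℂ) t ^ 2 / (χ : G → ℂ) 1 *
            (4 * (Nat.card C : ℂ)⁻¹ * (conj ((ξ : C → ℂ) y) * (χ : G → ℂ) (t * (y : G))))
          = 4 * (Nat.card C : ℂ)⁻¹ * conj ((ξ : C → ℂ) y) * pairSum t (t * (y : G)) := by
            rw [pairSum, Finset.mul_sum]; exact Finset.sum_congr rfl fun χ _ => by ring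
        _ = _ := by rw [pairSum_eq]; ring]
    simp only [Finset.mul_sum]
    rw [Finset.sum_comm]
    refine Finset.sum_congr rfl fun p _ => ?_
    rw [← Finset.mul_sum]
    congr 1
    set x := (p.1 * t * p.1⁻¹) * (p.2 * t * p.2⁻¹) with hx
    by_cases h : x ∈ C ∧ ∀ h : x ∈ C, η ⟨x, h⟩ = η tC
    · obtain ⟨hxC, hxt⟩ := h
      have hxt := hxt hxC
      set y0 : C := (tC * ⟨x, hxC⟩)⁻¹ with hy0
      have hodd : ¬ 2 ∣ orderOf y0 := (hη1 y0).1 (by
        rw [hy0, map_inv, map_mul, hxt, ← map_mul, htt, map_one, inv_one])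
      have hval : x = (t * (y0 : G))⁻¹ := by
        rw [hy0]
        simp only [Subgroup.coe_inv, Subgroup.coe_mul, mul_inv_rev, inv_inv]
        show x = tC * x * (t : G)⁻¹
        rw [show ((tC : C) : G) = t from rfl,
          show t * x = x * t from (Subgroup.mem_centralizer_singleton_iff.1 hxC).symm, mul_inv_cancel_right]
      rw [Finset.sum_eq_single y0 (fun y _ hy => if_neg fun h' => hy (Subtype.ext ?_))
        (fun hn => absurd (Finset.mem_filter.2 ⟨Finset.mem_univ y0, hodd⟩) hn), if_pos hval]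
      · simp only [Φ, dif_pos hxC, if_pos hxt]
        rw [← Char.char_inv (Char.irr_isCharacter ξ.2), hy0, inv_inv, hξt tC _ rfl]
      · have := hval.symm.trans h'
        exact (mul_left_cancel (inv_injective this)).symm
    · rw [Finset.sum_eq_zero fun y hy => if_neg fun h' => h ?_]
      · simp only [Φ]
        split_ifs with h1 h2
        · exact absurd ⟨h1, fun _ => h2⟩ h
        · rfl
        · rfl
      · have hyo := (Finset.mem_filter.1 hy).2
        refine ⟨h' ▸ inv_mem (mul_mem tC.2 y.2), fun hC => ?_⟩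
        rw [show (⟨x, hC⟩ : C) = (tC * y)⁻¹ from Subtype.ext h', map_inv, map_mul, (hη1 y).2 hyo, mul_one,
          ← map_inv, inv_eq_of_mul_eq_one_left htt]
  rw [hterm, mul_assoc (4 * (Nat.card C : ℂ)⁻¹ * (Nat.card G : ℂ)⁻¹ * ((Nat.card C : ℂ) * (Nat.card C : ℂ))),
    mul_assoc (4 * (Nat.card C : ℂ)⁻¹ * (Nat.card G : ℂ)⁻¹)]
  congr 1
  rw [Fintype.sum_prod_type]
  -- pass to conjugates of `t`
  set A : Finset G := Finset.univ.filter fun y => IsConj t y with hA
  rw [sum_conj' t (fun a => ∑ w : G, Φ (a * (w * t * w⁻¹))),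
    Finset.sum_congr (s₁ := Finset.univ.filter fun y => IsConj t y) rfl fun a _ => sum_conj' t (fun b => Φ (a * b)),
    ← Finset.mul_sum, ← mul_assoc]
  refine congrArg₂ (· * ·) rfl ?_
  -- classes of `C(t)` over `u` and `t u`
  let Inv : C → Finset C := fun s => Finset.univ.filter fun c => c * c = 1 ∧ η c = η s
  have hclass : ∀ s : C, (s : G) ∈ (P : Subgroup G) → (s : G) ≠ 1 → ∀ c : C, IsConj s c ↔ (c * c = 1 ∧ η c = η s) := by
    intro s hs hs1 c
    constructor
    · intro h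
      obtain ⟨g, rfl⟩ := isConj_iff.1 h
      refine ⟨?_, ?_⟩
      · rw [conj_mul, show s * s = 1 from Subtype.ext (D.sq hs)]; simp
      · rw [map_mul, map_mul, map_inv]
        rw [show η g * η s = η s * η g from Subtype.ext (Char.comm_of_exp_two (P := (P : Subgroup G)) D.exp _ (η g).2 _
          (η s).2), mul_inv_cancel_right]
    · rintro ⟨hc2, hcη⟩
      have hPC : (P : Subgroup G) ≤ C := fun a ha => Subgroup.mem_centralizer_singleton_iff.2
        (Char.comm_of_exp_two (P := (P : Subgroup G)) D.exp a ha t D.tP)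
      obtain ⟨Q, hQ⟩ := (IsPGroup.of_card (n := 1) (by
        rw [Nat.card_zpowers, pow_one]
        refine orderOf_eq_prime (by rw [pow_two]; exact hc2) fun h => hs1 ?_
        rw [h, map_one] at hcη
        have := congrArg Subtype.val (hη s hs)
        rw [← hcη] at this
        exact this.symm) : IsPGroup 2 (Subgroup.zpowers c)).exists_le_sylow
      obtain ⟨g, hg⟩ := MulAction.exists_smul_eq C Q (P.subtype hPC)
      have hm : g * c * g⁻¹ ∈ (P.subtype hPC : Subgroup C) := by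
        rw [← hg]; exact ⟨c, hQ (Subgroup.mem_zpowers c), rfl⟩
      have hm' : ((g * c * g⁻¹ : C) : G) ∈ (P : Subgroup G) := hm
      refine (isConj_iff.2 ⟨g, ?_⟩).symm
      have e1 := congrArg Subtype.val (hη _ hm')
      have e2 := congrArg Subtype.val (hη s hs)
      rw [map_mul, map_mul, map_inv, show η g * η c = η c * η g from Subtype.ext
        (Char.comm_of_exp_two (P := (P : Subgroup G)) D.exp _ (η g).2 _ (η c).2), mul_inv_cancel_right, hcη] at e1
      exact Subtype.ext (e1.symm.trans e2)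
  have hsuC : (((tC * uC : C)) : G) ∈ (P : Subgroup G) := mul_mem D.tP D.uP
  have htu1 : ((tC * uC : C) : G) ≠ 1 := fun h => D.vne (by
    have h' : t * u = 1 := h
    exact (eq_inv_of_mul_eq_one_right h').trans (inv_eq_of_mul_eq_one_left (D.sq D.tP)))
  have hmain : ∀ s s' : C, (s : G) ∈ (P : Subgroup G) → (s : G) ≠ 1 → (s' : G) ∈ (P : Subgroup G) → (s' : G) ≠ 1 →
      (∑ a ∈ Inv s, ∑ b ∈ Inv s', (ξ : C → ℂ) (a * b)) * ((Nat.card (Subgroup.centralizer ({s} : Set C)) : ℂ) *
        (Nat.card (Subgroup.centralizer ({s'} : Set C)) : ℂ)) * (ξ : C → ℂ) 1 =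
        (Nat.card C : ℂ) * (Nat.card C : ℂ) * ((ξ : C → ℂ) s * (ξ : C → ℂ) s') := by
    intro s s' hs hs1 hs' hs1'
    have e : ∀ r : C, (r : G) ∈ (P : Subgroup G) → (r : G) ≠ 1 → Inv r = Finset.univ.filter fun c => IsConj r c :=
      fun r hr hr1 => Finset.filter_congr fun c _ => (hclass r hr hr1 c).symm
    rw [e s hs hs1, e s' hs' hs1']
    have h1 := sum_conj' (H := C) s (fun a => ∑ h : C, (ξ : C → ℂ) (a * (h * s' * h⁻¹)))
    rw [Finset.sum_congr (s₁ := Finset.univ.filter fun c => IsConj s c) rfl fun a _ =>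
      sum_conj' (H := C) s' (fun b => (ξ : C → ℂ) (a * b)), ← Finset.mul_sum] at h1
    rw [mul_comm (∑ a ∈ _, _) (_ * _), mul_assoc (Nat.card (Subgroup.centralizer ({s} : Set C)) : ℂ), ← h1,
      Finset.sum_mul]
    rw [Finset.sum_congr rfl fun g _ => by
      rw [mul_comm, Char.sum_conj_mul ξ.2, Char.isClassFunction_character (Char.irr_isCharacter ξ.2)],
      Finset.sum_const, Finset.card_univ, nsmul_eq_mul, ← Nat.card_eq_fintype_card]
    ring
  have hsplit : ∑ a ∈ A, ∑ b ∈ A, Φ (a * b) =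
      (∑ a ∈ Inv uC, ∑ b ∈ Inv (tC * uC), (ξ : C → ℂ) (a * b)) +
        (∑ a ∈ Inv (tC * uC), ∑ b ∈ Inv uC, (ξ : C → ℂ) (a * b)) := by
    have htu : η (tC * uC) = η tC * η uC := map_mul _ _ _
    have hne : η uC ≠ η (tC * uC) := fun h => by
      rw [htu, eq_comm, mul_eq_right] at h
      exact D.t1 (congrArg Subtype.val (hηt.symm.trans h))
    have hdis : Disjoint (Inv uC ×ˢ Inv (tC * uC)) (Inv (tC * uC) ×ˢ Inv uC) := by
      rw [Finset.disjoint_left]
      intro q h1 h2
      exact hne ((Finset.mem_filter.1 (Finset.mem_product.1 h1).1).2.2.symm.trans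
        (Finset.mem_filter.1 (Finset.mem_product.1 h2).1).2.2)
    rw [← Finset.sum_product', ← Finset.sum_product', ← Finset.sum_product', ← Finset.sum_union hdis]
    symm
    refine Finset.sum_bij_ne_zero (fun (q : C × C) _ _ => ((q.1 : G), (q.2 : G))) ?_ ?_ ?_ ?_
    · intro q hq _
      have hAmem : ∀ c : C, c * c = 1 → η c ≠ 1 → (c : G) ∈ A := fun c h1 h2 => by
        refine Finset.mem_filter.2 ⟨Finset.mem_univ _, D.one t c (D.order D.tP D.t1) ?_⟩
        rw [Subgroup.orderOf_coe]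
        exact orderOf_eq_prime (by rw [pow_two]; exact h1) fun h => h2 (by rw [h, map_one])
      have hu1 : η uC ≠ 1 := fun h => D.u1 (congrArg Subtype.val (hηu.symm.trans h))
      have htu' : η (tC * uC) ≠ 1 := fun h => htu1 (congrArg Subtype.val ((hη _ hsuC).symm.trans h))
      simp only [Finset.mem_union, Finset.mem_product, Inv, Finset.mem_filter, Finset.mem_univ, true_and] at hq
      refine Finset.mem_product.2 ?_
      rcases hq with ⟨⟨a1, a2⟩, b1, b2⟩ | ⟨⟨a1, a2⟩, b1, b2⟩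
      · exact ⟨hAmem _ a1 (a2 ▸ hu1), hAmem _ b1 (b2 ▸ htu')⟩
      · exact ⟨hAmem _ a1 (a2 ▸ htu'), hAmem _ b1 (b2 ▸ hu1)⟩
    · intro q _ _ q' _ _ h
      exact Prod.ext (Subtype.ext (congrArg Prod.fst h)) (Subtype.ext (congrArg Prod.snd h))
    · rintro ⟨a, b⟩ hab hne0
      obtain ⟨ha, hb⟩ := Finset.mem_product.1 hab
      have ha' := (Finset.mem_filter.1 ha).2
      have hb' := (Finset.mem_filter.1 hb).2
      have haa : a * a = 1 := by
        obtain ⟨g, rfl⟩ := isConj_iff.1 ha'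
        rw [conj_mul, D.sq D.tP]; simp
      have hbb : b * b = 1 := by
        obtain ⟨g, rfl⟩ := isConj_iff.1 hb'
        rw [conj_mul, D.sq D.tP]; simp
      have hnot : Φ (a * b) ≠ 0 := hne0
      have habC : a * b ∈ C := by
        by_contra h; exact hnot (dif_neg h)
      have habη : η ⟨a * b, habC⟩ = η tC := by
        by_contra h
        refine hnot ?_
        simp only [Φ, dif_pos habC, if_neg h]
      -- `a` fixes the involution part of the product
      have hyodd : ¬ 2 ∣ orderOf ((tC * ⟨a * b, habC⟩ : C) : G) := by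
        rw [Subgroup.orderOf_coe]; exact (hη1 _).1 (by rw [map_mul, habη, ← map_mul, htt, map_one])
      set y : G := ((tC * ⟨a * b, habC⟩ : C) : G) with hy
      have hab_eq : a * b = t * y := by
        show a * b = t * (t * (a * b))
        rw [← mul_assoc t, D.sq D.tP, one_mul]
      have hty : Commute t y := (Subgroup.mem_centralizer_singleton_iff.mp (SetLike.coe_mem (tC * (⟨a * b, habC⟩ : C)))).symm
      have hpk : ∃ k : ℕ, orderOf t = 2 ^ k := ⟨1, by rw [D.order D.tP D.t1, pow_one]⟩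
      have hai : a⁻¹ = a := inv_eq_of_mul_eq_one_left haa
      have hbi : b⁻¹ = b := inv_eq_of_mul_eq_one_left hbb
      have hinv : a * (t * y) * a⁻¹ = t * y⁻¹ := by
        rw [← hab_eq, ← mul_assoc, haa, one_mul]
        calc b * a⁻¹ = (a * b)⁻¹ := by rw [mul_inv_rev, hbi]
          _ = t * y⁻¹ := by
            rw [hab_eq, mul_inv_rev, inv_eq_of_mul_eq_one_left (D.sq D.tP)]; exact hty.inv_right.symm.eq
      have p1 : IsPPart 2 (t * y⁻¹) t :=
        ⟨y⁻¹, rfl, hty.inv_right, hpk, by rwa [orderOf_inv]⟩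
      have p2 : IsPPart 2 (t * y⁻¹) (a * t * a⁻¹) := by
        refine ⟨a * y * a⁻¹, by rw [conj_mul, hinv], hty.map (MulAut.conj a).toMonoidHom, ⟨1, ?_⟩, ?_⟩
        · rw [← MulAut.conj_apply, MulEquiv.orderOf_eq, D.order D.tP D.t1, pow_one]
        · rwa [← MulAut.conj_apply, MulEquiv.orderOf_eq]
      have haC : a ∈ C := Subgroup.mem_centralizer_singleton_iff.mpr
        (mul_inv_eq_iff_eq_mul.mp (Char.isPPart_unique Nat.prime_two p2 p1))
      have hbC : b ∈ C := by
        rw [show b = a⁻¹ * (a * b) by group]; exact mul_mem (inv_mem haC) habC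
      refine ⟨(⟨a, haC⟩, ⟨b, hbC⟩), ?_, ?_, rfl⟩
      swap
      · intro hz
        refine hne0 ?_
        show Φ (a * b) = 0
        simp only [Φ, dif_pos habC, if_pos habη]
        exact hz
      have hprod : η ⟨a, haC⟩ * η ⟨b, hbC⟩ = η tC := by rw [← map_mul]; exact habη
      have ha2 : (⟨a, haC⟩ : C) * ⟨a, haC⟩ = 1 := Subtype.ext haa
      have hb2 : (⟨b, hbC⟩ : C) * ⟨b, hbC⟩ = 1 := Subtype.ext hbb
      have hnz : ∀ c : C, c * c = 1 → (c : G) ≠ 1 → η c ≠ 1 := fun c h1 h2 h => by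
        refine (hη1 c).1 h ?_
        rw [orderOf_eq_prime (by rw [pow_two]; exact h1) (fun hc => h2 (by rw [hc]; rfl))]
      have hane : a ≠ 1 := fun h => by
        rw [h] at ha'; exact D.t1 (isConj_one_left.1 ha')
      have hbne : b ≠ 1 := fun h => by
        rw [h] at hb'; exact D.t1 (isConj_one_left.1 hb')
      have key : η ⟨a, haC⟩ = η uC ∨ η ⟨a, haC⟩ = η (tC * uC) := by
        rcases D.mem_cases (η ⟨a, haC⟩).2 with h | h | h | h
        · exact absurd (Subtype.ext h) (hnz _ ha2 hane)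
        · have h' : η ⟨a, haC⟩ = η tC := by rw [hηt]; exact Subtype.ext h
          rw [h', mul_eq_left] at hprod
          exact absurd hprod (hnz _ hb2 hbne)
        · exact Or.inl (by rw [hηu]; exact Subtype.ext h)
        · exact Or.inr (by rw [htu, hηt, hηu]; exact Subtype.ext h)
      have hsqP : ∀ x : (P : Subgroup G), x * x = 1 := D.exp
      simp only [Finset.mem_union, Finset.mem_product, Inv, Finset.mem_filter, Finset.mem_univ, true_and]
      have hbη : η ⟨b, hbC⟩ = η ⟨a, haC⟩ * η tC := by rw [← hprod, ← mul_assoc, hsqP, one_mul]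
      rcases key with h | h
      · refine Or.inl ⟨⟨ha2, h⟩, hb2, ?_⟩
        rw [hbη, h, htu]
        exact Subtype.ext (Char.comm_of_exp_two (P := (P : Subgroup G)) D.exp _ (η uC).2 _ (η tC).2)
      · refine Or.inr ⟨⟨ha2, h⟩, hb2, ?_⟩
        rw [hbη, h, htu, mul_assoc, show η uC * η tC = η tC * η uC from Subtype.ext
          (Char.comm_of_exp_two (P := (P : Subgroup G)) D.exp _ (η uC).2 _ (η tC).2), ← mul_assoc, hsqP, one_mul]
    · intro q hq _
      simp only [Finset.mem_union, Finset.mem_product, Inv, Finset.mem_filter, Finset.mem_univ, true_and] at hq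
      have hC' : (q.1 : G) * (q.2 : G) ∈ C := mul_mem q.1.2 q.2.2
      have hη' : η (q.1 * q.2) = η tC := by
        rcases hq with ⟨⟨-, a2⟩, -, b2⟩ | ⟨⟨-, a2⟩, -, b2⟩
        · rw [map_mul, a2, b2, ← map_mul,
            show uC * (tC * uC) = tC from Subtype.ext (by
              show u * (t * u) = t
              rw [← mul_assoc, show u * t = t * u from (Subgroup.mem_centralizer_singleton_iff.1 huC), mul_assoc,
                D.sq D.uP, mul_one])]
        · rw [map_mul, a2, b2, ← map_mul, mul_assoc, huu, mul_one]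
      show _ = Φ _
      simp only [Φ, dif_pos hC']
      rw [if_pos (show η ⟨(q.1 : G) * q.2, hC'⟩ = η tC from hη')]
      rfl
  rw [hsplit]
  have h1 := hmain uC (tC * uC) D.uP D.u1 hsuC htu1
  have h2 := hmain (tC * uC) uC hsuC htu1 D.uP D.u1
  rw [hξt tC uC rfl] at h1 h2
  have hξ1 : (ξ : C → ℂ) 1 ≠ 0 := Char.irr_one_ne_zero ξ.2
  have hc1 : Csu ≠ 0 := Nat.cast_ne_zero.mpr Nat.card_pos.ne'
  have hc2 : Cstu ≠ 0 := Nat.cast_ne_zero.mpr Nat.card_pos.ne'
  field_simp
  linear_combination h1 + h2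

open scoped Classical in
/-- The weighted count against the principal one. -/
theorem CharData.weighted_count {θ : W →* ℂˣ} {ξ : IrrCharacter C} (hM : IsPModular 2 M)
    (D : CharData M P t v θ ξ) (uC : C) (hu : (uC : G) = v * t * v⁻¹) :
    ∑ χ : IrrCharacter G, (χ : G → ℂ) t ^ 2 / (χ : G → ℂ) 1 * xiCoeff t ξ (χ : G → ℂ) =
      (ξ : C → ℂ) uC * (ξ : C → ℂ) uC / (ξ : C → ℂ) 1 *
        ∑ χ : IrrCharacter G with χ ∈ principalBlock M G, (χ : G → ℂ) t ^ 3 / (χ : G → ℂ) 1 := by
  letI : Fintype C := Fintype.ofFinite _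
  obtain ⟨η, -, hη1, hKc, hK4⟩ := exists_proj D.base
  obtain ⟨κ, hκ⟩ := weighted_count_aux D.base
  rw [hκ ξ D.at_t uC hu]
  have h0 := hκ (linIrr 1) (fun a c _ => by simp) uC hu
  have h := twisted_count η.ker hM (D.base.order D.base.tP D.base.t1) hKc (fun c hc => (hη1 c).2 hc) hK4
    (1 : C →* ℂˣ) (fun _ _ => rfl)
  have e : ∀ χ : G → ℂ, xiCoeff t (linIrr (1 : C →* ℂˣ)) χ = secCoeff t (1 : C →* ℂˣ) χ := fun χ => by
    simp [xiCoeff, secCoeff]
  simp only [e] at h0
  rw [h] at h0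
  rw [h0]
  simp only [linIrr_apply, MonoidHom.one_apply, Units.val_one]
  ring

end Cfsg.Agent.GW
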