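import Cfsg.Agent.Lib.GW.RotationInner
import Cfsg.Agent.Lib.Char.TwoDegreesPrime
import Cfsg.Agent.Lib.Char.AbelianTIDegree

/-!
# All nontrivial eigenvalues of an element of a small torus

A nontrivial irreducible character of a perfect group with an abelian subgroup `H` of order `2w`, in which every
nontrivial element of the group has few conjugating pairs, has degree above `w`, and then contains every
nontrivial character of a subgroup of order at most `w`.
-/

set_option autoImplicit false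
set_option linter.unusedSectionVars false
set_option linter.style.haveILetI false

open scoped ComplexConjugate
open Cfsg

namespace Cfsg.Agent.GW

universe u

section Abelian

variable {K : Type u} [Group K] [Fintype K]

theorem card_irr_of_comm (hc : ∀ a b : K, a * b = b * a) : Fintype.card (IrrCharacter K) = Fintype.card K := by
  rw [← Nat.card_eq_fintype_card, ← Nat.card_eq_fintype_card, Char.card_irr]
  refine (Nat.card_eq_of_bijective ConjClasses.mk ⟨fun a b h => ?_, ConjClasses.mk_surjective⟩).symm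
  obtain ⟨k, rfl⟩ := isConj_iff.1 (ConjClasses.mk_eq_mk_iff_isConj.1 h)
  rw [hc k a, mul_inv_cancel_right]

theorem degree_eq_sum (hc : ∀ a b : K, a * b = b * a) {F : K → ℂ} (k : IrrCharacter K → ℕ)
    (hk : F = ∑ μ, k μ • (μ : K → ℂ)) {d : ℕ} (hd : F 1 = d) : d = ∑ μ, k μ := by
  apply Nat.cast_injective (R := ℂ)
  rw [← hd, hk, Finset.sum_apply, Nat.cast_sum]
  exact Finset.sum_congr rfl fun μ _ => by
    rw [Pi.smul_apply, Char.forall_linear_iff_comm.1 hc μ, nsmul_eq_mul, mul_one]

open scoped Classical in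
/-- Cauchy–Schwarz for the constituents of a character of an abelian group. -/
theorem cauchy_support (hc : ∀ a b : K, a * b = b * a) {F : K → ℂ} (k : IrrCharacter K → ℕ)
    (hk : F = ∑ μ, k μ • (μ : K → ℂ)) {d : ℕ} (hd : F 1 = d) :
    (Finset.univ.filter fun μ => k μ ≠ 0).card ≤ d ∧
      (Fintype.card K : ℝ) * (d : ℝ) ^ 2 ≤
        ((Finset.univ.filter fun μ => k μ ≠ 0).card : ℝ) * ∑ x, Complex.normSq (F x) := by
  have hdk := degree_eq_sum hc k hk hd
  set S := Finset.univ.filter fun μ : IrrCharacter K => k μ ≠ 0 with hS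
  have hsum : ∑ μ ∈ S, k μ = d := by rw [hS, Finset.sum_filter_ne_zero, hdk]
  refine ⟨?_, ?_⟩
  · rw [← hsum, Finset.card_eq_sum_ones]
    exact Finset.sum_le_sum fun μ hμ => Nat.one_le_iff_ne_zero.2 (Finset.mem_filter.1 hμ).2
  rw [Char.AbTI.sum_normSq_eq, Char.AbTI.classInner_self_decomp k hk, Complex.natCast_re, Nat.card_eq_fintype_card,
    mul_left_comm (S.card : ℝ)]
  refine mul_le_mul_of_nonneg_left ?_ (Nat.cast_nonneg _)
  have h : d ^ 2 ≤ S.card * ∑ μ, k μ * k μ := by
    rw [← hsum]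
    refine (sq_sum_le_card_mul_sum_sq).trans (Nat.mul_le_mul_left _ ?_)
    simp only [pow_two]
    exact Finset.sum_le_sum_of_subset (Finset.subset_univ S)
  exact_mod_cast h

end Abelian

section Degree

variable {L : Type u} [Group L] [Fintype L] {t : L}

/-- No faithful character of degree at most two of a perfect group with a four group of conjugate involutions. -/
theorem three_le_deg (hperf : ∀ f : L →* ℂˣ, f = 1) (htop : ∀ N : Subgroup L, N.Normal → t ∈ N → N = ⊤)
    (K : Subgroup L) (hK : Nat.card K = 4) (hKc : ∀ a b : K, a * b = b * a)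
    (hKt : ∀ a : K, a ≠ 1 → IsConj t (a : L)) {χ : IrrCharacter L} (hχ : (χ : L → ℂ) ≠ fun _ => 1) :
    3 ≤ Char.deg (χ : L → ℂ) := by
  classical
  haveI : Fintype K := Fintype.ofFinite _
  have hpos := Char.deg_pos χ.2
  have hdeg1 : Char.deg (χ : L → ℂ) ≠ 1 := by
    intro h
    obtain ⟨f, hf⟩ := Char.exists_hom_of_degree_one (Char.irr_isCharacter χ.2)
      (by rw [Char.char_one_eq_deg (Char.irr_isCharacter χ.2), h, Nat.cast_one])
    refine hχ (funext fun g => ?_)
    rw [hf, hperf f]
    simp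
  by_contra hlt
  have hd2 : Char.deg (χ : L → ℂ) = 2 := by omega
  have h1 : (χ : L → ℂ) 1 = 2 := by
    rw [Char.char_one_eq_deg (Char.irr_isCharacter χ.2), hd2]; norm_num
  have hcl := Char.isClassFunction_character (Char.irr_isCharacter χ.2)
  have hval : ∀ a : K, a ≠ 1 → (χ : L → ℂ) (a : L) = (χ : L → ℂ) t := by
    intro a ha
    obtain ⟨g, hg⟩ := isConj_iff.1 (hKt a ha)
    rw [← hg, hcl]
  have hF := Char.isCharacter_comp K.subtype (Char.irr_isCharacter χ.2)
  obtain ⟨k, hk⟩ := Char.exists_decomposition hF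
  have hdk := degree_eq_sum hKc k hk (d := 2) (by simpa using h1)
  set one : IrrCharacter K := linIrr 1
  have hb : ∀ μ : IrrCharacter K, μ ≠ one → (k μ : ℂ) = (2 - (χ : L → ℂ) t) / 4 := by
    intro μ hμ
    rw [← Char.decomposition_coeff k hk μ]
    have horth : classInner (one : K → ℂ) (μ : K → ℂ) = 0 := by
      rw [Char.irr_orth one.2 μ.2, if_neg fun h => hμ (Subtype.ext h).symm]
    simp only [classInner, one, linIrr_apply, MonoidHom.one_apply, Units.val_one, one_mul] at horth
    have hμ1 : (μ : K → ℂ) 1 = 1 := Char.forall_linear_iff_comm.1 hKc μ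
    have h0 : ∑ x : K, conj ((μ : K → ℂ) x) = 0 :=
      (mul_eq_zero.1 horth).resolve_left (inv_ne_zero (Nat.cast_ne_zero.2 Nat.card_pos.ne'))
    rw [← Finset.add_sum_erase _ _ (Finset.mem_univ (1 : K)), hμ1, map_one] at h0
    simp only [classInner, Function.comp_apply, Subgroup.coe_subtype]
    rw [← Finset.add_sum_erase _ _ (Finset.mem_univ (1 : K)), Finset.sum_congr rfl fun x hx => by
      rw [hval x (Finset.ne_of_mem_erase hx)], ← Finset.mul_sum, hK, hμ1, map_one]
    rw [show ((1 : K) : L) = 1 from rfl, h1]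
    push_cast
    linear_combination ((χ : L → ℂ) t / 4) * h0
  obtain ⟨μ, hμ, hmin⟩ := Finset.exists_min_image (Finset.univ.erase one) k (by
    rw [← Finset.card_pos, Finset.card_erase_of_mem (Finset.mem_univ _), Finset.card_univ, card_irr_of_comm hKc,
      ← Nat.card_eq_fintype_card, hK]; norm_num)
  have hle : 3 * k μ ≤ 2 := by
    rw [hdk, ← Finset.add_sum_erase _ _ (Finset.mem_univ one)]
    refine le_trans ?_ (Nat.le_add_left _ _)
    refine le_of_eq_of_le ?_ (Finset.card_nsmul_le_sum _ k (k μ) hmin)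
    rw [Finset.card_erase_of_mem (Finset.mem_univ _), Finset.card_univ, card_irr_of_comm hKc,
      ← Nat.card_eq_fintype_card, hK, smul_eq_mul]
  have hk0 : k μ = 0 := by omega
  have h := hb μ (Finset.ne_of_mem_erase hμ)
  rw [hk0, Nat.cast_zero] at h
  have ht : (χ : L → ℂ) t = (χ : L → ℂ) 1 := by rw [h1]; linear_combination 4 * h
  have hker := htop _ (Char.TwoDeg.kerC_normal χ) (Char.TwoDeg.mem_kerC_of_eq χ ht)
  have hconst : ∀ g : L, (χ : L → ℂ) g = (χ : L → ℂ) 1 := fun g => by
    have h := (hker ▸ Subgroup.mem_top g : g ∈ Char.TwoDeg.kerC χ) 1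
    rwa [mul_one] at h
  have hn := Char.irr_self χ.2
  simp only [classInner, hconst, h1, map_ofNat, Finset.sum_const, Finset.card_univ, nsmul_eq_mul,
    ← Nat.card_eq_fintype_card] at hn
  rw [← mul_assoc, inv_mul_cancel₀ (Nat.cast_ne_zero.2 Nat.card_pos.ne'), one_mul] at hn
  norm_num at hn

open scoped Classical in
/-- The square sum of an irreducible character over a subgroup with small fibres. -/
theorem sum_sq_le (H : Subgroup L) [Fintype H] {c : ℕ}
    (hfib : ∀ y : L, y ≠ 1 → (Finset.univ.filter fun p : H × L => p.2 * p.1 * p.2⁻¹ = y).card ≤ c)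
    (χ : IrrCharacter L) :
    ∑ x : H, Complex.normSq ((χ : L → ℂ) x) ≤ (Char.deg (χ : L → ℂ) : ℝ) ^ 2 + c := by
  rw [← Finset.add_sum_erase _ _ (Finset.mem_univ (1 : H)), OneMemClass.coe_one,
    Char.char_one_eq_deg (Char.irr_isCharacter χ.2), Complex.normSq_natCast, ← pow_two]
  refine (add_le_add_iff_left _).2 ?_
  set f : L → ℝ := fun y => Complex.normSq ((χ : L → ℂ) y) with hf
  have hcl := Char.isClassFunction_character (Char.irr_isCharacter χ.2)
  have htot : ∑ y, f y = Nat.card L := by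
    rw [hf, Char.AbTI.sum_normSq_eq, Char.irr_self χ.2]; simp
  have e : (Nat.card L : ℝ) * ∑ x ∈ Finset.univ.erase (1 : H), f x =
      ∑ p ∈ (Finset.univ.erase (1 : H)) ×ˢ (Finset.univ : Finset L), f (p.2 * p.1 * p.2⁻¹) := by
    rw [Finset.sum_product, Finset.mul_sum]
    refine Finset.sum_congr rfl fun x _ => ?_
    rw [Finset.sum_congr rfl fun g _ => show f (g * (x : L) * g⁻¹) = f x from congrArg Complex.normSq (hcl x g),
      Finset.sum_const, Finset.card_univ, nsmul_eq_mul, Nat.card_eq_fintype_card]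
  refine le_of_mul_le_mul_left ?_ (Nat.cast_pos.2 (Nat.card_pos (α := L)))
  calc (Nat.card L : ℝ) * ∑ x ∈ Finset.univ.erase (1 : H), f x
      = ∑ y : L, ∑ p ∈ ((Finset.univ.erase (1 : H)) ×ˢ (Finset.univ : Finset L)).filter
          (fun p => p.2 * p.1 * p.2⁻¹ = y), f (p.2 * p.1 * p.2⁻¹) := by
        rw [e]; exact (Finset.sum_fiberwise _ _ _).symm
    _ ≤ ∑ y : L, (c : ℝ) * f y := Finset.sum_le_sum fun y _ => by
        rw [Finset.sum_congr rfl (g := fun _ => f y) fun p hp => by rw [(Finset.mem_filter.1 hp).2],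
          Finset.sum_const, nsmul_eq_mul]
        refine mul_le_mul_of_nonneg_right ?_ (Complex.normSq_nonneg _)
        by_cases hy : y = 1
        · rw [Finset.filter_eq_empty_iff.2 ?_]; · simp
          intro p hp h
          refine Finset.ne_of_mem_erase (Finset.mem_product.1 hp).1 (Subtype.ext ?_)
          rw [hy] at h
          exact conj_eq_one_iff.1 h
        · exact Nat.cast_le.2 ((Finset.card_le_card (Finset.filter_subset_filter _ (Finset.subset_univ _))).trans
            (hfib y hy))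
    _ = (Nat.card L : ℝ) * c := by rw [← Finset.mul_sum, htot, mul_comm]

open scoped Classical in
/-- Every nontrivial character of a small subgroup of `H` is a constituent. -/
theorem full_support (H : Subgroup L) [Fintype H] (hc : ∀ a b : H, a * b = b * a) {w : ℕ}
    (hH : Nat.card H = 2 * w) (hw : 5 ≤ w)
    (hfib : ∀ y : L, y ≠ 1 → (Finset.univ.filter fun p : H × L => p.2 * p.1 * p.2⁻¹ = y).card ≤ 4 * w)
    (Z : Subgroup L) [Fintype Z] (hZH : Z ≤ H) (hZw : Nat.card Z ≤ w)
    (χ : IrrCharacter L) (h3 : 3 ≤ Char.deg (χ : L → ℂ))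
    (hreal : ∀ x : Z, IsConj (x : L) (x : L)⁻¹) (lam : Z →* ℂˣ) (z : Z) (hz : lam z * lam z ≠ 1) :
    classInner (fun x : Z => (χ : L → ℂ) x) (fun x : Z => (lam x : ℂ)) ≠ 0 := by
  intro h0
  set d := Char.deg (χ : L → ℂ) with hd
  have hd3 : (3 : ℝ) ≤ d := by exact_mod_cast h3
  have hw5 : (5 : ℝ) ≤ w := by exact_mod_cast hw
  have hsum := sum_sq_le H hfib χ
  push_cast at hsum
  -- the degree
  obtain ⟨k, hk⟩ := Char.exists_decomposition (Char.isCharacter_comp H.subtype (Char.irr_isCharacter χ.2))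
  obtain ⟨hS, hCS⟩ := cauchy_support hc k hk (d := d)
    (by simp [hd, Char.char_one_eq_deg (Char.irr_isCharacter χ.2)])
  rw [← Nat.card_eq_fintype_card, hH] at hCS
  push_cast at hCS
  have hS' : ((Finset.univ.filter fun μ => k μ ≠ 0).card : ℝ) ≤ d := by exact_mod_cast hS
  have hn0 : (0 : ℝ) ≤ ∑ x : H, Complex.normSq (((χ : L → ℂ) ∘ H.subtype) x) :=
    Finset.sum_nonneg fun x _ => Complex.normSq_nonneg _
  have hdeg : 2 * (w : ℝ) * d ≤ (d : ℝ) ^ 2 + 4 * w := by
    have h := hCS.trans (mul_le_mul hS' hsum hn0 (by positivity))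
    refine le_of_mul_le_mul_right ?_ (show (0 : ℝ) < d by linarith)
    linarith
  have hdw : (w : ℝ) < d := by
    by_contra h
    push Not at h
    nlinarith
  -- the support on `Z`
  have hcZ : ∀ a b : Z, a * b = b * a := fun a b => by
    have := hc ⟨a, hZH a.2⟩ ⟨b, hZH b.2⟩
    exact Subtype.ext (congrArg (fun x : H => (x : L)) this)
  obtain ⟨m, hm⟩ := Char.exists_decomposition (Char.isCharacter_comp Z.subtype (Char.irr_isCharacter χ.2))
  obtain ⟨-, hCZ⟩ := cauchy_support hcZ m hm (d := d)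
    (by simp [hd, Char.char_one_eq_deg (Char.irr_isCharacter χ.2)])
  set μ := linIrr lam
  set μ' := linIrr lam⁻¹
  have hμ : m μ = 0 := by
    rw [← Nat.cast_inj (R := ℂ), ← Char.decomposition_coeff m hm μ, Nat.cast_zero]
    exact h0
  have hμ' : m μ' = 0 := by
    rw [← Nat.cast_inj (R := ℂ), ← Char.decomposition_coeff m hm μ', Nat.cast_zero]
    have e : classInner ((χ : L → ℂ) ∘ Z.subtype) (μ' : Z → ℂ) = classInner ((χ : L → ℂ) ∘ Z.subtype) (μ : Z → ℂ) := by
      simp only [classInner, Function.comp_apply, μ, μ', linIrr_apply]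
      congr 1
      refine Fintype.sum_equiv (Equiv.inv Z) _ _ fun x => ?_
      obtain ⟨g, hg⟩ := isConj_iff.1 (hreal x)
      show (χ : L → ℂ) x * conj ((lam⁻¹ x : ℂˣ) : ℂ) = (χ : L → ℂ) ((x⁻¹ : Z) : L) * conj ((lam x⁻¹ : ℂˣ) : ℂ)
      rw [MonoidHom.inv_apply, map_inv, Subgroup.coe_inv, ← hg,
        Char.isClassFunction_character (Char.irr_isCharacter χ.2)]
    rw [e]; exact h0
  have hne : μ ≠ μ' := fun h => hz (by
    have h' := congrFun (congrArg Subtype.val h) z
    simp only [μ, μ', linIrr_apply, MonoidHom.inv_apply, Units.val_inv_eq_inv_val] at h'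
    refine Units.ext ?_
    rw [Units.val_mul, Units.val_one]
    nth_rewrite 1 [h']
    exact inv_mul_cancel₀ (Units.ne_zero _))
  have hle : (Finset.univ.filter fun ν => m ν ≠ 0).card + 2 ≤ Nat.card Z := by
    rw [Nat.card_eq_fintype_card, ← card_irr_of_comm hcZ, ← Finset.card_pair hne, ← Finset.card_union_of_disjoint
      (Finset.disjoint_left.2 fun ν hν h => by
        rcases Finset.mem_insert.1 h with rfl | h
        · exact (Finset.mem_filter.1 hν).2 hμ
        · rw [Finset.mem_singleton.1 h] at hν; exact (Finset.mem_filter.1 hν).2 hμ')]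
    exact Finset.card_le_univ _
  have hZsum : ∑ x : Z, Complex.normSq (((χ : L → ℂ) ∘ Z.subtype) x) ≤ (d : ℝ) ^ 2 + 4 * w := by
    refine le_trans (le_of_eq_of_le ?_ (Finset.sum_le_sum_of_subset_of_nonneg
      (Finset.subset_univ ((Finset.univ : Finset Z).map ⟨Subgroup.inclusion hZH, Subgroup.inclusion_injective hZH⟩))
      fun x _ _ => Complex.normSq_nonneg ((χ : L → ℂ) (x : L)))) hsum
    rw [Finset.sum_map]
    rfl
  rw [← Nat.card_eq_fintype_card] at hCZ
  have hq : ((Finset.univ.filter fun ν => m ν ≠ 0).card : ℝ) + 2 ≤ Nat.card Z := by exact_mod_cast hle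
  have hqw : (Nat.card Z : ℝ) ≤ w := by exact_mod_cast hZw
  have hs0 : (0 : ℝ) ≤ ((Finset.univ.filter fun ν => m ν ≠ 0).card : ℝ) := Nat.cast_nonneg _
  have h := hCZ.trans (mul_le_mul_of_nonneg_left hZsum hs0)
  nlinarith

end Degree

end Cfsg.Agent.GW
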