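import Cfsg.Agent.Lib.GW.RotationCount
import Cfsg.Agent.Lib.GW.RotationSupport

/-!
# The degrees in the block of the rotation case

The four characters with coefficient in the block contain every nontrivial character of the centre `Z` of the
`q`-part, with multiplicity divisible by `2ql`; so their degrees are at least `2ql(q-1)` and the weighted pair
count is too small.
-/

set_option autoImplicit false
set_option linter.unusedSectionVars false
set_option linter.style.haveILetI false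

open scoped ComplexConjugate
open Cfsg

namespace Cfsg.Agent.GW

universe u

variable {G : Type u} [Group G] [Fintype G]

/-- The divisibility transferred to a subgroup of the whole group. -/
theorem index_dvd_mult (H : Subgroup G) [Fintype H] (hc : ∀ a b : H, a * b = b * a) (A₀ : Subgroup H)
    (Z : Subgroup G) [Fintype Z] (hZH : Z ≤ H) (hZA : ∀ z : Z, Subgroup.inclusion hZH z ∈ A₀)
    {F : G → ℂ} (hF : IsCharacter G F) (lam : Z →* ℂˣ)
    (hinv : ∀ L L' : H →* ℂˣ, (∀ a ∈ A₀, L a = L' a) → (∀ z : Z, L (Subgroup.inclusion hZH z) = lam z) →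
      classInner (fun h : H => F h) (fun h => (L h : ℂ)) = classInner (fun h : H => F h) (fun h => (L' h : ℂ)))
    {n : ℕ} (hn : classInner (fun z : Z => F z) (fun z : Z => (lam z : ℂ)) = n) : A₀.index ∣ n := by
  classical
  haveI : Fintype A₀ := Fintype.ofFinite _
  haveI : Fintype (Z.subgroupOf H) := Fintype.ofFinite _
  let e := Subgroup.subgroupOfEquivOfLe hZH
  refine index_dvd_of_const hc (F := fun h : H => F h) (Char.isCharacter_comp H.subtype hF) A₀ (Z.subgroupOf H)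
    (fun h hh => hZA ⟨(h : G), hh⟩) (lam.comp e.toMonoidHom)
    (fun L L' hA hL => hinv L L' hA fun z => (hL ⟨Subgroup.inclusion hZH z, z.2⟩).trans rfl) ?_
  rw [← hn, classInner, classInner, Nat.card_congr e.toEquiv]
  exact congrArg _ (Fintype.sum_equiv e.toEquiv _ _ fun x => rfl)

/-- The inequality against the lower bound of the principal count. -/
theorem rotation_arith {q l : ℕ} (hq : 5 ≤ q) (hlq : 2 * l ≤ q + 1) :
    (3 : ℚ) * (l : ℚ) ^ 2 / (2 * q * ((q : ℚ) - 1)) ≤ 5 / 7 := by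
  have hq' : (5 : ℚ) ≤ q := by exact_mod_cast hq
  have hl : 2 * (l : ℚ) ≤ q + 1 := by exact_mod_cast hlq
  rw [div_le_div_iff₀ (by nlinarith) (by norm_num)]
  nlinarith [mul_le_mul hl hl (by positivity) (by positivity)]

variable {M : Ideal AlgInt} {P : Sylow 2 G} {t v : G}

local notation "W" => Subgroup.centralizer ((P : Subgroup G) : Set G)
set_option quotPrecheck false in
local notation "C" => Subgroup.centralizer ({t} : Set G)

/-- The perfect subgroup with a small torus through `Z`. -/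
structure TorusData (t : G) (Z : Subgroup G) (q : ℕ) : Prop where
  exists_data : ∃ (L : Subgroup G) (tL : L) (K H : Subgroup L) (w : ℕ), (tL : G) = t ∧ Z ≤ L ∧
    (∀ f : L →* ℂˣ, f = 1) ∧ (∀ N : Subgroup L, N.Normal → tL ∈ N → N = ⊤) ∧
    Nat.card K = 4 ∧ (∀ a b : K, a * b = b * a) ∧ (∀ a : K, a ≠ 1 → IsConj tL (a : L)) ∧
    (∀ a b : H, a * b = b * a) ∧ Nat.card H = 2 * w ∧ q ≤ w ∧ Z.subgroupOf L ≤ H ∧
    (∀ y : L, y ≠ 1 → Nat.card {p : H × L // p.2 * p.1 * p.2⁻¹ = y} ≤ 4 * w) ∧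
    ∀ x : L, (x : G) ∈ Z → IsConj x x⁻¹

open scoped Classical in
/-- Every nontrivial character of `Z` is a constituent. -/
theorem TorusData.constituent [IsSimpleGroup G] {Z : Subgroup G} [Fintype Z] {q : ℕ} (T : TorusData t Z q)
    (hq : 5 ≤ q) (hZq : Nat.card Z = q) (χ : IrrCharacter G) (hχ : (χ : G → ℂ) ≠ fun _ => 1)
    (lam : Z →* ℂˣ) (z : Z) (hz : lam z * lam z ≠ 1) :
    classInner (fun x : Z => (χ : G → ℂ) x) (fun x : Z => (lam x : ℂ)) ≠ 0 := by
  obtain ⟨L, tL, K, H, w, htL, hZL, hperf, htop, hK, hKc, hKt, hHc, hH, hqw, hZH, hfib, hreal⟩ := T.exists_data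
  haveI : Fintype L := Fintype.ofFinite _
  haveI : Fintype H := Fintype.ofFinite _
  obtain ⟨k, hk⟩ := Char.exists_decomposition (Char.isCharacter_comp L.subtype (Char.irr_isCharacter χ.2))
  obtain ⟨ψ, hψ, hψ1⟩ : ∃ ψ : IrrCharacter L, k ψ ≠ 0 ∧ (ψ : L → ℂ) ≠ fun _ => 1 := by
    by_contra! hno
    have hconst : ∀ g : L, (χ : G → ℂ) g = (χ : G → ℂ) ((1 : L) : G) := by
      intro g
      have h1 := congrFun hk g
      have h2 := congrFun hk 1
      simp only [Function.comp_apply, Subgroup.coe_subtype, Finset.sum_apply, Pi.smul_apply] at h1 h2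
      rw [h1, h2]
      refine Finset.sum_congr rfl fun ψ _ => ?_
      by_cases h : k ψ = 0
      · simp [h]
      · rw [hno ψ h]
    have hle : L ≤ Char.TwoDeg.kerC χ := fun g hg => Char.TwoDeg.mem_kerC_of_eq χ (hconst ⟨g, hg⟩)
    rcases IsSimpleGroup.eq_bot_or_eq_top_of_normal _ (Char.TwoDeg.kerC_normal χ) with h | h
    · rw [h] at hle
      have hL : L = ⊥ := eq_bot_iff.2 hle
      have := Subgroup.card_subgroup_dvd_card K
      rw [hK, hL, Subgroup.card_bot] at this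
      omega
    · have hg : ∀ g : G, (χ : G → ℂ) g = (χ : G → ℂ) 1 := fun g => by
        have h' := (h ▸ Subgroup.mem_top g : g ∈ Char.TwoDeg.kerC χ) 1
        rwa [mul_one] at h'
      have hn := Char.irr_self χ.2
      simp only [classInner, hg, Finset.sum_const, Finset.card_univ, nsmul_eq_mul, ← Nat.card_eq_fintype_card] at hn
      rw [← mul_assoc, inv_mul_cancel₀ (Nat.cast_ne_zero.2 Nat.card_pos.ne'), one_mul,
        Char.char_one_eq_deg (Char.irr_isCharacter χ.2), map_natCast] at hn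
      have hd : Char.deg (χ : G → ℂ) = 1 := Nat.eq_one_of_mul_eq_one_right (by exact_mod_cast hn)
      exact hχ (funext fun g => by rw [hg, Char.char_one_eq_deg (Char.irr_isCharacter χ.2), hd, Nat.cast_one])
  let ZL := Z.subgroupOf L
  haveI : Fintype ZL := Fintype.ofFinite _
  let e := Subgroup.subgroupOfEquivOfLe hZL
  have hfib' : ∀ y : L, y ≠ 1 →
      (Finset.univ.filter fun p : H × L => p.2 * p.1 * p.2⁻¹ = y).card ≤ 4 * w := fun y hy => by
    rw [← Fintype.card_subtype, ← Nat.card_eq_fintype_card]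
    exact hfib y hy
  have hfull := full_support H hHc hH (hq.trans hqw) (fun y hy => by convert hfib' y hy) ZL hZH
    (by rw [Nat.card_congr e.toEquiv, hZq]; exact hqw) ψ (three_le_deg hperf htop K hK hKc hKt hψ1)
    (fun x => hreal x x.2) (lam.comp e.toMonoidHom) (e.symm z) (by simpa using hz)
  intro h0
  refine hfull ?_
  have hsum : classInner (fun x : ZL => (χ : G → ℂ) ((x : L) : G)) (fun x : ZL => (lam (e x) : ℂ)) = 0 := by
    rw [← h0, classInner, classInner, Nat.card_congr e.toEquiv]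
    exact congrArg _ (Fintype.sum_equiv e.toEquiv _ _ fun x => rfl)
  have hnat : ∀ φ : IrrCharacter L, ∃ n : ℕ,
      classInner (fun x : ZL => (φ : L → ℂ) x) (fun x : ZL => (lam (e x) : ℂ)) = n := fun φ =>
    Char.classInner_natCast (Char.isCharacter_comp ZL.subtype (Char.irr_isCharacter φ.2))
      (Char.irr_isCharacter (linIrr (lam.comp e.toMonoidHom)).2)
  choose n hn using hnat
  rw [show (fun x : ZL => (χ : G → ℂ) ((x : L) : G)) = ∑ φ : IrrCharacter L, (k φ : ℂ) • fun x : ZL => (φ : L → ℂ) x by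
    funext x
    rw [show (χ : G → ℂ) ((x : L) : G) = ((χ : G → ℂ) ∘ L.subtype) (x : L) from rfl, congrFun hk (x : L),
      Finset.sum_apply, Finset.sum_apply]
    exact Finset.sum_congr rfl fun φ _ => by rw [Pi.smul_apply, Pi.smul_apply, nsmul_eq_mul, smul_eq_mul],
    Char.classInner_sum_left] at hsum
  simp only [Char.classInner_smul_left, hn] at hsum
  have hz' : ∑ φ, k φ * n φ = 0 := by exact_mod_cast hsum
  show classInner (fun x : ZL => (ψ : L → ℂ) x) (fun x : ZL => (lam (e x) : ℂ)) = 0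
  rw [hn, (mul_eq_zero.1 ((Finset.sum_eq_zero_iff.1 hz') ψ (Finset.mem_univ _))).resolve_left hψ, Nat.cast_zero]

variable {θ : Subgroup.centralizer ((P : Subgroup G) : Set G) →* ℂˣ}
  {ξ : IrrCharacter (Subgroup.centralizer ({t} : Set G))}

open scoped Classical in
/-- The contradiction in the rotation case. -/
theorem rotation_false [IsSimpleGroup G] (hM : IsPModular 2 M) (D : CharData M P t v θ ξ)
    (uC : C) (hu : (uC : G) = v * t * v⁻¹) (hξu : (ξ : C → ℂ) uC = 1)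
    {l q : ℕ} (hl : Char.deg (ξ : C → ℂ) = l) (hl3 : 3 ≤ l) (hlo : Odd l) (hq5 : 5 ≤ q) (hqo : Odd q)
    (hlq : 2 * l ≤ q + 1) (hcop : l.Coprime q)
    (hW : ∃ y : W, ¬ 2 ∣ orderOf y ∧ (y : G) ≠ 1)
    (Z : Subgroup G) (hZq : Nat.card Z = q) (hZc : ∀ a b : Z, a * b = b * a) (hZC : Z ≤ C)
    (hξZ : ∀ c z : C, (z : G) ∈ Z → (ξ : C → ℂ) (c * z) = (ξ : C → ℂ) c)
    (H₁ : Subgroup G) (h₁ : ∀ a b : H₁, a * b = b * a) (A₁ : Subgroup H₁) (hi₁ : A₁.index = l) (hZ₁ : Z ≤ H₁)
    (hZA₁ : ∀ z : Z, Subgroup.inclusion hZ₁ z ∈ A₁)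
    (hfus : ∀ s s' : H₁, s ∉ A₁ → s' ∉ A₁ → ∀ g : G, g * s * g⁻¹ = (s' : G) →
      g ∈ H₁ ∨ ∀ h : H₁, g * h * g⁻¹ = (h : G)⁻¹)
    (ε : H₁ →* ℂˣ) (tH : H₁) (ht : tH ∈ A₁) (hεt : ε tH ≠ 1) (hεZ : ∀ z : Z, ε (Subgroup.inclusion hZ₁ z) = 1)
    (hεC : ∀ h : H₁, ε h ≠ 1 → ∃ c : C, ¬ 2 ∣ orderOf c ∧ (h : G) = t * (c : G))
    (htH : (tH : G) = t)
    (H₂ : Subgroup G) (h₂ : ∀ a b : H₂, a * b = b * a) (A₂ : Subgroup H₂) (hi₂ : A₂.index = q) (hZ₂ : Z ≤ H₂)
    (hZA₂ : ∀ z : Z, Subgroup.inclusion hZ₂ z ∈ A₂)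
    (hconj : ∀ h : H₂, h ∉ A₂ → ∀ z : Z, IsConj ((h : G) * z) (h : G))
    (H₃ : Subgroup G) (h₃ : ∀ a b : H₃, a * b = b * a) (hZ₃ : Z ≤ H₃) (hi₃ : (Z.subgroupOf H₃).index = 2)
    (ht₃ : ∀ h : H₃, (h : G) ∉ Z → ∃ z : Z, (h : G) = t * (z : G))
    (T : TorusData t Z q) : False := by
  haveI : Fact (Nat.Prime 2) := ⟨Nat.prime_two⟩
  haveI : Fintype Z := Fintype.ofFinite _
  letI : Fintype C := Fintype.ofFinite _
  obtain ⟨S, p, hp, hS, hS0, hcard, hdeg⟩ := D.exists_column hM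
  -- odd elements
  have hZodd : ∀ z : Z, ¬ 2 ∣ orderOf z := fun z h => Nat.not_even_iff_odd.2 hqo
    (even_iff_two_dvd.2 (h.trans (hZq ▸ orderOf_dvd_natCard z)))
  have oddmul : ∀ a b : G, Commute a b → ¬ 2 ∣ orderOf a → ¬ 2 ∣ orderOf b → ¬ 2 ∣ orderOf (a * b) :=
    fun a b hab ha hb h => (Nat.prime_two.dvd_mul.1 (h.trans (hab.orderOf_mul_dvd_mul_orderOf))).elim ha hb
  have hsec : ∀ χ ∈ S, ∀ (c : C) (z : Z), ¬ 2 ∣ orderOf c → Commute (c : G) (z : G) →
      (χ : G → ℂ) (t * (c : G) * (z : G)) = (χ : G → ℂ) (t * (c : G)) := by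
    intro χ hχ c z hc hcz
    let zC : C := ⟨z, hZC z.2⟩
    have hodd : ¬ 2 ∣ orderOf (c * zC) := by
      rw [← Subgroup.orderOf_coe]
      exact oddmul _ _ hcz (by rwa [Subgroup.orderOf_coe]) (by rw [show ((zC : C) : G) = z from rfl, Subgroup.orderOf_coe]; exact hZodd z)
    rw [mul_assoc, show (c : G) * z = ((c * zC : C) : G) from rfl, (hS χ hχ).2 _ hodd, (hS χ hχ).2 _ hc, hξZ c zC z.2]
  have hval : ∀ χ ∈ S, (χ : G → ℂ) t = (p χ : ℂ) * l := fun χ hχ => by
    have h := (hS χ hχ).2 1 (by simp)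
    rwa [OneMemClass.coe_one, mul_one, Char.char_one_eq_deg (Char.irr_isCharacter ξ.2), hl] at h
  have hne : ∀ χ ∈ S, (χ : G → ℂ) ≠ fun _ => 1 := fun χ hχ h => by
    have h1 := hval χ hχ
    rw [congrFun h t] at h1
    have h2 : (1 : ℤ) = p χ * (l : ℤ) := by exact_mod_cast h1
    rcases (hS χ hχ).1 with e | e <;> rw [e] at h2 <;> omega
  -- the multiplicities
  have hmult : ∀ χ ∈ S, ∀ lam : Z →* ℂˣ, lam ≠ 1 → ∀ n : ℕ,
      classInner (fun x : Z => (χ : G → ℂ) x) (fun x : Z => (lam x : ℂ)) = n → 2 * l * q ≤ n := by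
    intro χ hχ lam hlam n hn
    obtain ⟨z, hz⟩ : ∃ z, lam z ≠ 1 := by
      by_contra! h
      exact hlam (MonoidHom.ext h)
    have hz2 : lam z * lam z ≠ 1 := fun h => hz (by
      obtain ⟨j, hj⟩ := hqo
      have e : lam z ^ q = 1 := by rw [← map_pow, ← hZq, pow_card_eq_one', map_one]
      rw [hj, pow_add, pow_one, pow_mul, pow_two, h, one_pow, one_mul] at e
      exact e)
    have hpos : n ≠ 0 := fun h => T.constituent hq5 hZq χ (hne χ hχ) lam z hz2 (by rw [hn, h, Nat.cast_zero])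
    have hFc := Char.irr_isCharacter χ.2
    haveI : Fintype H₁ := Fintype.ofFinite _
    haveI : Fintype H₂ := Fintype.ofFinite _
    haveI : Fintype H₃ := Fintype.ofFinite _
    have d1 : l ∣ n := by
      rw [← hi₁]
      refine index_dvd_mult H₁ h₁ A₁ Z hZ₁ hZA₁ hFc lam (fun L L' hA hL => ?_) hn
      refine classInner_eq_of_isolated h₁ A₁ hfus ε ht hεt (hZA₁ z) (hεZ z) χ (fun h _ hε => ?_) L L' hA
        (by rw [hL]; exact hz2)
      obtain ⟨c, hc, hhc⟩ := hεC h hε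
      rw [Subgroup.coe_mul, hhc]
      refine hsec χ hχ c z hc ?_
      have e : (c : G) = ((tH⁻¹ * h : H₁) : G) := by
        rw [Subgroup.coe_mul, Subgroup.coe_inv, htH, hhc, inv_mul_cancel_left]
      rw [e]
      exact congrArg Subtype.val (h₁ _ (Subgroup.inclusion hZ₁ z))
    have d2 : q ∣ n := by
      rw [← hi₂]
      refine index_dvd_mult H₂ h₂ A₂ Z hZ₂ hZA₂ hFc lam (fun L L' hA hL => ?_) hn
      refine classInner_eq_of_translate (fun h : H₂ => (χ : G → ℂ) h) A₂ L L' hA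
        (z := Subgroup.inclusion hZ₂ z) (hZA₂ z) (by rw [hL]; exact hz) fun h hh => ?_
      obtain ⟨g, hg⟩ := isConj_iff.1 (hconj h hh z)
      show (χ : G → ℂ) ((h : G) * z) = _
      exact (Char.isClassFunction_character hFc _ g).symm.trans (congrArg _ hg)
    have d3 : 2 ∣ n := by
      rw [← hi₃]
      refine index_dvd_mult H₃ h₃ (Z.subgroupOf H₃) Z hZ₃ (fun x => x.2) hFc lam (fun L L' hA hL => ?_) hn
      refine classInner_eq_of_translate (fun h : H₃ => (χ : G → ℂ) h) _ L L' hA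
        (z := Subgroup.inclusion hZ₃ z) z.2 (by rw [hL]; exact hz) fun h hh => ?_
      obtain ⟨z', hz'⟩ := ht₃ h hh
      show (χ : G → ℂ) ((h : G) * z) = (χ : G → ℂ) h
      rw [hz']
      exact hsec χ hχ ⟨z', hZC z'.2⟩ z (by rw [← Subgroup.orderOf_coe]; simpa [Subgroup.orderOf_coe] using hZodd z')
        (congrArg Subtype.val (hZc z' z))
    refine Nat.le_of_dvd (Nat.pos_of_ne_zero hpos) ?_
    have c1 : Nat.Coprime 2 l := Nat.coprime_two_left.2 hlo
    have c2 : Nat.Coprime (2 * l) q := Nat.Coprime.mul_left (Nat.coprime_two_left.2 hqo) hcop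
    exact c2.mul_dvd_of_dvd_of_dvd (c1.mul_dvd_of_dvd_of_dvd d3 d1) d2
  -- the degrees
  have hX : ∀ χ ∈ S, 2 * l * q * (q - 1) ≤ Char.deg (χ : G → ℂ) := by
    intro χ hχ
    obtain ⟨k, hk⟩ := Char.exists_decomposition (Char.isCharacter_comp Z.subtype (Char.irr_isCharacter χ.2))
    have hd := degree_eq_sum hZc k hk (d := Char.deg (χ : G → ℂ))
      (by simp [Char.char_one_eq_deg (Char.irr_isCharacter χ.2)])
    rw [hd]
    refine le_trans ?_ (Finset.sum_le_univ_sum_of_nonneg (s := Finset.univ.erase (linIrr (1 : Z →* ℂˣ))) fun _ => Nat.zero_le _)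
    refine le_of_eq_of_le ?_ (Finset.card_nsmul_le_sum _ k (2 * l * q) fun μ hμ => ?_)
    · rw [Finset.card_erase_of_mem (Finset.mem_univ _), Finset.card_univ, card_irr_of_comm hZc,
        ← Nat.card_eq_fintype_card, hZq, smul_eq_mul, mul_comm]
    · obtain ⟨L, rfl⟩ := irr_exists_hom hZc μ
      exact hmult χ hχ L (fun h => Finset.ne_of_mem_erase hμ (by rw [h])) _ (Char.decomposition_coeff k hk (linIrr L))
  -- the count
  have ht2 := D.base.order D.base.tP D.base.t1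
  have hperf : ∀ f : G →* ℂˣ, f = 1 := by
    intro f
    rcases IsSimpleGroup.eq_bot_or_eq_top_of_normal f.ker inferInstance with h | h
    · exfalso
      refine D.base.vne ?_
      have hcomm : v * t = t * v := (MonoidHom.ker_eq_bot_iff f).1 h (by rw [map_mul, map_mul, mul_comm])
      rw [hcomm, mul_inv_cancel_right]
    · exact MonoidHom.ker_eq_top_iff.1 h
  obtain ⟨e, x, y, w, he, hx, hy, hw, hx4, hw4, hy4, hy4', hy7, hrel, h0⟩ :=
    exists_principalSum hM D.base.card D.base.exp D.base.one ht2 hperf fun χ hχ h => by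
      obtain ⟨y, hy1, hy2⟩ := hW
      exact hy2 (principal_three_W hM D.base hχ h y hy1)
  obtain ⟨hlo', -, -⟩ := principalSum_lower he hx hy hw hy7 hrel
  have hcount : ∑ χ ∈ S, (p χ : ℚ) * ((l : ℚ) ^ 2 / (Char.deg (χ : G → ℂ) : ℚ)) =
      principalSum e x y w / l := by
    have h := D.weighted_count hM uC hu
    rw [hξu, h0, Char.char_one_eq_deg (Char.irr_isCharacter ξ.2), hl,
      ← Finset.sum_subset (s₁ := S) (Finset.subset_univ _) fun χ _ hχ => by
        rw [hp, hS0 χ hχ, Int.cast_zero, mul_zero]] at h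
    apply Rat.cast_injective (α := ℂ)
    rw [Rat.cast_sum, Rat.cast_div, Rat.cast_natCast]
    rw [one_mul, one_div_mul_eq_div] at h
    rw [← h]
    refine Finset.sum_congr rfl fun χ hχ => ?_
    rw [hp, hval χ hχ, Char.char_one_eq_deg (Char.irr_isCharacter χ.2)]
    push_cast
    rcases (hS χ hχ).1 with e | e <;> rw [e] <;> push_cast <;> ring
  obtain ⟨χn, hχn, hneg⟩ : ∃ χ ∈ S, p χ = -1 := by
    by_contra! h
    have hpos : 0 < ∑ χ ∈ S, p χ * (Char.deg (χ : G → ℂ) : ℤ) :=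
      Finset.sum_pos (fun χ hχ => by
        rw [((hS χ hχ).1).resolve_right (h χ hχ), one_mul]; exact_mod_cast Char.deg_pos χ.2)
        (Finset.card_pos.1 (by omega))
    omega
  set B : ℚ := (l : ℚ) ^ 2 / ((2 * l * q * (q - 1) : ℕ) : ℚ) with hB
  have hBpos : 0 < 2 * l * q * (q - 1) := by
    have : 0 < q - 1 := by omega
    positivity
  have hle : ∑ χ ∈ S, (p χ : ℚ) * ((l : ℚ) ^ 2 / (Char.deg (χ : G → ℂ) : ℚ)) ≤ 3 * B := by
    rw [← Finset.add_sum_erase _ _ hχn, hneg]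
    have h1 : ((-1 : ℤ) : ℚ) * ((l : ℚ) ^ 2 / (Char.deg (χn : G → ℂ) : ℚ)) ≤ 0 := by
      rw [Int.cast_neg, Int.cast_one, neg_one_mul, neg_nonpos]; positivity
    have h2 : ∑ χ ∈ S.erase χn, (p χ : ℚ) * ((l : ℚ) ^ 2 / (Char.deg (χ : G → ℂ) : ℚ)) ≤ ∑ _χ ∈ S.erase χn, B := by
      refine Finset.sum_le_sum fun χ hχ => ?_
      have hχ' := Finset.mem_of_mem_erase hχ
      have h0 : (0 : ℚ) ≤ B := by positivity
      rcases (hS χ hχ').1 with e | e <;> rw [e]
      · rw [Int.cast_one, one_mul, hB]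
        exact div_le_div_of_nonneg_left (by positivity) (Nat.cast_pos.2 hBpos) (Nat.cast_le.2 (hX χ hχ'))
      · rw [Int.cast_neg, Int.cast_one, neg_one_mul]
        have : (0 : ℚ) ≤ (l : ℚ) ^ 2 / (Char.deg (χ : G → ℂ) : ℚ) := by positivity
        linarith
    rw [Finset.sum_const, Finset.card_erase_of_mem hχn, hcard, nsmul_eq_mul] at h2
    push_cast at h2
    linarith
  rw [hcount, div_le_iff₀ (by positivity)] at hle
  have hlq0 : (l : ℚ) ≠ 0 := Nat.cast_ne_zero.2 (by omega)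
  have e3 : 3 * B * l = 3 * (l : ℚ) ^ 2 / (2 * q * ((q : ℚ) - 1)) := by
    rw [hB, Nat.cast_mul, Nat.cast_sub (by omega : 1 ≤ q)]
    push_cast
    have : (q : ℚ) - 1 ≠ 0 := by
      have : (5 : ℚ) ≤ q := by exact_mod_cast hq5
      linarith
    field_simp
  rw [e3] at hle
  linarith [rotation_arith hq5 hlq]

end Cfsg.Agent.GW
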