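import Cfsg.Agent.Lib.GW.RotationIsolated
import Cfsg.Agent.Lib.GW.RotationDegree

/-!
# The rotation case: no fixed element in `O_q(C)`

The three abelian subgroups `⟨t⟩ A`, `⟨t⟩ ⟨d⟩ Z` and `⟨t⟩ Z`, the character of `C(t)` above a linear character of
`C(P)` and the torus data contradict the count.
-/

set_option autoImplicit false
set_option linter.unusedSectionVars false
set_option linter.style.haveILetI false

namespace Cfsg.Agent.GW

open Cfsg Cfsg.Agent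

universe w

/-- the product of two commuting subgroups with trivial meet -/
theorem exists_prod {G : Type w} [Group G] [Finite G] (A B : Subgroup G) (hAB : ∀ a ∈ A, ∀ b ∈ B, Commute a b)
    (hd : ∀ a ∈ A, a ∈ B → a = 1) :
    ∃ H : Subgroup G, A ≤ H ∧ B ≤ H ∧ (∀ y, y ∈ H ↔ ∃ a ∈ A, ∃ b ∈ B, y = a * b) ∧
      Nat.card H = Nat.card A * Nat.card B ∧
      ((∀ a ∈ A, ∀ a' ∈ A, Commute a a') → (∀ b ∈ B, ∀ b' ∈ B, Commute b b') → ∀ y y' : H, y * y' = y' * y) ∧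
      ∃ π : H →* A, ∀ y : H, ((π y : G))⁻¹ * (y : G) ∈ B := by
  obtain ⟨ψ, hψ⟩ : ∃ ψ : ↥A × ↥B →* G, ∀ p, ψ p = (p.1 : G) * p.2 :=
    ⟨MonoidHom.noncommCoprod A.subtype B.subtype fun a b => hAB _ a.2 _ b.2, fun _ => rfl⟩
  have hinj : Function.Injective ψ := (injective_iff_map_eq_one ψ).2 fun ⟨a, b⟩ h => by
    rw [hψ] at h
    have ha : (a : G) = 1 := hd _ a.2 (eq_inv_of_mul_eq_one_left h ▸ B.inv_mem b.2)
    have hb : (b : G) = 1 := by rwa [ha, one_mul] at h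
    exact Prod.ext (Subtype.ext ha) (Subtype.ext hb)
  refine ⟨ψ.range, fun a ha => ⟨(⟨a, ha⟩, 1), by rw [hψ]; exact mul_one a⟩,
    fun b hb => ⟨(1, ⟨b, hb⟩), by rw [hψ]; exact one_mul b⟩, fun y => ⟨?_, ?_⟩, ?_, fun hA hB y y' => ?_,
    (MonoidHom.fst A B).comp (MonoidHom.ofInjective hinj).symm.toMonoidHom, fun y => ?_⟩
  · rintro ⟨⟨a, b⟩, rfl⟩
    exact ⟨a, a.2, b, b.2, hψ _⟩
  · rintro ⟨a, ha, b, hb, rfl⟩
    exact ⟨(⟨a, ha⟩, ⟨b, hb⟩), hψ _⟩
  · rw [← Nat.card_congr (MonoidHom.ofInjective hinj).toEquiv, Nat.card_prod]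
  · obtain ⟨p, hp⟩ := y.2
    obtain ⟨p', hp'⟩ := y'.2
    refine Subtype.ext ?_
    show (y : G) * y' = y' * y
    rw [← hp, ← hp', ← map_mul, ← map_mul]
    congr 1
    exact Prod.ext (Subtype.ext (hA _ p.1.2 _ p'.1.2).eq) (Subtype.ext (hB _ p.2.2 _ p'.2.2).eq)
  · obtain ⟨p, hp⟩ : ∃ p, p = (MonoidHom.ofInjective hinj).symm y := ⟨_, rfl⟩
    have hy : ψ p = y := by
      rw [hp]
      exact congrArg Subtype.val ((MonoidHom.ofInjective hinj).apply_symm_apply y)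
    show ((MonoidHom.fst A B ((MonoidHom.ofInjective hinj).symm y) : G))⁻¹ * (y : G) ∈ B
    rw [← hp, ← hy, hψ]
    show (p.1 : G)⁻¹ * ((p.1 : G) * p.2) ∈ B
    rw [inv_mul_cancel_left]
    exact p.2.2

/-- the sign on a group of order two -/
theorem exists_sign {G : Type w} [Group G] [Finite G] {t : G} (ht : t * t = 1) (ht1 : t ≠ 1) :
    ∃ σ : ↥(Subgroup.zpowers t) →* ℂˣ, ∀ s : ↥(Subgroup.zpowers t), (σ s = 1 ↔ (s : G) = 1) := by
  classical
  have htwo : ∀ s : ↥(Subgroup.zpowers t), (s : G) = 1 ∨ (s : G) = t := fun s => by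
    obtain ⟨i, hi⟩ := Subgroup.mem_zpowers_iff.1 s.2
    rcases Int.even_or_odd' i with ⟨j, rfl | rfl⟩
    · left; rw [← hi, zpow_mul, zpow_two, ht, one_zpow]
    · right; rw [← hi, zpow_add, zpow_mul, zpow_two, ht, one_zpow, zpow_one, one_mul]
  refine ⟨MonoidHom.mk' (fun s => if (s : G) = 1 then 1 else -1) fun a b => ?_, fun s => ?_⟩
  · rcases htwo a with h | h <;> rcases htwo b with h' | h' <;> simp [h, h', ht, ht1]
  · show (if (s : G) = 1 then (1 : ℂˣ) else -1) = 1 ↔ _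
    by_cases h : (s : G) = 1
    · simp [h]
    · rw [if_neg h]
      refine iff_of_false (fun e => ?_) h
      have := congrArg Units.val e
      norm_num at this

variable {G : Type w} [Group G] [Finite G] [IsSimpleGroup G] {t u : G} {O N : Subgroup G} {P : Sylow 2 G} {q : ℕ}
  [Fact q.Prime] {ρ : G} {d x : G} {Φ : ↥O →* Matrix.SpecialLinearGroup (Fin 2) (ZMod q)} {A₀ : Subgroup G}

set_option quotPrecheck false in
local notation "Cz" => Subgroup.centralizer ({t} : Set G)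

set_option quotPrecheck false in
local notation "Fq" => fq q (Subgroup.centralizer ({t} : Set G))

/-- **fusion of `⟨t⟩ A ∖ ⟨t⟩ T`** -/
theorem Comp.fusion (c : RotCfg t u O P q N ρ) (s : Shape q t u O N d x) (A : Action q t u O N d x Φ)
    (g : Range q t u O N d Φ) (K : Comp q t u O N Φ A₀) {b b' y : G} (hb : b ∈ A₀) (hbT : b ∉ lay N ⊓ O)
    (hb' : b' ∈ A₀) (hy : y * b * y⁻¹ = b') :
    ∃ α ∈ A₀, ∃ p ∈ (P : Subgroup G), y = α * p := by
  have hAt : ∀ {e : G}, e ∈ A₀ → Commute e t := fun he => c.hyp.mc.core_commute (K.le he)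
  have hbΦ : Φ ⟨b, K.le hb⟩ ≠ 1 := fun e => hbT ((K.torus_iff ⟨b, K.le hb⟩ hb).1 e)
  obtain ⟨τ₀, hτ₀⟩ : ∃ τ₀, τ₀ = y⁻¹ * t * y := ⟨_, rfl⟩
  have hτb : Commute τ₀ b := by
    have h := (Commute.conj_iff y⁻¹).2 (hAt hb').symm
    rw [inv_inv, ← hτ₀, ← hy, show y⁻¹ * (y * b * y⁻¹) * y = b by group] at h
    exact h
  have hτC : τ₀ ∈ Cz := K.cent_le c s A g hb hbT (Subgroup.mem_centralizer_singleton_iff.2 hτb.eq)
  have hsq : τ₀ * τ₀ = 1 := by
    rw [hτ₀, show y⁻¹ * t * y * (y⁻¹ * t * y) = y⁻¹ * (t * t) * y by group, c.hyp.mc.sq, mul_one, inv_mul_cancel]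
  have hinv1 : ∀ {e : G}, e ∈ A₀ → e * e = 1 → e = 1 := fun {e} he h =>
    eq_one_of_inv_fix (z := (1 : G)) (c.hyp.mc.core_orderOf (K.le he))
      (by rw [one_mul, inv_one, mul_one]; exact eq_inv_of_mul_eq_one_left h) (Commute.one_left e)
  have hτt : τ₀ = t := by
    rcases K.cent_C c g hb hbΦ hτC hτb with h | ⟨e, he, h⟩
    · exfalso
      refine c.hyp.mc.ne ?_
      have h1 := hinv1 h hsq
      calc t = y * τ₀ * y⁻¹ := by rw [hτ₀]; group
        _ = 1 := by rw [h1]; group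
    · rw [h, hinv1 he ?_, one_mul]
      rwa [h, show e * t * (e * t) = e * (t * e) * t by group, ← (hAt he).eq,
        show e * (e * t) * t = e * e * (t * t) by group, c.hyp.mc.sq, mul_one] at hsq
  have hyC : y ∈ Cz := Subgroup.mem_centralizer_singleton_iff.2 (by
    calc y * t = y * τ₀ := by rw [hτt]
      _ = t * y := by rw [hτ₀]; group)
  obtain ⟨o, ho, p, hp, rfl⟩ := c.hyp.decomp hyC
  obtain ⟨f, hf, α, hα, rfl⟩ := K.split o ho
  refine ⟨f * α, ?_, p, hp, rfl⟩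
  refine A₀.mul_mem (K.torus_le ?_) hα
  obtain ⟨e, he⟩ : ∃ e, e = p * b * p⁻¹ := ⟨_, rfl⟩
  have heA : e ∈ A₀ ∧ (e = b ∨ e = b⁻¹) := by
    rcases c.hyp.mem_cases hp with h | h | h | h
    · rw [he, h, one_mul, inv_one, mul_one]; exact ⟨hb, Or.inl rfl⟩
    · rw [he, h, ← (hAt hb).eq, mul_inv_cancel_right]; exact ⟨hb, Or.inl rfl⟩
    · rw [he, h, K.inv b hb]; exact ⟨A₀.inv_mem hb, Or.inr rfl⟩
    · rw [he, h, show t * u * b * (t * u)⁻¹ = t * (u * b * u⁻¹) * t⁻¹ by group, K.inv b hb,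
        ← (hAt (A₀.inv_mem hb)).eq, mul_inv_cancel_right]
      exact ⟨A₀.inv_mem hb, Or.inr rfl⟩
  obtain ⟨heA, heb⟩ := heA
  have heΦ : Φ ⟨e, K.le heA⟩ ≠ 1 := fun h => by
    have h1 := (K.torus_iff ⟨e, K.le heA⟩ heA).1 h
    rcases heb with rfl | rfl
    exacts [hbT h1, hbT (inv_mem_iff.1 h1)]
  -- `[f, e]` lies in the torus
  have hfe : f * e * f⁻¹ = b' := by
    calc f * e * f⁻¹ = f * (α * e * α⁻¹) * f⁻¹ := by rw [(K.comm α hα e heA).eq, mul_inv_cancel_right]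
      _ = f * α * p * b * (f * α * p)⁻¹ := by rw [he]; group
      _ = b' := hy
  obtain ⟨r, hr⟩ : ∃ r, r = f * e * f⁻¹ * e⁻¹ := ⟨_, rfl⟩
  have hrF : r ∈ Fq := by
    rw [hr, show f * e * f⁻¹ * e⁻¹ = f * (e * f⁻¹ * e⁻¹) by group]
    exact (Fq).mul_mem hf (conj_fq c.prime (c.hyp.mc.core_le (K.le heA)) ((Fq).inv_mem hf))
  have hrA : r ∈ A₀ := by rw [hr, hfe]; exact A₀.mul_mem hb' (A₀.inv_mem heA)
  have hre : Commute r e := K.comm r hrA e heA
  have hpow : ∀ n : ℕ, f * e ^ n * f⁻¹ = r ^ n * e ^ n := fun n => by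
    rw [← conj_pow, ← hre.mul_pow]
    congr 1
    rw [hr]; group
  obtain ⟨m, hm⟩ : ∃ m, r ^ q ^ m = 1 := by
    obtain ⟨m, hm⟩ := fq_isPGroup q Cz ⟨r, hrF⟩
    exact ⟨m, congrArg Subtype.val hm⟩
  refine K.free (⟨e, K.le heA⟩ ^ q ^ m) (fun h => heΦ (g.semi _ ?_)) f hf ?_
  · rw [map_pow] at h
    rw [Cfsg.Agent.Fusion.Dickson.tr_of_pow_eq_one q h]
    norm_num
  · have h := hpow (q ^ m)
    rw [hm, one_mul] at h
    show Commute (e ^ q ^ m) f
    exact (mul_inv_eq_iff_eq_mul.1 h).symm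

/-- **the rotation case with a fixed element, given the character and the torus data** -/
theorem RotCfg.false_of (c : RotCfg t u O P q N ρ) (s : Shape q t u O N d x) (A : Action q t u O N d x Φ)
    (g : Range q t u O N d Φ) (K : Comp q t u O N Φ A₀) [Fintype G] {M : Ideal AlgInt} (hM : IsPModular 2 M)
    (hchar : ∃ (θ : Subgroup.centralizer ((P : Subgroup G) : Set G) →* ℂˣ) (ξ : IrrCharacter Cz) (uC : Cz),
      CharData M P t ρ θ ξ ∧ (uC : G) = ρ * t * ρ⁻¹ ∧ (ξ : Cz → ℂ) uC = 1 ∧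
      Char.deg (ξ : Cz → ℂ) = Nat.card Φ.range ∧
      ∀ c z : Cz, (z : G) ∈ Subgroup.zpowers (x * d * x⁻¹ * d⁻¹) → (ξ : Cz → ℂ) (c * z) = (ξ : Cz → ℂ) c)
    (htd : TorusData t (Subgroup.zpowers (x * d * x⁻¹ * d⁻¹)) q) : False := by
  obtain ⟨θ, ξ, uC, D, hu, hξu, hl, hξZ⟩ := hchar
  have hd := s.second
  have hq := c.prime
  have hqodd : Odd q := hq.odd_of_ne_two c.odd
  obtain ⟨z, hz⟩ : ∃ z, z = x * d * x⁻¹ * d⁻¹ := ⟨_, rfl⟩
  rw [← hz] at hξZ htd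
  obtain ⟨hiff, -, -, hT, -, -⟩ := c.commMap hd
  have hz1 : z ≠ 1 := fun e => s.x_not ((hiff x s.x_mem).1
    (mul_inv_eq_iff_eq_mul.1 (mul_inv_eq_one.1 (hz ▸ e))))
  have hzq : orderOf z = q := orderOf_eq_prime (hz ▸ hd.comm_q s.x_mem) hz1
  have hzT : z ∈ lay N ⊓ O := hz ▸ hT x s.x_mem
  have hzcent : ∀ a ∈ O, Commute a z := (g.torus c s A hzT).2
  have hdO : d ∈ O := c.fq_core hd.mem
  have hxO : x ∈ O := c.fq_core s.x_mem
  have ht2 : t * t = 1 := c.hyp.mc.sq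
  have hOt : ∀ {a : G}, a ∈ O → ∀ i : ℤ, Commute (t ^ i) a := fun ha i =>
    (c.hyp.mc.core_commute ha).symm.zpow_left i
  have hmeetO : ∀ a ∈ Subgroup.zpowers t, a ∈ O → a = 1 := fun a ha haO => by
    refine orderOf_eq_one_iff.1 (Nat.eq_one_of_dvd_coprimes (c.hyp.mc.core_orderOf haO).coprime_two_left
      ((orderOf_dvd_of_mem_zpowers ha).trans (orderOf_dvd_of_pow_eq_one ?_)) dvd_rfl)
    rw [pow_two]; exact ht2
  have htcard : Nat.card (Subgroup.zpowers t) = 2 := by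
    rw [Nat.card_zpowers, orderOf_eq_prime (p := 2) (by rw [pow_two]; exact ht2) c.hyp.mc.ne]
  have htcomm : ∀ a ∈ Subgroup.zpowers t, ∀ a' ∈ Subgroup.zpowers t, Commute a a' := fun a ha a' ha' => by
    obtain ⟨i, rfl⟩ := Subgroup.mem_zpowers_iff.1 ha
    obtain ⟨j, rfl⟩ := Subgroup.mem_zpowers_iff.1 ha'
    exact Commute.zpow_zpow_self t i j
  have hzpow : ∀ {a e : G}, a ∈ Subgroup.zpowers t → e ∈ O → Commute a e := fun {a e} ha he => by
    obtain ⟨i, rfl⟩ := Subgroup.mem_zpowers_iff.1 ha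
    exact hOt he i
  -- the first subgroup
  obtain ⟨H₁, ht₁, hA₁, hmem₁, hc₁, hcm₁, π₁, hπ₁⟩ := exists_prod (Subgroup.zpowers t) A₀
    (fun a ha e he => hzpow ha (K.le he)) (fun a ha haA => hmeetO a ha (K.le haA))
  obtain ⟨T₁, htT₁, hTT₁, hmemT₁, hcT₁, -, -, -⟩ := exists_prod (Subgroup.zpowers t) (lay N ⊓ O)
    (fun a ha e he => hzpow ha he.2) (fun a ha haT => hmeetO a ha haT.2)
  have hT₁H : T₁ ≤ H₁ := fun y hy => by
    obtain ⟨a, ha, e, he, rfl⟩ := (hmemT₁ y).1 hy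
    exact (hmem₁ _).2 ⟨a, ha, e, K.torus_le he, rfl⟩
  have hi₁ : (T₁.subgroupOf H₁).index = Nat.card Φ.range := by
    have h := (T₁.subgroupOf H₁).card_mul_index
    rw [Nat.card_congr (Subgroup.subgroupOfEquivOfLe hT₁H).toEquiv, hc₁, hcT₁, K.card, htcard] at h
    refine Nat.eq_of_mul_eq_mul_left (Nat.mul_pos two_pos (Nat.card_pos (α := ↥(lay N ⊓ O)))) ?_
    rw [h]; ring
  have hcomm₁ := hcm₁ htcomm K.comm
  obtain ⟨σ, hσ⟩ := exists_sign ht2 c.hyp.mc.ne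
  have hZ₁ : Subgroup.zpowers z ≤ H₁ := Subgroup.zpowers_le.2 (hA₁ (K.torus_le hzT))
  have hεA : ∀ h : H₁, (h : G) ∈ A₀ → σ.comp π₁ h = 1 := fun h hh => (hσ _).2 (hmeetO _ (π₁ h).2 (K.le (by
    have := A₀.mul_mem hh (A₀.inv_mem (hπ₁ h))
    rwa [mul_inv_rev, mul_inv_cancel_left, inv_inv] at this)))
  have hεt : σ.comp π₁ ⟨t, ht₁ (Subgroup.mem_zpowers t)⟩ ≠ 1 := fun e => c.hyp.mc.ne (by
    have h := hπ₁ ⟨t, ht₁ (Subgroup.mem_zpowers t)⟩
    rw [(hσ _).1 e, inv_one, one_mul] at h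
    exact hmeetO t (Subgroup.mem_zpowers t) (K.le h))
  have hεC : ∀ h : H₁, σ.comp π₁ h ≠ 1 → ∃ e : Cz, ¬ 2 ∣ orderOf e ∧ (h : G) = t * (e : G) := fun h hh => by
    have h1 := hπ₁ h
    have hne : (π₁ h : G) ≠ 1 := fun e => hh ((hσ _).2 e)
    have hpt : (π₁ h : G) = t := by
      obtain ⟨i, hi⟩ := Subgroup.mem_zpowers_iff.1 (π₁ h).2
      rcases Int.even_or_odd' i with ⟨j, rfl | rfl⟩
      · exact absurd (by rw [← hi, zpow_mul, zpow_two, ht2, one_zpow]) hne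
      · rw [← hi, zpow_add, zpow_mul, zpow_two, ht2, one_zpow, zpow_one, one_mul]
    rw [hpt] at h1
    refine ⟨⟨_, c.hyp.mc.core_le (K.le h1)⟩, ?_, (mul_inv_cancel_left t _).symm⟩
    rw [← Subgroup.orderOf_coe]
    exact fun hdvd => Nat.not_even_iff_odd.2 (c.hyp.mc.core_orderOf (K.le h1)) (even_iff_two_dvd.2 hdvd)
  have hfus : ∀ a a' : H₁, a ∉ T₁.subgroupOf H₁ → a' ∉ T₁.subgroupOf H₁ → ∀ y : G, y * a * y⁻¹ = (a' : G) →
      y ∈ H₁ ∨ ∀ h : H₁, y * h * y⁻¹ = (h : G)⁻¹ := by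
    intro a a' ha _ y hy
    have hsqA : ∀ e : H₁, (e : G) * e ∈ A₀ := fun e => by
      obtain ⟨w, hw, α, hα, he⟩ := (hmem₁ _).1 e.2
      have hw2 : w * w = 1 := by
        obtain ⟨i, rfl⟩ := Subgroup.mem_zpowers_iff.1 hw
        rw [← (Commute.refl t).mul_zpow, ht2, one_zpow]
      rw [he, show w * α * (w * α) = w * (α * w) * α by group, ← (hzpow hw (K.le hα)).eq,
        show w * (w * α) * α = w * w * (α * α) by group, hw2, one_mul]
      exact A₀.mul_mem hα hα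
    have hbT : (a : G) * a ∉ lay N ⊓ O := fun h => ha (Subgroup.mem_subgroupOf.2 (by
      obtain ⟨w, hw, α, hα, he⟩ := (hmem₁ _).1 a.2
      rw [he] at h ⊢
      refine (hmemT₁ _).2 ⟨w, hw, α, ?_, rfl⟩
      have hw2 : w * w = 1 := by
        obtain ⟨i, rfl⟩ := Subgroup.mem_zpowers_iff.1 hw
        rw [← (Commute.refl t).mul_zpow, ht2, one_zpow]
      rw [show w * α * (w * α) = w * (α * w) * α by group, ← (hzpow hw (K.le hα)).eq,
        show w * (w * α) * α = w * w * (α * α) by group, hw2, one_mul] at h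
      obtain ⟨j, hj⟩ := c.hyp.mc.core_orderOf (K.le hα)
      have e4 : (α * α) ^ (j + 1) = α := by
        rw [← pow_two, ← pow_mul, show 2 * (j + 1) = orderOf α + 1 by omega, pow_succ, pow_orderOf_eq_one, one_mul]
      exact e4 ▸ (lay N ⊓ O).pow_mem h _))
    obtain ⟨α, hα, p, hp, hyp⟩ := K.fusion c s A g (hsqA a) hbT (hsqA a') (y := y) (by rw [← hy]; group)
    rw [hyp]
    rcases c.hyp.mem_cases hp with h | h | h | h
    · left; rw [h, mul_one]; exact hA₁ hα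
    · left; rw [h]; exact H₁.mul_mem (hA₁ hα) (ht₁ (Subgroup.mem_zpowers t))
    all_goals
      right
      intro e
      obtain ⟨w, hw, β, hβ, he⟩ := (hmem₁ _).1 e.2
      have hw2 : w⁻¹ = w := by
        obtain ⟨i, rfl⟩ := Subgroup.mem_zpowers_iff.1 hw
        rw [← inv_zpow, inv_eq_of_mul_eq_one_right ht2]
      have hwu : Commute u w := by
        obtain ⟨i, rfl⟩ := Subgroup.mem_zpowers_iff.1 hw
        exact c.hyp.tu.symm.zpow_right i
      have hpb : p * (w * β) * p⁻¹ = w * β⁻¹ := by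
        have hu' : u * (w * β) * u⁻¹ = w * β⁻¹ := by
          rw [show u * (w * β) * u⁻¹ = (u * w) * β * u⁻¹ by group, hwu.eq,
            show w * u * β * u⁻¹ = w * (u * β * u⁻¹) by group, K.inv β hβ]
        first
        | exact h ▸ hu'
        | rw [h, show t * u * (w * β) * (t * u)⁻¹ = t * (u * (w * β) * u⁻¹) * t⁻¹ by group, hu',
            ((htcomm t (Subgroup.mem_zpowers t) w hw).mul_right
              (c.hyp.mc.core_commute (O.inv_mem (K.le hβ))).symm).eq, mul_inv_cancel_right]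
      rw [he, show α * p * (w * β) * (α * p)⁻¹ = α * (p * (w * β) * p⁻¹) * α⁻¹ by group, hpb,
        ((hzpow hw (K.le hα)).symm.mul_right (K.comm α hα _ (A₀.inv_mem hβ))).eq, mul_inv_cancel_right,
        mul_inv_rev, hw2]
      exact (hzpow hw (O.inv_mem (K.le hβ))).eq
  -- the second subgroup
  have hZc' : ∀ a ∈ Subgroup.zpowers z, ∀ a' ∈ Subgroup.zpowers z, Commute a a' := fun a ha a' ha' => by
    obtain ⟨i, rfl⟩ := Subgroup.mem_zpowers_iff.1 ha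
    obtain ⟨j, rfl⟩ := Subgroup.mem_zpowers_iff.1 ha'
    exact Commute.zpow_zpow_self z i j
  have hdc' : ∀ a ∈ Subgroup.zpowers d, ∀ a' ∈ Subgroup.zpowers d, Commute a a' := fun a ha a' ha' => by
    obtain ⟨i, rfl⟩ := Subgroup.mem_zpowers_iff.1 ha
    obtain ⟨j, rfl⟩ := Subgroup.mem_zpowers_iff.1 ha'
    exact Commute.zpow_zpow_self d i j
  have hzO : Subgroup.zpowers z ≤ O := Subgroup.zpowers_le.2 hzT.2
  obtain ⟨B, hdB, hzB, hmemB, hcB, hcmB, -, -⟩ := exists_prod (Subgroup.zpowers d) (Subgroup.zpowers z)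
    (fun a ha e he => by
      obtain ⟨j, rfl⟩ := Subgroup.mem_zpowers_iff.1 he
      exact (hzcent a (Subgroup.zpowers_le.2 hdO ha)).zpow_right j)
    (fun a ha haz => c.torus_fix (Subgroup.zpowers_le.2 hzT haz) (by
      obtain ⟨i, rfl⟩ := Subgroup.mem_zpowers_iff.1 ha
      exact hd.comm_u.zpow_left i))
  have hBO : B ≤ O := fun y hy => by
    obtain ⟨a, ha, e, he, rfl⟩ := (hmemB y).1 hy
    exact O.mul_mem (Subgroup.zpowers_le.2 hdO ha) (hzO he)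
  obtain ⟨H₂, ht₂, hB₂, hmem₂, hc₂, hcm₂, -, -⟩ := exists_prod (Subgroup.zpowers t) B
    (fun a ha e he => hzpow ha (hBO he)) (fun a ha haB => hmeetO a ha (hBO haB))
  obtain ⟨H₃, ht₃, hZ₃, hmem₃, hc₃, hcm₃, -, -⟩ := exists_prod (Subgroup.zpowers t) (Subgroup.zpowers z)
    (fun a ha e he => hzpow ha (hzO he)) (fun a ha haz => hmeetO a ha (hzO haz))
  have hcardZ : Nat.card (Subgroup.zpowers z) = q := by rw [Nat.card_zpowers, hzq]
  have hH₃₂ : H₃ ≤ H₂ := fun y hy => by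
    obtain ⟨a, ha, e, he, rfl⟩ := (hmem₃ y).1 hy
    exact (hmem₂ _).2 ⟨a, ha, e, hzB he, rfl⟩
  have hi₂ : (H₃.subgroupOf H₂).index = q := by
    have h := (H₃.subgroupOf H₂).card_mul_index
    rw [Nat.card_congr (Subgroup.subgroupOfEquivOfLe hH₃₂).toEquiv, hc₂, hc₃, hcB, hcardZ, htcard,
      Nat.card_zpowers, hd.order] at h
    refine Nat.eq_of_mul_eq_mul_left (Nat.mul_pos two_pos hq.pos) ?_
    rw [h]; ring
  have hi₃ : ((Subgroup.zpowers z).subgroupOf H₃).index = 2 := by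
    have h := ((Subgroup.zpowers z).subgroupOf H₃).card_mul_index
    rw [Nat.card_congr (Subgroup.subgroupOfEquivOfLe hZ₃).toEquiv, hc₃, hcardZ, htcard] at h
    refine Nat.eq_of_mul_eq_mul_left hq.pos ?_
    rw [h]; ring
  have ht₃' : ∀ h : H₃, (h : G) ∉ Subgroup.zpowers z → ∃ e : Subgroup.zpowers z, (h : G) = t * (e : G) := by
    intro h hh
    obtain ⟨a, ha, e, he, heq⟩ := (hmem₃ _).1 h.2
    obtain ⟨i, rfl⟩ := Subgroup.mem_zpowers_iff.1 ha
    rcases Int.even_or_odd' i with ⟨j, rfl | rfl⟩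
    · exact absurd (by rw [heq, zpow_mul, zpow_two, ht2, one_zpow, one_mul]; exact he) hh
    · exact ⟨⟨e, he⟩, by rw [heq, zpow_add, zpow_mul, zpow_two, ht2, one_zpow, zpow_one, one_mul]⟩
  have hconj : ∀ h : H₂, h ∉ H₃.subgroupOf H₂ → ∀ e : Subgroup.zpowers z, IsConj ((h : G) * e) (h : G) := by
    intro h hh e
    obtain ⟨a, ha, b, hb, heq⟩ := (hmem₂ _).1 h.2
    obtain ⟨di, hdi, e', he', rfl⟩ := (hmemB b).1 hb
    obtain ⟨i, hi⟩ : ∃ i : ℕ, d ^ i = di := by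
      rwa [← mem_powers_iff_mem_zpowers, Submonoid.mem_powers_iff] at hdi
    have hiq : ¬ q ∣ i := fun hq' => hh (Subgroup.mem_subgroupOf.2 (by
      obtain ⟨k, rfl⟩ := hq'
      rw [heq, ← hi, pow_mul, ← hd.order, pow_orderOf_eq_one, one_pow, one_mul]
      exact (hmem₃ _).2 ⟨a, ha, e', he', rfl⟩))
    -- conjugation by a power of `x`
    obtain ⟨n, hn⟩ : ∃ n : ℕ, (z ^ i) ^ n = (e : G) := by
      have hgen : (e : G) ∈ Subgroup.zpowers (z ^ i) := by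
        rw [Subgroup.eq_of_le_of_card_ge (Subgroup.zpowers_le.2 (Subgroup.pow_mem _ (Subgroup.mem_zpowers z) i))
          (le_of_eq (by rw [Nat.card_zpowers, Nat.card_zpowers,
            Nat.Coprime.orderOf_pow (hzq.symm ▸ hq.coprime_iff_not_dvd.2 hiq : (orderOf z).Coprime i)]))]
        exact e.2
      rwa [← mem_powers_iff_mem_zpowers, Submonoid.mem_powers_iff] at hgen
    refine IsConj.symm (isConj_iff.2 ⟨x ^ n, ?_⟩)
    have hxd : x ^ n * d * (x ^ n)⁻¹ = z ^ n * d := by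
      have := hd.comm_pow s.x_mem n
      rw [← hz] at this
      exact mul_inv_eq_iff_eq_mul.1 this
    have hxd' : x ^ n * d ^ i * (x ^ n)⁻¹ = (z ^ i) ^ n * d ^ i := by
      rw [← conj_pow, hxd, ((hzcent d hdO).symm.pow_left n).mul_pow, ← pow_mul, ← pow_mul, mul_comm n i]
    have hxn : x ^ n ∈ O := O.pow_mem hxO n
    rw [heq, ← hi, show x ^ n * (a * (d ^ i * e')) * (x ^ n)⁻¹ =
      (x ^ n * a * (x ^ n)⁻¹) * (x ^ n * d ^ i * (x ^ n)⁻¹) * (x ^ n * e' * (x ^ n)⁻¹) by group, hxd', hn]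
    have he'c : Commute (x ^ n) e' := by
      obtain ⟨k, rfl⟩ := Subgroup.mem_zpowers_iff.1 he'
      exact (hzcent _ hxn).zpow_right k
    have hed : Commute (e : G) (d ^ i) := by
      obtain ⟨k, hk⟩ := Subgroup.mem_zpowers_iff.1 e.2
      rw [← hk]
      exact ((hzcent d hdO).symm.zpow_left k).pow_right i
    rw [← (hzpow ha hxn).eq, mul_inv_cancel_right, he'c.eq, mul_inv_cancel_right, hed.eq]
    simp only [mul_assoc]
    congr 2
    exact hZc' _ e.2 _ he'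
  -- the numbers
  have hlo : Odd (Nat.card Φ.range) := c.hyp.mc.core_odd.of_dvd_nat (Subgroup.card_range_dvd Φ)
  have hl3 := g.three
  have hbound : 2 * Nat.card Φ.range ≤ q + 1 ∧ 5 ≤ q ∧ (Nat.card Φ.range).Coprime q := by
    have hq2 := hq.two_le
    have hle : 2 * Nat.card Φ.range ≤ q + 1 := by
      rcases g.divides with h | h
      · have := Nat.le_of_dvd (by omega) h; omega
      · exact Nat.le_of_dvd (by omega) h
    refine ⟨hle, by omega, ((hq.coprime_iff_not_dvd).2 fun h => ?_).symm⟩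
    have := Nat.le_of_dvd (by omega) h
    omega
  refine rotation_false hM D uC hu hξu hl hl3 hlo hbound.2.1 hqodd hbound.1 hbound.2.2
    ⟨⟨d, Subgroup.mem_centralizer_iff.2 fun p hp => ?_⟩, ?_, hd.ne_one hq⟩
    (Subgroup.zpowers z) hcardZ (fun a b => Subtype.ext (hZc' _ a.2 _ b.2).eq) (hzO.trans c.hyp.mc.core_le) hξZ
    H₁ hcomm₁ (T₁.subgroupOf H₁) hi₁ hZ₁
    (fun e => Subgroup.mem_subgroupOf.2 (hTT₁ (Subgroup.zpowers_le.2 hzT e.2))) hfus
    (σ.comp π₁) ⟨t, ht₁ (Subgroup.mem_zpowers t)⟩ (Subgroup.mem_subgroupOf.2 (htT₁ (Subgroup.mem_zpowers t))) hεt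
    (fun e => hεA _ (K.torus_le (Subgroup.zpowers_le.2 hzT e.2))) hεC rfl
    H₂ (hcm₂ htcomm fun a ha a' ha' => congrArg Subtype.val (hcmB hdc' hZc' ⟨a, ha⟩ ⟨a', ha'⟩))
    (H₃.subgroupOf H₂) hi₂ (hZ₃.trans hH₃₂) (fun e => Subgroup.mem_subgroupOf.2 (hZ₃ e.2)) hconj
    H₃ (hcm₃ htcomm hZc') hZ₃ hi₃ ht₃' htd
  · rcases c.hyp.mem_cases hp with rfl | rfl | rfl | rfl
    · rw [one_mul, mul_one]
    · exact (c.hyp.mc.core_commute hdO).symm.eq
    · exact hd.comm_u.symm.eq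
    · exact ((c.hyp.mc.core_commute hdO).symm.mul_left hd.comm_u.symm).eq
  · rw [← Subgroup.orderOf_coe]
    show ¬ 2 ∣ orderOf d
    rw [hd.order]
    exact fun h => Nat.not_even_iff_odd.2 hqodd (even_iff_two_dvd.2 h)

end Cfsg.Agent.GW
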