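import Cfsg.Agent.Lib.GW.FourTwist
import Cfsg.Agent.Lib.Char.Induction
import Cfsg.Agent.Lib.Char.Linear

/-!
# Multiplicities on an abelian subgroup with isolated outer part

If the fusion of the elements of an abelian subgroup `H` outside `A₀` is by `H` and by elements inverting `H`,
differences of two extensions from `A₀` induce to virtual characters of norm two, and two such orthogonal ones
have disjoint constituents. Multiplicities that are constant along extensions are divisible by the index.
-/

set_option autoImplicit false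
set_option linter.unusedSectionVars false
set_option linter.style.haveILetI false

open scoped ComplexConjugate
open Cfsg

namespace Cfsg.Agent.GW

universe u

/-- Orthogonal integral vectors of norm two and degree zero have no common coefficient. -/
theorem norm_two_disjoint {ι : Type*} [Fintype ι] (c d x : ι → ℤ) (hx : ∀ i, 0 < x i)
    (hc : ∑ i, c i * c i = 2) (hd : ∑ i, d i * d i = 2) (hcd : ∑ i, c i * d i = 0)
    (hc0 : ∑ i, c i * x i = 0) (hd0 : ∑ i, d i * x i = 0) {i : ι} (h : c i = d i) : c i = 0 := by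
  classical
  by_contra hne
  have e : ∑ j, (c j + d j) * (c j + d j) = 4 := by
    rw [Finset.sum_congr rfl fun j _ => show (c j + d j) * (c j + d j) = c j * c j + 2 * (c j * d j) + d j * d j by
      ring, Finset.sum_add_distrib, Finset.sum_add_distrib, ← Finset.mul_sum, hc, hd, hcd]
    norm_num
  have hci : 1 ≤ c i * c i := mul_self_pos.2 hne
  rw [← Finset.add_sum_erase _ _ (Finset.mem_univ i), ← h] at e
  have hrest := Finset.sum_nonneg fun j (_ : j ∈ (Finset.univ : Finset ι).erase i) => mul_self_nonneg (c j + d j)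
  have hz : ∀ j ∈ (Finset.univ : Finset ι).erase i, (c j + d j) * (c j + d j) = 0 :=
    (Finset.sum_eq_zero_iff_of_nonneg fun j _ => mul_self_nonneg _).1 (by nlinarith)
  have h0 : ∑ j, (c j + d j) * x j = 0 := by
    simp only [add_mul, Finset.sum_add_distrib, hc0, hd0, add_zero]
  rw [← Finset.add_sum_erase _ _ (Finset.mem_univ i), Finset.sum_eq_zero fun j hj => by
    rw [mul_self_eq_zero.1 (hz j hj), zero_mul], ← h, add_zero, mul_eq_zero] at h0
  rcases h0 with h0 | h0
  · omega
  · exact absurd h0 (hx i).ne'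

section Abelian

variable {H : Type u} [Group H] [Fintype H]

theorem irr_exists_hom (hc : ∀ a b : H, a * b = b * a) (μ : IrrCharacter H) :
    ∃ L : H →* ℂˣ, μ = linIrr L := by
  obtain ⟨L, hL⟩ := Char.exists_hom_of_degree_one (Char.irr_isCharacter μ.2) (Char.forall_linear_iff_comm.1 hc μ)
  exact ⟨L, Subtype.ext (funext fun h => by rw [linIrr_apply, hL])⟩

theorem linIrr_inner (L L' : H →* ℂˣ) [Decidable (L = L')] :
    classInner (fun h => (L h : ℂ)) (fun h => (L' h : ℂ)) = if L = L' then 1 else 0 := by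
  classical
  have h := Char.irr_orth (linIrr L).2 (linIrr L').2
  rw [show ((linIrr L : IrrCharacter H) : H → ℂ) = fun h => (L h : ℂ) from rfl,
    show ((linIrr L' : IrrCharacter H) : H → ℂ) = fun h => (L' h : ℂ) from rfl] at h
  rw [h]
  refine if_congr ⟨fun e => MonoidHom.ext fun x => Units.ext (congrFun e x), fun e => by rw [e]⟩ rfl rfl

open scoped Classical in
/-- A multiplicity constant along the extensions from `A₀` is divisible by the index of `A₀`. -/
theorem index_dvd_of_const (hc : ∀ a b : H, a * b = b * a) {F : H → ℂ} (hF : IsCharacter H F)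
    (A₀ Z : Subgroup H) [Fintype A₀] [Fintype Z] (hZ : Z ≤ A₀) (lam : Z →* ℂˣ)
    (hinv : ∀ L L' : H →* ℂˣ, (∀ a ∈ A₀, L a = L' a) → (∀ z : Z, L z = lam z) →
      classInner F (fun h => (L h : ℂ)) = classInner F (fun h => (L' h : ℂ)))
    {n : ℕ} (hn : classInner (fun z : Z => F z) (fun z : Z => (lam z : ℂ)) = n) : A₀.index ∣ n := by
  obtain ⟨k, hk⟩ := Char.exists_decomposition hF
  choose L hL using irr_exists_hom hc
  have hkv : ∀ μ, (k μ : ℂ) = classInner F (fun h => (L μ h : ℂ)) := fun μ => by
    rw [← Char.decomposition_coeff k hk μ]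
    nth_rewrite 1 [hL μ]
    rfl
  have hv : ∀ (μ : IrrCharacter H) (h : H), (μ : H → ℂ) h = (L μ h : ℂ) := fun μ h => by
    nth_rewrite 1 [hL μ]
    rfl
  set T : Finset (IrrCharacter H) := Finset.univ.filter fun μ => (L μ).comp Z.subtype = lam with hT
  have hnT : n = ∑ μ ∈ T, k μ := by
    apply Nat.cast_injective (R := ℂ)
    rw [← hn, show (fun z : Z => F z) = ∑ μ : IrrCharacter H, (k μ : ℂ) • fun z : Z => ((L μ).comp Z.subtype z : ℂ) by
      funext z
      rw [congrFun hk (z : H), Finset.sum_apply, Finset.sum_apply]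
      exact Finset.sum_congr rfl fun μ _ => by
        rw [Pi.smul_apply, Pi.smul_apply, nsmul_eq_mul, smul_eq_mul, hv]; rfl,
      Char.classInner_sum_left, Nat.cast_sum, hT, Finset.sum_filter]
    refine Finset.sum_congr rfl fun μ _ => ?_
    rw [Char.classInner_smul_left, linIrr_inner]
    split_ifs <;> simp
  -- the number of extensions
  have hfib : ∀ μ : IrrCharacter H, (Finset.univ.filter fun ν : IrrCharacter H =>
      (L ν).comp A₀.subtype = (L μ).comp A₀.subtype).card = A₀.index := by
    intro μ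
    apply Nat.cast_injective (R := ℂ)
    rw [← Finset.sum_boole, Finset.sum_congr rfl fun ν _ => (linIrr_inner _ _).symm, ← Char.classInner_sum_left]
    have e : (∑ ν : IrrCharacter H, fun a : A₀ => ((L ν).comp A₀.subtype a : ℂ)) =
        fun a : A₀ => if a = 1 then (Nat.card H : ℂ) else 0 := by
      funext a
      rw [Finset.sum_apply]
      have h := Char.second_orth (a : H) (1 : H)
      rw [Finset.sum_congr rfl (g := fun ν : IrrCharacter H => ((L ν).comp A₀.subtype a : ℂ)) fun ν _ => by
        rw [hv ν a, hv ν 1, map_one, Units.val_one, map_one, mul_one]; rfl] at h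
      rw [h, if_congr (show IsConj (a : H) 1 ↔ a = 1 from by
        rw [isConj_one_left, OneMemClass.coe_eq_one]) rfl rfl]
      haveI : Unique {x : H // IsConj 1 x} :=
        ⟨⟨⟨1, IsConj.refl _⟩⟩, fun x => Subtype.ext (isConj_one_right.1 x.2)⟩
      rw [Nat.card_unique (α := {x : H // IsConj 1 x}), Nat.cast_one, div_one]
    rw [e, classInner, Finset.sum_eq_single (1 : A₀) (fun a _ ha => by rw [if_neg ha, zero_mul])
      (fun h => absurd (Finset.mem_univ _) h), if_pos rfl]
    simp only [map_one, Units.val_one, mul_one]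
    rw [← A₀.index_mul_card]
    push_cast
    rw [mul_comm (A₀.index : ℂ), ← mul_assoc, inv_mul_cancel₀ (Nat.cast_ne_zero.2 Nat.card_pos.ne'), one_mul]
  rw [hnT, ← Finset.sum_fiberwise_of_maps_to (g := fun μ => (L μ).comp A₀.subtype)
    (fun μ hμ => Finset.mem_image_of_mem _ hμ) k]
  refine Finset.dvd_sum fun l hl => ?_
  obtain ⟨μ, hμ, rfl⟩ := Finset.mem_image.1 hl
  have hμZ := (Finset.mem_filter.1 hμ).2
  have hset : T.filter (fun ν => (L ν).comp A₀.subtype = (L μ).comp A₀.subtype) =
      Finset.univ.filter fun ν => (L ν).comp A₀.subtype = (L μ).comp A₀.subtype := by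
    ext ν
    simp only [hT, Finset.mem_filter, Finset.mem_univ, true_and, and_iff_right_iff_imp]
    intro h
    rw [← hμZ]
    exact MonoidHom.ext fun z => DFunLike.congr_fun h ⟨(z : H), hZ z.2⟩
  rw [hset, Finset.sum_congr rfl (g := fun _ => k μ) fun ν hν => ?_, Finset.sum_const, hfib, smul_eq_mul]
  · exact dvd_mul_right _ _
  · apply Nat.cast_injective (R := ℂ)
    rw [hkv, hkv]
    refine (hinv (L μ) (L ν) (fun a ha => (DFunLike.congr_fun (Finset.mem_filter.1 hν).2 ⟨a, ha⟩).symm)
      fun z => DFunLike.congr_fun hμZ z).symm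

/-- A function invariant under a translation outside `A₀` has equal coefficients along extensions. -/
theorem classInner_eq_of_translate (F : H → ℂ) (A₀ : Subgroup H) (L L' : H →* ℂˣ)
    (hA : ∀ a ∈ A₀, L a = L' a) {z : H} (hz : z ∈ A₀) (hz1 : L z ≠ 1)
    (hF : ∀ h ∉ A₀, F (h * z) = F h) :
    classInner F (fun h => (L h : ℂ)) = classInner F (fun h => (L' h : ℂ)) := by
  classical
  rw [← sub_eq_zero, classInner, classInner, ← mul_sub, ← Finset.sum_sub_distrib]
  set g : H → ℂ := fun h => F h * conj ((L h : ℂ)) - F h * conj ((L' h : ℂ)) with hg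
  set S := ∑ h : H, g h
  have hshift : ∀ h, g (h * z) = conj ((L z : ℂ)) * g h := by
    intro h
    by_cases hh : h ∈ A₀
    · simp [hg, map_mul, hA h hh, hA z hz]
    · simp only [hg, map_mul, Units.val_mul, hF h hh, ← hA z hz]
      ring
  have h1 : conj ((L z : ℂ)) * S = S := by
    rw [Finset.mul_sum, ← Finset.sum_congr rfl fun h _ => hshift h]
    exact Fintype.sum_equiv (Equiv.mulRight z) _ _ fun h => rfl
  refine mul_eq_zero.2 (Or.inr ?_)
  by_contra hS
  refine hz1 (Units.ext ?_)
  have h2 : conj ((L z : ℂ)) = 1 := (mul_eq_right₀ hS).1 h1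
  simpa using congrArg conj h2

/-- The difference of two linear characters. -/
noncomputable def linDiff (L L' : H →* ℂˣ) : H → ℂ := fun h => (L h : ℂ) - (L' h : ℂ)

theorem linDiff_inner [DecidableEq (H →* ℂˣ)] (L L' K K' : H →* ℂˣ) :
    classInner (linDiff L L') (linDiff K K') =
      ((if L = K then (1 : ℂ) else 0) - if L = K' then 1 else 0) -
        ((if L' = K then (1 : ℂ) else 0) - if L' = K' then 1 else 0) := by
  simp only [← linIrr_inner, classInner, linDiff, map_sub, sub_mul, mul_sub, Finset.sum_sub_distrib]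
  ring

end Abelian

section Isolated

variable {G : Type u} [Group G] [Fintype G] {H : Subgroup G} [Fintype H]

open scoped Classical in
/-- The inverting elements outside `H`, relative to `|H|`. -/
noncomputable def invertWeight (H : Subgroup G) : ℂ :=
  (Nat.card H : ℂ)⁻¹ * ((Finset.univ.filter fun g : G => g ∉ H ∧ ∀ h : H, g⁻¹ * h * g = (h : G)⁻¹).card : ℂ)

open scoped Classical in
/-- An induced difference at an element outside `A₀`. -/
theorem indFun_isolated (hc : ∀ a b : H, a * b = b * a) (A₀ : Subgroup H)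
    (hfus : ∀ s s' : H, s ∉ A₀ → s' ∉ A₀ → ∀ g : G, g * s * g⁻¹ = (s' : G) →
      g ∈ H ∨ ∀ h : H, g * h * g⁻¹ = (h : G)⁻¹)
    (L L' : H →* ℂˣ) (hA : ∀ a ∈ A₀, L a = L' a) (s : H) (hs : s ∉ A₀) :
    indFun H (linDiff L L') (s : G) = linDiff L L' s + invertWeight H * conj (linDiff L L' s) := by
  set ψ := linDiff L L' with hψ
  have hψ0 : ∀ a ∈ A₀, ψ a = 0 := fun a ha => by simp [hψ, linDiff, hA a ha]
  have hψinv : ψ s⁻¹ = conj (ψ s) := by
    have e := fun K : H →* ℂˣ => Char.char_inv (Char.irr_isCharacter (linIrr K).2) s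
    simp only [linIrr_apply] at e
    simp only [hψ, linDiff, e, map_sub]
  have key : ∀ x : G, extendByZero H ψ (x⁻¹ * s * x) =
      (if x ∈ H then ψ s else 0) + (if x ∉ H ∧ ∀ h : H, x⁻¹ * h * x = (h : G)⁻¹ then conj (ψ s) else 0) := by
    intro x
    by_cases hx : x ∈ H
    · have e : x⁻¹ * (s : G) * x = s := by
        have := congrArg Subtype.val (hc s ⟨x, hx⟩)
        rw [mul_assoc, show (s : G) * x = x * s from this, inv_mul_cancel_left]
      rw [if_pos hx, if_neg fun h => h.1 hx, add_zero, e, Char.extendByZero_mem H ψ s.2]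
    rw [if_neg hx, zero_add]
    by_cases hi : ∀ h : H, x⁻¹ * h * x = (h : G)⁻¹
    · rw [if_pos ⟨hx, hi⟩, hi s, Char.extendByZero_mem H ψ (inv_mem s.2), ← hψinv]
      rfl
    rw [if_neg fun h => hi h.2]
    by_cases hm : x⁻¹ * s * x ∈ H
    · rw [Char.extendByZero_mem H ψ hm]
      by_contra h0
      have hs' : (⟨_, hm⟩ : H) ∉ A₀ := fun h => h0 (hψ0 _ h)
      rcases hfus s _ hs hs' x⁻¹ (by rw [inv_inv]) with h | h
      · exact hx (inv_mem_iff.1 h)
      · exact hi fun k => by simpa using h k
    · rw [Char.extendByZero_not_mem H ψ hm]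
  simp only [indFun, key, Finset.sum_add_distrib, ← Finset.sum_filter, Finset.sum_const, nsmul_eq_mul, mul_add]
  congr 1
  · rw [← mul_assoc]
    rw [show ((Finset.univ.filter fun x : G => x ∈ H).card : ℂ) = Nat.card H by
      rw [Nat.card_eq_fintype_card, Fintype.card_subtype]]
    rw [inv_mul_cancel₀ (Nat.cast_ne_zero.2 Nat.card_pos.ne'), one_mul]
  · rw [← mul_assoc, invertWeight]
    congr!

open scoped Classical in
/-- Coefficients of a character along extensions from `A₀`. -/
theorem classInner_eq_of_isolated (hc : ∀ a b : H, a * b = b * a) (A₀ : Subgroup H)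
    (hfus : ∀ s s' : H, s ∉ A₀ → s' ∉ A₀ → ∀ g : G, g * s * g⁻¹ = (s' : G) →
      g ∈ H ∨ ∀ h : H, g * h * g⁻¹ = (h : G)⁻¹)
    (ε : H →* ℂˣ) {t z : H} (ht : t ∈ A₀) (hεt : ε t ≠ 1) (hz : z ∈ A₀) (hεz : ε z = 1)
    (χ : IrrCharacter G)
    (hconst : ∀ h : H, h ∉ A₀ → ε h ≠ 1 → (χ : G → ℂ) ((h * z : H) : G) = (χ : G → ℂ) (h : G))
    (L L' : H →* ℂˣ) (hA : ∀ a ∈ A₀, L a = L' a) (hLz : L z * L z ≠ 1) :
    classInner (fun h : H => (χ : G → ℂ) h) (fun h => (L h : ℂ)) =
      classInner (fun h : H => (χ : G → ℂ) h) (fun h => (L' h : ℂ)) := by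
  by_cases hLL : L = L'
  · rw [hLL]
  have hL1 : L z ≠ 1 := fun h => hLz (by rw [h, mul_one])
  set K := ε * L with hK
  set K' := ε * L' with hK'
  have hAK : ∀ a ∈ A₀, K a = K' a := fun a ha => by simp [hK, hK', hA a ha]
  set ψ := linDiff L L' with hψ
  set φ := linDiff K K' with hφ
  -- integral coefficients
  choose m hm using fun (μ : IrrCharacter G) (J : H →* ℂˣ) => Char.classInner_natCast
    (Char.isCharacter_comp H.subtype (Char.irr_isCharacter μ.2)) (Char.irr_isCharacter (linIrr J).2)
  let c : IrrCharacter G → ℤ := fun μ => (m μ L : ℤ) - m μ L'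
  let d : IrrCharacter G → ℤ := fun μ => (m μ K : ℤ) - m μ K'
  have coef : ∀ (J J' : H →* ℂˣ) (μ : IrrCharacter G),
      classInner (indFun H (linDiff J J')) (μ : G → ℂ) = (((m μ J : ℤ) - m μ J' : ℤ) : ℂ) := by
    intro J J' μ
    rw [Char.frobenius H _ (Char.isClassFunction_character (Char.irr_isCharacter μ.2)), ← Char.classInner_symm]
    have e : classInner (fun h : H => (μ : G → ℂ) h) (linDiff J J') =
        classInner (fun h : H => (μ : G → ℂ) h) (linIrr J : H → ℂ) -
          classInner (fun h : H => (μ : G → ℂ) h) (linIrr J' : H → ℂ) := by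
      simp only [classInner, linDiff, linIrr_apply, map_sub, mul_sub, Finset.sum_sub_distrib]
    rw [e, show classInner (fun h : H => (μ : G → ℂ) h) (linIrr J : H → ℂ) = (m μ J : ℂ) from hm μ J,
      show classInner (fun h : H => (μ : G → ℂ) h) (linIrr J' : H → ℂ) = (m μ J' : ℂ) from hm μ J',
      map_sub, map_natCast, map_natCast]
    push_cast
    rfl
  have pair : ∀ (J J' N N' : H →* ℂˣ), (∀ a ∈ A₀, J a = J' a) → (∀ a ∈ A₀, N a = N' a) →
      ((∑ μ, ((m μ J : ℤ) - m μ J') * ((m μ N : ℤ) - m μ N') : ℤ) : ℂ) =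
        classInner (linDiff J J') (linDiff N N') +
          conj (invertWeight H) * classInner (linDiff J J') (fun h => conj (linDiff N N' h)) := by
    intro J J' N N' hJ hN
    have e1 : classInner (indFun H (linDiff J J')) (indFun H (linDiff N N')) =
        ((∑ μ, ((m μ J : ℤ) - m μ J') * ((m μ N : ℤ) - m μ N') : ℤ) : ℂ) := by
      rw [Int.cast_sum]
      nth_rewrite 1 [Char.classFun_expansion (Char.isClassFunction_indFun H (linDiff J J'))]
      rw [Char.classInner_sum_left]
      refine Finset.sum_congr rfl fun μ _ => ?_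
      rw [Char.classInner_smul_left, coef J J' μ, ← Char.classInner_symm, coef N N' μ, map_intCast,
        Int.cast_mul]
    rw [← e1, Char.frobenius H _ (Char.isClassFunction_indFun H _), classInner, classInner, classInner,
      ← mul_assoc, mul_comm (conj _) _, mul_assoc, ← mul_add, Finset.mul_sum (a := conj (invertWeight H)),
      ← Finset.sum_add_distrib]
    congr 1
    refine Finset.sum_congr rfl fun h _ => ?_
    by_cases hh : h ∈ A₀
    · simp [linDiff, hJ h hh]
    · rw [indFun_isolated hc A₀ hfus N N' hN h hh, map_add, map_mul, Complex.conj_conj]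
      ring
  have conjzero : ∀ (J J' N N' : H →* ℂˣ), (∀ a ∈ A₀, J a = J' a) → (∀ a ∈ A₀, N a = N' a) →
      J z = L z → N z = L z → classInner (linDiff J J') (fun h => conj (linDiff N N' h)) = 0 := by
    intro J J' N N' hJ hN hJz hNz
    have e : (fun h => conj (linDiff N N' h)) = linDiff N⁻¹ N'⁻¹ := by
      funext h
      have e := fun K : H →* ℂˣ => Char.char_inv (Char.irr_isCharacter (linIrr K).2) h
      simp only [linIrr_apply, map_inv] at e
      simp only [linDiff, map_sub, MonoidHom.inv_apply, e]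
    have hne : ∀ A B : H →* ℂˣ, A z = L z → B z = L z → A ≠ B⁻¹ := fun A B hA hB h => hLz (by
      have h' := DFunLike.congr_fun h z
      rw [MonoidHom.inv_apply, hA, hB] at h'
      nth_rewrite 1 [h']
      exact inv_mul_cancel _)
    rw [e, linDiff_inner, if_neg (hne _ _ hJz hNz), if_neg (hne _ _ hJz ((hN z hz).symm.trans hNz)),
      if_neg (hne _ _ ((hJ z hz).symm.trans hJz) hNz),
      if_neg (hne _ _ ((hJ z hz).symm.trans hJz) ((hN z hz).symm.trans hNz))]
    simp
  have hKz : K z = L z := by simp [hK, hεz]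
  have hKK : K ≠ K' := fun h => hLL (mul_left_cancel h)
  have hLK : ∀ A B : H →* ℂˣ, A t = L t → B t = K t → A ≠ B := fun A B hA hB h => hεt (by
    rw [h, hB, hK, MonoidHom.mul_apply] at hA
    exact mul_eq_right.1 hA)
  have hcc : ∑ μ, c μ * c μ = 2 := by
    have h := pair L L' L L' hA hA
    rw [conjzero L L' L L' hA hA rfl rfl, linDiff_inner, if_pos rfl, if_neg hLL, if_neg (Ne.symm hLL),
      if_pos rfl] at h
    exact Int.cast_injective (α := ℂ) (h.trans (by norm_num))
  have hdd : ∑ μ, d μ * d μ = 2 := by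
    have h := pair K K' K K' hAK hAK
    rw [conjzero K K' K K' hAK hAK hKz hKz, linDiff_inner, if_pos rfl, if_neg hKK, if_neg (Ne.symm hKK),
      if_pos rfl] at h
    exact Int.cast_injective (α := ℂ) (h.trans (by norm_num))
  have hcd : ∑ μ, c μ * d μ = 0 := by
    have h := pair L L' K K' hA hAK
    rw [conjzero L L' K K' hA hAK rfl hKz, linDiff_inner, if_neg (hLK L K rfl rfl),
      if_neg (hLK L K' rfl (hAK t ht).symm), if_neg (hLK L' K (hA t ht).symm rfl),
      if_neg (hLK L' K' (hA t ht).symm (hAK t ht).symm)] at h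
    exact Int.cast_injective (α := ℂ) (h.trans (by norm_num))
  have hdeg : ∀ J J' : H →* ℂˣ, ∑ μ, ((m μ J : ℤ) - m μ J') * (Char.deg (μ : G → ℂ) : ℤ) = 0 := by
    intro J J'
    have h := congrFun (Char.classFun_expansion (Char.isClassFunction_indFun H (linDiff J J'))) 1
    simp only [Char.indFun_one, Finset.sum_apply, Pi.smul_apply, smul_eq_mul, coef] at h
    rw [show linDiff J J' 1 = 0 by simp [linDiff], mul_zero] at h
    apply Int.cast_injective (α := ℂ)
    rw [Int.cast_zero, h, Int.cast_sum]
    refine Finset.sum_congr rfl fun μ _ => ?_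
    rw [Char.char_one_eq_deg (Char.irr_isCharacter μ.2)]
    push_cast
    rfl
  have hceq : c χ = d χ := by
    have h1 := coef L L' χ
    have h2 := coef K K' χ
    rw [Char.frobenius H _ (Char.isClassFunction_character (Char.irr_isCharacter χ.2))] at h1 h2
    apply Int.cast_injective (α := ℂ)
    refine h1.symm.trans (Eq.trans ?_ h2)
    rw [← sub_eq_zero]
    set g : H → ℂ := fun h => (linDiff L L' h - linDiff K K' h) * conj ((χ : G → ℂ) h) with hg
    have hshift : ∀ h, g (h * z) = (L z : ℂ) * g h := by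
      intro h
      by_cases hh : h ∈ A₀
      · simp [hg, linDiff, hA h hh, hA z hz, hAK h hh, hAK z hz]
      · by_cases he : ε h = 1
        · simp [hg, linDiff, hK, hK', he, hεz]
        · simp only [hg, linDiff, hK, hK', MonoidHom.mul_apply, map_mul, Units.val_mul, hεz, Units.val_one, mul_one,
            one_mul, hconst h hh he, ← hA z hz]
          ring
    have h1 : (L z : ℂ) * ∑ h, g h = ∑ h, g h := by
      rw [Finset.mul_sum, ← Finset.sum_congr rfl fun h _ => hshift h]
      exact Fintype.sum_equiv (Equiv.mulRight z) _ _ fun h => rfl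
    have h0 : ∑ h, g h = 0 := by
      by_contra h
      exact hL1 (Units.ext ((mul_eq_right₀ h).1 h1))
    simp only [classInner, ← mul_sub, ← Finset.sum_sub_distrib]
    refine mul_eq_zero.2 (Or.inr ?_)
    rw [← h0]
    exact Finset.sum_congr rfl fun h _ => by simp only [hg, sub_mul]
  have h := norm_two_disjoint c d (fun μ => (Char.deg (μ : G → ℂ) : ℤ))
    (fun μ => by exact_mod_cast Char.deg_pos μ.2) hcc hdd hcd (hdeg L L') (hdeg K K') hceq
  show classInner ((χ : G → ℂ) ∘ H.subtype) (linIrr L : H → ℂ) = classInner ((χ : G → ℂ) ∘ H.subtype) (linIrr L' : H → ℂ)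
  rw [hm, hm]
  simp only [c, sub_eq_zero] at h
  exact_mod_cast h

end Isolated

end Cfsg.Agent.GW
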