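import Cfsg.Agent.Lib.GW.RotationComp
import Cfsg.Agent.Lib.Fusion.FixedPointFormula

/-!
# The supplement outside the torus is isolated

For `a ∈ A ∖ T` the odd part `W` of `C(a)` is normalised by `P`, so `|W : A| = |W ∩ C(u)| |W ∩ C(tu)|`, which is
`≡ 1 (mod q)` as an element of order `q` of the torus fixes only the trivial coset; both factors divide `l`, where
`2 l ∣ q ± 1`; so they are `1` and `C(a) ≤ C(t)`.
-/

set_option autoImplicit false
set_option linter.unusedSectionVars false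
set_option linter.style.haveILetI false

namespace Cfsg.Agent.GW

open Cfsg Cfsg.Agent

universe w

/-- divisors of an odd `l` with `2 l ∣ q ± 1` and product `≡ 1` -/
theorem divisors_eq_one {q l w₁ w₂ : ℕ} (hq : 3 ≤ q) (hqo : Odd q) (hl : 2 * l ∣ q - 1 ∨ 2 * l ∣ q + 1)
    (h₁ : w₁ ∣ l) (h₂ : w₂ ∣ l) (ho₁ : Odd w₁) (ho₂ : Odd w₂) (hm : w₁ * w₂ ≡ 1 [MOD q]) : w₁ = 1 ∧ w₂ = 1 := by
  rw [← mul_eq_one]
  by_contra hne
  obtain ⟨m, hm'⟩ := (Nat.modEq_iff_dvd' (Nat.mul_pos ho₁.pos ho₂.pos)).1 hm.symm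
  have hbig : 2 * q + 1 ≤ w₁ * w₂ := by
    obtain ⟨j, hj⟩ := ho₁.mul ho₂
    have hpos := Nat.mul_pos ho₁.pos ho₂.pos
    rcases m with _ | _ | m
    · omega
    · obtain ⟨k, hk⟩ := hqo
      omega
    · rw [Nat.mul_succ, Nat.mul_succ] at hm'
      omega
  obtain ⟨n, hn, hn2⟩ : ∃ n : ℕ, 2 * l ∣ n ∧ (n = q - 1 ∨ n = q + 1) := by
    rcases hl with h | h
    exacts [⟨_, h, Or.inl rfl⟩, ⟨_, h, Or.inr rfl⟩]
  obtain ⟨k₁, rfl⟩ := h₁
  obtain ⟨k, rfl⟩ := hn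
  obtain ⟨k₂, hk₂⟩ := h₂
  obtain ⟨K, hK⟩ : ∃ K, K = 4 * (k₁ * k) * (k₂ * k) := ⟨_, rfl⟩
  have hsq : 2 * (w₁ * k₁) * k * (2 * (w₁ * k₁) * k) = w₁ * w₂ * K := by
    nth_rewrite 2 [hk₂]
    rw [hK]; ring
  have hK1 : K ≡ 1 [MOD q] := by
    have h1 : w₁ * w₂ * K ≡ 1 * K [MOD q] := hm.mul_right K
    rw [one_mul, ← hsq] at h1
    refine h1.symm.trans ?_
    rcases hn2 with h | h <;> rw [h]
    · refine ((Nat.modEq_iff_dvd' ?_).2 ?_).symm
      · nlinarith [Nat.sub_add_cancel (by omega : 1 ≤ q)]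
      · obtain ⟨p, rfl⟩ : ∃ p, q = p + 2 := ⟨q - 2, by omega⟩
        exact ⟨p, by
          rw [show p + 2 - 1 = p + 1 by omega]
          have : (p + 1) * (p + 1) = (p + 2) * p + 1 := by ring
          omega⟩
    · refine ((Nat.modEq_iff_dvd' (Nat.mul_pos (by omega) (by omega))).2 ⟨q + 2, ?_⟩).symm
      have : (q + 1) * (q + 1) = q * (q + 2) + 1 := by ring
      omega
  have hKq : q + 1 ≤ K := by
    have hKpos : 0 < K := by
      by_contra h0
      rw [Nat.eq_zero_of_not_pos h0] at hK1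
      have := Nat.le_of_dvd one_pos ((Nat.modEq_iff_dvd' (Nat.zero_le 1)).1 hK1)
      omega
    obtain ⟨j, hj⟩ := (Nat.modEq_iff_dvd' hKpos).1 hK1.symm
    rcases j with _ | j
    · have : K = 4 * (k₁ * k * (k₂ * k)) := by rw [hK, mul_assoc]
      omega
    · rw [Nat.mul_succ] at hj; omega
  have hle : 2 * (w₁ * k₁) * k * (2 * (w₁ * k₁) * k) ≤ (q + 1) * (q + 1) := by
    rcases hn2 with h | h <;> rw [h]
    exact Nat.mul_le_mul (by omega) (by omega)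
  rw [hsq] at hle
  nlinarith [Nat.mul_le_mul hbig hKq]

variable {G : Type w} [Group G] [Finite G] [IsSimpleGroup G] {t u : G} {O N : Subgroup G} {P : Sylow 2 G} {q : ℕ}
  [Fact q.Prime] {ρ : G} {d x : G} {Φ : ↥O →* Matrix.SpecialLinearGroup (Fin 2) (ZMod q)} {A₀ : Subgroup G}

set_option quotPrecheck false in
local notation "Cz" => Subgroup.centralizer ({t} : Set G)

set_option quotPrecheck false in
local notation "Fq" => fq q (Subgroup.centralizer ({t} : Set G))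

/-- normalisers of nontrivial parts of the torus lie in `C` -/
theorem RotCfg.torus_isolated (c : RotCfg t u O P q N ρ) (s : Shape q t u O N d x) (A : Action q t u O N d x Φ)
    (g : Range q t u O N d Φ) {τ : G} (hτ : τ ∈ lay N ⊓ O) (hτ1 : τ ≠ 1) {y : G}
    (hy : y * τ * y⁻¹ ∈ Subgroup.zpowers τ) : y ∈ Cz := by
  obtain ⟨X, hX⟩ : ∃ X, X = Subgroup.zpowers τ := ⟨_, rfl⟩
  have hgen : ∀ {y : G}, y * τ * y⁻¹ ∈ X → y ∈ Subgroup.normalizer (X : Set G) := fun {y} h =>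
    mem_norm_of_conj fun z hz => by
      obtain ⟨i, rfl⟩ := Subgroup.mem_zpowers_iff.1 (hX ▸ hz)
      rw [← conj_zpow]
      exact X.zpow_mem h i
  have hle : Cz ≤ Subgroup.normalizer (X : Set G) := fun y hy => by
    obtain ⟨o, ho, p, hp, rfl⟩ := c.hyp.decomp hy
    have hoc := (g.torus c s A hτ).2 o ho
    refine Subgroup.mul_mem _ (hgen (by rw [hoc.eq, mul_inv_cancel_right, hX]; exact Subgroup.mem_zpowers τ))
      (hgen ?_)
    rw [hX]
    by_cases hp1 : p = 1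
    · rw [hp1, one_mul, inv_one, mul_one]; exact Subgroup.mem_zpowers τ
    by_cases hpt : p = t
    · rw [hpt, ← (c.hyp.mc.core_commute hτ.2).eq, mul_inv_cancel_right]; exact Subgroup.mem_zpowers τ
    · rw [c.torus_inv p hp hp1 hpt τ hτ]; exact inv_mem (Subgroup.mem_zpowers τ)
  rcases c.hyp.mc.max.le_iff.1 hle with h | h
  · exfalso
    rcases (Subgroup.normalizer_eq_top_iff.1 h).eq_bot_or_eq_top with he | he
    · exact hτ1 (Subgroup.mem_bot.1 (he ▸ hX ▸ Subgroup.mem_zpowers τ))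
    · exact c.hyp.mc.max.1 (top_le_iff.1 (he ▸ hX ▸ Subgroup.zpowers_le.2 (c.hyp.mc.core_le hτ.2)))
  · exact h ▸ hgen (hX ▸ hy)

/-- elements of `C` centralising an element of `A ∖ T` -/
theorem Comp.cent_C (c : RotCfg t u O P q N ρ) (g : Range q t u O N d Φ) (K : Comp q t u O N Φ A₀) {a : G}
    (ha : a ∈ A₀) (ha1 : Φ ⟨a, K.le ha⟩ ≠ 1) {y : G} (hy : y ∈ Cz) (hya : Commute y a) :
    y ∈ A₀ ∨ ∃ b ∈ A₀, y = b * t := by
  have hcO : ∀ {o : G}, o ∈ O → Commute o a → o ∈ A₀ := fun {o} ho hoa => by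
    obtain ⟨f, hf, b, hb, rfl⟩ := K.split o ho
    have hfa : Commute f a := by
      have := hoa.mul_left (K.comm b hb a ha).inv_left
      rwa [mul_inv_cancel_right] at this
    exact A₀.mul_mem (K.torus_le (K.free ⟨a, K.le ha⟩ ha1 f hf hfa.symm)) hb
  obtain ⟨o, ho, p, hp, rfl⟩ := c.hyp.decomp hy
  have hinv : p * a * p⁻¹ = a⁻¹ → False := fun h => by
    refine ha1 ?_
    have h1 : o * a⁻¹ * o⁻¹ = a := by
      calc o * a⁻¹ * o⁻¹ = o * (p * a * p⁻¹) * o⁻¹ := by rw [h]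
        _ = (o * p) * a * (o * p)⁻¹ := by group
        _ = a := by rw [hya.eq, mul_inv_cancel_right]
    obtain ⟨α, hα⟩ : ∃ α, α = (⟨a, K.le ha⟩ : ↥O) := ⟨_, rfl⟩
    rw [← hα]
    have h2 : (⟨o, ho⟩ : ↥O) * α⁻¹ * ⟨o, ho⟩⁻¹ = α := by rw [hα]; exact Subtype.ext h1
    have h3 := congrArg Φ h2
    rw [map_mul, map_mul, map_inv, map_inv, ← map_inv Φ α, g.comm, mul_inv_cancel_right, map_inv] at h3
    refine orderOf_eq_one_iff.1 (Nat.eq_one_of_dvd_coprimes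
      ((c.hyp.mc.core_odd.of_dvd_nat (orderOf_dvd_natCard α)).of_dvd_nat (orderOf_map_dvd Φ α)).coprime_two_left
      (orderOf_dvd_of_pow_eq_one ?_) dvd_rfl)
    rw [pow_two]
    nth_rewrite 1 [← h3]
    exact inv_mul_cancel _
  rcases c.hyp.mem_cases hp with h | h | h | h
  · left
    rw [h, mul_one] at hya ⊢
    exact hcO ho hya
  · right
    refine ⟨o, hcO ho ?_, by rw [h]⟩
    have := hya.mul_left (c.hyp.mc.core_commute (K.le ha)).symm.inv_left
    rwa [h, mul_inv_cancel_right] at this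
  · exact (hinv (h ▸ K.inv a ha)).elim
  · refine (hinv ?_).elim
    rw [h, show t * u * a * (t * u)⁻¹ = t * (u * a * u⁻¹) * t⁻¹ by group, K.inv a ha,
      ← (c.hyp.mc.core_commute (O.inv_mem (K.le ha))).eq, mul_inv_cancel_right]

/-- the part fixed by a conjugate of `t` embeds in the image of `O` -/
theorem Comp.fixed_card (c : RotCfg t u O P q N ρ) (s : Shape q t u O N d x) (A : Action q t u O N d x Φ)
    (g : Range q t u O N d Φ) (K : Comp q t u O N Φ A₀) {a : G} (ha : a ∈ A₀) (ha1 : a ≠ 1) {W : Subgroup G}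
    (hW : ∀ y, y ∈ W ↔ Commute y a ∧ Odd (orderOf y)) {h z : G} (hz : h * t * h⁻¹ = z)
    (hza : z * a * z⁻¹ = a⁻¹)
    (hq : ¬ q ∣ Nat.card ↥(W ⊓ Subgroup.centralizer ({z} : Set G))) :
    Nat.card ↥(W ⊓ Subgroup.centralizer ({z} : Set G)) ∣ Nat.card Φ.range := by
  obtain ⟨V, hV⟩ : ∃ V, V = W ⊓ Subgroup.centralizer ({z} : Set G) := ⟨_, rfl⟩
  rw [← hV] at hq ⊢
  have hVmem : ∀ {y : G}, y ∈ V → y ∈ W ∧ Commute y z := fun {y} hy => by
    rw [hV, Subgroup.mem_inf, Subgroup.mem_centralizer_singleton_iff] at hy; exact hy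
  have hmap : ∀ y : ↥V, h⁻¹ * (y : G) * h ∈ O := fun y => by
    obtain ⟨hyW, hyz⟩ := hVmem y.2
    refine c.hyp.mc.core _ ?_ ?_
    · have := (Commute.conj_iff h⁻¹).2 hyz
      rwa [inv_inv, ← hz, show h⁻¹ * (h * t * h⁻¹) * h = t by group] at this
    · rw [show h⁻¹ * (y : G) * h = MulAut.conj h⁻¹ (y : G) by simp, MulEquiv.orderOf_eq]
      exact ((hW _).1 hyW).2
  obtain ⟨ν, hν⟩ : ∃ ν : ↥V →* ↥Φ.range, ∀ y : ↥V, (ν y : Matrix.SpecialLinearGroup (Fin 2) (ZMod q)) =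
      Φ ⟨_, hmap y⟩ :=
    ⟨MonoidHom.mk' (fun y => ⟨Φ ⟨_, hmap y⟩, ⟨_, rfl⟩⟩) (fun y y' => Subtype.ext (by
      show Φ _ = Φ _ * Φ _
      rw [← map_mul]
      congr 1
      exact Subtype.ext (by simp only [Subgroup.coe_mul]; group))), fun _ => rfl⟩
  refine Subgroup.card_dvd_of_injective ν ((injective_iff_map_eq_one ν).2 fun y hy => ?_)
  by_contra hy1
  have hker : Φ ⟨_, hmap y⟩ = 1 := by rw [← hν, hy]; rfl
  have hyT : h⁻¹ * (y : G) * h ∈ lay N ⊓ O := mem_of_primary fun e he p k hp ho => by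
    obtain ⟨heO, hep, he2⟩ := c.primary (hmap y) ((g.fit _).1 hker) he hp ho
    rcases he2 with rfl | hp2
    · exact one_mem _
    by_cases hpq : p = q
    · have hdvd : orderOf e ∣ Nat.card ↥V := by
        refine (orderOf_dvd_of_mem_zpowers he).trans ?_
        rw [show h⁻¹ * (y : G) * h = MulAut.conj h⁻¹ (y : G) by simp, MulEquiv.orderOf_eq]
        exact Subgroup.orderOf_dvd_natCard _ y.2
      rcases Nat.eq_zero_or_pos k with rfl | hk
      · rw [pow_zero, orderOf_eq_one_iff] at ho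
        rw [ho]; exact one_mem _
      · exact absurd ((dvd_pow_self p hk.ne').trans (ho ▸ hdvd)) (hpq ▸ hq)
    · exact c.other hp hp2 hpq hep
  have hne : h⁻¹ * (y : G) * h ≠ 1 := fun e => hy1 (Subtype.ext (by
    calc (y : G) = h * (h⁻¹ * (y : G) * h) * h⁻¹ := by group
      _ = 1 := by rw [e]; group))
  obtain ⟨hyW, -⟩ := hVmem y.2
  have haC : h⁻¹ * a * h ∈ Cz := c.torus_isolated s A g hyT hne (by
    have hc := ((hW _).1 hyW).1
    rw [show h⁻¹ * a * h * (h⁻¹ * (y : G) * h) * (h⁻¹ * a * h)⁻¹ = h⁻¹ * (a * (y : G) * a⁻¹) * h by group,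
      ← hc.eq, mul_inv_cancel_right]
    exact Subgroup.mem_zpowers _)
  refine ha1 (eq_one_of_inv_fix (c.hyp.mc.core_orderOf (K.le ha)) hza ?_)
  have := (Commute.conj_iff h).2 (Subgroup.mem_centralizer_singleton_iff.1 haC : Commute (h⁻¹ * a * h) t)
  rw [hz, show h * (h⁻¹ * a * h) * h⁻¹ = a by group] at this
  exact this.symm

/-- **centralisers of elements of `A ∖ T` lie in `C`** -/
theorem Comp.cent_le (c : RotCfg t u O P q N ρ) (s : Shape q t u O N d x) (A : Action q t u O N d x Φ)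
    (g : Range q t u O N d Φ) (K : Comp q t u O N Φ A₀) {a : G} (ha : a ∈ A₀) (haT : a ∉ lay N ⊓ O) :
    Subgroup.centralizer ({a} : Set G) ≤ Cz := by
  haveI : Fact (Nat.Prime 2) := ⟨Nat.prime_two⟩
  have haΦ : Φ ⟨a, K.le ha⟩ ≠ 1 := fun e => haT ((K.torus_iff ⟨a, K.le ha⟩ ha).1 e)
  have ha1 : a ≠ 1 := fun e => haT (e ▸ one_mem _)
  have hAodd : Odd (Nat.card ↥A₀) := c.hyp.mc.core_odd.of_dvd_nat (Subgroup.card_dvd_of_le K.le)
  obtain ⟨B, hB⟩ : ∃ B, B = Subgroup.centralizer ({a} : Set G) := ⟨_, rfl⟩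
  rw [← hB]
  have hBmem : ∀ {y : G}, y ∈ B ↔ Commute y a := fun {y} => by
    rw [hB, Subgroup.mem_centralizer_singleton_iff]; exact Iff.rfl
  have hAt : ∀ {y : G}, y ∈ A₀ → Commute t y := fun {y} hy => (c.hyp.mc.core_commute (K.le hy)).symm
  have htB : t ∈ B := hBmem.2 (hAt ha)
  have hcent : ∀ {y : G}, y ∈ B → y ∈ Cz → y ∈ A₀ ∨ ∃ b ∈ A₀, y = b * t := fun hy hyC =>
    K.cent_C c g ha haΦ hyC (hBmem.1 hy)
  -- the Sylow two-subgroup
  obtain ⟨S, hS⟩ := (IsPGroup.of_card (p := 2) (n := 1) (G := Subgroup.zpowers (⟨t, htB⟩ : ↥B)) (by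
    rw [Nat.card_zpowers, Subgroup.orderOf_mk,
      orderOf_eq_prime (p := 2) (by rw [pow_two]; exact c.hyp.mc.sq) c.hyp.mc.ne, pow_one])).exists_le_sylow
  have hSab : ∀ y ∈ (S : Subgroup ↥B), Commute (y : G) t := by
    intro y hy
    obtain ⟨Q, hQ⟩ := (S.isPGroup'.map B.subtype).exists_le_sylow
    obtain ⟨h, hh⟩ := MulAction.exists_smul_eq G Q P
    have hyP : ∀ w ∈ (Q : Subgroup G), h * w * h⁻¹ ∈ (P : Subgroup G) := fun w hw => by
      rw [← hh]; exact ⟨w, hw, rfl⟩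
    have hy' : (y : G) ∈ (Q : Subgroup G) := hQ ⟨y, hy, rfl⟩
    have ht' : t ∈ (Q : Subgroup G) := hQ ⟨⟨t, htB⟩, hS (Subgroup.mem_zpowers _), rfl⟩
    exact (Commute.conj_iff h).1 (c.hyp.comm (hyP _ hy') (hyP _ ht'))
  have hSt : ∀ y ∈ (S : Subgroup ↥B), y = 1 ∨ y = ⟨t, htB⟩ := by
    have hone : ∀ {b : ↥B}, b ∈ (S : Subgroup ↥B) → (b : G) ∈ A₀ → b = 1 := fun {b} hb hbA => by
      obtain ⟨k, hk⟩ := S.isPGroup' ⟨b, hb⟩
      refine orderOf_eq_one_iff.1 (Nat.eq_one_of_dvd_coprimes (Nat.Coprime.pow_left k hAodd.coprime_two_left)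
        (orderOf_dvd_of_pow_eq_one (congrArg Subtype.val hk)) ?_)
      rw [← Subgroup.orderOf_coe]
      exact Subgroup.orderOf_dvd_natCard _ hbA
    intro y hy
    rcases hcent y.2 (Subgroup.mem_centralizer_singleton_iff.2 (hSab y hy).eq) with h | ⟨b, hb, e⟩
    · exact Or.inl (hone hy h)
    · have h1 : ((y * ⟨t, htB⟩ : ↥B) : G) = b := by
        show (y : G) * t = b
        rw [e, mul_assoc, c.hyp.mc.sq, mul_one]
      have h2 := hone (mul_mem hy (hS (Subgroup.mem_zpowers _))) (h1.symm ▸ hb)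
      right
      rw [eq_inv_of_mul_eq_one_left h2]
      exact Subtype.ext (inv_eq_of_mul_eq_one_right c.hyp.mc.sq)
  have hSc : Subgroup.normalizer ((S : Subgroup ↥B) : Set ↥B) ≤
      Subgroup.centralizer ((S : Subgroup ↥B) : Set ↥B) := fun n hn => by
    refine Subgroup.mem_centralizer_iff.2 fun y hy => ?_
    rcases hSt y hy with rfl | rfl
    · rw [one_mul, mul_one]
    · rcases hSt _ ((Subgroup.mem_normalizer_iff.1 hn _).1 hy) with h | h
      · exact absurd (congrArg Subtype.val (conj_eq_one_iff.1 h)) c.hyp.mc.ne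
      · exact (mul_inv_eq_iff_eq_mul.1 h).symm
  obtain ⟨φ, hφ⟩ : ∃ φ, φ = MonoidHom.transferSylow S hSc := ⟨_, rfl⟩
  have hcompl : φ.ker.IsComplement' S := hφ ▸ MonoidHom.ker_transferSylow_isComplement' S hSc
  have hndvd : ¬ 2 ∣ Nat.card φ.ker := hφ ▸ MonoidHom.not_dvd_card_ker_transferSylow S hSc
  obtain ⟨W, hW'⟩ : ∃ W, W = φ.ker.map B.subtype := ⟨_, rfl⟩
  have hW : ∀ y, y ∈ W ↔ Commute y a ∧ Odd (orderOf y) := by
    intro y
    rw [hW']
    constructor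
    · rintro ⟨b, hb, rfl⟩
      refine ⟨hBmem.1 b.2, ?_⟩
      show Odd (orderOf (b : G))
      rw [Subgroup.orderOf_coe]
      exact (Nat.odd_iff.2 (Nat.two_dvd_ne_zero.1 hndvd)).of_dvd_nat (Subgroup.orderOf_dvd_natCard _ hb)
    · rintro ⟨hya, hyo⟩
      refine ⟨⟨y, hBmem.2 hya⟩, MonoidHom.mem_ker.2 ?_, rfl⟩
      obtain ⟨k, hk⟩ := S.isPGroup' (φ ⟨y, hBmem.2 hya⟩)
      refine orderOf_eq_one_iff.1 (Nat.eq_one_of_dvd_coprimes (Nat.Coprime.pow_left k hyo.coprime_two_left)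
        (orderOf_dvd_of_pow_eq_one hk) ?_)
      refine (orderOf_map_dvd φ _).trans ?_
      rw [← Subgroup.orderOf_coe]
  have hgen : ∀ y ∈ B, y ∈ W ∨ ∃ b ∈ W, y = b * t := fun y hy => by
    obtain ⟨⟨⟨k, hk⟩, ⟨v, hv⟩⟩, e, -⟩ := hcompl.existsUnique ⟨y, hy⟩
    have hk' : (k : G) ∈ W := hW' ▸ ⟨k, hk, rfl⟩
    rcases hSt v hv with rfl | rfl
    · left
      rwa [show y = (k : G) by simpa using (congrArg Subtype.val e).symm]
    · exact Or.inr ⟨k, hk', (congrArg Subtype.val e).symm⟩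
  have hWodd : Odd (Nat.card ↥W) := by
    rw [hW', Subgroup.card_map_of_injective B.subtype_injective]
    exact Nat.odd_iff.2 (Nat.two_dvd_ne_zero.1 hndvd)
  have hAW : A₀ ≤ W := fun y hy => (hW y).2 ⟨K.comm y hy a ha, c.hyp.mc.core_orderOf (K.le hy)⟩
  have hWt : W ⊓ Subgroup.centralizer ({t} : Set G) = A₀ := by
    refine le_antisymm (fun y hy => ?_) (le_inf hAW (K.le.trans c.hyp.mc.core_le))
    rcases hcent (hBmem.2 ((hW y).1 hy.1).1) hy.2 with h | ⟨b, hb, e⟩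
    · exact h
    · exfalso
      have ho := ((hW y).1 hy.1).2
      rw [e, (hAt hb).symm.orderOf_mul_eq_mul_orderOf_of_coprime (Nat.Coprime.symm (by
          rw [orderOf_eq_prime (p := 2) (by rw [pow_two]; exact c.hyp.mc.sq) c.hyp.mc.ne]
          exact (c.hyp.mc.core_orderOf (K.le hb)).coprime_two_left)),
        orderOf_eq_prime (p := 2) (by rw [pow_two]; exact c.hyp.mc.sq) c.hyp.mc.ne] at ho
      exact Nat.not_even_iff_odd.2 ho (even_two.mul_left _)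
  have hfix : ∀ y ∈ W, Commute y t → ∀ z ∈ (P : Subgroup G), z ≠ 1 → z ≠ t → Commute y z → y = 1 := by
    intro y hy hyt z hz hz1 hzt hyz
    have hyA : y ∈ A₀ := hWt ▸ ⟨hy, Subgroup.mem_centralizer_singleton_iff.2 hyt.eq⟩
    exact eq_one_of_inv_fix (c.hyp.mc.core_orderOf (K.le hyA)) (K.inv y hyA)
      (c.hyp.commute_u hyt hz hz1 hzt hyz).symm
  -- the action of `P`
  have hPa : ∀ p ∈ (P : Subgroup G), p * a * p⁻¹ = a ∨ p * a * p⁻¹ = a⁻¹ := fun p hp => by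
    rcases c.hyp.mem_cases hp with rfl | rfl | rfl | rfl
    · left; group
    · left; rw [(hAt ha).eq, mul_inv_cancel_right]
    · right; exact K.inv a ha
    · right
      rw [show t * u * a * (t * u)⁻¹ = t * (u * a * u⁻¹) * t⁻¹ by group, K.inv a ha, (hAt (A₀.inv_mem ha)).eq,
        mul_inv_cancel_right]
  have hPW : (P : Subgroup G) ≤ Subgroup.normalizer (W : Set G) := fun p hp => mem_norm_of_conj fun y hy => by
    obtain ⟨hya, hyo⟩ := (hW y).1 hy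
    refine (hW _).2 ⟨?_, ?_⟩
    · rcases hPa p hp with h | h
      · exact h ▸ (Commute.conj_iff p).2 hya
      · have := (Commute.conj_iff p).2 hya
        rw [h] at this
        simpa using this.inv_right
    · rwa [show p * y * p⁻¹ = MulAut.conj p y by simp, MulEquiv.orderOf_eq]
  obtain ⟨w₁, hw₁⟩ : ∃ w, w = Nat.card ↥(W ⊓ Subgroup.centralizer ({u} : Set G)) := ⟨_, rfl⟩
  obtain ⟨w₂, hw₂⟩ : ∃ w, w = Nat.card ↥(W ⊓ Subgroup.centralizer ({t * u} : Set G)) := ⟨_, rfl⟩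
  have hP4 : Nat.card ↥(P : Subgroup G) = 4 := c.hyp.card
  have hform := Fusion.fixed_formula (p := 2) (A := (P : Subgroup G)) (K := W)
    ⟨⟨fun y z => Subtype.ext (c.hyp.comm y.2 z.2).eq⟩⟩ (by rw [hP4]; norm_num)
    (fun y hy => by rw [pow_two]; exact c.hyp.sq hy) hPW
    (by rw [hP4, show 4 = 2 ^ 2 by norm_num]; exact (Nat.Coprime.pow_left 2 hWodd.coprime_two_left))
  classical
  have e1 : t * u ≠ 1 := fun e => c.hyp.u_ne_t (by
    rw [eq_inv_of_mul_eq_one_right e, inv_eq_of_mul_eq_one_left c.hyp.mc.sq])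
  have e2 : t * u ≠ t := fun e => c.hyp.u_ne (mul_eq_left.1 e)
  have e3 : t * u ≠ u := fun e => c.hyp.mc.ne (mul_eq_right.1 e)
  have hnon : Fusion.nonId (P : Subgroup G) = {t, u, t * u} := Finset.ext fun y => by
    rw [Fusion.mem_nonId, Finset.mem_insert, Finset.mem_insert, Finset.mem_singleton]
    refine ⟨fun h => ?_, ?_⟩
    · rcases c.hyp.mem_cases h.1 with e | e | e | e
      · exact absurd e h.2
      · exact Or.inl e
      · exact Or.inr (Or.inl e)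
      · exact Or.inr (Or.inr e)
    · rintro (rfl | rfl | rfl)
      exacts [⟨c.hyp.tP, c.hyp.mc.ne⟩, ⟨c.hyp.uP, c.hyp.u_ne⟩, ⟨mul_mem c.hyp.tP c.hyp.uP, e1⟩]
  have hbot : W ⊓ Subgroup.centralizer ((P : Subgroup G) : Set G) = ⊥ :=
    (Subgroup.eq_bot_iff_forall _).2 fun y hy => hfix y hy.1
      (Subgroup.mem_centralizer_iff.1 hy.2 t c.hyp.tP).symm u c.hyp.uP c.hyp.u_ne c.hyp.u_ne_t
      (Subgroup.mem_centralizer_iff.1 hy.2 u c.hyp.uP).symm
  rw [hnon, Finset.prod_insert (by simp [c.hyp.u_ne_t.symm, e2.symm, -mul_eq_left, -left_eq_mul]),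
    Finset.prod_pair e3.symm, hWt, hbot, Subgroup.card_bot, one_pow, mul_one, pow_one, ← hw₁, ← hw₂] at hform
  -- fixed points of an element of order `q` of the torus
  have hd := s.second
  obtain ⟨hiff, -, -, hT, -, -⟩ := c.commMap hd
  obtain ⟨z, hz⟩ : ∃ z, z = x * d * x⁻¹ * d⁻¹ := ⟨_, rfl⟩
  have hzq : orderOf z = q := orderOf_eq_prime (hz ▸ hd.comm_q s.x_mem) fun e =>
    s.x_not ((hiff x s.x_mem).1 (mul_inv_eq_iff_eq_mul.1 (mul_inv_eq_one.1 (hz ▸ e))))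
  have hzT : z ∈ lay N ⊓ O := hz ▸ hT x s.x_mem
  have hz1 : z ≠ 1 := fun e => (Fact.out : q.Prime).one_lt.ne' (by rw [← hzq, e, orderOf_one])
  have hzW : z ∈ W := hAW (K.torus_le hzT)
  obtain ⟨Q, hQ⟩ : ∃ Q, Q = A₀.subgroupOf W := ⟨_, rfl⟩
  have hidx : Q.index = w₁ * w₂ := by
    have := Q.card_mul_index
    rw [hQ, Nat.card_congr (Subgroup.subgroupOfEquivOfLe hAW).toEquiv, ← hform, ← hQ] at this
    exact Nat.eq_of_mul_eq_mul_left Nat.card_pos this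
  obtain ⟨Z, hZ⟩ : ∃ Z, Z = Subgroup.zpowers (⟨z, hzW⟩ : ↥W) := ⟨_, rfl⟩
  have hZp : IsPGroup q ↥Z := IsPGroup.of_card (n := 1) (by
    rw [hZ, Nat.card_zpowers, Subgroup.orderOf_mk, hzq, pow_one])
  have hfixed : Nat.card ↥(MulAction.fixedPoints ↥Z (↥W ⧸ Q)) = 1 := by
    have huniq : ∀ P' ∈ MulAction.fixedPoints ↥Z (↥W ⧸ Q), P' = QuotientGroup.mk 1 := by
      intro P' hP'
      obtain ⟨w, rfl⟩ := QuotientGroup.mk_surjective P'
      have h1 : QuotientGroup.mk ((⟨z, hzW⟩ : ↥W) * w) = (QuotientGroup.mk w : ↥W ⧸ Q) :=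
        hP' ⟨⟨z, hzW⟩, hZ ▸ Subgroup.mem_zpowers _⟩
      have h2 := QuotientGroup.eq.1 h1.symm
      rw [hQ, Subgroup.mem_subgroupOf] at h2
      have h3 : (w : G)⁻¹ * z * w ∈ A₀ := by
        rw [mul_assoc]; exact h2
      have h4 : (w : G)⁻¹ * z * w ∈ lay N ⊓ O := by
        refine (K.torus_iff ⟨_, K.le h3⟩ h3).1 (g.semi _ ?_)
        have hpow : ((w : G)⁻¹ * z * w) ^ q = 1 := by
          have hzp : z ^ q = 1 := by rw [← hzq]; exact pow_orderOf_eq_one z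
          rw [show (w : G)⁻¹ * z * w = (w : G)⁻¹ * z * ((w : G)⁻¹)⁻¹ by rw [inv_inv], conj_pow, hzp, mul_one,
            mul_inv_cancel]
        rw [Cfsg.Agent.Fusion.Dickson.tr_of_pow_eq_one q (j := 1) (by
          rw [pow_one, ← map_pow, show (⟨_, K.le h3⟩ : ↥O) ^ q = 1 from Subtype.ext hpow, map_one])]
        norm_num
      have h5 : (w : G)⁻¹ * z * w ∈ Subgroup.zpowers z := by
        obtain ⟨i, hi⟩ := Subgroup.mem_zpowers_iff.1 (mem_zpowers_of_isCyclic (H := ↥(lay N ⊓ O)) c.torus_cyclic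
          (d := ⟨z, hzT⟩) (e := ⟨_, h4⟩) (by rw [Subgroup.orderOf_mk, hzq]) (Subtype.ext (by
            show ((w : G)⁻¹ * z * w) ^ q = 1
            have hzp : z ^ q = 1 := by rw [← hzq]; exact pow_orderOf_eq_one z
            rw [show (w : G)⁻¹ * z * w = (w : G)⁻¹ * z * ((w : G)⁻¹)⁻¹ by rw [inv_inv], conj_pow, hzp, mul_one,
              mul_inv_cancel])))
        exact Subgroup.mem_zpowers_iff.2 ⟨i, congrArg Subtype.val hi⟩
      have hwC : (w : G) ∈ Cz := by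
        have := c.torus_isolated s A g hzT hz1 (y := (w : G)⁻¹) (by rwa [inv_inv])
        exact inv_mem_iff.1 this
      refine QuotientGroup.eq.2 ?_
      rw [hQ, Subgroup.mem_subgroupOf]
      show (w : G)⁻¹ * 1 ∈ A₀
      rw [mul_one, ← hWt]
      exact ⟨W.inv_mem w.2, (Subgroup.centralizer _).inv_mem hwC⟩
    rw [Nat.card_eq_one_iff_unique]
    refine ⟨⟨fun P' P'' => Subtype.ext ((huniq _ P'.2).trans (huniq _ P''.2).symm)⟩,
      ⟨⟨QuotientGroup.mk 1, fun y => ?_⟩⟩⟩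
    show QuotientGroup.mk ((y : ↥W) * 1) = _
    refine QuotientGroup.eq.2 ?_
    rw [mul_one, mul_one, hQ, Subgroup.mem_subgroupOf]
    refine A₀.inv_mem ?_
    obtain ⟨i, hi⟩ := Subgroup.mem_zpowers_iff.1 (show (y : ↥W) ∈ Subgroup.zpowers (⟨z, hzW⟩ : ↥W) from hZ ▸ y.2)
    rw [← hi]
    exact A₀.zpow_mem (K.torus_le hzT) i
  have hmod := hZp.card_modEq_card_fixedPoints (↥W ⧸ Q)
  rw [hfixed, ← Subgroup.index_eq_card, hidx] at hmod
  have hqw : ¬ q ∣ w₁ * w₂ := fun h => (Fact.out : q.Prime).one_lt.ne'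
    (Nat.dvd_one.1 ((Nat.ModEq.dvd_iff hmod dvd_rfl).1 h))
  obtain ⟨r1, r2, -, -⟩ := rho_sq c.hyp.uu c.hyp.tu c.rho_t c.rho_u
  have htu_inv : t * u * a * (t * u)⁻¹ = a⁻¹ := by
    rw [show t * u * a * (t * u)⁻¹ = t * (u * a * u⁻¹) * t⁻¹ by group, K.inv a ha, (hAt (A₀.inv_mem ha)).eq,
      mul_inv_cancel_right]
  have hd₁ : w₁ ∣ Nat.card Φ.range := hw₁ ▸ K.fixed_card c s A g ha ha1 hW c.rho_t (K.inv a ha)
    (hw₁ ▸ fun h => hqw (h.trans (dvd_mul_right _ _)))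
  have hd₂ : w₂ ∣ Nat.card Φ.range := hw₂ ▸ K.fixed_card c s A g ha ha1 hW (h := ρ * ρ) (z := t * u)
    r2 htu_inv
    (hw₂ ▸ fun h => hqw (h.trans (dvd_mul_left _ _)))
  have ho₁ : Odd w₁ := hw₁ ▸ hWodd.of_dvd_nat (Subgroup.card_dvd_of_le inf_le_left)
  have ho₂ : Odd w₂ := hw₂ ▸ hWodd.of_dvd_nat (Subgroup.card_dvd_of_le inf_le_left)
  obtain ⟨f₁, f₂⟩ := divisors_eq_one (by
    have := (Fact.out : q.Prime).two_le
    have := c.odd
    omega) (c.prime.odd_of_ne_two c.odd) g.divides hd₁ hd₂ ho₁ ho₂ hmod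
  rw [f₁, f₂, mul_one, mul_one] at hform
  have hWA : W = A₀ := (Subgroup.eq_of_le_of_card_ge hAW hform.ge).symm
  intro y hy
  rcases hgen y hy with h | ⟨b, hb, rfl⟩
  · exact c.hyp.mc.core_le (K.le (hWA ▸ h))
  · exact mul_mem (c.hyp.mc.core_le (K.le (hWA ▸ hb))) (Subgroup.mem_centralizer_singleton_iff.2 rfl)

end Cfsg.Agent.GW
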