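import Cfsg.Agent.Lib.Fusion.DicksonMatrix

/-!
# Odd groups of two by two matrices

A solvable subgroup of odd order of `SL₂` is abelian without unipotent elements, or has a unipotent element whose
conjugates commute with it.  The group `m₀₀ = m₁₁`, `m₁₀ = λ m₀₁` has order `q - 1` or `q + 1`.
-/

set_option autoImplicit false
set_option linter.unusedSectionVars false
set_option linter.style.haveILetI false

namespace Cfsg.Agent.GW.Mat2

open Cfsg.Agent.Fusion.Dickson

variable {F : Type} [Field F] [Finite F]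

local notation "SL2" => Matrix.SpecialLinearGroup (Fin 2) F

theorem tr_sq (h : SL2) : tr (h * h) = tr h ^ 2 - 2 := by
  simp only [tr, mul_entry]
  linear_combination (-2 : F) * det_eq h

/-- a nontrivial element of odd order is not scalar -/
theorem not_isScalar {h : SL2} (ho : Odd (orderOf h)) (h1 : h ≠ 1) : ¬ IsScalar h := fun hs =>
  h1 (orderOf_eq_one_iff.1 (Nat.eq_one_of_dvd_coprimes ho.coprime_two_left
    (orderOf_dvd_of_pow_eq_one (by rw [pow_two]; exact isScalar_sq hs)) dvd_rfl))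

/-- **solvable subgroups of odd order** -/
theorem dichotomy (h2 : (2 : F) ≠ 0) (H : Subgroup SL2) (hodd : Odd (Nat.card H)) (hsol : Group.IsSolvable H) :
    (∀ a ∈ H, ∀ b ∈ H, a * b = b * a) ∧ (∀ a ∈ H, tr a ^ 2 = 4 → a = 1) ∨
      ∃ b ∈ H, b ≠ 1 ∧ tr b = 2 ∧ ∀ g ∈ H, g * b * g⁻¹ * b = b * (g * b * g⁻¹) := by
  by_cases hex : ∃ b ∈ H, b ≠ 1 ∧ tr b = 2 ∧ ∀ g ∈ H, g * b * g⁻¹ * b = b * (g * b * g⁻¹)
  · exact Or.inr hex
  left
  push Not at hex
  have hord : ∀ a ∈ H, Odd (orderOf a) := fun a ha => hodd.of_dvd_nat (Subgroup.orderOf_dvd_natCard _ ha)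
  have hsq : ∀ a ∈ H, a ≠ 1 → a * a ≠ 1 := fun a ha h1 h => h1 (orderOf_eq_one_iff.1
    (Nat.eq_one_of_dvd_coprimes (hord a ha).coprime_two_left
      (orderOf_dvd_of_pow_eq_one (by rw [pow_two, h])) dvd_rfl))
  -- an abelian normal subgroup
  obtain ⟨n, hn⟩ := (Group.isSolvable_def _).1 hsol
  have hcomm : ∀ a ∈ H, ∀ b ∈ H, a * b = b * a := by
    by_contra hnc
    classical
    have hex' : ∃ n, derivedSeries ↥H n = ⊥ := ⟨n, hn⟩
    obtain ⟨m, hm⟩ : ∃ m, Nat.find hex' = m + 1 := Nat.exists_eq_add_one.2 (Nat.pos_of_ne_zero fun h0 => by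
      have := Nat.find_spec hex'
      rw [h0, derivedSeries_zero] at this
      refine hnc fun a ha b hb => ?_
      have h1 : ∀ x : ↥H, x = 1 := fun x => Subgroup.mem_bot.1 (this ▸ Subgroup.mem_top x)
      rw [show a = 1 from congrArg (Subtype.val : ↥H → SL2) (h1 ⟨a, ha⟩), one_mul, mul_one])
    have hB : derivedSeries ↥H m ≠ ⊥ := Nat.find_min hex' (by omega)
    have hBc : ∀ a ∈ derivedSeries ↥H m, ∀ b ∈ derivedSeries ↥H m, a * b = b * a := fun a ha b hb => by
      have h0 := Nat.find_spec hex'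
      rw [hm, derivedSeries_succ] at h0
      exact commutatorElement_eq_one_iff_mul_comm.1
        (Subgroup.mem_bot.1 (h0 ▸ Subgroup.commutator_mem_commutator ha hb))
    obtain ⟨b, hbB, hb1⟩ := (Subgroup.bot_or_exists_ne_one _).resolve_left hB
    have hBn : ∀ g : ↥H, ∀ a ∈ derivedSeries ↥H m, g * a * g⁻¹ ∈ derivedSeries ↥H m := fun g a ha =>
      (derivedSeries_normal ↥H m).conj_mem a ha g
    have hb1' : (b : SL2) ≠ 1 := fun e => hb1 (Subtype.ext e)
    have hno : ∀ a ∈ derivedSeries ↥H m, (a : SL2) ≠ 1 → tr (a : SL2) ≠ 2 := fun a ha ha1 hta => by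
      obtain ⟨g, hg, hne⟩ := hex a a.2 ha1 hta
      exact hne (congrArg (Subtype.val : ↥H → SL2) (hBc _ (hBn ⟨g, hg⟩ a ha) a ha))
    have hnt : tr (b : SL2) ^ 2 ≠ 4 := fun h4 => hno (b * b) ((derivedSeries ↥H m).mul_mem hbB hbB)
      (hsq _ b.2 hb1') (by rw [Subgroup.coe_mul, tr_sq, h4]; ring)
    have hall : ∀ g ∈ H, g * (b : SL2) = b * g := by
      intro g hg
      have hc : g * b * g⁻¹ * b = b * (g * b * g⁻¹)   := congrArg (Subtype.val : ↥H → SL2) (hBc _ (hBn ⟨g, hg⟩ b hbB) b hbB)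
      rcases conj_eq_or_inv hnt (tr_conj (b : SL2) g) hc h2 with h | h
      · calc g * b = g * b * g⁻¹ * g := by group
          _ = _ := by rw [h]
      · exfalso
        have h2' : g * g * (b : SL2) * (g * g)⁻¹ = b := by
          calc g * g * (b : SL2) * (g * g)⁻¹ = g * (g * b * g⁻¹) * g⁻¹ := by group
            _ = g * (b : SL2)⁻¹ * g⁻¹ := by rw [h]
            _ = (g * b * g⁻¹)⁻¹ := by group
            _ = _ := by rw [h, inv_inv]
        obtain ⟨k, hk⟩ := hord g hg
        have hgk : Commute (g * g) (b : SL2) := mul_inv_eq_iff_eq_mul.1 h2'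
        have hgg : g = (g * g) ^ (k + 1) := by
          rw [← pow_two, ← pow_mul, show 2 * (k + 1) = orderOf g + 1 by omega, pow_succ, pow_orderOf_eq_one,
            one_mul]
        have hgb : Commute g (b : SL2) := hgg ▸ hgk.pow_left (k + 1)
        rw [hgb.eq, mul_inv_cancel_right] at h
        exact hsq _ b.2 hb1' (mul_eq_one_iff_eq_inv.2 h)
    exact hnc fun a ha c hc => commute_trans (not_isScalar (hord _ b.2) hb1') (hall a ha) (hall c hc)
  refine ⟨hcomm, fun a ha h4 => by_contra fun ha1 => ?_⟩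
  obtain ⟨g, hg, hne⟩ := hex (a * a) (H.mul_mem ha ha) (hsq a ha ha1) (by rw [tr_sq, h4]; ring)
  exact hne (hcomm _ (H.mul_mem (H.mul_mem hg (H.mul_mem ha ha)) (H.inv_mem hg)) _ (H.mul_mem ha ha))

/-- a unipotent element whose conjugates commute with it, together with its image under `diag(1, -1)` -/
theorem unip_line (h2 : (2 : F) ≠ 0) {b : SL2} (hb1 : b ≠ 1) (hbs : ¬ IsScalar b) (htr : tr b = 2)
    {b' : SL2} (e00 : b'.1 0 0 = b.1 0 0) (e01 : b'.1 0 1 = -b.1 0 1) (e10 : b'.1 1 0 = -b.1 1 0)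
    (e11 : b'.1 1 1 = b.1 1 1) (hc : b' * b * b'⁻¹ * b = b * (b' * b * b'⁻¹)) :
    b.1 0 0 = 1 ∧ b.1 1 1 = 1 ∧ (b.1 0 1 = 0 ∨ b.1 1 0 = 0) := by
  have _ := hb1
  obtain ⟨p, r, a1, a2, a3, a4⟩ := commutant hbs hc
  have ht : tr (b' * b * b'⁻¹) = 2 := by rw [tr_conj, htr]
  rw [tr, a1, a4] at ht
  rw [tr] at htr
  have hp : p = 1 - r := by
    refine mul_left_cancel₀ h2 ?_
    linear_combination ht - r * htr
  obtain ⟨K, hK⟩ : ∃ K, K = b' * b * b'⁻¹ := ⟨_, rfl⟩
  rw [← hK] at a1 a2 a3 a4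
  have hd := det_eq b
  have e : ∀ i j, (b' * b).1 i j = (K * b').1 i j := fun i j => by rw [hK, inv_mul_cancel_right]
  have q00 := e 0 0
  have q11 := e 1 1
  have q01 := e 0 1
  simp only [mul_entry, a1, a2, a3, a4, e00, e01, e10, e11, hp] at q00 q11 q01
  obtain ⟨α, hα⟩ : ∃ α, α = b.1 0 0 - 1 := ⟨_, rfl⟩
  have h00 : b.1 0 0 = 1 + α := by rw [hα]; ring
  have h11 : b.1 1 1 = 1 - α := by linear_combination htr - h00
  simp only [h00, h11] at q00 q11 q01 hd
  have hβγ : b.1 0 1 * b.1 1 0 = -α ^ 2 := by linear_combination -hd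
  have s1 : (2 : F) * 2 * α ^ 2 * (1 - r) = 0 := by linear_combination q00 + q11 + (2 - 2 * r) * hβγ
  have hα0 : α = 0 := by
    by_contra hne
    have hr : r = 1 := by
      rcases mul_eq_zero.1 s1 with h | h
      · exact absurd h (mul_ne_zero (mul_ne_zero h2 h2) (pow_ne_zero _ hne))
      · exact (sub_eq_zero.1 h).symm
    subst hr
    have s2 : (2 : F) * 2 * α * b.1 0 1 = 0 := by linear_combination q01
    have hb01 : b.1 0 1 = 0 := (mul_eq_zero.1 s2).resolve_left (mul_ne_zero (mul_ne_zero h2 h2) hne)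
    rw [hb01, zero_mul] at hβγ
    exact hne (pow_eq_zero_iff two_ne_zero |>.1 (neg_eq_zero.1 hβγ.symm))
  refine ⟨by rw [h00, hα0, add_zero], by rw [h11, hα0, sub_zero], ?_⟩
  rw [hα0] at hβγ
  exact mul_eq_zero.1 (by linear_combination hβγ)

/-- the torus `m₀₀ = m₁₁`, `m₁₀ = λ m₀₁` -/
def torus (c : F) : Subgroup SL2 where
  carrier := {m | m.1 0 0 = m.1 1 1 ∧ m.1 1 0 = c * m.1 0 1}
  one_mem' := by obtain ⟨a, b, d, e⟩ := one_entries (F := F); simp [a, b, d, e]
  mul_mem' := fun {a b} ha hb => by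
    obtain ⟨a1, a2⟩ := ha
    obtain ⟨b1, b2⟩ := hb
    simp only [Set.mem_setOf_eq, mul_entry, a1, a2, b1, b2]
    exact ⟨by ring, by ring⟩
  inv_mem' := fun {a} ha => by
    obtain ⟨a1, a2⟩ := ha
    obtain ⟨i1, i2, i3, i4⟩ := inv_entries a
    simp only [Set.mem_setOf_eq, i1, i2, i3, i4, a1, a2]
    exact ⟨trivial, by ring⟩

theorem mem_torus {c : F} {m : SL2} : m ∈ torus c ↔ m.1 0 0 = m.1 1 1 ∧ m.1 1 0 = c * m.1 0 1 := Iff.rfl

/-- **the order of the torus** -/
theorem card_torus (h2 : (2 : F) ≠ 0) {c : F} (hc : c ≠ 0) :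
    Nat.card (torus c) = Nat.card F + 1 ∨ Nat.card (torus c) + 1 = Nat.card F := by
  classical
  haveI : Fintype F := Fintype.ofFinite F
  let S := {s : F // c * s ^ 2 ≠ 1}
  have hden : ∀ s : S, c * s.1 ^ 2 - 1 ≠ 0 := fun s => sub_ne_zero.2 s.2
  let g : Option S → torus c := fun o => match o with
    | none => 1
    | some s => ⟨⟨!![(c * s.1 ^ 2 + 1) / (c * s.1 ^ 2 - 1), 2 * s.1 / (c * s.1 ^ 2 - 1);
        c * (2 * s.1 / (c * s.1 ^ 2 - 1)), (c * s.1 ^ 2 + 1) / (c * s.1 ^ 2 - 1)], by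
          rw [Matrix.det_fin_two]
          have hd0 := hden s
          simp only [Matrix.of_apply, Matrix.cons_val_zero, Matrix.cons_val_one, Matrix.cons_val', Matrix.empty_val',
            Matrix.cons_val_fin_one]
          field_simp
          ring⟩, mem_torus.2 ⟨by simp, by simp⟩⟩
  have hg00 : ∀ s : S, ((g (some s) : SL2)).1 0 0 = (c * s.1 ^ 2 + 1) / (c * s.1 ^ 2 - 1) := fun _ => rfl
  have hg01 : ∀ s : S, ((g (some s) : SL2)).1 0 1 = 2 * s.1 / (c * s.1 ^ 2 - 1) := fun _ => rfl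
  have hinv : ∀ s : S, ((g (some s) : SL2)).1 0 0 - 1 = 2 / (c * s.1 ^ 2 - 1) := fun s => by
    have hd0 := hden s
    rw [hg00, div_sub_one hd0]
    congr 1; ring
  have hbij : Function.Bijective g := by
    refine ⟨fun o o' h => ?_, fun m => ?_⟩
    · rcases o with _ | s <;> rcases o' with _ | s'
      · rfl
      · exfalso
        have := hinv s'
        rw [← h, show ((g none : SL2)).1 0 0 = 1 from rfl, sub_self, eq_comm, div_eq_zero_iff] at this
        exact this.elim h2 (hden s')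
      · exfalso
        have := hinv s
        rw [h, show ((g none : SL2)).1 0 0 = 1 from rfl, sub_self, eq_comm, div_eq_zero_iff] at this
        exact this.elim h2 (hden s)
      · have e1 := hinv s
        rw [h, hinv s'] at e1
        have e2 := hg01 s
        rw [h, hg01 s'] at e2
        refine congrArg some (Subtype.ext (mul_right_cancel₀ (div_ne_zero h2 (hden s)) ?_))
        calc s.1 * (2 / (c * s.1 ^ 2 - 1)) = 2 * s.1 / (c * s.1 ^ 2 - 1) := by ring
          _ = 2 * s'.1 / (c * s'.1 ^ 2 - 1) := e2.symm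
          _ = s'.1 * (2 / (c * s'.1 ^ 2 - 1)) := by ring
          _ = _ := by rw [e1]
    · obtain ⟨⟨m, hm⟩, hmt⟩ := m
      obtain ⟨hd1, hd2⟩ := mem_torus.1 hmt
      have hd := det_eq (F := F) ⟨m, hm⟩
      simp only at hd1 hd2 hd
      rw [← hd1, hd2] at hd
      by_cases h1 : m 0 0 = 1
      · refine ⟨none, Subtype.ext ?_⟩
        have h01 : m 0 1 = 0 := by
          rw [h1] at hd
          exact (pow_eq_zero_iff two_ne_zero).1 ((mul_eq_zero.1
            (show c * m 0 1 ^ 2 = 0 by linear_combination -hd)).resolve_left hc)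
        obtain ⟨a, b, d, e⟩ := one_entries (F := F)
        exact ext' (a.trans h1.symm) (b.trans h01.symm) (d.trans (by simp only; rw [hd2, h01, mul_zero]))
          (e.trans (by simp only; rw [← hd1, h1]))
      · obtain ⟨s, hs⟩ : ∃ s, s = m 0 1 / (m 0 0 - 1) := ⟨_, rfl⟩
        have hm0 := sub_ne_zero.2 h1
        have hkey : (c * s ^ 2 - 1) * (m 0 0 - 1) = 2 := by
          rw [hs]; field_simp; linear_combination -hd
        have hsS : c * s ^ 2 ≠ 1 := fun e => h2 (by rw [← hkey, e, sub_self, zero_mul])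
        have hd0 := sub_ne_zero.2 hsS
        refine ⟨some ⟨s, hsS⟩, Subtype.ext ?_⟩
        have a0 : (c * s ^ 2 + 1) / (c * s ^ 2 - 1) = m 0 0 := by
          rw [div_eq_iff hd0]; linear_combination -hkey
        have hs' : m 0 1 = s * (m 0 0 - 1) := by rw [hs, div_mul_cancel₀ _ hm0]
        have a1 : 2 * s / (c * s ^ 2 - 1) = m 0 1 := by
          rw [div_eq_iff hd0, hs']; linear_combination -s * hkey
        exact ext' a0 a1 (show c * (2 * s / (c * s ^ 2 - 1)) = m 1 0 by rw [a1, hd2])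
          (show (c * s ^ 2 + 1) / (c * s ^ 2 - 1) = m 1 1 by rw [a0, hd1])
  have hroots : Nat.card {s : F // c * s ^ 2 = 1} = 0 ∨ Nat.card {s : F // c * s ^ 2 = 1} = 2 := by
    by_cases hex : ∃ s : F, c * s ^ 2 = 1
    · obtain ⟨s, hs⟩ := hex
      right
      have hs0 : s ≠ 0 := fun e => by rw [e] at hs; simp at hs
      have hne : s ≠ -s := fun e => hs0 ((mul_eq_zero.1 (show (2 : F) * s = 0 by linear_combination e)).resolve_left h2)
      rw [Nat.card_eq_fintype_card, Fintype.card_subtype,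
        show (Finset.univ.filter fun x : F => c * x ^ 2 = 1) = {s, -s} from Finset.ext fun x => by
          simp only [Finset.mem_filter, Finset.mem_univ, true_and, Finset.mem_insert, Finset.mem_singleton]
          constructor
          · intro hx
            refine eq_or_eq_neg_of_sq_eq_sq _ _ (mul_left_cancel₀ hc (hx.trans hs.symm))
          · rintro (rfl | rfl)
            · exact hs
            · rw [neg_sq]; exact hs,
        Finset.card_pair hne]
    · left
      haveI : IsEmpty {s : F // c * s ^ 2 = 1} := ⟨fun s => hex ⟨s, s.2⟩⟩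
      exact Nat.card_of_isEmpty
  have hsum : Nat.card {s : F // c * s ^ 2 = 1} + Nat.card S = Nat.card F := by
    rw [← Nat.card_sum]
    exact Nat.card_congr (Equiv.sumCompl _)
  rw [← Nat.card_congr (Equiv.ofBijective g hbij), Finite.card_option]
  omega

end Cfsg.Agent.GW.Mat2
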