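import Cfsg.Agent.Lib.GW.RotationNormal

/-!
# The rotation case with `A` moved: `O_q(C)` modulo its centre

`A` and a conjugate `A^a` generate `F = O_q(C)` and meet in `Z(F)`.  So `Z(F) = F ∩ T`, `|D| = q`, every element of
`F` is `x^j d^i r`, and the commutator pairs `F/Z(F)` into the elements of order dividing `q` of the torus.
-/

set_option autoImplicit false
set_option linter.unusedSectionVars false
set_option linter.style.haveILetI false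

namespace Cfsg.Agent.GW

open Cfsg Cfsg.Agent

universe w

variable {G : Type w} [Group G] [Finite G] [IsSimpleGroup G] {t u : G} {O N : Subgroup G} {P : Sylow 2 G} {q : ℕ}
  {ρ : G}

set_option quotPrecheck false in
local notation "Cz" => Subgroup.centralizer ({t} : Set G)

set_option quotPrecheck false in
local notation "Fq" => fq q (Subgroup.centralizer ({t} : Set G))

/-- two elements of `O_q(C) ∩ N` commute -/
theorem RotCfg.A_comm (c : RotCfg t u O P q N ρ) {a b : G} (ha : a ∈ Fq) (haN : a ∈ N) (hb : b ∈ Fq) (hbN : b ∈ N) :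
    Commute a b := by
  obtain ⟨σ, -, hσT, -, hsF, hsu, -⟩ := c.split_q ha haN
  obtain ⟨τ, -, hτT, -, htF, htu, -⟩ := c.split_q hb hbN
  have h1 : Commute σ τ := by
    haveI := c.torus_cyclic
    exact congrArg Subtype.val (IsCyclic.commGroup.mul_comm (⟨σ, hσT⟩ : ↥(lay N ⊓ O)) ⟨τ, hτT⟩)
  have := (h1.mul_right (c.torus_D hσT htF htu)).mul_left
    (((c.torus_D hτT hsF hsu).symm).mul_right (c.D_comm hsF htF hsu htu))
  rwa [mul_inv_cancel_left, mul_inv_cancel_left] at this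

/-- the torus part of `O_q(C)` lies in `N` -/
theorem RotCfg.torus_N (_c : RotCfg t u O P q N ρ) {r : G} (hr : r ∈ lay N ⊓ O) : r ∈ N := lay_le N hr.1

/-- `[g ^ j, d] = [g, d] ^ j` -/
theorem Second.comm_pow {d : G} (h : Second q t u d) {g : G} (hg : g ∈ Fq) (j : ℕ) :
    g ^ j * d * (g ^ j)⁻¹ * d⁻¹ = (g * d * g⁻¹ * d⁻¹) ^ j := by
  induction j with
  | zero => simp
  | succ j ih =>
    have hc := ((h.second g hg g hg).pow_left j)
    calc g ^ (j + 1) * d * (g ^ (j + 1))⁻¹ * d⁻¹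
        = g * (g ^ j * d * (g ^ j)⁻¹ * d⁻¹) * g⁻¹ * (g * d * g⁻¹ * d⁻¹) := by rw [pow_succ']; group
      _ = (g * d * g⁻¹ * d⁻¹) ^ (j + 1) := by rw [ih, ← hc.eq, mul_inv_cancel_right, pow_succ]

/-- `[g, d] ^ q = 1` -/
theorem Second.comm_q {d : G} (h : Second q t u d) {g : G} (hg : g ∈ Fq) : (g * d * g⁻¹ * d⁻¹) ^ q = 1 := by
  have hc : Commute (g * d * g⁻¹ * d⁻¹) d := h.second _ hg d h.mem
  have hdq : d ^ q = 1 := h.order ▸ pow_orderOf_eq_one d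
  have := hc.mul_pow q
  rwa [inv_mul_cancel_right, conj_pow, hdq, mul_one, mul_inv_cancel, mul_one, eq_comm] at this

/-- every element is a power of one outside `N` times one of `N` -/
theorem RotCfg.gen (c : RotCfg t u O P q N ρ) {g : G} (hg : g ∈ Fq) (hgN : g ∉ N) {f : G} (hf : f ∈ Fq) :
    ∃ j : ℕ, (g ^ j)⁻¹ * f ∈ N := by
  obtain ⟨d, hd⟩ := c.exists_second
  obtain ⟨hiff, -, -, hT, -, -⟩ := c.commMap hd
  haveI := Fact.mk c.prime
  obtain ⟨z, hz⟩ : ∃ z, z = g * d * g⁻¹ * d⁻¹ := ⟨_, rfl⟩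
  have hz1 : z ≠ 1 := fun e => hgN ((hiff g hg).1 (mul_inv_eq_iff_eq_mul.1 (mul_inv_eq_one.1 (hz ▸ e))))
  have hzq : orderOf z = q := orderOf_eq_prime (hz ▸ hd.comm_q hg) hz1
  have hzT : z ∈ lay N ⊓ O := hz ▸ hT g hg
  obtain ⟨i, hi⟩ := Subgroup.mem_zpowers_iff.1 (mem_zpowers_of_isCyclic (H := ↥(lay N ⊓ O)) c.torus_cyclic
    (d := ⟨z, hzT⟩) (e := ⟨f * d * f⁻¹ * d⁻¹, hT f hf⟩) (by rw [Subgroup.orderOf_mk, hzq])
    (Subtype.ext (hd.comm_q hf)))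
  have hi' : z ^ i = f * d * f⁻¹ * d⁻¹ := congrArg Subtype.val hi
  obtain ⟨j, hj⟩ : ∃ j : ℕ, z ^ j = z ^ i := by
    have hm : z ^ i ∈ Submonoid.powers z := (mem_powers_iff_mem_zpowers).2 (Subgroup.zpow_mem_zpowers z i)
    exact (Submonoid.mem_powers_iff _ _).1 hm
  refine ⟨j, (hiff _ ((Fq).mul_mem ((Fq).inv_mem ((Fq).pow_mem hg j)) hf)).1 ?_⟩
  have e : f * d * f⁻¹ = g ^ j * d * (g ^ j)⁻¹ := by
    have h1 : f * d * f⁻¹ * d⁻¹ = g ^ j * d * (g ^ j)⁻¹ * d⁻¹ := by rw [hd.comm_pow hg j, ← hz, hj, hi']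
    exact mul_right_cancel h1
  show (g ^ j)⁻¹ * f * d = d * ((g ^ j)⁻¹ * f)
  calc (g ^ j)⁻¹ * f * d = (g ^ j)⁻¹ * (f * d * f⁻¹) * f := by group
    _ = _ := by rw [e]; group

/-- central once commuting with `A` and one element outside -/
theorem RotCfg.central_of (c : RotCfg t u O P q N ρ) {g : G} (hg : g ∈ Fq) (hgN : g ∉ N) {e : G} (he : e ∈ Fq)
    (heN : e ∈ N) (heg : Commute e g) {f : G} (hf : f ∈ Fq) : Commute e f := by
  obtain ⟨j, hj⟩ := c.gen hg hgN hf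
  have := (heg.pow_right j).mul_right (c.A_comm he heN ((Fq).mul_mem ((Fq).inv_mem ((Fq).pow_mem hg j)) hf) hj)
  rwa [mul_inv_cancel_left] at this

/-- the shape of `O_q(C)` modulo its centre -/
structure Shape (q : ℕ) (t u : G) (O N : Subgroup G) (d x : G) : Prop where
  second : Second q t u d
  x_mem : x ∈ fq q (Subgroup.centralizer ({t} : Set G))
  x_not : x ∉ N
  x_inv : u * x * u⁻¹ = x⁻¹
  central : ∀ r ∈ fq q (Subgroup.centralizer ({t} : Set G)), r ∈ lay N ⊓ O →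
    ∀ f ∈ fq q (Subgroup.centralizer ({t} : Set G)), Commute r f
  decomp : ∀ f ∈ fq q (Subgroup.centralizer ({t} : Set G)), ∃ i j : ℕ,
    (x ^ j * d ^ i)⁻¹ * f ∈ fq q (Subgroup.centralizer ({t} : Set G)) ⊓ (lay N ⊓ O)
  fixed : ∀ f ∈ fq q (Subgroup.centralizer ({t} : Set G)), Commute f u → f ∈ Subgroup.zpowers d
  moved : ∃ a ∈ O, a * d * a⁻¹ ∉ N

/-- **the shape exists** -/
theorem RotCfg.exists_shape (c : RotCfg t u O P q N ρ) : ∃ d x, Shape q t u O N d x := by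
  obtain ⟨a, ha, y, hy, hyN, hy'N⟩ := c.exists_moved
  obtain ⟨d, hd⟩ := c.exists_second
  obtain ⟨hiff, -, hAn, hT, -, -⟩ := c.commMap hd
  haveI := Fact.mk c.prime
  have haC : a ∈ Cz := c.hyp.mc.core_le ha
  obtain ⟨g, hg⟩ : ∃ g, g = a * y * a⁻¹ := ⟨_, rfl⟩
  rw [← hg] at hy'N
  have hgF : g ∈ Fq := hg ▸ conj_fq c.prime haC hy
  obtain ⟨z, hz⟩ : ∃ z, z = g * d * g⁻¹ * d⁻¹ := ⟨_, rfl⟩
  have hzT : z ∈ lay N ⊓ O := hz ▸ hT g hgF
  have hzq : orderOf z = q := orderOf_eq_prime (hz ▸ hd.comm_q hgF) fun e =>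
    hy'N ((hiff g hgF).1 (mul_inv_eq_iff_eq_mul.1 (mul_inv_eq_one.1 (hz ▸ e))))
  -- the commutators with `g` of `A` are central
  have hpair : ∀ e ∈ Fq, e ∈ N → g * e * g⁻¹ * e⁻¹ ∈ Fq ∧ g * e * g⁻¹ * e⁻¹ ∈ N ∧
      (∀ f ∈ Fq, Commute (g * e * g⁻¹ * e⁻¹) f) := by
    intro e he heN
    have h1 : g * e * g⁻¹ * e⁻¹ ∈ N := N.mul_mem (hAn g hgF e he heN) (N.inv_mem heN)
    have h2 : g * e * g⁻¹ * e⁻¹ ∈ Fq :=
      (Fq).mul_mem ((Fq).mul_mem ((Fq).mul_mem hgF he) ((Fq).inv_mem hgF)) ((Fq).inv_mem he)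
    obtain ⟨e', he'⟩ : ∃ e', e' = a⁻¹ * e * a := ⟨_, rfl⟩
    have he'F : e' ∈ Fq := by
      have := conj_fq c.prime (inv_mem haC) he
      rwa [inv_inv, ← he'] at this
    obtain ⟨m, hm⟩ : ∃ m, m = y * e' * y⁻¹ * e'⁻¹ := ⟨_, rfl⟩
    have hmN : m ∈ N := by
      rw [hm, show y * e' * y⁻¹ * e'⁻¹ = y * (e' * y⁻¹ * e'⁻¹) by group]
      exact N.mul_mem hyN (hAn e' he'F y⁻¹ ((Fq).inv_mem hy) (N.inv_mem hyN))
    have hmF : m ∈ Fq := hm ▸
      (Fq).mul_mem ((Fq).mul_mem ((Fq).mul_mem hy he'F) ((Fq).inv_mem hy)) ((Fq).inv_mem he'F)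
    refine ⟨h2, h1, fun f hf => c.central_of hgF hy'N h2 h1 ?_ hf⟩
    rw [show g * e * g⁻¹ * e⁻¹ = a * m * a⁻¹ by rw [hm, he', hg]; group, hg]
    exact (Commute.conj_iff a).2 (c.A_comm hmF hmN hy hyN)
  -- `e = d^i` times a central element
  have hsplit : ∀ e ∈ Fq, e ∈ N → ∃ i : ℕ, ∀ f ∈ Fq, Commute ((d ^ i)⁻¹ * e) f := by
    intro e he heN
    obtain ⟨h2, -, hcen⟩ := hpair e he heN
    have hwT := c.center_torus h2 hcen
    have hwq : (g * e * g⁻¹ * e⁻¹) ^ q = 1 := by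
      have hdown : ∀ j : ℕ, g * e ^ j * g⁻¹ * (e ^ j)⁻¹ = (g * e * g⁻¹ * e⁻¹) ^ j := by
        intro j
        induction j with
        | zero => simp
        | succ j ih =>
          calc g * e ^ (j + 1) * g⁻¹ * (e ^ (j + 1))⁻¹
              = (g * e * g⁻¹ * e⁻¹) * (e * (g * e ^ j * g⁻¹ * (e ^ j)⁻¹) * e⁻¹) := by rw [pow_succ']; group
            _ = _ := by rw [ih, ← ((hcen e he).pow_left j).eq, mul_inv_cancel_right, ← pow_succ']
      have hup : ∀ j : ℕ, g ^ j * e * (g ^ j)⁻¹ * e⁻¹ = (g * e * g⁻¹ * e⁻¹) ^ j := by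
        intro j
        induction j with
        | zero => simp
        | succ j ih =>
          calc g ^ (j + 1) * e * (g ^ (j + 1))⁻¹ * e⁻¹
              = g * (g ^ j * e * (g ^ j)⁻¹ * e⁻¹) * g⁻¹ * (g * e * g⁻¹ * e⁻¹) := by rw [pow_succ']; group
            _ = _ := by rw [ih, ← ((hcen g hgF).pow_left j).eq, mul_inv_cancel_right, ← pow_succ]
      rw [← hup q]
      have hgq : g ^ q ∈ N := (hiff _ ((Fq).pow_mem hgF q)).1 (by
        show g ^ q * d = d * g ^ q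
        have := hd.comm_pow hgF q
        rw [hd.comm_q hgF] at this
        exact mul_inv_eq_iff_eq_mul.1 (mul_inv_eq_one.1 this))
      rw [(c.A_comm ((Fq).pow_mem hgF q) hgq he heN).eq, mul_inv_cancel_right, mul_inv_cancel]
    obtain ⟨i, hi⟩ : ∃ i : ℕ, z ^ i = g * e * g⁻¹ * e⁻¹ := by
      obtain ⟨k, hk⟩ := Subgroup.mem_zpowers_iff.1 (mem_zpowers_of_isCyclic (H := ↥(lay N ⊓ O)) c.torus_cyclic
        (d := ⟨z, hzT⟩) (e := ⟨_, hwT⟩) (by rw [Subgroup.orderOf_mk, hzq]) (Subtype.ext hwq))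
      rw [← show z ^ k = g * e * g⁻¹ * e⁻¹ from congrArg Subtype.val hk]
      exact (Submonoid.mem_powers_iff _ _).1 ((mem_powers_iff_mem_zpowers).2 (Subgroup.zpow_mem_zpowers z k))
    have hdi : g * d ^ i * g⁻¹ = z ^ i * d ^ i := by
      have hc : Commute z d := hz ▸ hd.second g hgF d hd.mem
      rw [← conj_pow, show g * d * g⁻¹ = z * d by rw [hz, inv_mul_cancel_right], hc.mul_pow]
    refine ⟨i, fun f hf => c.central_of hgF hy'N ((Fq).mul_mem ((Fq).inv_mem ((Fq).pow_mem hd.mem i)) he)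
      (N.mul_mem (N.inv_mem (N.pow_mem (c.fq_N hd.mem hd.comm_u) i)) heN) ?_ hf⟩
    refine (mul_inv_eq_iff_eq_mul.1 ?_ : g * ((d ^ i)⁻¹ * e) = (d ^ i)⁻¹ * e * g).symm
    calc g * ((d ^ i)⁻¹ * e) * g⁻¹ = (g * d ^ i * g⁻¹)⁻¹ * ((g * e * g⁻¹ * e⁻¹) * e) := by group
      _ = _ := by rw [hdi, ← hi]; group
  have hfixed : ∀ f ∈ Fq, Commute f u → f ∈ Subgroup.zpowers d := by
    intro f hf hfu
    obtain ⟨i, hi⟩ := hsplit f hf (c.fq_N hf hfu)
    have h0 := c.torus_fix (c.center_torus ((Fq).mul_mem ((Fq).inv_mem ((Fq).pow_mem hd.mem i)) hf) hi)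
      ((hd.comm_u.pow_left i).inv_left.mul_left hfu)
    rw [← inv_mul_eq_one.1 h0]
    exact Subgroup.pow_mem _ (Subgroup.mem_zpowers d) i
  have hcentral : ∀ r ∈ Fq, r ∈ lay N ⊓ O → ∀ f ∈ Fq, Commute r f := by
    intro r hr hrT
    obtain ⟨i, hi⟩ := hsplit r hr (c.torus_N hrT)
    have hdT : d ^ i ∈ lay N ⊓ O := by
      have := (lay N ⊓ O).mul_mem hrT ((lay N ⊓ O).inv_mem
        (c.center_torus ((Fq).mul_mem ((Fq).inv_mem ((Fq).pow_mem hd.mem i)) hr) hi))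
      rwa [mul_inv_rev, inv_inv, ← mul_assoc, mul_inv_cancel, one_mul] at this
    have h1 := c.torus_fix hdT (hd.comm_u.pow_left i)
    rw [h1, inv_one, one_mul] at hi
    exact hi
  -- an element inverted by `u` outside `N`
  obtain ⟨τ, hτ⟩ : ∃ τ, τ = g * (u * g⁻¹ * u⁻¹) := ⟨_, rfl⟩
  have hτF : τ ∈ Fq := hτ ▸ (Fq).mul_mem hgF (conj_fq c.prime c.hyp.uC ((Fq).inv_mem hgF))
  have hui : u⁻¹ = u := inv_eq_of_mul_eq_one_right c.hyp.uu
  have hτi : u * τ * u⁻¹ = τ⁻¹ := by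
    rw [hτ, mul_inv_rev, mul_inv_rev, mul_inv_rev, inv_inv, inv_inv]
    calc u * (g * (u * g⁻¹ * u⁻¹)) * u⁻¹ = u * g * u * g⁻¹ * (u⁻¹ * u⁻¹) := by group
      _ = u * g * u⁻¹ * g⁻¹ := by rw [hui, c.hyp.uu, mul_one]
      _ = _ := by group
  obtain ⟨x, hx, hxx⟩ := exists_sqrt (c.hyp.mc.core_orderOf (c.fq_core hτF))
  have hxF : x ∈ Fq := Subgroup.zpowers_le.2 hτF hx
  have hxi : u * x * u⁻¹ = x⁻¹ := by
    obtain ⟨k, rfl⟩ := Subgroup.mem_zpowers_iff.1 hx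
    rw [← conj_zpow, hτi, inv_zpow]
  have hxN : x ∉ N := by
    intro hxN
    refine hy'N ?_
    have hfu : Commute (x⁻¹ * g) u := by
      show x⁻¹ * g * u = u * (x⁻¹ * g)
      calc x⁻¹ * g * u = x⁻¹ * ((g * (u * g⁻¹ * u⁻¹)) * u) * g := by group
        _ = x * u * g := by rw [← hτ, ← hxx]; group
        _ = (u * x * u⁻¹)⁻¹ * u * g := by rw [hxi, inv_inv]
        _ = _ := by group
    have h1 : x⁻¹ * g ∈ N := c.fq_N ((Fq).mul_mem ((Fq).inv_mem hxF) hgF) hfu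
    have h2 := N.mul_mem hxN h1
    rwa [mul_inv_cancel_left] at h2
  refine ⟨d, x, hd, hxF, hxN, hxi, hcentral, fun f hf => ?_, hfixed, a, ha, fun hc => ?_⟩
  · obtain ⟨j, hj⟩ := c.gen hxF hxN hf
    have hmF : (x ^ j)⁻¹ * f ∈ Fq := (Fq).mul_mem ((Fq).inv_mem ((Fq).pow_mem hxF j)) hf
    obtain ⟨i, hi⟩ := hsplit _ hmF hj
    have hmem : (x ^ j * d ^ i)⁻¹ * f ∈ Fq :=
      (Fq).mul_mem ((Fq).inv_mem ((Fq).mul_mem ((Fq).pow_mem hxF j) ((Fq).pow_mem hd.mem i))) hf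
    rw [← mul_assoc, ← mul_inv_rev] at hi
    exact ⟨i, j, hmem, c.center_torus hmem hi⟩
  · -- if `a` kept `d` in `N` it would keep every element of `A` there
    obtain ⟨i, hi⟩ := hsplit y hy hyN
    refine hy'N ?_
    have hcen : a * ((d ^ i)⁻¹ * y) * a⁻¹ ∈ lay N ⊓ O := by
      refine c.center_torus (conj_fq c.prime haC ((Fq).mul_mem ((Fq).inv_mem ((Fq).pow_mem hd.mem i)) hy))
        fun f hf => ?_
      have hf' := conj_fq c.prime (inv_mem haC) hf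
      rw [inv_inv] at hf'
      have := (Commute.conj_iff a).2 (hi _ hf')
      rwa [show a * (a⁻¹ * f * a) * a⁻¹ = f by group] at this
    rw [hg, show a * y * a⁻¹ = (a * d * a⁻¹) ^ i * (a * ((d ^ i)⁻¹ * y) * a⁻¹) by rw [conj_pow]; group]
    exact N.mul_mem (N.pow_mem hc i) (c.torus_N hcen)

end Cfsg.Agent.GW
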