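import Cfsg.Agent.Lib.GW.RotationShapeTwo
import Cfsg.Agent.Lib.GW.FourFused

/-!
# The rotation case: `A` is not normal in `O`

Otherwise `|O : O ∩ N| = q` and `N ∩ N^a ≤ C(t)` for `a ∈ O ∖ N`; so `|G : N| ≥ 1 + (q - 1) |N : N ∩ C(t)|`, against
the order formula `|G : C(t)| ≤ 15 (q τ)²`.
-/

set_option autoImplicit false
set_option linter.unusedSectionVars false
set_option linter.style.haveILetI false

namespace Cfsg.Agent.GW

open Cfsg Cfsg.Agent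

universe w

variable {G : Type w} [Group G] [Finite G]

/-- the order of a product of two subgroups with trivial intersection -/
theorem card_of_decomp {A B H : Subgroup G} (hA : A ≤ H) (hB : B ≤ H)
    (hdisj : ∀ x ∈ A, x ∈ B → x = 1) (hsup : ∀ x ∈ H, ∃ a ∈ A, ∃ b ∈ B, x = a * b) :
    Nat.card ↥H = Nat.card ↥A * Nat.card ↥B := by
  rw [← Nat.card_prod]
  refine (Nat.card_congr (Equiv.ofBijective
    (fun p : ↥A × ↥B => (⟨p.1 * p.2, H.mul_mem (hA p.1.2) (hB p.2.2)⟩ : ↥H)) ⟨?_, ?_⟩)).symm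
  · rintro ⟨a, b⟩ ⟨a', b'⟩ h
    have e : (a : G) * b = a' * b' := congrArg Subtype.val h
    have e' : (a' : G)⁻¹ * a = b' * (b : G)⁻¹ := by
      rw [eq_mul_inv_iff_mul_eq, mul_assoc, e, inv_mul_cancel_left]
    have h1 := hdisj _ (A.mul_mem (A.inv_mem a'.2) a.2) (e' ▸ B.mul_mem b'.2 (B.inv_mem b.2))
    have ha : (a' : G) = a := inv_mul_eq_one.1 h1
    rw [← ha, mul_right_inj] at e
    exact Prod.ext (Subtype.ext ha.symm) (Subtype.ext e)
  · rintro ⟨x, hx⟩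
    obtain ⟨a, ha, b, hb, rfl⟩ := hsup x hx
    exact ⟨(⟨a, ha⟩, ⟨b, hb⟩), rfl⟩

variable [IsSimpleGroup G] {t u : G} {O N : Subgroup G} {P : Sylow 2 G} {q : ℕ} {ρ : G}

set_option quotPrecheck false in
local notation "Cz" => Subgroup.centralizer ({t} : Set G)

set_option quotPrecheck false in
local notation "Fq" => fq q (Subgroup.centralizer ({t} : Set G))

theorem RotCfg.inter_two (c : RotCfg t u O P q N ρ) {x : G} (hx : x ∈ O) (hxP : x ∈ (P : Subgroup G)) : x = 1 :=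
  orderOf_eq_one_iff.1 (Nat.eq_one_of_dvd_coprimes (c.hyp.mc.core_orderOf hx).coprime_two_left
    (orderOf_dvd_of_pow_eq_one (by rw [pow_two]; exact c.hyp.sq hxP)) dvd_rfl)

theorem RotCfg.P_N (c : RotCfg t u O P q N ρ) : (P : Subgroup G) ≤ N := c.P_lay.trans (lay_le N)

theorem RotCfg.card_C (c : RotCfg t u O P q N ρ) : Nat.card ↥Cz = Nat.card ↥O * 4 := by
  rw [card_of_decomp c.hyp.mc.core_le c.hyp.P_le (fun x => c.inter_two) fun x hx => c.hyp.decomp hx,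
    show Nat.card ↥(P : Subgroup G) = 4 from c.hyp.card]

theorem RotCfg.card_NO (c : RotCfg t u O P q N ρ) :
    Nat.card ↥(N ⊓ O) = Nat.card ↥(lay N ⊓ O) * Nat.card ↥(O ⊓ Subgroup.centralizer ({u} : Set G)) := by
  refine card_of_decomp (le_inf (inf_le_left.trans (lay_le N)) inf_le_right) (le_inf c.K_le inf_le_left)
    (fun x hx hxK => c.torus_fix hx (Subgroup.mem_centralizer_singleton_iff.1 hxK.2)) fun x hx => ?_
  obtain ⟨σ, -, hσT, hσu⟩ := c.split hx.2 hx.1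
  exact ⟨σ, hσT, σ⁻¹ * x, ⟨O.mul_mem (O.inv_mem hσT.2) hx.2, Subgroup.mem_centralizer_singleton_iff.2 hσu.eq⟩,
    (mul_inv_cancel_left σ x).symm⟩

theorem RotCfg.card_W (c : RotCfg t u O P q N ρ) :
    Nat.card ↥(Subgroup.centralizer ((P : Subgroup G) : Set G)) =
      Nat.card ↥(O ⊓ Subgroup.centralizer ({u} : Set G)) * 4 := by
  have hK : ∀ {x : G}, x ∈ O → Commute x u → x ∈ Subgroup.centralizer ((P : Subgroup G) : Set G) := fun {x} hx hxu =>
    Subgroup.mem_centralizer_iff.2 fun p hp => by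
      rcases c.hyp.mem_cases hp with rfl | rfl | rfl | rfl
      · rw [one_mul, mul_one]
      · exact (c.hyp.mc.core_commute hx).symm.eq
      · exact hxu.symm.eq
      · exact ((c.hyp.mc.core_commute hx).mul_right hxu).symm.eq
  rw [card_of_decomp (A := O ⊓ Subgroup.centralizer ({u} : Set G)) (B := (P : Subgroup G))
    (fun x hx => hK hx.1 (Subgroup.mem_centralizer_singleton_iff.1 hx.2))
    (fun x hx => Subgroup.mem_centralizer_iff.2 fun y hy => (c.hyp.comm hy hx).eq)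
    (fun x hx => c.inter_two hx.1) fun x hx => ?_, show Nat.card ↥(P : Subgroup G) = 4 from c.hyp.card]
  obtain ⟨a, ha, p, hp, rfl⟩ := c.hyp.decomp (show x ∈ Cz from Subgroup.mem_centralizer_singleton_iff.2
    (Subgroup.mem_centralizer_iff.1 hx t c.hyp.tP).symm)
  refine ⟨a, ⟨ha, Subgroup.mem_centralizer_singleton_iff.2 ?_⟩, p, hp, rfl⟩
  have h1 := (show Commute u (a * p) from Subgroup.mem_centralizer_iff.1 hx u c.hyp.uP).mul_right
    (c.hyp.comm c.hyp.uP hp).inv_right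
  rw [mul_inv_cancel_right] at h1
  exact h1.symm.eq

/-- **a nontrivial element of the torus centralised by `O`** -/
theorem RotCfg.exists_fixed_torus (c : RotCfg t u O P q N ρ) :
    ∃ z ∈ lay N ⊓ O, z ≠ 1 ∧ z ∈ Fq ∧ ∀ a ∈ O, Commute a z := by
  obtain ⟨d, hd⟩ := c.exists_second
  obtain ⟨hiff, -, -, hT, -, -⟩ := c.commMap hd
  obtain ⟨g, hg, hgN⟩ : ∃ g ∈ Fq, g ∉ N := by
    by_contra! h
    exact c.not_le h
  have hzF : g * d * g⁻¹ * d⁻¹ ∈ Fq :=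
    (Fq).mul_mem (conj_fq c.prime (fq_le q _ hg) hd.mem) ((Fq).inv_mem hd.mem)
  refine ⟨_, hT g hg, fun e => hgN ((hiff g hg).1 (mul_inv_eq_iff_eq_mul.1 (mul_inv_eq_one.1 e))), hzF,
    fun a ha => ?_⟩
  refine c.inverted_central (B := Fq ⊓ Subgroup.centralizer (Fq : Set G)) (fun y hy =>
    Subgroup.inf_normalizer_le_normalizer_inf ⟨fq_le_norm q c.prime _ hy,
      normalizer_le_norm_cent _ (fq_le_norm q c.prime _ hy)⟩) (fun b hb => ?_) ha
    ⟨hzF, Subgroup.mem_centralizer_iff.2 fun x hx => (hd.second g hg x hx).symm.eq⟩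
  exact c.torus_inv u c.hyp.uP c.hyp.u_ne c.hyp.u_ne_t b
    (c.center_torus hb.1 fun x hx => (Subgroup.mem_centralizer_iff.1 hb.2 x hx).symm)

/-- `O = O_q(C) (N ∩ O)` -/
theorem RotCfg.supp_core (c : RotCfg t u O P q N ρ) (hA : ∀ a ∈ O, ∀ x ∈ Fq, x ∈ N → a * x * a⁻¹ ∈ N) {a : G}
    (ha : a ∈ O) : ∃ g ∈ Fq, g⁻¹ * a ∈ N := by
  haveI := Fact.mk c.prime
  obtain ⟨d, hd⟩ := c.exists_second
  have hd1 := hd.ne_one c.prime
  obtain ⟨D, hD⟩ : ∃ D, D = Fq ⊓ Subgroup.centralizer ({u} : Set G) := ⟨_, rfl⟩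
  have hdq : d ^ q = 1 := hd.order ▸ pow_orderOf_eq_one d
  have hxF : a * d * a⁻¹ ∈ Fq := conj_fq c.prime (c.hyp.mc.core_le ha) hd.mem
  obtain ⟨σ, -, hσT, -, heF, heu, hσe⟩ := c.split_q hxF (hA a ha d hd.mem (c.fq_N hd.mem hd.comm_u))
  obtain ⟨e, he⟩ : ∃ e, e = σ⁻¹ * (a * d * a⁻¹) := ⟨_, rfl⟩
  rw [← he] at heF heu hσe
  have hprod : a * d * a⁻¹ = σ * e := by rw [he, mul_inv_cancel_left]
  have hq1 : σ ^ q * e ^ q = 1 := by
    rw [← hσe.mul_pow, ← hprod, conj_pow, hdq, mul_one, mul_inv_cancel]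
  have hσq : σ ^ q = 1 := c.torus_fix ((lay N ⊓ O).pow_mem hσT q)
    (eq_inv_of_mul_eq_one_left hq1 ▸ (heu.pow_left q).inv_left)
  have heq : e ^ q = 1 := by rwa [hσq, one_mul] at hq1
  have hez : e ∈ Subgroup.zpowers d := by
    obtain ⟨i, hi⟩ := Subgroup.mem_zpowers_iff.1 (mem_zpowers_of_isCyclic (H := ↥D) (hD ▸ c.D_cyclic.1)
      (d := ⟨d, hD ▸ ⟨hd.mem, Subgroup.mem_centralizer_singleton_iff.2 hd.comm_u.eq⟩⟩)
      (e := ⟨e, hD ▸ ⟨heF, Subgroup.mem_centralizer_singleton_iff.2 heu.eq⟩⟩)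
      (by rw [Subgroup.orderOf_mk]; exact hd.order) (Subtype.ext heq))
    exact Subgroup.mem_zpowers_iff.2 ⟨i, congrArg Subtype.val hi⟩
  obtain ⟨hiff, -, -, -, -, hsur⟩ := c.commMap hd
  have he1 : e ≠ 1 := by
    intro e1
    rw [e1, mul_one] at hprod
    obtain ⟨g, hg, hgd⟩ := hsur σ hσT hσq
    refine c.not_le fun y hy => (hiff y hy).1 ?_
    -- every element of `O_q(C)` arises
    have hall : ∀ z ∈ Fq, Commute z d := fun z hz => by
      have hw : Commute z σ := by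
        have h2 : σ = g * d * g⁻¹ * d⁻¹ := by rw [hgd, mul_inv_cancel_right]
        exact h2 ▸ (hd.second g hg z hz).symm
      have hz' := conj_fq c.prime (c.hyp.mc.core_le ha) hz
      have hw' : Commute (a * z * a⁻¹) σ := by
        have h2 : σ = g * d * g⁻¹ * d⁻¹ := by rw [hgd, mul_inv_cancel_right]
        exact h2 ▸ (hd.second g hg _ hz').symm
      rw [← hprod] at hw'
      exact (Commute.conj_iff a).1 hw'
    exact hall y hy
  have hed : Second q t u e := hd.of_mem c.prime hez he1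
  obtain ⟨-, -, -, -, -, hsur'⟩ := c.commMap hed
  obtain ⟨g, hg, hge⟩ := hsur' σ hσT hσq
  refine ⟨g, hg, c.ti hd.mem hd.comm_u hd1 ?_ ?_⟩
  all_goals
    rw [show g⁻¹ * a * d * (g⁻¹ * a)⁻¹ = g⁻¹ * (a * d * a⁻¹) * g by group, hprod, ← hge,
      show g⁻¹ * (g * e * g⁻¹) * g = e by group]
  · exact heF
  · exact heu

/-- `|O : N ∩ O| = q` -/
theorem RotCfg.relIndex_core (c : RotCfg t u O P q N ρ) (hA : ∀ a ∈ O, ∀ x ∈ Fq, x ∈ N → a * x * a⁻¹ ∈ N) :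
    (N ⊓ O).relIndex O = q := by
  obtain ⟨d, hd⟩ := c.exists_second
  obtain ⟨-, hq, -, -, -, -⟩ := c.commMap hd
  conv_rhs => rw [← hq]
  rw [Subgroup.relIndex, Subgroup.relIndex, Subgroup.index_eq_card, Subgroup.index_eq_card]
  refine (Nat.card_congr (Equiv.ofBijective (Quotient.map'
    (fun a : ↥(Fq) => (⟨a, c.fq_core a.2⟩ : ↥O)) fun a b hab => ?_) ⟨?_, ?_⟩)).symm
  · rw [QuotientGroup.leftRel_apply, Subgroup.mem_subgroupOf] at hab ⊢
    exact ⟨hab.1, c.fq_core hab.2⟩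
  · intro A B h
    obtain ⟨a, rfl⟩ := QuotientGroup.mk_surjective A
    obtain ⟨b, rfl⟩ := QuotientGroup.mk_surjective B
    refine QuotientGroup.eq.2 (Subgroup.mem_subgroupOf.2 ⟨?_, (a⁻¹ * b : ↥(Fq)).2⟩)
    exact (Subgroup.mem_subgroupOf.1 (QuotientGroup.eq.1 h)).1
  · intro A
    obtain ⟨a, rfl⟩ := QuotientGroup.mk_surjective A
    obtain ⟨g, hg, hga⟩ := c.supp_core hA a.2
    exact ⟨QuotientGroup.mk (⟨g, hg⟩ : ↥(Fq)), QuotientGroup.eq.2 (Subgroup.mem_subgroupOf.2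
      ⟨hga, O.mul_mem (O.inv_mem (c.fq_core hg)) a.2⟩)⟩

/-- **`N ∩ N^a ≤ C`** for `a ∈ O ∖ N` -/
theorem RotCfg.inter_le (c : RotCfg t u O P q N ρ) (hA : ∀ a ∈ O, ∀ x ∈ Fq, x ∈ N → a * x * a⁻¹ ∈ N) {a : G}
    (ha : a ∈ O) (haN : a ∉ N) {x : G} (hx : x ∈ N) (hxa : a⁻¹ * x * a ∈ N) : x ∈ Cz := by
  obtain ⟨A, hAdef⟩ : ∃ A, A = layCent N ⊔ (layCent N).map (MulAut.conj a).toMonoidHom := ⟨_, rfl⟩
  have hlO : layCent N ≤ O := c.cent_le.trans inf_le_left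
  have hAO : A ≤ O := by
    rw [hAdef, sup_le_iff]
    refine ⟨hlO, ?_⟩
    rintro _ ⟨y, hy, rfl⟩
    exact mul_mem (mul_mem ha (hlO hy)) (inv_mem ha)
  have hAx : ∀ y ∈ A, x * y * x⁻¹ ∈ A := by
    have h1 : A.map (MulAut.conj x).toMonoidHom ≤ A := by
      rw [hAdef, Subgroup.map_sup, sup_le_iff]
      refine ⟨le_trans ?_ le_sup_left, le_trans ?_ le_sup_right⟩
      · rintro _ ⟨y, hy, rfl⟩
        exact (Subgroup.mem_normalizer_iff.1 (layCent_norm N hx) y).1 hy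
      · rintro _ ⟨_, ⟨y, hy, rfl⟩, rfl⟩
        refine ⟨(a⁻¹ * x * a) * y * (a⁻¹ * x * a)⁻¹,
          (Subgroup.mem_normalizer_iff.1 (layCent_norm N hxa) y).1 hy, ?_⟩
        show a * ((a⁻¹ * x * a) * y * (a⁻¹ * x * a)⁻¹) * a⁻¹ = x * (a * y * a⁻¹) * x⁻¹
        group
    exact fun y hy => h1 ⟨y, hy, rfl⟩
  have hT'1 : A ⊓ lay N ≠ ⊥ := by
    intro hbot
    obtain ⟨d, hd, hdu, hd1⟩ := c.D_mem
    have hDcent : ∀ y ∈ Fq, Commute y u → y ∈ layCent N := fun y hy hyu =>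
      ⟨c.fq_N hy hyu, c.D_cent ⟨hy, Subgroup.mem_centralizer_singleton_iff.2 hyu.eq⟩⟩
    have hyF : a * d * a⁻¹ ∈ Fq := conj_fq c.prime (c.hyp.mc.core_le ha) hd
    obtain ⟨σ, -, hσT, -, heF, heu, -⟩ := c.split_q hyF (hA a ha d hd (c.fq_N hd hdu))
    obtain ⟨e, he⟩ : ∃ e, e = σ⁻¹ * (a * d * a⁻¹) := ⟨_, rfl⟩
    rw [← he] at heF heu
    have hσA : σ ∈ A := by
      rw [show σ = (a * d * a⁻¹) * e⁻¹ by rw [he]; group, hAdef]
      exact mul_mem (Subgroup.mem_sup_right ⟨d, hDcent d hd hdu, rfl⟩)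
        (inv_mem (Subgroup.mem_sup_left (hDcent e heF heu)))
    have hσ1 : σ = 1 := Subgroup.mem_bot.1 (hbot ▸ ⟨hσA, hσT.1⟩)
    rw [hσ1, inv_one, one_mul] at he
    exact haN (c.ti hd hdu hd1 hyF (he ▸ heu))
  refine c.torus_norm (A ⊓ lay N) (fun y hy => ⟨hy.2, hAO hy.1⟩) hT'1 ⟨hx, mem_norm_of_conj fun y hy => ?_⟩
  exact ⟨hAx y hy.1, (Subgroup.mem_normalizer_iff.1 (lay_norm N hx) y).1 hy.2⟩

/-- an element of `N` carrying one moved coset to another lies in `C` -/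
theorem RotCfg.coset_fix (c : RotCfg t u O P q N ρ) (hA : ∀ a ∈ O, ∀ x ∈ Fq, x ∈ N → a * x * a⁻¹ ∈ N) {z : G}
    (hz : z ∈ N) {a a' : G} (ha : a ∈ O) (haN : a ∉ N) (ha' : a' ∈ O) (ha'N : a' ∉ N) (he : a'⁻¹ * z * a ∈ N) :
    z ∈ Cz := by
  have hfix : ∀ {z a a' : G}, z ∈ N → a' ∈ O → a' ∉ N → a'⁻¹ * z * a ∈ N → ∀ x ∈ N, a⁻¹ * x * a ∈ N →
      z * x * z⁻¹ ∈ Cz := by
    intro z a a' hz ha' ha'N he x hx hxa
    refine c.inter_le hA ha' ha'N (mul_mem (mul_mem hz hx) (inv_mem hz)) ?_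
    rw [show a'⁻¹ * (z * x * z⁻¹) * a' = a'⁻¹ * z * a * (a⁻¹ * x * a) * (a'⁻¹ * z * a)⁻¹ by group]
    exact mul_mem (mul_mem he hxa) (inv_mem he)
  have hcomm : ∀ {b : G}, b ∈ O → b⁻¹ * t * b = t := fun {b} hb => by
    rw [mul_assoc, ← Subgroup.mem_centralizer_singleton_iff.1 (c.hyp.mc.core_le hb), inv_mul_cancel_left]
  have htN : t ∈ N := c.P_N c.hyp.tP
  obtain ⟨t', ht'⟩ : ∃ t', t' = z⁻¹ * t * z := ⟨_, rfl⟩
  have ht'C : t' ∈ Cz := by
    have h1 := hfix (z := z⁻¹) (a := a') (a' := a) (inv_mem hz) ha haN (by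
      rw [show a⁻¹ * z⁻¹ * a' = (a'⁻¹ * z * a)⁻¹ by group]
      exact inv_mem he) t htN ((hcomm ha').symm ▸ htN)
    rwa [inv_inv, ← ht'] at h1
  obtain ⟨y, hyT, hy1, -, hyc⟩ := c.exists_fixed_torus
  have hyN : y ∈ N := lay_le N hyT.1
  have hyt' : Commute t' y := by
    have h1 : Commute (z * y * z⁻¹) t := Subgroup.mem_centralizer_singleton_iff.1
      (hfix hz ha' ha'N he y hyN (by rw [mul_assoc, ← (hyc a ha).eq, inv_mul_cancel_left]; exact hyN))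
    have h2 := (Commute.conj_iff z⁻¹).2 h1
    rw [show z⁻¹ * (z * y * z⁻¹) * z⁻¹⁻¹ = y by group, inv_inv, ← ht'] at h2
    exact h2.symm
  have ht'2 : t' * t' = 1 := by
    rw [ht', show z⁻¹ * t * z * (z⁻¹ * t * z) = z⁻¹ * (t * t) * z by group, c.hyp.mc.sq]
    group
  have ht'1 : t' ≠ 1 := fun h1 => c.hyp.mc.ne (by
    calc t = z * (z⁻¹ * t * z) * z⁻¹ := by group
      _ = _ := by rw [← ht', h1]; group)
  obtain ⟨b, hb, p, hp, e⟩ := c.hyp.decomp ht'C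
  have hpy : Commute p y := by
    have := (hyc b hb).inv_left.mul_left hyt'
    rwa [e, inv_mul_cancel_left] at this
  have hpt : p = 1 ∨ p = t := by
    by_contra! hc
    exact hy1 (eq_one_of_inv_fix (c.hyp.mc.core_orderOf hyT.2) (c.torus_inv p hp hc.1 hc.2 y hyT) hpy)
  have hbp : Commute b p := by
    rcases hpt with h | h
    · exact h ▸ Commute.one_right b
    · exact h ▸ c.hyp.mc.core_commute hb
  have hb1 : b = 1 := by
    refine orderOf_eq_one_iff.1 (Nat.eq_one_of_dvd_coprimes (c.hyp.mc.core_orderOf hb).coprime_two_left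
      (orderOf_dvd_of_pow_eq_one ?_) dvd_rfl)
    have := ht'2
    rwa [e, hbp.symm.mul_mul_mul_comm, c.hyp.sq hp, mul_one, ← pow_two] at this
  have he' : t' = t := by
    rcases hpt with h | h
    · exact absurd (by rw [e, hb1, h, one_mul]) ht'1
    · rw [e, hb1, h, one_mul]
  refine Subgroup.mem_centralizer_singleton_iff.2 ?_
  calc z * t = z * (z⁻¹ * t * z) := by rw [← ht', he']
    _ = _ := by group

/-- `|G : N| ≥ 1 + (q - 1) |N : N ∩ C|` -/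
theorem RotCfg.index_ge (c : RotCfg t u O P q N ρ) (hA : ∀ a ∈ O, ∀ x ∈ Fq, x ∈ N → a * x * a⁻¹ ∈ N) :
    1 + ((N ⊓ O).relIndex O - 1) * (N ⊓ Cz).relIndex N ≤ N.index := by
  classical
  have hm : (N ⊓ O).relIndex O =
      Nat.card {B : ↥O ⧸ (N ⊓ O).subgroupOf O // B ≠ QuotientGroup.mk 1} + 1 := by
    rw [← Finite.card_option, Nat.card_congr (Equiv.optionSubtypeNe _), Subgroup.relIndex, Subgroup.index_eq_card]
  have hd : (N ⊓ Cz).relIndex N = Nat.card (↥N ⧸ (N ⊓ Cz).subgroupOf N) := by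
    rw [Subgroup.relIndex, Subgroup.index_eq_card]
  rw [hm, Nat.add_sub_cancel, hd, mul_comm, ← Nat.card_prod, add_comm, ← Finite.card_option,
    Subgroup.index_eq_card]
  have hout : ∀ B : {B : ↥O ⧸ (N ⊓ O).subgroupOf O // B ≠ QuotientGroup.mk 1}, (B.1.out : G) ∉ N := by
    intro B hB
    refine B.2 ?_
    rw [← QuotientGroup.out_eq' B.1]
    refine QuotientGroup.eq.2 (Subgroup.mem_subgroupOf.2 ?_)
    show (B.1.out : G)⁻¹ * 1 ∈ N ⊓ O
    rw [mul_one]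
    exact ⟨N.inv_mem hB, O.inv_mem B.1.out.2⟩
  refine Nat.card_le_card_of_injective (fun x => x.elim (QuotientGroup.mk (1 : G))
    fun p => QuotientGroup.mk ((p.1.out : G) * (p.2.1.out : G))) ?_
  intro x y e
  rcases x with _ | ⟨A, B⟩ <;> rcases y with _ | ⟨A', B'⟩
  · rfl
  · simp only [Option.elim] at e
    have h1 := QuotientGroup.eq.1 e
    rw [inv_one, one_mul] at h1
    exact (hout B' ((N.mul_mem_cancel_left A'.out.2).1 h1)).elim
  · simp only [Option.elim] at e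
    have h1 := QuotientGroup.eq.1 e.symm
    rw [inv_one, one_mul] at h1
    exact (hout B ((N.mul_mem_cancel_left A.out.2).1 h1)).elim
  · simp only [Option.elim] at e
    have h1 := QuotientGroup.eq.1 e.symm
    have h2 : (B'.1.out : G)⁻¹ * ((A'.out : G)⁻¹ * A.out) * B.1.out ∈ N := by
      rw [show (B'.1.out : G)⁻¹ * ((A'.out : G)⁻¹ * A.out) * B.1.out
        = ((A'.out : G) * B'.1.out)⁻¹ * ((A.out : G) * B.1.out) by group]
      exact h1
    have hzN : (A'.out : G)⁻¹ * A.out ∈ N := mul_mem (inv_mem A'.out.2) A.out.2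
    have hzC := c.coset_fix hA hzN B.1.out.2 (hout B) B'.1.out.2 (hout B') h2
    have hA' : A' = A := by
      rw [← QuotientGroup.out_eq' A, ← QuotientGroup.out_eq' A']
      exact QuotientGroup.eq.2 (Subgroup.mem_subgroupOf.2 ⟨hzN, hzC⟩)
    subst hA'
    rw [inv_mul_cancel, mul_one] at h2
    have hB : B' = B := Subtype.ext (by
      rw [← QuotientGroup.out_eq' B.1, ← QuotientGroup.out_eq' B'.1]
      exact QuotientGroup.eq.2 (Subgroup.mem_subgroupOf.2 ⟨h2, O.mul_mem (O.inv_mem B'.1.out.2) B.1.out.2⟩))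
    rw [hB]

/-- **`A` is not normal in `O`** -/
theorem RotCfg.exists_moved (c : RotCfg t u O P q N ρ) : ∃ a ∈ O, ∃ x ∈ Fq, x ∈ N ∧ a * x * a⁻¹ ∉ N := by
  by_contra! hA
  have hk : IsKleinFour (P : Subgroup G) :=
    { card_four := c.hyp.card
      exponent_two := by
        refine (Nat.dvd_prime Nat.prime_two).1 (Monoid.exponent_dvd_of_forall_pow_eq_one fun x => ?_) |>.resolve_left ?_
        · rw [pow_two]; exact c.hyp.exp x
        · rw [Monoid.exp_eq_one_iff]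
          intro hs
          have := c.hyp.card
          rw [Nat.card_eq_one_iff_unique.2 ⟨hs, ⟨1⟩⟩] at this
          omega }
  have ht2 : orderOf t = 2 := orderOf_eq_prime (by rw [pow_two]; exact c.hyp.mc.sq) c.hyp.mc.ne
  have hnc : ¬ ∃ M : Subgroup G, M.Normal ∧ Nat.card M * 4 = Nat.card G := by
    rintro ⟨M, hM, hc⟩
    rcases hM.eq_bot_or_eq_top with rfl | rfl
    · rw [Subgroup.card_bot] at hc
      haveI : Fact (Nat.Prime 2) := ⟨Nat.prime_two⟩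
      exact c.hyp.nonab (IsPGroup.isMulCommutative_of_card_eq_prime_sq (p := 2) (by rw [← hc]; norm_num))
    · rw [Subgroup.card_top] at hc
      have := Nat.card_pos (α := G)
      omega
  obtain ⟨e, x, y, w, hfd, hcard⟩ := order_formula P hk c.hyp.one hnc c.hyp.tP ht2
  have hα := hfd.upper
  obtain ⟨τ, hτ⟩ : ∃ τ, τ = Nat.card ↥(lay N ⊓ O) := ⟨_, rfl⟩
  obtain ⟨k, hk'⟩ : ∃ k, k = Nat.card ↥(O ⊓ Subgroup.centralizer ({u} : Set G)) := ⟨_, rfl⟩
  have hkpos : 0 < k := hk' ▸ Nat.card_pos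
  obtain ⟨d, hd⟩ := c.exists_second
  obtain ⟨-, -, -, -, hqτ, -⟩ := c.commMap hd
  rw [← hτ] at hqτ
  have hq3 : 3 ≤ q := by have := c.prime.two_le; have := c.odd; omega
  have hO : Nat.card ↥O = q * τ * k := by
    have h1 := Subgroup.card_mul_index ((N ⊓ O).subgroupOf O)
    rw [Nat.card_congr (Subgroup.subgroupOfEquivOfLe (inf_le_right : N ⊓ O ≤ O)).toEquiv, c.card_NO,
      show ((N ⊓ O).subgroupOf O).index = q from c.relIndex_core hA, ← hτ, ← hk'] at h1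
    rw [← h1]; ring
  have hC : (N ⊓ Cz).relIndex Cz = q := by
    have h1 := Subgroup.card_mul_index ((N ⊓ Cz).subgroupOf Cz)
    rw [Nat.card_congr (Subgroup.subgroupOfEquivOfLe (inf_le_right : N ⊓ Cz ≤ Cz)).toEquiv, c.card_C, hO,
      card_of_decomp (A := N ⊓ O) (B := (P : Subgroup G)) (H := N ⊓ Cz) (inf_le_inf_left _ c.hyp.mc.core_le)
        (le_inf c.P_N c.hyp.P_le) (fun x hx => c.inter_two hx.2) (fun x hx => ?_), c.card_NO,
      show Nat.card ↥(P : Subgroup G) = 4 from c.hyp.card, ← hτ, ← hk'] at h1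
    · refine Nat.eq_of_mul_eq_mul_left (Nat.mul_pos (Nat.mul_pos (by omega : 0 < τ) hkpos) (by norm_num : 0 < 4)) ?_
      rw [Subgroup.relIndex, h1]; ring
    · obtain ⟨a, ha, p, hp, rfl⟩ := c.hyp.decomp hx.2
      refine ⟨a, ⟨?_, ha⟩, p, hp, rfl⟩
      have := N.mul_mem hx.1 (N.inv_mem (c.P_N hp))
      rwa [mul_inv_cancel_right] at this
  obtain ⟨Δ, hΔ⟩ : ∃ Δ, Δ = (N ⊓ Cz).relIndex N := ⟨_, rfl⟩
  have hidx := c.torus_index
  rw [← hτ, ← hΔ] at hidx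
  have hge := c.index_ge hA
  rw [c.relIndex_core hA, ← hΔ] at hge
  have hmul : q * (Subgroup.centralizer ({t} : Set G)).index = Δ * N.index := by
    rw [← hC, Subgroup.relIndex_mul_index inf_le_right, hΔ, Subgroup.relIndex_mul_index inf_le_left]
  have hG : (Nat.card G : ℚ) = (Nat.card ↥Cz : ℚ) * ((Subgroup.centralizer ({t} : Set G)).index : ℚ) := by
    exact_mod_cast (Subgroup.card_mul_index _).symm
  rw [hG, c.card_C, c.card_W, hO, ← hk'] at hcard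
  have hk0 : (0 : ℚ) < k := by exact_mod_cast hkpos
  have hq0 : (3 : ℚ) ≤ q := by exact_mod_cast hq3
  have hτ0 : (q : ℚ) ≤ τ := by exact_mod_cast hqτ
  obtain ⟨I, hI⟩ : ∃ I : ℚ, I = ((Subgroup.centralizer ({t} : Set G)).index : ℚ) := ⟨_, rfl⟩
  rw [← hI] at hcard
  have hIle : I ≤ 15 * ((q : ℚ) * τ) ^ 2 := by
    have e1 : I = 8 * ratio e x y w * ((q : ℚ) * τ) ^ 2 := by
      push_cast at hcard
      field_simp at hcard ⊢
      nlinarith [hcard]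
    rw [e1]
    nlinarith [sq_nonneg ((q : ℚ) * τ)]
  have hΔge : 6 * (τ : ℚ) ^ 2 ≤ Δ := by
    have h1 : (((4 * τ - 1) * (4 * τ - 2) : ℕ) : ℚ) ≤ ((2 * Δ : ℕ) : ℚ) := by exact_mod_cast hidx
    push_cast [Nat.cast_sub (show 1 ≤ 4 * τ by omega), Nat.cast_sub (show 2 ≤ 4 * τ by omega)] at h1
    nlinarith
  have hNge : 1 + ((q : ℚ) - 1) * Δ ≤ (N.index : ℚ) := by
    have h1 : ((1 + (q - 1) * Δ : ℕ) : ℚ) ≤ (N.index : ℚ) := by exact_mod_cast hge
    push_cast [Nat.cast_sub (show 1 ≤ q by omega)] at h1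
    exact h1
  have hmul' : (q : ℚ) * I = (Δ : ℚ) * (N.index : ℚ) := by
    rw [hI]; exact_mod_cast hmul
  have hτ3 : (3 : ℚ) ≤ τ := hq0.trans hτ0
  have s1 : (Δ : ℚ) * ((q : ℚ) - 1) * Δ ≤ 15 * q * ((q : ℚ) * τ) ^ 2 := by
    have hΔ0 : (0 : ℚ) ≤ Δ := Nat.cast_nonneg _
    nlinarith [mul_le_mul_of_nonneg_left hNge hΔ0, mul_le_mul_of_nonneg_left hIle (by linarith : (0 : ℚ) ≤ q)]
  have s2 : 36 * ((q : ℚ) - 1) * ((τ : ℚ) ^ 2) ^ 2 ≤ 15 * q * ((q : ℚ) * τ) ^ 2 := by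
    refine le_trans ?_ s1
    nlinarith [mul_le_mul hΔge hΔge (by positivity) (Nat.cast_nonneg Δ)]
  have s3 : ((q : ℚ) * τ) ^ 2 ≤ ((τ : ℚ) ^ 2) ^ 2 := by
    rw [← pow_mul, show (2 * 2) = 4 from rfl, mul_pow]
    nlinarith [mul_le_mul hτ0 hτ0 (by linarith : (0:ℚ) ≤ q) (by linarith : (0:ℚ) ≤ τ), sq_nonneg (τ : ℚ)]
  have s4 : (0 : ℚ) < ((q : ℚ) * τ) ^ 2 := by positivity
  nlinarith [mul_le_mul_of_nonneg_left s3 (by linarith : (0 : ℚ) ≤ 36 * ((q : ℚ) - 1))]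

end Cfsg.Agent.GW
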