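import Cfsg.Agent.Lib.GW.RotationAction
import Cfsg.Agent.Lib.GW.RotationMatrix
import Cfsg.Agent.Lib.GW.MaxFit

/-!
# The image of `O` in `SL₂(q)`

The kernel is the odd part of `F(C)`; the image is abelian without unipotent elements, inverted by `u`, of odd order
`l ≥ 3` with `2 l ∣ q ± 1`; hence `C_O(u) = ⟨d⟩`.
-/

set_option autoImplicit false
set_option linter.unusedSectionVars false
set_option linter.style.haveILetI false

namespace Cfsg.Agent.GW

open Cfsg Cfsg.Agent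
open Cfsg.Agent.Fusion.Dickson

universe w

variable {G : Type w} [Group G] [Finite G] [IsSimpleGroup G] {t u : G} {O N : Subgroup G} {P : Sylow 2 G} {q : ℕ}
  {ρ : G} {d x : G}

set_option quotPrecheck false in
local notation "Cz" => Subgroup.centralizer ({t} : Set G)

set_option quotPrecheck false in
local notation "Fq" => fq q (Subgroup.centralizer ({t} : Set G))

/-- `O` centralises the other cores -/
theorem RotCfg.core_other (c : RotCfg t u O P q N ρ) {s : ℕ} (hs : s.Prime) (hs2 : s ≠ 2) (hsq : s ≠ q) {y a : G}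
    (hy : y ∈ fq s Cz) (ha : a ∈ O) : Commute a y :=
  c.inverted_central (B := fq s Cz) (fq_le_norm s hs _) (fun b hb =>
    c.torus_inv u c.hyp.uP c.hyp.u_ne c.hyp.u_ne_t b (c.other hs hs2 hsq hb)) ha hy

/-- in the Fitting subgroup of `C` -/
def InFit (t : G) (a : G) : Prop :=
  ∃ h : a ∈ Subgroup.centralizer ({t} : Set G), (⟨a, h⟩ : ↥(Subgroup.centralizer ({t} : Set G))) ∈
    Cfsg.fittingSubgroup ↥(Subgroup.centralizer ({t} : Set G))

theorem InFit.mul {a b : G} (ha : InFit t a) (hb : InFit t b) : InFit t (a * b) :=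
  ⟨mul_mem ha.1 hb.1, show (⟨a, ha.1⟩ * ⟨b, hb.1⟩ : ↥(Subgroup.centralizer ({t} : Set G))) ∈ _ from
    mul_mem ha.2 hb.2⟩

theorem inFit_fq {s : ℕ} (hs : s.Prime) {a : G} (ha : a ∈ fq s Cz) : InFit t a := by
  obtain ⟨y, hy, rfl⟩ := fq_le_fitting hs _ ha
  exact ⟨y.2, hy⟩

theorem RotCfg.inFit_of_central (c : RotCfg t u O P q N ρ) {a : G} (ha : a ∈ O)
    (h : ∀ f ∈ Fq, Commute a f) : InFit t a :=
  ⟨c.hyp.mc.core_le ha, c.hyp.mc.mem_fit ha fun s hs hs2 y hy => by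
    by_cases hsq : s = q
    · exact h y (hsq ▸ hy)
    · exact c.core_other hs hs2 hsq hy ha⟩

/-- every primary part of an element of the odd part of the Fitting subgroup lies in its core -/
theorem RotCfg.primary (c : RotCfg t u O P q N ρ) {a y : G} (ha : a ∈ O) (hf : InFit t a)
    (hy : y ∈ Subgroup.zpowers a) {p k : ℕ} (hp : p.Prime) (ho : orderOf y = p ^ k) :
    y ∈ O ∧ y ∈ fq p Cz ∧ (y = 1 ∨ p ≠ 2) := by
  have hyO : y ∈ O := Subgroup.zpowers_le.2 ha hy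
  refine ⟨hyO, c.hyp.mc.primary_mem hyO ?_ hp ho, ?_⟩
  · obtain ⟨i, rfl⟩ := Subgroup.mem_zpowers_iff.1 hy
    exact (show (⟨a ^ i, c.hyp.mc.core_le hyO⟩ : ↥(Subgroup.centralizer ({t} : Set G))) = ⟨a, hf.1⟩ ^ i from
      Subtype.ext (by simp)) ▸ zpow_mem hf.2 i
  · by_contra! hc
    obtain ⟨h1, rfl⟩ := hc
    rcases Nat.eq_zero_or_pos k with rfl | hk
    · exact h1 (orderOf_eq_one_iff.1 (by rw [ho, pow_zero]))
    · exact Nat.not_even_iff_odd.2 (c.hyp.mc.core_orderOf hyO) (ho ▸ Nat.even_pow.2 ⟨even_two, hk.ne'⟩)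

variable [Fact q.Prime] {Φ : ↥O →* Matrix.SpecialLinearGroup (Fin 2) (ZMod q)}

theorem RotCfg.two_ne (c : RotCfg t u O P q N ρ) : (2 : ZMod q) ≠ 0 := fun h => c.odd (by
  have : ((2 : ℕ) : ZMod q) = 0 := by exact_mod_cast h
  exact (Nat.prime_dvd_prime_iff_eq c.prime Nat.prime_two).1 ((ZMod.natCast_eq_zero_iff 2 q).1 this))

/-- **the kernel is the odd Fitting part** -/
theorem Action.ker_iff (c : RotCfg t u O P q N ρ) (s : Shape q t u O N d x) (A : Action q t u O N d x Φ) (a : ↥O) :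
    Φ a = 1 ↔ InFit t (a : G) := by
  have hd := s.second
  have hFker : ∀ f : ↥O, (f : G) ∈ Fq → Φ f = 1 := fun f hf => (A.ker f).2 (by
    obtain ⟨hiff, -, -, hT, -, -⟩ := c.commMap hd
    have hzF : ∀ y ∈ Fq, ∀ e ∈ Fq, y * e * y⁻¹ * e⁻¹ ∈ Fq := fun y hy e he =>
      (Fq).mul_mem ((Fq).mul_mem ((Fq).mul_mem hy he) ((Fq).inv_mem hy)) ((Fq).inv_mem he)
    refine ⟨⟨hzF _ hf _ hd.mem, hT _ hf⟩, hzF _ hf _ s.x_mem, ?_⟩
    obtain ⟨i, j, hr⟩ := s.decomp _ hf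
    obtain ⟨r, hr'⟩ : ∃ r, r = (x ^ j * d ^ i)⁻¹ * (f : G) := ⟨_, rfl⟩
    rw [← hr'] at hr
    have hrx : Commute r x := s.central r hr.1 hr.2 x s.x_mem
    have hfe : (f : G) = x ^ j * d ^ i * r := by rw [hr', mul_inv_cancel_left]
    have hdi : d ^ i * x * (d ^ i)⁻¹ * x⁻¹ ∈ lay N ⊓ O := by
      have h1 := c.center_torus (hzF x s.x_mem _ ((Fq).pow_mem hd.mem i)) (fun g hg => by
        by_cases hdi : d ^ i = 1
        · rw [hdi]; simp
        · exact (hd.of_mem c.prime (Subgroup.pow_mem _ (Subgroup.mem_zpowers d) i) hdi).second x s.x_mem g hg)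
      have h2 := (lay N ⊓ O).inv_mem h1
      rwa [mul_inv_rev, mul_inv_rev, mul_inv_rev, inv_inv, inv_inv, ← mul_assoc, ← mul_assoc] at h2
    have hzc : Commute (x ^ j) (d ^ i * x * (d ^ i)⁻¹ * x⁻¹) :=
      (s.central _ (hzF _ ((Fq).pow_mem hd.mem i) x s.x_mem) hdi _ ((Fq).pow_mem s.x_mem j)).symm
    have e : (f : G) * x * (f : G)⁻¹ * x⁻¹ = d ^ i * x * (d ^ i)⁻¹ * x⁻¹ := by
      calc (f : G) * x * (f : G)⁻¹ * x⁻¹ = x ^ j * d ^ i * (r * x * r⁻¹) * (d ^ i)⁻¹ * (x ^ j)⁻¹ * x⁻¹ := by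
            rw [hfe]; group
        _ = x ^ j * (d ^ i * x * (d ^ i)⁻¹ * x⁻¹) * (x * (x ^ j)⁻¹ * x⁻¹) := by
            rw [hrx.eq, mul_inv_cancel_right]; group
        _ = _ := by
            rw [hzc.eq, show x * (x ^ j)⁻¹ * x⁻¹ = (x ^ j)⁻¹ by
              rw [((Commute.refl x).pow_right j).inv_right.eq, mul_inv_cancel_right]]
            group
    rw [e]
    exact hdi)
  constructor
  · intro h
    obtain ⟨⟨-, hT1⟩, -, hT2⟩ := (A.ker a).1 h
    obtain ⟨-, -, -, hT, -, hsur⟩ := c.commMap hd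
    obtain ⟨z, hz⟩ : ∃ z, z = x * d * x⁻¹ * d⁻¹ := ⟨_, rfl⟩
    have hzq : orderOf z = q := orderOf_eq_prime (hz ▸ hd.comm_q s.x_mem) fun e =>
      s.x_not (((c.commMap hd).1 x s.x_mem).1 (mul_inv_eq_iff_eq_mul.1 (mul_inv_eq_one.1 (hz ▸ e))))
    have hzT : z ∈ lay N ⊓ O := hz ▸ hT x s.x_mem
    have hzc : ∀ g ∈ Fq, Commute z g := hz ▸ hd.second x s.x_mem
    have haC : (a : G) ∈ Cz := c.hyp.mc.core_le a.2
    obtain ⟨r1, hr1⟩ : ∃ r, r = (a : G) * d * (a : G)⁻¹ * d⁻¹ := ⟨_, rfl⟩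
    obtain ⟨r2, hr2⟩ : ∃ r, r = (a : G) * x * (a : G)⁻¹ * x⁻¹ := ⟨_, rfl⟩
    rw [← hr1] at hT1
    rw [← hr2] at hT2
    have hr1F : r1 ∈ Fq := hr1 ▸ (Fq).mul_mem (conj_fq c.prime haC hd.mem) ((Fq).inv_mem hd.mem)
    have hr2F : r2 ∈ Fq := hr2 ▸ (Fq).mul_mem (conj_fq c.prime haC s.x_mem) ((Fq).inv_mem s.x_mem)
    have hdq : d ^ q = 1 := hd.order ▸ pow_orderOf_eq_one d
    have hr1q : r1 ^ q = 1 := by
      have hc : Commute r1 d := s.central r1 hr1F hT1 d hd.mem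
      have := hc.mul_pow q
      rwa [hdq, mul_one, show r1 * d = (a : G) * d * (a : G)⁻¹ by rw [hr1, inv_mul_cancel_right], conj_pow, hdq,
        mul_one, mul_inv_cancel, eq_comm] at this
    have hr2q : r2 ^ q = 1 := by
      have hc : Commute r2 x := s.central r2 hr2F hT2 x s.x_mem
      obtain ⟨hiff, -, -, -, -, -⟩ := c.commMap hd
      have hxqF := (Fq).pow_mem s.x_mem q
      have hxqN : x ^ q ∈ N := (hiff _ hxqF).1 (mul_inv_eq_iff_eq_mul.1 (mul_inv_eq_one.1 (by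
        rw [hd.comm_pow s.x_mem, hd.comm_q s.x_mem])))
      have hxqT : x ^ q ∈ lay N ⊓ O := c.center_torus hxqF fun g hg =>
        c.central_of s.x_mem s.x_not hxqF hxqN ((Commute.refl x).pow_left q) hg
      have := hc.mul_pow q
      rwa [show r2 * x = (a : G) * x * (a : G)⁻¹ by rw [hr2, inv_mul_cancel_right], conj_pow,
        (c.core_central s hxqF hxqT a.2).eq, mul_inv_cancel_right, right_eq_mul] at this
    have hz' : ∀ {r : G}, r ∈ lay N ⊓ O → r ^ q = 1 → ∃ i : ℕ, z ^ i = r := fun {r} hr hrq => by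
      obtain ⟨k, hk⟩ := Subgroup.mem_zpowers_iff.1 (mem_zpowers_of_isCyclic (H := ↥(lay N ⊓ O)) c.torus_cyclic
        (d := ⟨z, hzT⟩) (e := ⟨r, hr⟩) (by rw [Subgroup.orderOf_mk, hzq]) (Subtype.ext hrq))
      rw [← show z ^ k = r from congrArg Subtype.val hk]
      exact (Submonoid.mem_powers_iff _ _).1 ((mem_powers_iff_mem_zpowers).2 (Subgroup.zpow_mem_zpowers z k))
    obtain ⟨j, hj⟩ := hz' hT1 hr1q
    obtain ⟨i, hi⟩ := hz' ((lay N ⊓ O).inv_mem hT2) (by rw [inv_pow, hr2q, inv_one])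
    -- `f = x ^ j * d ^ i` induces the same
    have hfF : x ^ j * d ^ i ∈ Fq := (Fq).mul_mem ((Fq).pow_mem s.x_mem j) ((Fq).pow_mem hd.mem i)
    have hfd : x ^ j * d ^ i * d * (x ^ j * d ^ i)⁻¹ = r1 * d := by
      calc x ^ j * d ^ i * d * (x ^ j * d ^ i)⁻¹ = x ^ j * (d ^ i * d * (d ^ i)⁻¹) * (x ^ j)⁻¹ := by group
        _ = (x ^ j * d * (x ^ j)⁻¹ * d⁻¹) * d := by
            rw [((Commute.refl d).pow_left i).eq, mul_inv_cancel_right, inv_mul_cancel_right]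
        _ = _ := by rw [hd.comm_pow s.x_mem, ← hz, hj]
    have hfx : x ^ j * d ^ i * x * (x ^ j * d ^ i)⁻¹ = r2 * x := by
      have hxd : x * d ^ i * x⁻¹ = z ^ i * d ^ i := by
        rw [← conj_pow, show x * d * x⁻¹ = z * d by rw [hz, inv_mul_cancel_right], (hzc d hd.mem).mul_pow]
      have hdx : d ^ i * x * (d ^ i)⁻¹ = r2 * x := by
        calc d ^ i * x * (d ^ i)⁻¹ = d ^ i * (x * d ^ i * x⁻¹)⁻¹ * x := by group
          _ = (z ^ i)⁻¹ * x := by rw [hxd, mul_inv_rev, mul_inv_cancel_left]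
          _ = _ := by rw [hi, inv_inv]
      calc x ^ j * d ^ i * x * (x ^ j * d ^ i)⁻¹ = x ^ j * (d ^ i * x * (d ^ i)⁻¹) * (x ^ j)⁻¹ := by group
        _ = r2 * (x ^ j * x * (x ^ j)⁻¹) := by
            rw [hdx, ← mul_assoc, (s.central r2 hr2F hT2 _ ((Fq).pow_mem s.x_mem j)).symm.eq]; group
        _ = _ := by rw [((Commute.refl x).pow_left j).eq, mul_inv_cancel_right]
    obtain ⟨f, hf⟩ : ∃ f, f = x ^ j * d ^ i := ⟨_, rfl⟩
    rw [← hf] at hfF hfd hfx
    have hb : f⁻¹ * (a : G) ∈ O := O.mul_mem (O.inv_mem (c.fq_core hfF)) a.2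
    have hbd : Commute (f⁻¹ * (a : G)) d := by
      show f⁻¹ * (a : G) * d = d * (f⁻¹ * (a : G))
      calc f⁻¹ * (a : G) * d = f⁻¹ * ((a : G) * d * (a : G)⁻¹ * d⁻¹ * d) * a := by group
        _ = f⁻¹ * (f * d * f⁻¹) * a := by rw [← hr1, ← hfd]
        _ = _ := by group
    have hbx : Commute (f⁻¹ * (a : G)) x := by
      show f⁻¹ * (a : G) * x = x * (f⁻¹ * (a : G))
      calc f⁻¹ * (a : G) * x = f⁻¹ * ((a : G) * x * (a : G)⁻¹ * x⁻¹ * x) * a := by group
        _ = f⁻¹ * (f * x * f⁻¹) * a := by rw [← hr2, ← hfx]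
        _ = _ := by group
    have hcen : ∀ g ∈ Fq, Commute (f⁻¹ * (a : G)) g := by
      intro g hg
      obtain ⟨i', j', hr⟩ := s.decomp g hg
      have := ((hbx.pow_right j').mul_right (hbd.pow_right i')).mul_right (c.core_central s hr.1 hr.2 hb)
      rwa [mul_inv_cancel_left] at this
    have := (inFit_fq c.prime hfF).mul (c.inFit_of_central hb hcen)
    rwa [mul_inv_cancel_left] at this
  · intro hfit
    have hm : (a : G) ∈ Φ.ker.map O.subtype := mem_of_primary fun y hy p k hp ho => by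
      obtain ⟨hyO, hyp, hy2⟩ := c.primary a.2 hfit hy hp ho
      refine ⟨⟨y, hyO⟩, MonoidHom.mem_ker.2 ?_, rfl⟩
      rcases hy2 with rfl | hp2
      · exact map_one Φ
      by_cases hpq : p = q
      · exact hFker _ (hpq ▸ hyp)
      · refine (A.ker _).2 ?_
        show y * d * y⁻¹ * d⁻¹ ∈ _ ∧ y * x * y⁻¹ * x⁻¹ ∈ _
        rw [(commute_fq hp c.prime hpq hyp hd.mem).eq, (commute_fq hp c.prime hpq hyp s.x_mem).eq,
          mul_inv_cancel_right, mul_inv_cancel_right, mul_inv_cancel, mul_inv_cancel]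
        exact ⟨one_mem _, one_mem _⟩
    obtain ⟨b, hb, e⟩ := hm
    rw [show a = b from Subtype.ext e.symm]
    exact hb

/-- `Φ` sends a diagonal element to one, given commutativity -/
theorem Action.diag (s : Shape q t u O N d x) (A : Action q t u O N d x Φ) (hodd : Odd (Nat.card ↥O))
    (hcomm : ∀ a b : ↥O, Φ a * Φ b = Φ b * Φ a) {a : ↥O} (h01 : (Φ a).1 0 1 = 0) (h10 : (Φ a).1 1 0 = 0) :
    Φ a = 1 := by
  by_contra h1
  have hns := Mat2.not_isScalar ((hodd.of_dvd_nat (orderOf_dvd_natCard a)).of_dvd_nat (orderOf_map_dvd Φ a)) h1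
  obtain ⟨m, hm, hmd⟩ := s.moved
  refine hmd ((A.line ⟨m, hm⟩).1 ?_)
  obtain ⟨p, r, -, -, e, -⟩ := commutant hns (hcomm ⟨m, hm⟩ a)
  rw [e, h10, mul_zero]

/-- the image of `O` -/
structure Range (q : ℕ) [Fact q.Prime] (t u : G) (O N : Subgroup G) (d : G)
    (Φ : ↥O →* Matrix.SpecialLinearGroup (Fin 2) (ZMod q)) : Prop where
  comm : ∀ a b : ↥O, Φ a * Φ b = Φ b * Φ a
  semi : ∀ a : ↥O, tr (Φ a) ^ 2 = 4 → Φ a = 1
  inv : ∀ a b : ↥O, (b : G) = u * a * u⁻¹ → Φ b = (Φ a)⁻¹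
  fit : ∀ a : ↥O, Φ a = 1 ↔ InFit t (a : G)
  fixed : ∀ a ∈ O, Commute a u → a ∈ Subgroup.zpowers d
  three : 3 ≤ Nat.card Φ.range
  divides : 2 * Nat.card Φ.range ∣ q - 1 ∨ 2 * Nat.card Φ.range ∣ q + 1

open scoped _root_.Classical in
/-- **the image is an inverted abelian group without unipotent elements** -/
theorem RotCfg.exists_range (c : RotCfg t u O P q N ρ) (s : Shape q t u O N d x) (A : Action q t u O N d x Φ) :
    Range q t u O N d Φ := by
  have h2 := c.two_ne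
  have hd := s.second
  have hodd : Odd (Nat.card Φ.range) := c.hyp.mc.core_odd.of_dvd_nat (Subgroup.card_range_dvd Φ)
  haveI : Group.IsSolvable ↥O := c.hyp.mc.core_solvable
  have hsol : Group.IsSolvable ↥Φ.range :=
    Group.isSolvable_of_surjective (f := Φ.rangeRestrict) Φ.rangeRestrict_surjective
  have hord : ∀ a : ↥O, Odd (orderOf (Φ a)) := fun a =>
    (c.hyp.mc.core_odd.of_dvd_nat (orderOf_dvd_natCard a)).of_dvd_nat (orderOf_map_dvd Φ a)
  have hone := one_entries (F := ZMod q)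
  have hfit := A.ker_iff c s
  -- no unipotent line
  have hnoline : ¬ ∃ b ∈ Φ.range, b ≠ 1 ∧ tr b = 2 ∧ ∀ g ∈ Φ.range, g * b * g⁻¹ * b = b * (g * b * g⁻¹) := by
    rintro ⟨b, ⟨β, rfl⟩, hb1, hbt, hbc⟩
    obtain ⟨β', hβ'⟩ : ∃ β' : ↥O, (β' : G) = u * β * u⁻¹ := ⟨⟨_, c.conj_u_mem β.2⟩, rfl⟩
    obtain ⟨e00, e01, e10, e11⟩ := A.refl β β' hβ'
    have hns := Mat2.not_isScalar (hord β) hb1
    obtain ⟨b00, b11, hzero⟩ := Mat2.unip_line h2 hb1 hns hbt e00 e01 e10 e11 (hbc _ ⟨β', rfl⟩)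
    have hlin : ∀ a : ↥O, ∃ r : ZMod q, ∀ i k : Fin 2,
        (Φ a).1 i 0 * (Φ β).1 0 k + (Φ a).1 i 1 * (Φ β).1 1 k - (Φ a).1 i k =
        r * ((Φ β).1 i 0 * (Φ a).1 0 k + (Φ β).1 i 1 * (Φ a).1 1 k - (Φ a).1 i k) := by
      intro a
      obtain ⟨p, r, a1, a2, a3, a4⟩ := commutant hns (hbc _ ⟨a, rfl⟩)
      have ht : tr (Φ a * Φ β * (Φ a)⁻¹) = 2 := by rw [tr_conj, hbt]
      rw [tr, a1, a4] at ht
      rw [tr] at hbt
      have hp : p = 1 - r := by
        refine mul_left_cancel₀ h2 ?_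
        linear_combination ht - r * hbt
      obtain ⟨K, hK⟩ : ∃ K, K = Φ a * Φ β * (Φ a)⁻¹ := ⟨_, rfl⟩
      rw [← hK] at a1 a2 a3 a4
      have he : ∀ i k : Fin 2, (Φ a * Φ β).1 i k = (K * Φ a).1 i k := fun i k => by rw [hK, inv_mul_cancel_right]
      refine ⟨r, fun i k => ?_⟩
      have e := he i k
      simp only [mul_entry] at e
      fin_cases i <;> fin_cases k <;>
        simp only [Fin.zero_eta, Fin.mk_one, Fin.isValue, a1, a2, a3, a4, hp] at e ⊢ <;> linear_combination e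
    have hbne : ¬ ((Φ β).1 0 1 = 0 ∧ (Φ β).1 1 0 = 0) := fun h => hns ⟨h.1, h.2, by rw [b00, b11]⟩
    obtain ⟨m, hm, hmd⟩ := s.moved
    rcases hzero with h01 | h10
    · -- the line of `x`
      have hγ : (Φ β).1 1 0 ≠ 0 := fun h => hbne ⟨h01, h⟩
      have hlow : ∀ a : ↥O, (Φ a).1 0 1 = 0 := fun a => by
        obtain ⟨r, hr⟩ := hlin a
        have h := hr 0 0
        rw [h01, b00] at h
        refine (mul_eq_zero.1 (show (Φ a).1 0 1 * (Φ β).1 1 0 = 0 from ?_)).resolve_right hγ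
        linear_combination h
      obtain ⟨R, hR⟩ : ∃ R : Subgroup G, ∀ g, g ∈ R ↔ ∃ h : g ∈ O, (Φ ⟨g, h⟩).1 0 0 = 1 := by
        refine ⟨{ carrier := {g | ∃ h : g ∈ O, (Φ ⟨g, h⟩).1 0 0 = 1}
                  one_mem' := ⟨O.one_mem, ?_⟩
                  mul_mem' := ?_
                  inv_mem' := ?_ }, fun g => Iff.rfl⟩
        · rintro g g' ⟨hg, e⟩ ⟨hg', e'⟩
          refine ⟨O.mul_mem hg hg', ?_⟩
          rw [show (⟨g * g', O.mul_mem hg hg'⟩ : ↥O) = ⟨g, hg⟩ * ⟨g', hg'⟩ from rfl, map_mul, mul_entry, e, e',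
            hlow ⟨g, hg⟩]
          ring
        · rw [show (⟨1, O.one_mem⟩ : ↥O) = 1 from rfl, map_one, hone.1]
        · rintro g ⟨hg, e⟩
          refine ⟨O.inv_mem hg, ?_⟩
          rw [show (⟨g⁻¹, O.inv_mem hg⟩ : ↥O) = ⟨g, hg⟩⁻¹ from rfl, map_inv, (inv_entries _).1]
          have := det_eq (Φ ⟨g, hg⟩)
          rw [e, hlow ⟨g, hg⟩] at this
          linear_combination this
      have hdiag : ∀ a b : ↥O, (Φ (a * b)).1 0 0 = (Φ a).1 0 0 * (Φ b).1 0 0 := fun a b => by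
        rw [map_mul, mul_entry, hlow a]; ring
      have hRn : Cz ≤ Subgroup.normalizer (R : Set G) := fun g hg => mem_norm_of_conj fun y hy => by
        obtain ⟨hyO, ey⟩ := (hR y).1 hy
        obtain ⟨o, ho, p, hp, rfl⟩ := c.hyp.decomp hg
        have hpy : p * y * p⁻¹ ∈ O :=
          (Subgroup.mem_normalizer_iff.1 (c.hyp.mc.core_norm (c.hyp.P_le hp)) y).1 hyO
        have hp00 : (Φ ⟨p * y * p⁻¹, hpy⟩).1 0 0 = 1 := by
          have ht : ∀ {w : G}, w ∈ O → t * w * t⁻¹ = w := fun {w} hw => by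
            rw [← (c.hyp.mc.core_commute hw).eq, mul_inv_cancel_right]
          rcases c.hyp.mem_cases hp with h | h | h | h
          · simp only [h, one_mul, inv_one, mul_one]; exact ey
          · simp only [h, ht hyO]; exact ey
          · exact ((A.refl ⟨y, hyO⟩ ⟨_, hpy⟩ (by simp [h])).1).trans ey
          · refine ((A.refl ⟨y, hyO⟩ ⟨_, hpy⟩ ?_).1).trans ey
            show p * y * p⁻¹ = u * y * u⁻¹
            rw [h, show t * u * y * (t * u)⁻¹ = t * (u * y * u⁻¹) * t⁻¹ by group, ht (c.conj_u_mem hyO)]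
        refine (hR _).2 ⟨?_, ?_⟩
        · rw [show o * p * y * (o * p)⁻¹ = o * (p * y * p⁻¹) * o⁻¹ by group]
          exact O.mul_mem (O.mul_mem ho hpy) (O.inv_mem ho)
        · have he : ∀ h, (⟨o * p * y * (o * p)⁻¹, h⟩ : ↥O) = ⟨o, ho⟩ * ⟨_, hpy⟩ * ⟨o, ho⟩⁻¹ := fun _ =>
            Subtype.ext (by simp only [Subgroup.coe_mul, Subgroup.coe_inv]; group)
          rw [he, hdiag, hdiag, hp00, map_inv, (inv_entries _).1]
          have := det_eq (Φ ⟨o, ho⟩)
          rw [hlow ⟨o, ho⟩] at this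
          linear_combination this
      have hall : ∀ a : ↥O, (Φ a).1 0 0 = 1 := by
        have hle := c.core_le_of_comm (R := R) (fun g hg => ((hR g).1 hg).1) hRn fun g hg =>
          (hR _).2 ⟨O.mul_mem (O.inv_mem hg) (c.conj_u_mem hg), by
            rw [show (⟨g⁻¹ * (u * g * u⁻¹), O.mul_mem (O.inv_mem hg) (c.conj_u_mem hg)⟩ : ↥O) =
              ⟨g, hg⟩⁻¹ * ⟨_, c.conj_u_mem hg⟩ from rfl, hdiag, map_inv, (inv_entries _).1,
              (A.refl ⟨g, hg⟩ ⟨_, c.conj_u_mem hg⟩ rfl).1]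
            have := det_eq (Φ ⟨g, hg⟩)
            rw [hlow ⟨g, hg⟩] at this
            linear_combination this⟩
        exact fun a => ((hR _).1 (hle a.2)).2
      -- then `O` is nilpotent
      have hpowq : ∀ a : ↥O, Φ (a ^ q) = 1 := fun a => by
        rw [map_pow]
        refine pow_eq_one_of_tr q ?_
        have := det_eq (Φ a)
        rw [hall a, hlow a] at this
        rw [tr, hall a]
        linear_combination this
      have hkey : ∀ a : ↥O, ∀ b : ↥O, Commute ((a ^ q) ^ Nat.card ↥(Fq)) b := by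
        intro a b
        refine Subtype.ext ?_
        show (((a ^ q) ^ Nat.card ↥(Fq) : ↥O) : G) * b = b * (((a ^ q) ^ Nat.card ↥(Fq) : ↥O) : G)
        obtain ⟨m, hm⟩ : ∃ m, m = (((a ^ q) ^ Nat.card ↥(Fq) : ↥O) : G) := ⟨_, rfl⟩
        obtain ⟨v, hv⟩ : ∃ v, v = ((a ^ q : ↥O) : G) := ⟨_, rfl⟩
        have hvf : InFit t v := hv ▸ (hfit _).1 (hpowq a)
        have hvO : v ∈ O := hv ▸ (a ^ q).2
        have hmv : m = v ^ Nat.card ↥(Fq) := by rw [hm, hv]; rfl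
        rw [← hm]
        refine Subgroup.mem_centralizer_singleton_iff.1 (mem_of_primary (K := Subgroup.centralizer {(b : G)})
          fun y hy p k hp ho => Subgroup.mem_centralizer_singleton_iff.2 ?_)
        have hyv : y ∈ Subgroup.zpowers v :=
          Subgroup.zpowers_le.2 (hmv ▸ Subgroup.pow_mem _ (Subgroup.mem_zpowers v) _) hy
        obtain ⟨-, hyp, hy2⟩ := c.primary hvO hvf hyv hp ho
        rcases hy2 with rfl | hp2
        · rw [one_mul, mul_one]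
        by_cases hpq : p = q
        · subst hpq
          -- the `q`-part vanishes
          obtain ⟨n, hn⟩ := IsPGroup.iff_card.1 (fq_isPGroup p Cz)
          obtain ⟨e, m', hm', hem⟩ := Nat.exists_eq_pow_mul_and_not_dvd (orderOf_pos v).ne' p c.prime.one_lt.ne'
          have hwq : orderOf (v ^ m') = p ^ e := by
            rw [orderOf_pow_of_dvd (by rintro rfl; simp at hm') (hem ▸ dvd_mul_left _ _), hem,
              Nat.mul_div_cancel _ (Nat.pos_of_ne_zero (by rintro rfl; simp at hm'))]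
          obtain ⟨-, hwF, -⟩ := c.primary hvO hvf (Subgroup.pow_mem _ (Subgroup.mem_zpowers v) m') c.prime hwq
          have hle : p ^ e ∣ p ^ n := by
            rw [← hn, ← hwq]; exact Subgroup.orderOf_dvd_natCard _ hwF
          have hk : orderOf y ∣ m' := by
            refine (orderOf_dvd_of_mem_zpowers hy).trans ?_
            rw [hmv, hn]
            refine orderOf_dvd_of_pow_eq_one ?_
            rw [← pow_mul]
            exact orderOf_dvd_iff_pow_eq_one.1 (hem ▸ mul_dvd_mul_right hle m')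
          rw [ho] at hk
          have hk0 : k = 0 := by
            by_contra hk0
            exact hm' ((dvd_pow_self p hk0).trans hk)
          rw [hk0, pow_zero, orderOf_eq_one_iff] at ho
          rw [ho, one_mul, mul_one]
        · exact (c.core_other hp hp2 hpq hyp b.2).symm.eq
      obtain ⟨n, hn⟩ := IsPGroup.iff_card.1 (fq_isPGroup q Cz)
      have hpg : IsPGroup q (↥O ⧸ Subgroup.center ↥O) := fun g => by
        obtain ⟨a, rfl⟩ := QuotientGroup.mk_surjective g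
        refine ⟨n + 1, ?_⟩
        rw [← QuotientGroup.mk_pow, QuotientGroup.eq_one_iff, pow_succ', pow_mul, ← hn]
        exact Subgroup.mem_center_iff.2 fun b => (hkey a b).eq.symm
      haveI : Group.IsNilpotent (↥O ⧸ Subgroup.center ↥O) := hpg.isNilpotent
      haveI hnil : Group.IsNilpotent ↥O := Group.of_quotient_center_nilpotent inferInstance
      haveI : (O.subgroupOf Cz).Normal :=
        (Subgroup.normal_subgroupOf_iff_le_normalizer c.hyp.mc.core_le).2 c.hyp.mc.core_norm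
      have hle := Solv.normal_le_fitting (N := O.subgroupOf Cz) (Group.nilpotent_of_mulEquiv
        (Subgroup.subgroupOfEquivOfLe c.hyp.mc.core_le).symm)
      have h1 := (hfit ⟨m, hm⟩).2 ⟨c.hyp.mc.core_le hm, hle hm⟩
      exact hmd ((A.line ⟨m, hm⟩).1 (by rw [h1]; exact hone.2.2.1))
    · -- the line of `d`
      have hβn : (Φ β).1 0 1 ≠ 0 := fun h => hbne ⟨h, h10⟩
      obtain ⟨r, hr⟩ := hlin ⟨m, hm⟩
      have h := hr 1 1
      rw [h10, b11] at h
      refine hmd ((A.line ⟨m, hm⟩).1 ((mul_eq_zero.1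
        (show (Φ ⟨m, hm⟩).1 1 0 * (Φ β).1 0 1 = 0 from ?_)).resolve_right hβn))
      linear_combination h
  obtain ⟨hcomm, hsemi⟩ := (Mat2.dichotomy h2 Φ.range hodd hsol).resolve_right hnoline
  have hcomm' : ∀ a b : ↥O, Φ a * Φ b = Φ b * Φ a := fun a b => hcomm _ ⟨a, rfl⟩ _ ⟨b, rfl⟩
  have hsemi' : ∀ a : ↥O, tr (Φ a) ^ 2 = 4 → Φ a = 1 := fun a => hsemi _ ⟨a, rfl⟩
  have hinv : ∀ a b : ↥O, (b : G) = u * a * u⁻¹ → Φ b = (Φ a)⁻¹ := by
    intro a b hb
    refine eq_inv_of_mul_eq_one_left ?_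
    rw [← map_mul]
    obtain ⟨hc', hcdef⟩ : ∃ y : ↥O, (y : G) = u * ((b * a : ↥O) : G) * u⁻¹ := ⟨⟨_, c.conj_u_mem (b * a).2⟩, rfl⟩
    have hui : u⁻¹ = u := inv_eq_of_mul_eq_one_right c.hyp.uu
    have he : hc' = a * b := Subtype.ext (by
      rw [hcdef, Subgroup.coe_mul, Subgroup.coe_mul, hb,
        show u * (u * (a : G) * u⁻¹ * a) * u⁻¹ = (u * u) * a * (u⁻¹ * a * u⁻¹) by group, c.hyp.uu, hui]
      group)
    obtain ⟨-, r01, r10, -⟩ := A.refl (b * a) hc' hcdef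
    rw [he, map_mul, hcomm', ← map_mul] at r01 r10
    refine A.diag s c.hyp.mc.core_odd hcomm' ?_ ?_
    · refine (mul_eq_zero.1 (show (2 : ZMod q) * _ = 0 from ?_)).resolve_left h2
      linear_combination r01
    · refine (mul_eq_zero.1 (show (2 : ZMod q) * _ = 0 from ?_)).resolve_left h2
      linear_combination r10
  have hK : ∀ a ∈ O, Commute a u → a ∈ Subgroup.zpowers d := by
    intro a ha hau
    obtain ⟨r00, r01, r10, r11⟩ := A.refl ⟨a, ha⟩ ⟨a, ha⟩ (by rw [← hau.eq, mul_inv_cancel_right])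
    have h1 : Φ ⟨a, ha⟩ = 1 := by
      refine A.diag s c.hyp.mc.core_odd hcomm' ?_ ?_
      · refine (mul_eq_zero.1 (show (2 : ZMod q) * _ = 0 from ?_)).resolve_left h2
        linear_combination r01
      · refine (mul_eq_zero.1 (show (2 : ZMod q) * _ = 0 from ?_)).resolve_left h2
        linear_combination r10
    refine mem_of_primary fun y hy p k hp ho => ?_
    obtain ⟨hyO, hyp, hy2⟩ := c.primary ha ((hfit _).1 h1) hy hp ho
    rcases hy2 with rfl | hp2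
    · exact one_mem _
    have hyu : Commute y u := by
      obtain ⟨i, rfl⟩ := Subgroup.mem_zpowers_iff.1 hy
      exact hau.zpow_left i
    by_cases hpq : p = q
    · exact s.fixed y (hpq ▸ hyp) hyu
    · rw [c.torus_fix (c.other hp hp2 hpq hyp) hyu]
      exact one_mem _
  obtain ⟨m, hm, hmd⟩ := s.moved
  have hm1 : Φ ⟨m, hm⟩ ≠ 1 := fun h => hmd ((A.line ⟨m, hm⟩).1 (by rw [h]; exact hone.2.2.1))
  have hcard1 : Nat.card Φ.range ≠ 1 := fun h => hm1 (Subgroup.mem_bot.1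
    ((Subgroup.card_eq_one.1 h).le ⟨⟨m, hm⟩, rfl⟩))
  refine ⟨hcomm', hsemi', hinv, hfit, hK, ?_, ?_⟩
  · obtain ⟨j, hj⟩ := hodd
    omega
  -- inside a torus
  have hshape : ∀ a : ↥O, (Φ a).1 0 0 = (Φ a).1 1 1 := fun a => by
    have e := hinv a ⟨_, c.conj_u_mem a.2⟩ rfl
    rw [← (A.refl a ⟨_, c.conj_u_mem a.2⟩ rfl).1, e]
    exact (inv_entries (Φ a)).1
  have hns := Mat2.not_isScalar (hord ⟨m, hm⟩) hm1
  obtain ⟨β, γ, hβ, hγ, hb0⟩ : ∃ β γ, (Φ ⟨m, hm⟩).1 0 1 = β ∧ (Φ ⟨m, hm⟩).1 1 0 = γ ∧ β ≠ 0 := by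
    refine ⟨_, _, rfl, rfl, fun h0 => hm1 (hsemi' _ ?_)⟩
    have hd' := det_eq (Φ ⟨m, hm⟩)
    rw [h0, ← hshape] at hd'
    rw [tr, ← hshape]
    linear_combination 4 * hd'
  have hg0 : γ ≠ 0 := fun h0 => hmd ((A.line ⟨m, hm⟩).1 (hγ.trans h0))
  obtain ⟨c0, hc0⟩ : ∃ c0, c0 = γ / β := ⟨_, rfl⟩
  have hle : Φ.range ≤ Mat2.torus c0 := by
    rintro _ ⟨a, rfl⟩
    refine Mat2.mem_torus.2 ⟨hshape a, ?_⟩
    obtain ⟨p, r, -, e01, e10, -⟩ := commutant hns (hcomm' a ⟨m, hm⟩)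
    rw [e01, e10, hβ, hγ, hc0]
    field_simp
  have hT := Mat2.card_torus h2 (c := c0) (by rw [hc0]; exact div_ne_zero hg0 hb0)
  rw [Nat.card_zmod] at hT
  have hl : Nat.card Φ.range ∣ Nat.card (Mat2.torus c0) := Subgroup.card_dvd_of_le hle
  have heven : 2 ∣ Nat.card (Mat2.torus c0) := by
    obtain ⟨j, hj⟩ := c.prime.odd_of_ne_two c.odd
    omega
  have h2l := Nat.Coprime.mul_dvd_of_dvd_of_dvd hodd.coprime_two_left heven hl
  rcases hT with h | h
  · exact Or.inr (h ▸ h2l)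
  · exact Or.inl (show q - 1 = Nat.card (Mat2.torus c0) by omega ▸ h2l)

end Cfsg.Agent.GW
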