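import Cfsg.Agent.Lib.GW.RotationBase
import Cfsg.Agent.Lib.GW.FourLinear
import Cfsg.Agent.Lib.Char.UniqueDivDegree

/-!
# The rotation case: `O ∩ N = T ⋊ K`, the linear characters, the shape of `O_q(C(t))`

`C_O(u)` is centralised by the rotation, so no nontrivial linear character of it is trivial on `[O, u]`; hence `O`
centralises the abelian normal subgroups inverted by `u`.  So `A = O_q(C) ∩ N = R × D` is abelian of index `q` in
`O_q(C)`, `D` is cyclic of order at most `|R|`, and `R ≥ Z(O_q(C))`.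
-/

set_option autoImplicit false
set_option linter.unusedSectionVars false
set_option linter.style.haveILetI false

namespace Cfsg.Agent.GW

open Cfsg Cfsg.Agent
open scoped commutatorElement

universe w

variable {G : Type w} [Group G] [Finite G]

theorem exists_sqrt {τ : G} (h : Odd (orderOf τ)) : ∃ σ ∈ Subgroup.zpowers τ, σ * σ = τ := by
  obtain ⟨k, hk⟩ := h
  refine ⟨τ ^ (k + 1), pow_mem (Subgroup.mem_zpowers τ) _, ?_⟩
  rw [← pow_add, show k + 1 + (k + 1) = orderOf τ + 1 by omega, pow_succ, pow_orderOf_eq_one, one_mul]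

/-- a perfect subgroup of `N` lies in the layer once `N/lay N` is covered by a solvable subgroup modulo the layer -/
theorem perfect_le_lay {N H : Subgroup G} (hsol : Group.IsSolvable ↥(layCent N))
    (hcomm : ∀ a ∈ N, ∀ b ∈ N, ⁅a, b⁆ ∈ lay N ⊔ layCent N) (hHN : H ≤ N) (hperf : ⁅H, H⁆ = H) : H ≤ lay N := by
  haveI : (Cfsg.layer ↥N).Normal := Local.layer_normal
  let π := QuotientGroup.mk' (Cfsg.layer ↥N)
  obtain ⟨H', hH'⟩ : ∃ H', H' = (H.subgroupOf N).map π := ⟨_, rfl⟩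
  have hp : ⁅H', H'⁆ = H' := by
    rw [hH', ← Subgroup.map_commutator]
    congr 1
    refine Subgroup.map_injective N.subtype_injective ?_
    rw [Subgroup.map_commutator, Subgroup.map_subgroupOf_eq_of_le hHN, hperf]
  have hle : H' ≤ ((layCent N).subgroupOf N).map π := by
    rw [hH']
    rintro _ ⟨x, hx, rfl⟩
    have hx' : (x : G) ∈ lay N ⊔ layCent N := by
      have hx2 : (x : G) ∈ ⁅H, H⁆ := hperf.ge hx
      exact Subgroup.commutator_le.2 (fun a ha b hb => hcomm a (hHN ha) b (hHN hb)) hx2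
    rw [← SetLike.mem_coe, Subgroup.coe_mul_of_left_le_normalizer_right _ _ (lay_le_normalizer_cent N)] at hx'
    obtain ⟨l, hl, m, hm, e⟩ := hx'
    obtain ⟨l', hl', rfl⟩ := hl
    refine ⟨⟨m, hm.1⟩, hm, ?_⟩
    rw [show x = l' * ⟨m, hm.1⟩ from Subtype.ext e.symm, map_mul,
      show π l' = 1 from (QuotientGroup.eq_one_iff l').2 hl', one_mul]
  haveI : Group.IsSolvable ↥(N ⊓ Subgroup.centralizer ((lay N : Subgroup G) : Set G)) := hsol
  haveI : Group.IsSolvable ↥((layCent N).subgroupOf N) :=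
    Group.isSolvable_of_isSolvable_injective
      (f := (Subgroup.subgroupOfEquivOfLe (inf_le_left : layCent N ≤ N)).toMonoidHom)
      (Subgroup.subgroupOfEquivOfLe (inf_le_left : layCent N ≤ N)).injective
  haveI : Group.IsSolvable ↥(((layCent N).subgroupOf N).map π) :=
    Group.isSolvable_of_surjective (f := π.subgroupMap _) (π.subgroupMap_surjective _)
  haveI : Group.IsSolvable ↥H' :=
    Group.isSolvable_of_isSolvable_injective (f := Subgroup.inclusion hle) (Subgroup.inclusion_injective hle)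
  have hbot : H' = ⊥ := by
    by_contra hne
    haveI : Nontrivial ↥H' := (Subgroup.nontrivial_iff_ne_bot _).2 hne
    refine (Group.IsSolvable.commutator_lt_top_of_nontrivial ↥H').ne (Subgroup.map_injective H'.subtype_injective ?_)
    rw [Subgroup.map_subtype_commutator, hp, ← MonoidHom.range_eq_map, Subgroup.range_subtype]
  intro x hx
  have h1 : π ⟨x, hHN hx⟩ ∈ H' := hH' ▸ ⟨_, hx, rfl⟩
  rw [hbot, Subgroup.mem_bot] at h1
  exact ⟨_, (QuotientGroup.eq_one_iff _).1 h1, rfl⟩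

variable [IsSimpleGroup G] {t u : G} {O N : Subgroup G} {P : Sylow 2 G} {q : ℕ} {ρ : G}

set_option quotPrecheck false in
local notation "Cz" => Subgroup.centralizer ({t} : Set G)

set_option quotPrecheck false in
local notation "Fq" => fq q (Subgroup.centralizer ({t} : Set G))

theorem RotCfg.conj_u_mem (c : RotCfg t u O P q N ρ) {a : G} (ha : a ∈ O) : u * a * u⁻¹ ∈ O :=
  c.hyp.mc.core_conj c.hyp.tu ha

theorem RotCfg.torus_fix (c : RotCfg t u O P q N ρ) {x : G} (hx : x ∈ lay N ⊓ O) (hxu : Commute x u) : x = 1 :=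
  eq_one_of_inv_fix (c.hyp.mc.core_orderOf hx.2) (c.torus_inv u c.hyp.uP c.hyp.u_ne c.hyp.u_ne_t x hx) hxu.symm

/-- **the rotation centralises `C_O(u)`** -/
theorem RotCfg.rho_K (c : RotCfg t u O P q N ρ) {k : G} (hk : k ∈ O) (hku : Commute k u) : Commute ρ k := by
  obtain ⟨h1, h2⟩ := c.hyp.rho_K c.rho_t c.rho_u hk hku
  have hkN : k ∈ N := c.K_le ⟨hk, Subgroup.mem_centralizer_singleton_iff.2 hku.eq⟩
  have h0 : ρ * k * ρ⁻¹ * k⁻¹ ∈ lay N := by
    rw [show ρ * k * ρ⁻¹ * k⁻¹ = ρ * (k * ρ⁻¹ * k⁻¹) by group]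
    exact mul_mem c.rho_mem ((Subgroup.mem_normalizer_iff.1 (lay_norm N hkN) ρ⁻¹).1 (inv_mem c.rho_mem))
  have h3 := c.torus_fix ⟨h0, O.mul_mem h1 (O.inv_mem hk)⟩ (h2.mul_left hku.inv_left)
  exact mul_inv_eq_iff_eq_mul.1 (mul_inv_eq_one.1 h3)

/-- `O ∩ N = T K`, with the torus part in the group generated by `[a, u]` -/
theorem RotCfg.split (c : RotCfg t u O P q N ρ) {a : G} (ha : a ∈ O) (haN : a ∈ N) :
    ∃ σ ∈ Subgroup.zpowers (a * (u * a⁻¹ * u⁻¹)), σ ∈ lay N ⊓ O ∧ Commute (σ⁻¹ * a) u := by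
  obtain ⟨τ, hτ⟩ : ∃ τ, τ = a * (u * a⁻¹ * u⁻¹) := ⟨_, rfl⟩
  rw [← hτ]
  have hτT : τ ∈ lay N ⊓ O := by
    refine ⟨?_, hτ ▸ O.mul_mem ha (c.conj_u_mem (O.inv_mem ha))⟩
    rw [hτ, show a * (u * a⁻¹ * u⁻¹) = (a * u * a⁻¹) * u⁻¹ by group]
    exact (lay N).mul_mem ((Subgroup.mem_normalizer_iff.1 (lay_norm N haN) u).1 (c.P_lay c.hyp.uP))
      ((lay N).inv_mem (c.P_lay c.hyp.uP))
  obtain ⟨σ, hσ, hσσ⟩ := exists_sqrt (c.hyp.mc.core_orderOf hτT.2)
  have hσT : σ ∈ lay N ⊓ O := Subgroup.zpowers_le.2 hτT hσ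
  refine ⟨σ, hσ, hσT, ?_⟩
  have hi := c.torus_inv u c.hyp.uP c.hyp.u_ne c.hyp.u_ne_t σ hσT
  show σ⁻¹ * a * u = u * (σ⁻¹ * a)
  calc σ⁻¹ * a * u = σ⁻¹ * ((a * (u * a⁻¹ * u⁻¹)) * u) * a := by group
    _ = σ * u * a := by rw [← hτ, ← hσσ]; group
    _ = (u * σ * u⁻¹)⁻¹ * u * a := by rw [hi, inv_inv]
    _ = _ := by group

/-- the torus commutes with the fixed part of `O_q(C)` -/
theorem RotCfg.torus_D (c : RotCfg t u O P q N ρ) {x d : G} (hx : x ∈ lay N ⊓ O) (hd : d ∈ Fq)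
    (hdu : Commute d u) : Commute x d :=
  Subgroup.mem_centralizer_iff.1 (c.D_cent ⟨hd, Subgroup.mem_centralizer_singleton_iff.2 hdu.eq⟩) x hx.1

theorem RotCfg.mem_D (c : RotCfg t u O P q N ρ) {d : G} (hd : d ∈ Fq) (hdu : Commute d u) :
    Subgroup.zpowers d ≤ Fq ⊓ Subgroup.centralizer ({u} : Set G) :=
  Subgroup.zpowers_le.2 ⟨hd, Subgroup.mem_centralizer_singleton_iff.2 hdu.eq⟩

/-- centralisers of nontrivial elements of `D` lie in `N` -/
theorem RotCfg.cent_D (c : RotCfg t u O P q N ρ) {d g : G} (hd : d ∈ Fq) (hdu : Commute d u) (hd1 : d ≠ 1)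
    (hg : Commute g d) : g ∈ N := by
  refine c.norm_le _ (by simpa [Subgroup.zpowers_eq_bot] using hd1) (c.mem_D hd hdu)
    (Subgroup.centralizer_le_normalizer _ (Subgroup.mem_centralizer_iff.2 fun z hz => ?_))
  obtain ⟨i, rfl⟩ := Subgroup.mem_zpowers_iff.1 hz
  exact (hg.symm.zpow_left i).eq

/-- elements of `O_q(C) ∩ N` -/
theorem RotCfg.split_q (c : RotCfg t u O P q N ρ) {a : G} (ha : a ∈ Fq) (haN : a ∈ N) :
    ∃ σ ∈ Subgroup.zpowers (a * (u * a⁻¹ * u⁻¹)), σ ∈ lay N ⊓ O ∧ σ ∈ Fq ∧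
      (σ⁻¹ * a ∈ Fq) ∧ Commute (σ⁻¹ * a) u ∧ Commute σ (σ⁻¹ * a) := by
  obtain ⟨σ, hσ, hσT, hσu⟩ := c.split (c.hyp.mc.fq_odd_le_core c.prime c.odd ha) haN
  have hσF : σ ∈ Fq :=
    Subgroup.zpowers_le.2 ((Fq).mul_mem ha (conj_fq c.prime c.hyp.uC ((Fq).inv_mem ha))) hσ
  have hdF : σ⁻¹ * a ∈ Fq := (Fq).mul_mem ((Fq).inv_mem hσF) ha
  exact ⟨σ, hσ, hσT, hσF, hdF, hσu, c.torus_D hσT hdF hσu⟩

/-- `O_q(C)` is not inside `N` -/
theorem RotCfg.not_le (c : RotCfg t u O P q N ρ) : ¬ Fq ≤ N := by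
  intro hle
  haveI := Fact.mk c.prime
  obtain ⟨D, hD⟩ : ∃ D, D = Fq ⊓ Subgroup.centralizer ({u} : Set G) := ⟨_, rfl⟩
  haveI : Nontrivial ↥D := (Subgroup.nontrivial_iff_ne_bot _).2 (hD ▸ c.D_ne)
  haveI := ((fq_isPGroup q Cz).to_le (hD.le.trans inf_le_left)).center_nontrivial
  obtain ⟨z, hz⟩ := exists_ne (1 : Subgroup.center ↥D)
  have hzD : ((z : ↥D) : G) ∈ Fq ⊓ Subgroup.centralizer ({u} : Set G) := hD ▸ (z : ↥D).2
  refine hz (Subtype.ext (Subtype.ext (c.hyp.center q c.prime c.odd _ hzD.1 (fun x hx => ?_)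
    (Subgroup.mem_centralizer_singleton_iff.1 hzD.2))))
  obtain ⟨σ, -, hσT, -, hdF, hdu, -⟩ := c.split_q hx (hle hx)
  have h1 : Commute ((z : ↥D) : G) σ :=
    (c.torus_D hσT hzD.1 (Subgroup.mem_centralizer_singleton_iff.1 hzD.2)).symm
  have h2 : Commute ((z : ↥D) : G) (σ⁻¹ * x) := (congrArg Subtype.val (Subgroup.mem_center_iff.1 z.2
    ⟨σ⁻¹ * x, hD ▸ ⟨hdF, Subgroup.mem_centralizer_singleton_iff.2 hdu.eq⟩⟩)).symm
  have := h1.mul_right h2
  rwa [mul_inv_cancel_left] at this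

/-- **the centre of `O_q(C)` lies in the torus** -/
theorem RotCfg.center_torus (c : RotCfg t u O P q N ρ) {z : G} (hz : z ∈ Fq)
    (hzc : ∀ x ∈ Fq, Commute z x) : z ∈ lay N ⊓ O := by
  obtain ⟨d, hd, hd1⟩ : ∃ d ∈ Fq ⊓ Subgroup.centralizer ({u} : Set G), d ≠ 1 := by
    by_contra! h
    exact c.D_ne ((Subgroup.eq_bot_iff_forall _).2 h)
  have hzN : z ∈ N := c.cent_D hd.1 (Subgroup.mem_centralizer_singleton_iff.1 hd.2) hd1 (hzc d hd.1)
  obtain ⟨σ, hσ, hσT, hσF, hdF, hdu, -⟩ := c.split_q hz hzN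
  have hσc : ∀ x ∈ Fq, Commute σ x := fun x hx => by
    obtain ⟨i, rfl⟩ := Subgroup.mem_zpowers_iff.1 hσ
    refine Commute.zpow_left ((hzc x hx).mul_left ?_) i
    have h1 := (Commute.conj_iff u).2 ((hzc _ (conj_fq c.prime (inv_mem c.hyp.uC) hx)).inv_left)
    rwa [show u * (u⁻¹ * x * u⁻¹⁻¹) * u⁻¹ = x by group] at h1
  have h1 := c.hyp.center q c.prime c.odd _ hdF (fun x hx => (hσc x hx).inv_left.mul_left (hzc x hx)) hdu
  rwa [← inv_mul_eq_one.1 h1]

/-- **the other cores lie in the torus** -/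
theorem RotCfg.other (c : RotCfg t u O P q N ρ) {s : ℕ} (hs : s.Prime) (hs2 : s ≠ 2) (hsq : s ≠ q) {x : G}
    (hx : x ∈ fq s Cz) : x ∈ lay N ⊓ O := by
  haveI := Fact.mk hs
  obtain ⟨d, hd, hd1⟩ : ∃ d ∈ Fq ⊓ Subgroup.centralizer ({u} : Set G), d ≠ 1 := by
    by_contra! h
    exact c.D_ne ((Subgroup.eq_bot_iff_forall _).2 h)
  have hN : ∀ y ∈ fq s Cz, y ∈ N := fun y hy =>
    c.cent_D hd.1 (Subgroup.mem_centralizer_singleton_iff.1 hd.2) hd1 (commute_fq hs c.prime hsq hy hd.1)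
  obtain ⟨Ds, hDs⟩ : ∃ Ds, Ds = fq s Cz ⊓ Subgroup.centralizer ({u} : Set G) := ⟨_, rfl⟩
  have hsplit : ∀ y ∈ fq s Cz, ∃ σ ∈ lay N ⊓ O, σ⁻¹ * y ∈ Ds := fun y hy => by
    obtain ⟨σ, hσ, hσT, hσu⟩ := c.split (c.hyp.mc.fq_odd_le_core hs hs2 hy) (hN y hy)
    exact ⟨σ, hσT, hDs ▸ ⟨(fq s Cz).mul_mem ((fq s Cz).inv_mem (Subgroup.zpowers_le.2
      ((fq s Cz).mul_mem hy (conj_fq hs c.hyp.uC ((fq s Cz).inv_mem hy))) hσ)) hy,
      Subgroup.mem_centralizer_singleton_iff.2 hσu.eq⟩⟩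
  have hbot : Ds = ⊥ := by
    by_contra hne
    haveI : Nontrivial ↥Ds := (Subgroup.nontrivial_iff_ne_bot _).2 hne
    haveI := ((fq_isPGroup s Cz).to_le (hDs.le.trans inf_le_left)).center_nontrivial
    obtain ⟨z, hz⟩ := exists_ne (1 : Subgroup.center ↥Ds)
    have hzD : ((z : ↥Ds) : G) ∈ fq s Cz ⊓ Subgroup.centralizer ({u} : Set G) := hDs ▸ (z : ↥Ds).2
    have hzu : Commute ((z : ↥Ds) : G) u := Subgroup.mem_centralizer_singleton_iff.1 hzD.2
    refine hz (Subtype.ext (Subtype.ext (c.hyp.center s hs hs2 _ hzD.1 (fun y hy => ?_) hzu)))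
    obtain ⟨σ, hσT, hσy⟩ := hsplit y hy
    have h1 : Commute ((z : ↥Ds) : G) σ :=
      (Subgroup.mem_centralizer_iff.1 (c.fixed s hs hs2 _ hzD.1 (hN _ hzD.1) hzu) σ hσT.1).symm
    have h2 : Commute ((z : ↥Ds) : G) (σ⁻¹ * y) :=
      (congrArg Subtype.val (Subgroup.mem_center_iff.1 z.2 ⟨σ⁻¹ * y, hσy⟩)).symm
    have := h1.mul_right h2
    rwa [mul_inv_cancel_left] at this
  obtain ⟨σ, hσT, hσx⟩ := hsplit x hx
  rw [hbot, Subgroup.mem_bot, inv_mul_eq_one] at hσx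
  exact hσx ▸ hσT

/-- the fixed part is disjoint from its conjugates outside `N` -/
theorem RotCfg.ti (c : RotCfg t u O P q N ρ) {g x : G} (hx : x ∈ Fq) (hxu : Commute x u) (hx1 : x ≠ 1)
    (hgx : g * x * g⁻¹ ∈ Fq) (hgxu : Commute (g * x * g⁻¹) u) : g ∈ N := by
  have hLx : ∀ l ∈ lay N, Commute l x := fun l hl =>
    Subgroup.mem_centralizer_iff.1 (c.D_cent ⟨hx, Subgroup.mem_centralizer_singleton_iff.2 hxu.eq⟩) l hl
  have hmapN : (lay N).map (MulAut.conj g).toMonoidHom ≤ N := by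
    rintro _ ⟨l, hl, rfl⟩
    exact c.cent_D hgx hgxu (fun e => hx1 (conj_eq_one_iff.1 e)) ((Commute.conj_iff g).2 (hLx l hl))
  haveI hodd : Group.IsSolvable ↥(layCent N) := Solv.Partition.odd_solvable
    (c.hyp.mc.core_odd.of_dvd_nat (Subgroup.card_dvd_of_le (c.cent_le.trans inf_le_left)))
  have hle := perfect_le_lay hodd c.comm hmapN (by rw [← Subgroup.map_commutator, lay_perfect])
  rw [← normalizer_lay c.coatom fun e => c.hyp.mc.ne (Subgroup.mem_bot.1 (e ▸ c.P_lay c.hyp.tP))]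
  exact mem_norm_of_conj fun l hl => hle ⟨l, hl, rfl⟩

open scoped _root_.Classical in
/-- **`O` is generated by `[O, u]`** -/
theorem RotCfg.core_le_of_comm (c : RotCfg t u O P q N ρ) {R : Subgroup G} (hRO : R ≤ O)
    (hRn : Cz ≤ Subgroup.normalizer (R : Set G)) (hR : ∀ g ∈ O, g⁻¹ * (u * g * u⁻¹) ∈ R) : O ≤ R := by
  have h := c.hyp
  haveI : Fact (Nat.Prime 2) := ⟨Nat.prime_two⟩
  obtain ⟨W, hW⟩ : ∃ W, W = Subgroup.centralizer ((P : Subgroup G) : Set G) := ⟨_, rfl⟩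
  have hWC : W ≤ Cz := fun g hg => Subgroup.mem_centralizer_singleton_iff.2
    (Subgroup.mem_centralizer_iff.1 (hW ▸ hg) t h.tP).symm
  have hKW : ∀ {k : G}, k ∈ O → Commute k u → k ∈ W := fun {k} hk hku => hW ▸ Subgroup.mem_centralizer_iff.2
    fun x hx => by
      rcases h.mem_cases hx with rfl | rfl | rfl | rfl
      · rw [one_mul, mul_one]
      · exact (h.mc.core_commute hk).symm.eq
      · exact hku.symm.eq
      · exact ((h.mc.core_commute hk).mul_right hku).symm.eq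
  -- fixed elements in the cosets of `R`
  have hfix : ∀ g ∈ O, ∃ k ∈ O, Commute k u ∧ g⁻¹ * k ∈ R := by
    intro g hg
    have hu' : (Subgroup.zpowers u) ≤ Cz := Subgroup.zpowers_le.2 h.uC
    obtain ⟨k, hk, hkR⟩ := Solv.exists_fixed_in_coset' (Subgroup.zpowers u) O R (hu'.trans h.mc.core_norm)
      (h.mc.coprime_zpowers h.uu) (Or.inr h.mc.core_solvable) hRO (hu'.trans hRn) hg (fun a ha => by
        obtain ⟨i, rfl⟩ := Subgroup.mem_zpowers_iff.1 ha
        rcases Int.even_or_odd i with ⟨j, rfl⟩ | ⟨j, rfl⟩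
        · rw [zpow_add, ← (Commute.refl u).mul_zpow, h.uu, one_zpow]
          simpa using R.one_mem
        · rw [zpow_add, zpow_one, two_mul, zpow_add, ← (Commute.refl u).mul_zpow, h.uu, one_zpow, one_mul]
          exact hR g hg)
    exact ⟨k, hk.1, (Subgroup.mem_centralizer_iff.1 hk.2 u (Subgroup.mem_zpowers u)).symm, hkR⟩
  by_contra hle
  -- a quotient of `C(P)`
  obtain ⟨S, hS⟩ : ∃ S, S = ((P : Subgroup G) ⊔ (R ⊓ W)).subgroupOf W := ⟨_, rfl⟩
  have hPW : (P : Subgroup G) ≤ W := fun x hx => hW ▸ Subgroup.mem_centralizer_iff.2 fun y hy => (h.comm hy hx).eq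
  have hSle : (P : Subgroup G) ⊔ (R ⊓ W) ≤ W := sup_le hPW inf_le_right
  haveI hSn : S.Normal := by
    subst hS
    refine (Subgroup.normal_subgroupOf_iff_le_normalizer hSle).2 fun g hg => mem_norm_of_conj fun x hx => ?_
    have hmap : ((P : Subgroup G) ⊔ (R ⊓ W)).map (MulAut.conj g).toMonoidHom ≤ (P : Subgroup G) ⊔ (R ⊓ W) := by
      rw [Subgroup.map_sup, sup_le_iff]
      refine ⟨?_, ?_⟩
      · rintro _ ⟨y, hy, rfl⟩
        refine Subgroup.mem_sup_left ?_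
        show g * y * g⁻¹ ∈ (P : Subgroup G)
        rwa [← Subgroup.mem_centralizer_iff.1 (hW ▸ hg) y hy, mul_inv_cancel_right]
      · rintro _ ⟨y, hy, rfl⟩
        exact Subgroup.mem_sup_right ⟨(Subgroup.mem_normalizer_iff.1 (hRn (hWC hg)) y).1 hy.1,
          W.mul_mem (W.mul_mem hg hy.2) (W.inv_mem hg)⟩
    exact hmap ⟨x, hx, rfl⟩
  haveI : Group.IsSolvable ↥W := Solv.isSolvable_of_le hWC h.mc.solv
  have hne : S ≠ ⊤ := by
    intro htop
    refine hle fun g hg => ?_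
    obtain ⟨k, hk, hku, hgk⟩ := hfix g hg
    have h1 : (⟨k, hKW hk hku⟩ : ↥W) ∈ S := htop ▸ Subgroup.mem_top _
    rw [hS, Subgroup.mem_subgroupOf, ← SetLike.mem_coe,
      Subgroup.coe_mul_of_left_le_normalizer_right _ _ (le_trans (fun x hx => Subgroup.mem_inf.2
        ⟨hRn (h.P_le hx), Subgroup.le_normalizer (hPW hx)⟩) Subgroup.inf_normalizer_le_normalizer_inf)] at h1
    obtain ⟨p, hp, r, hr, e⟩ := h1
    have hp1 : p = 1 := by
      have hpO : p ∈ O := by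
        rw [show p = k * r⁻¹ from eq_mul_inv_of_mul_eq e]
        exact mul_mem hk (inv_mem (hRO hr.1))
      have hodd := h.mc.core_orderOf hpO
      rcases h.mem_cases hp with e' | e' | e' | e'
      · exact e'
      all_goals
        exfalso
        have h2 : orderOf p = 2 := orderOf_eq_prime (by rw [pow_two]; exact h.sq hp) ?_
        · rw [h2] at hodd; exact absurd hodd (by decide)
      · rw [e']; exact h.mc.ne
      · rw [e']; exact h.u_ne
      · rw [e']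
        exact fun e2 => h.u_ne_t (by rw [eq_inv_of_mul_eq_one_right e2, inv_eq_of_mul_eq_one_left h.mc.sq])
    have hkR : k ∈ R := by rw [← show p * r = k from e, hp1, one_mul]; exact hr.1
    rw [show g = k * (g⁻¹ * k)⁻¹ by group]
    exact R.mul_mem hkR (R.inv_mem hgk)
  haveI : Nontrivial (↥W ⧸ S) := QuotientGroup.nontrivial_iff.2 hne
  obtain ⟨w₀, hw₀⟩ : ∃ w₀ : ↥W ⧸ S, w₀ ∉ commutator (↥W ⧸ S) := by
    by_contra! hall
    exact (Group.IsSolvable.commutator_lt_top_of_nontrivial (↥W ⧸ S)).ne (eq_top_iff.2 fun x _ => hall x)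
  letI : Fintype (↥W ⧸ S) := Fintype.ofFinite _
  obtain ⟨l, hl⟩ := Char.exists_linear_ne_one hw₀
  subst hW
  obtain ⟨θ, hθ⟩ : ∃ θ : ↥(Subgroup.centralizer ((P : Subgroup G) : Set G)) →* ℂˣ,
      θ = l.comp (QuotientGroup.mk' S) := ⟨_, rfl⟩
  have hθS : ∀ w, w ∈ S → θ w = 1 := fun w hw => by
    rw [hθ, MonoidHom.comp_apply, QuotientGroup.mk'_apply, (QuotientGroup.eq_one_iff w).2 hw, map_one]
  have hθne : θ ≠ 1 := fun e => hl (by
    obtain ⟨w, rfl⟩ := QuotientGroup.mk'_surjective S w₀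
    rw [← MonoidHom.comp_apply, ← hθ, e]; rfl)
  have htriv : ∀ w : ↥(Subgroup.centralizer ((P : Subgroup G) : Set G)), (w : G) ∈ (P : Subgroup G) → θ w = 1 :=
    fun w hw => hθS w (hS ▸ Subgroup.mem_sup_left hw)
  -- invariance under the normaliser of `P`
  have hnorm : ∀ g ∈ Subgroup.normalizer ((P : Subgroup G) : Set G),
      ∀ w w' : ↥(Subgroup.centralizer ((P : Subgroup G) : Set G)), (w' : G) = g * w * g⁻¹ → θ w' = θ w := by
    intro g hg w w' e
    -- `g` is a power of the rotation times an element of `C(P)`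
    have hfixt : ∀ g' ∈ Subgroup.normalizer ((P : Subgroup G) : Set G), Commute g' t →
        g' ∈ Subgroup.centralizer ((P : Subgroup G) : Set G) := by
      intro g' hg' hg't
      obtain ⟨a, ha, p, hp, rfl⟩ := h.decomp (Subgroup.mem_centralizer_singleton_iff.2 hg't.eq)
      refine (Subgroup.centralizer _).mul_mem (hKW ha ?_) (hPW hp)
      have haP : a * u * a⁻¹ ∈ (P : Subgroup G) := by
        have := (Subgroup.mem_normalizer_iff.1 hg' u).1 h.uP
        rwa [show a * p * u * (a * p)⁻¹ = a * (p * u * p⁻¹) * a⁻¹ by group, (h.comm hp h.uP).eq,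
          mul_inv_cancel_right] at this
      have h1 : a * u * a⁻¹ * u⁻¹ ∈ O := by
        rw [show a * u * a⁻¹ * u⁻¹ = a * (u * a⁻¹ * u⁻¹) by group]
        exact mul_mem ha (c.conj_u_mem (inv_mem ha))
      have h2 : a * u * a⁻¹ * u⁻¹ ∈ (P : Subgroup G) := mul_mem haP (inv_mem h.uP)
      by_contra hne'
      have h3 : orderOf (a * u * a⁻¹ * u⁻¹) = 2 := orderOf_eq_prime (by rw [pow_two]; exact h.sq h2)
        (fun e1 => hne' (mul_inv_eq_iff_eq_mul.1 (mul_inv_eq_one.1 e1)))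
      have := h.mc.core_orderOf h1
      rw [h3] at this
      exact absurd this (by decide)
    have hρP : ρ ∈ Subgroup.normalizer ((P : Subgroup G) : Set G) := mem_norm_of_conj fun x hx => by
      obtain ⟨h1, -, -, -⟩ := rho_sq h.uu h.tu c.rho_t c.rho_u
      rcases h.mem_cases hx with rfl | rfl | rfl | rfl
      · simp
      · rw [c.rho_t]; exact h.uP
      · rw [c.rho_u]; exact mul_mem h.tP h.uP
      · rw [h1]; exact h.tP
    have hρw : ∀ v v' : ↥(Subgroup.centralizer ((P : Subgroup G) : Set G)),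
        (v' : G) = ρ * v * ρ⁻¹ → θ v' = θ v := by
      intro v v' e'
      obtain ⟨a, ha, p, hp, hv⟩ := h.decomp (hWC v.2)
      have hau : Commute a u := by
        have hav : a ∈ Subgroup.centralizer ((P : Subgroup G) : Set G) := by
          rw [show a = (v : G) * p⁻¹ by rw [hv, mul_inv_cancel_right]]
          exact mul_mem v.2 (inv_mem (hPW hp))
        exact (Subgroup.mem_centralizer_iff.1 hav u h.uP).symm
      have hp' : ρ * p * ρ⁻¹ ∈ (P : Subgroup G) := (Subgroup.mem_normalizer_iff.1 hρP p).1 hp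
      have ev : v = ⟨a, hKW ha hau⟩ * ⟨p, hPW hp⟩ := Subtype.ext hv
      have ev' : v' = ⟨a, hKW ha hau⟩ * ⟨ρ * p * ρ⁻¹, hPW hp'⟩ := Subtype.ext (by
        rw [e', hv, Subgroup.coe_mul]
        show ρ * (a * p) * ρ⁻¹ = a * (ρ * p * ρ⁻¹)
        rw [← mul_assoc ρ, (c.rho_K ha hau).eq]; group)
      rw [ev, ev', map_mul, map_mul, htriv ⟨p, hPW hp⟩ hp, htriv ⟨ρ * p * ρ⁻¹, hPW hp'⟩ hp']
    have hgoal : ∀ n : ℕ, ∀ v v' : ↥(Subgroup.centralizer ((P : Subgroup G) : Set G)),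
        (v' : G) = ρ ^ n * v * (ρ ^ n)⁻¹ → θ v' = θ v := by
      intro n
      induction n with
      | zero => exact fun v v' e' => by rw [show v' = v from Subtype.ext (by simpa using e')]
      | succ n ih =>
        intro v v' e'
        have hm : ρ ^ n * (v : G) * (ρ ^ n)⁻¹ ∈ Subgroup.centralizer ((P : Subgroup G) : Set G) :=
          Char.conj_mem_centralizer (pow_mem hρP n) v.2
        exact (hρw ⟨_, hm⟩ v' (by rw [e', pow_succ']; group)).trans (ih v ⟨_, hm⟩ rfl)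
    obtain ⟨n, hn⟩ : ∃ n : ℕ, Commute ((ρ ^ n)⁻¹ * g) t := by
      obtain ⟨r1, r2, -, -⟩ := rho_sq h.uu h.tu c.rho_t c.rho_u
      have hgt := (Subgroup.mem_normalizer_iff.1 hg t).1 h.tP
      have key : ∀ n : ℕ, ρ ^ n * t * (ρ ^ n)⁻¹ = g * t * g⁻¹ → Commute ((ρ ^ n)⁻¹ * g) t := fun n hn => by
        show (ρ ^ n)⁻¹ * g * t = t * ((ρ ^ n)⁻¹ * g)
        calc (ρ ^ n)⁻¹ * g * t = (ρ ^ n)⁻¹ * (g * t * g⁻¹) * g := by group
          _ = _ := by rw [← hn]; group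
      rcases h.mem_cases hgt with e' | e' | e' | e'
      · exact absurd (conj_eq_one_iff.1 e') h.mc.ne
      · exact ⟨0, key 0 (by simp [e'])⟩
      · exact ⟨1, key 1 (by rw [pow_one, c.rho_t, e'])⟩
      · exact ⟨2, key 2 (by rw [pow_two, r2, e'])⟩
    have hc := hfixt _ (mul_mem (inv_mem (pow_mem hρP n)) hg) hn
    have hm : ((ρ ^ n)⁻¹ * g) * (w : G) * ((ρ ^ n)⁻¹ * g)⁻¹ ∈ Subgroup.centralizer ((P : Subgroup G) : Set G) :=
      mul_mem (mul_mem hc w.2) (inv_mem hc)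
    rw [hgoal n ⟨_, hm⟩ w' (by rw [e]; group),
      show (⟨_, hm⟩ : ↥(Subgroup.centralizer ((P : Subgroup G) : Set G))) = ⟨_, hc⟩ * w * ⟨_, hc⟩⁻¹ from rfl,
      map_mul, map_mul, map_inv, mul_comm (θ _) (θ w), mul_inv_cancel_right]
  -- the extension
  obtain ⟨L, hL, -⟩ := exists_ext_of_sup Cz (Subgroup.centralizer ((P : Subgroup G) : Set G)) R hWC
    (hRO.trans h.mc.core_le) (fun g hg r hr => (Subgroup.mem_normalizer_iff.1 (hRn (hWC hg)) r).1 hr)
    (fun g hg => by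
      obtain ⟨a, ha, p, hp, rfl⟩ := h.decomp hg
      obtain ⟨k, hk, hku, hak⟩ := hfix a ha
      refine ⟨a * k⁻¹, ?_, k * p, (Subgroup.centralizer _).mul_mem (hKW hk hku) (hPW hp), by group⟩
      have := (Subgroup.mem_normalizer_iff.1 (hRn (hWC (hKW hk hku))) ((a⁻¹ * k)⁻¹)).1 (R.inv_mem hak)
      rwa [show k * (a⁻¹ * k)⁻¹ * k⁻¹ = a * k⁻¹ by group] at this)
    θ (fun w hw => hθS w (hS ▸ Subgroup.mem_sup_right ⟨hw, w.2⟩))
  exact four_linear_false_simple P h.card h.exp h.one h.tP h.mc.ne θ hθne htriv fun g hg =>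
    ⟨L, fun x w w' hxw hw' => (hL x w hxw).trans (hnorm g hg w w' hw').symm⟩

/-- **`O` centralises the abelian normal subgroups inverted by `u`** -/
theorem RotCfg.inverted_central (c : RotCfg t u O P q N ρ) {B : Subgroup G}
    (hBn : Cz ≤ Subgroup.normalizer (B : Set G)) (hBi : ∀ b ∈ B, u * b * u⁻¹ = b⁻¹) {g b : G} (hg : g ∈ O)
    (hb : b ∈ B) : Commute g b := by
  have hle := c.core_le_of_comm (R := O ⊓ Subgroup.centralizer (B : Set G)) inf_le_left
    (le_trans (le_inf c.hyp.mc.core_norm (hBn.trans (normalizer_le_norm_cent _)))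
      Subgroup.inf_normalizer_le_normalizer_inf) (fun g hg => ?_)
  · exact (Subgroup.mem_centralizer_iff.1 (hle hg).2 b hb).symm
  refine ⟨O.mul_mem (O.inv_mem hg) (c.conj_u_mem hg), Subgroup.mem_centralizer_iff.2 fun b hb => ?_⟩
  have hgb : ∀ b ∈ B, g * b * g⁻¹ ∈ B := fun b hb =>
    (Subgroup.mem_normalizer_iff.1 (hBn (c.hyp.mc.core_le hg)) b).1 hb
  have hub : u⁻¹ * b * u = b⁻¹ := by
    have h1 : u * b⁻¹ * u⁻¹ = b := by rw [← conj_inv, hBi b hb, inv_inv]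
    calc u⁻¹ * b * u = u⁻¹ * (u * b⁻¹ * u⁻¹) * u := by rw [h1]
      _ = _ := by group
  have h2 : (u * g * u⁻¹) * b * (u * g * u⁻¹)⁻¹ = g * b * g⁻¹ := by
    calc (u * g * u⁻¹) * b * (u * g * u⁻¹)⁻¹ = u * (g * (u⁻¹ * b * u) * g⁻¹) * u⁻¹ := by group
      _ = (g * b⁻¹ * g⁻¹)⁻¹ := by rw [hub, hBi _ (hgb _ (B.inv_mem hb))]
      _ = _ := by group
  calc b * (g⁻¹ * (u * g * u⁻¹)) = g⁻¹ * (g * b * g⁻¹) * (u * g * u⁻¹) := by group
    _ = g⁻¹ * ((u * g * u⁻¹) * b * (u * g * u⁻¹)⁻¹) * (u * g * u⁻¹) := by rw [h2]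
    _ = _ := by group

end Cfsg.Agent.GW
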