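import Cfsg.Agent.Lib.GW.RotationShape

/-!
# The rotation case: `A = O_q(C) ∩ N` is abelian of index `q`

An element `d` of order `q` of `C(u)` lies in the second centre of `F = O_q(C)`; so `g ↦ [g, d]` maps `F` onto the
elements of order dividing `q` of the torus, with kernel `A`.  Hence `D = F ∩ C(u)` is abelian, meets no conjugate
`D^g`, `g ∈ F ∖ A`, and is cyclic.
-/

set_option autoImplicit false
set_option linter.unusedSectionVars false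
set_option linter.style.haveILetI false

namespace Cfsg.Agent.GW

open Cfsg Cfsg.Agent
open scoped commutatorElement

universe w

/-- in a cyclic group the elements killed by `q` are powers of any element of order `q` -/
theorem mem_zpowers_of_isCyclic {H : Type w} [Group H] [Finite H] (hH : IsCyclic H) {q : ℕ} {d e : H}
    (hd : orderOf d = q) (he : e ^ q = 1) : e ∈ Subgroup.zpowers d := by
  have hcomm : ∀ a b : H, Commute a b := fun a b => IsCyclic.commGroup.mul_comm a b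
  let S : Subgroup H :=
    { carrier := {x | x ^ q = 1}
      one_mem' := one_pow q
      mul_mem' := fun {a b} ha hb => by
        show (a * b) ^ q = 1
        rw [(hcomm a b).mul_pow, ha, hb, one_mul]
      inv_mem' := fun {a} ha => by
        show a⁻¹ ^ q = 1
        rw [inv_pow, ha, inv_one] }
  obtain ⟨z, hz⟩ := IsCyclic.exists_generator (α := ↥S)
  have hle : Subgroup.zpowers d ≤ S := Subgroup.zpowers_le.2 (show d ^ q = 1 from hd ▸ pow_orderOf_eq_one d)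
  have hcard : Nat.card S ≤ Nat.card (Subgroup.zpowers d) := by
    rw [Nat.card_zpowers, hd, ← orderOf_eq_card_of_forall_mem_zpowers hz]
    refine Nat.le_of_dvd (hd ▸ orderOf_pos d) (orderOf_dvd_of_pow_eq_one ?_)
    exact Subtype.ext z.2
  rw [Subgroup.eq_of_le_of_card_ge hle hcard]
  exact he

variable {G : Type w} [Group G] [Finite G] [IsSimpleGroup G] {t u : G} {O N : Subgroup G} {P : Sylow 2 G} {q : ℕ}
  {ρ : G}

set_option quotPrecheck false in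
local notation "Cz" => Subgroup.centralizer ({t} : Set G)

set_option quotPrecheck false in
local notation "Fq" => fq q (Subgroup.centralizer ({t} : Set G))

theorem RotCfg.fq_core (c : RotCfg t u O P q N ρ) {x : G} (hx : x ∈ Fq) : x ∈ O :=
  c.hyp.mc.fq_odd_le_core c.prime c.odd hx

theorem RotCfg.fq_N (c : RotCfg t u O P q N ρ) {x : G} (hx : x ∈ Fq) (hxu : Commute x u) : x ∈ N :=
  c.K_le ⟨c.fq_core hx, Subgroup.mem_centralizer_singleton_iff.2 hxu.eq⟩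

theorem RotCfg.D_mem (c : RotCfg t u O P q N ρ) : ∃ d ∈ Fq, Commute d u ∧ d ≠ 1 := by
  by_contra! h
  exact c.D_ne ((Subgroup.eq_bot_iff_forall _).2 fun d hd => h d hd.1 (Subgroup.mem_centralizer_singleton_iff.1 hd.2))

/-- `d` of order `q` in `C(u)` and in the second centre -/
structure Second (q : ℕ) (t u d : G) : Prop where
  mem : d ∈ fq q (Subgroup.centralizer ({t} : Set G))
  comm_u : Commute d u
  order : orderOf d = q
  second : ∀ g ∈ fq q (Subgroup.centralizer ({t} : Set G)), ∀ x ∈ fq q (Subgroup.centralizer ({t} : Set G)),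
    Commute (g * d * g⁻¹ * d⁻¹) x

/-- **`C(u)` meets the second centre of `O_q(C)`** -/
theorem RotCfg.exists_second (c : RotCfg t u O P q N ρ) : ∃ d, Second q t u d := by
  haveI := Fact.mk c.prime
  obtain ⟨F, hF⟩ : ∃ F, F = Fq := ⟨_, rfl⟩
  have hconj : ∀ {g x : G}, g ∈ Cz → x ∈ F → g * x * g⁻¹ ∈ F := fun hg hx =>
    hF ▸ conj_fq c.prime hg (hF ▸ hx)
  let B : Subgroup G :=
    { carrier := {x | x ∈ F ∧ ∀ y ∈ F, ∀ w ∈ F, Commute (y * x * y⁻¹ * x⁻¹) w}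
      one_mem' := ⟨F.one_mem, fun y _ w _ => by simp⟩
      mul_mem' := fun {a b} ha hb => ⟨F.mul_mem ha.1 hb.1, fun y hy w hw => by
        have h := hb.2 y hy a ha.1
        rw [show y * (a * b) * y⁻¹ * (a * b)⁻¹ = y * a * y⁻¹ * ((y * b * y⁻¹ * b⁻¹) * a⁻¹) by group,
          h.inv_right.eq, show y * a * y⁻¹ * (a⁻¹ * (y * b * y⁻¹ * b⁻¹)) = y * a * y⁻¹ * a⁻¹ * (y * b * y⁻¹ * b⁻¹)
            by group]
        exact (ha.2 y hy w hw).mul_left (hb.2 y hy w hw)⟩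
      inv_mem' := fun {a} ha => ⟨F.inv_mem ha.1, fun y hy w hw => by
        have h := ha.2 y hy a ha.1
        rw [show y * a⁻¹ * y⁻¹ * a⁻¹⁻¹ = a⁻¹ * (y * a * y⁻¹ * a⁻¹)⁻¹ * a by group, mul_assoc, h.inv_left.eq,
          inv_mul_cancel_left]
        exact (ha.2 y hy w hw).inv_left⟩ }
  have hBn : Cz ≤ Subgroup.normalizer (B : Set G) := fun g hg => mem_norm_of_conj fun x hx =>
    ⟨hconj hg hx.1, fun y hy w hw => by
      have h := hx.2 (g⁻¹ * y * g) (by simpa using hconj (inv_mem hg) hy) (g⁻¹ * w * g)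
        (by simpa using hconj (inv_mem hg) hw)
      have h' := (Commute.conj_iff g).2 h
      rwa [show g * (g⁻¹ * w * g) * g⁻¹ = w by group,
        show g * (g⁻¹ * y * g * x * (g⁻¹ * y * g)⁻¹ * x⁻¹) * g⁻¹ = y * (g * x * g⁻¹) * y⁻¹ * (g * x * g⁻¹)⁻¹
          by group] at h'⟩
  obtain ⟨x, hx, hxu, hx1⟩ : ∃ x ∈ B, Commute x u ∧ x ≠ 1 := by
    by_contra! hno
    have hBi := inverts c.hyp.uu (hBn c.hyp.uC) hno
    have hBc : ∀ g ∈ F, ∀ b ∈ B, Commute g b := fun g hg b hb =>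
      c.inverted_central hBn hBi (c.fq_core (hF ▸ hg)) hb
    haveI : Nontrivial (↥F ⧸ Subgroup.center ↥F) := by
      refine QuotientGroup.nontrivial_iff.2 fun htop => c.not_le fun y hy => ?_
      have hy' : ∀ z ∈ Fq, Commute y z := fun z hz => by
        have hc : (⟨y, hF ▸ hy⟩ : ↥F) ∈ Subgroup.center ↥F := htop ▸ Subgroup.mem_top _
        exact (congrArg Subtype.val (Subgroup.mem_center_iff.1 hc ⟨z, hF ▸ hz⟩)).symm
      obtain ⟨d, hd, hdu, hd1⟩ := c.D_mem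
      exact c.cent_D hd hdu hd1 (hy' d hd)
    haveI := ((hF ▸ fq_isPGroup q Cz : IsPGroup q ↥F).to_quotient (Subgroup.center ↥F)).center_nontrivial
    obtain ⟨z, hz⟩ := exists_ne (1 : Subgroup.center (↥F ⧸ Subgroup.center ↥F))
    obtain ⟨b, hb⟩ := QuotientGroup.mk'_surjective (Subgroup.center ↥F) z.1
    have hbB : (b : G) ∈ B := ⟨b.2, fun y hy w hw => by
      have h1 : (⟨y, hy⟩ * b * ⟨y, hy⟩⁻¹ * b⁻¹ : ↥F) ∈ Subgroup.center ↥F := by
        refine (QuotientGroup.eq_one_iff _).1 ?_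
        show QuotientGroup.mk' (Subgroup.center ↥F) _ = 1
        rw [map_mul, map_mul, map_mul, map_inv, map_inv, hb, Subgroup.mem_center_iff.1 z.2, mul_inv_cancel_right,
          mul_inv_cancel]
      exact (congrArg Subtype.val (Subgroup.mem_center_iff.1 h1 ⟨w, hw⟩)).symm⟩
    refine hz (Subtype.ext (hb.symm.trans ((QuotientGroup.eq_one_iff b).2 (Subgroup.mem_center_iff.2 fun y => ?_))))
    exact Subtype.ext (hBc y y.2 b hbB).eq
  obtain ⟨k, hk⟩ := IsPGroup.iff_orderOf.1 (fq_isPGroup q Cz) ⟨x, hF ▸ hx.1⟩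
  rw [Subgroup.orderOf_mk] at hk
  obtain ⟨j, rfl⟩ : ∃ j, k = j + 1 := Nat.exists_eq_add_one.2 (Nat.pos_of_ne_zero fun h0 => by
    rw [h0, pow_zero, orderOf_eq_one_iff] at hk; exact hx1 hk)
  obtain ⟨hm, hs⟩ := B.pow_mem hx (q ^ j)
  refine ⟨x ^ q ^ j, hF ▸ hm, hxu.pow_left _, ?_, fun g hg w hw => hs g (hF ▸ hg) w (hF ▸ hw)⟩
  rw [orderOf_pow_of_dvd (pow_ne_zero _ c.prime.ne_zero) (hk ▸ pow_dvd_pow _ (by omega)), hk, pow_succ,
    Nat.mul_div_cancel_left _ (pow_pos c.prime.pos _)]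

theorem Second.ne_one (hq : q.Prime) {d : G} (h : Second q t u d) : d ≠ 1 := fun e => by
  have := h.order
  rw [e, orderOf_one] at this
  exact hq.one_lt.ne' this.symm

/-- powers prime to `q` -/
theorem Second.of_mem (hq : q.Prime) {d e : G} (h : Second q t u d) (he : e ∈ Subgroup.zpowers d) (he1 : e ≠ 1) :
    Second q t u e := by
  haveI := Fact.mk hq
  obtain ⟨n, rfl⟩ : ∃ n : ℕ, d ^ n = e := by
    rwa [← mem_powers_iff_mem_zpowers, Submonoid.mem_powers_iff] at he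
  refine ⟨(fq q Cz).pow_mem h.mem n, h.comm_u.pow_left n, ?_, fun g hg x hx => ?_⟩
  · refine (hq.eq_one_or_self_of_dvd _ ((orderOf_pow_dvd n).trans h.order.dvd)).resolve_left fun h1 => he1 ?_
    exact orderOf_eq_one_iff.1 h1
  · clear he1 he
    induction n with
    | zero => simp
    | succ n ih =>
      have h1 := h.second g hg d h.mem
      rw [show g * d ^ (n + 1) * g⁻¹ * (d ^ (n + 1))⁻¹ =
        g * d ^ n * g⁻¹ * ((g * d * g⁻¹ * d⁻¹) * (d ^ n)⁻¹) by rw [pow_succ]; group,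
        ((h1.pow_right n).inv_right).eq,
        show g * d ^ n * g⁻¹ * ((d ^ n)⁻¹ * (g * d * g⁻¹ * d⁻¹)) =
          g * d ^ n * g⁻¹ * (d ^ n)⁻¹ * (g * d * g⁻¹ * d⁻¹) by group]
      exact ih.mul_left (h.second g hg x hx)

/-- **`g ↦ [g, d]`**: its kernel is `F ∩ N`, of index `q`, and it reaches the torus elements killed by `q` -/
theorem RotCfg.commMap (c : RotCfg t u O P q N ρ) {d : G} (h : Second q t u d) :
    (∀ g ∈ Fq, (Commute g d ↔ g ∈ N)) ∧ (N ⊓ Fq).relIndex Fq = q ∧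
      (∀ g ∈ Fq, ∀ a ∈ Fq, a ∈ N → g * a * g⁻¹ ∈ N) ∧
      (∀ g ∈ Fq, g * d * g⁻¹ * d⁻¹ ∈ lay N ⊓ O) ∧ q ≤ Nat.card ↥(lay N ⊓ O) ∧
      ∀ σ ∈ lay N ⊓ O, σ ^ q = 1 → ∃ g ∈ Fq, g * d * g⁻¹ = σ * d := by
  have hd1 := h.ne_one c.prime
  have hval : ∀ g ∈ Fq, g * d * g⁻¹ * d⁻¹ ∈ Fq := fun g hg =>
    (Fq).mul_mem (conj_fq c.prime (fq_le q _ hg) h.mem) ((Fq).inv_mem h.mem)
  have hT : ∀ g ∈ Fq, g * d * g⁻¹ * d⁻¹ ∈ lay N ⊓ O := fun g hg =>
    c.center_torus (hval g hg) (h.second g hg)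
  have hA : ∀ g ∈ Fq, g ∈ N → Commute g d := fun g hg hgN => by
    obtain ⟨σ, -, hσT, -, heF, heu, -⟩ := c.split_q hg hgN
    have h1 : Commute (σ⁻¹ * g) d := by
      have hu' : Commute ((σ⁻¹ * g) * d * (σ⁻¹ * g)⁻¹ * d⁻¹) u :=
        ((heu.mul_left h.comm_u).mul_left heu.inv_left).mul_left h.comm_u.inv_left
      exact mul_inv_eq_iff_eq_mul.1 (mul_inv_eq_one.1 (c.torus_fix (hT _ heF) hu'))
    have := (c.torus_D hσT h.mem h.comm_u).mul_left h1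
    rwa [mul_inv_cancel_left] at this
  let ψ : ↥(Fq) →* G := MonoidHom.mk' (fun g => (g : G) * d * (g : G)⁻¹ * d⁻¹) fun a b => by
    rw [(h.second (a : G) a.2 _ (hval (b : G) b.2)).eq, Subgroup.coe_mul]
    calc (a : G) * b * d * ((a : G) * b)⁻¹ * d⁻¹ = (a : G) * ((b : G) * d * (b : G)⁻¹ * d⁻¹) * (d * (a : G)⁻¹ * d⁻¹) := by
          group
      _ = ((b : G) * d * (b : G)⁻¹ * d⁻¹) * (a : G) * (d * (a : G)⁻¹ * d⁻¹) := by
          rw [(h.second (b : G) b.2 (a : G) a.2).eq]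
      _ = _ := by group
  have hiff : ∀ g ∈ Fq, (Commute g d ↔ g ∈ N) := fun g hg =>
    ⟨fun hgd => c.cent_D h.mem h.comm_u hd1 hgd, hA g hg⟩
  have hmem : ∀ g : ↥(Fq), g ∈ ψ.ker ↔ (g : G) ∈ N := fun g => by
    rw [MonoidHom.mem_ker, ← hiff _ g.2]
    exact ⟨fun e => mul_inv_eq_iff_eq_mul.1 (mul_inv_eq_one.1 e), fun e => by
      show (g : G) * d * (g : G)⁻¹ * d⁻¹ = 1
      rw [e.eq, mul_inv_cancel_right, mul_inv_cancel]⟩
  have hker : (N ⊓ Fq).subgroupOf Fq = ψ.ker := Subgroup.ext fun g => by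
    rw [Subgroup.mem_subgroupOf, hmem g]
    exact ⟨fun e => e.1, fun e => ⟨e, g.2⟩⟩
  have hpow : ∀ x ∈ ψ.range, x ^ q = 1 := by
    rintro _ ⟨g, rfl⟩
    show ((g : G) * d * (g : G)⁻¹ * d⁻¹) ^ q = 1
    have hc : Commute ((g : G) * d * (g : G)⁻¹ * d⁻¹) d := h.second _ g.2 d h.mem
    have hdq : d ^ q = 1 := h.order ▸ pow_orderOf_eq_one d
    have := hc.mul_pow q
    rwa [inv_mul_cancel_right, conj_pow, hdq, mul_one, mul_inv_cancel, mul_one, eq_comm] at this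
  have hle : ψ.range ≤ lay N ⊓ O := by
    rintro _ ⟨g, rfl⟩
    exact hT g g.2
  haveI := c.torus_cyclic
  obtain ⟨g₀, hg₀⟩ : ∃ g, g ∉ ψ.ker := by
    by_contra! hall
    exact c.not_le fun g hg => (hmem ⟨g, hg⟩).1 (hall _)
  obtain ⟨z, hz⟩ : ∃ z, z = ψ g₀ := ⟨_, rfl⟩
  have hzq : orderOf z = q := (c.prime.eq_one_or_self_of_dvd _ (orderOf_dvd_of_pow_eq_one
    (hpow z (hz ▸ ⟨g₀, rfl⟩)))).resolve_left fun e => hg₀ (MonoidHom.mem_ker.2 (hz ▸ orderOf_eq_one_iff.1 e))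
  have hzT : z ∈ lay N ⊓ O := hle (hz ▸ ⟨g₀, rfl⟩)
  have hall : ∀ σ ∈ lay N ⊓ O, σ ^ q = 1 → σ ∈ Subgroup.zpowers z := fun σ hσ hσq => by
    obtain ⟨i, hi⟩ := Subgroup.mem_zpowers_iff.1 (mem_zpowers_of_isCyclic (H := ↥(lay N ⊓ O)) c.torus_cyclic
      (d := ⟨z, hzT⟩) (e := ⟨σ, hσ⟩) (by rw [Subgroup.orderOf_mk, hzq]) (Subtype.ext hσq))
    exact Subgroup.mem_zpowers_iff.2 ⟨i, congrArg Subtype.val hi⟩
  have hrange : ψ.range = Subgroup.zpowers z :=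
    le_antisymm (fun x hx => hall x (hle hx) (hpow x hx)) (Subgroup.zpowers_le.2 (hz ▸ ⟨g₀, rfl⟩))
  refine ⟨hiff, ?_, fun g hg a ha haN => ?_, hT, ?_, fun σ hσ hσq => ?_⟩
  · rw [Subgroup.relIndex, hker, Subgroup.index_ker, hrange, Nat.card_zpowers, hzq]
  · exact (hmem ⟨_, (Fq).mul_mem ((Fq).mul_mem hg ha) ((Fq).inv_mem hg)⟩).1
      ((inferInstance : ψ.ker.Normal).conj_mem ⟨a, ha⟩ ((hmem ⟨a, ha⟩).2 haN) ⟨g, hg⟩)
  · rw [← hzq, ← Nat.card_zpowers]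
    exact Nat.le_of_dvd Nat.card_pos (Subgroup.card_dvd_of_le (Subgroup.zpowers_le.2 hzT))
  · obtain ⟨g, hg⟩ := (hrange.ge (hall σ hσ hσq) : σ ∈ ψ.range)
    exact ⟨g, g.2, mul_inv_eq_iff_eq_mul.1 hg⟩

/-- **`O_q(C) ∩ N` is abelian** -/
theorem RotCfg.D_comm (c : RotCfg t u O P q N ρ) {x y : G} (hx : x ∈ Fq) (hy : y ∈ Fq) (hxu : Commute x u)
    (hyu : Commute y u) : Commute x y := by
  by_contra hne
  obtain ⟨d, hd⟩ := c.exists_second
  obtain ⟨-, -, hAn, -, -, -⟩ := c.commMap hd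
  obtain ⟨D, hD⟩ : ∃ D, D = Fq ⊓ Subgroup.centralizer ({u} : Set G) := ⟨_, rfl⟩
  have hDmem : ∀ {z : G}, z ∈ D ↔ z ∈ Fq ∧ Commute z u := fun {z} => by
    rw [hD, Subgroup.mem_inf, Subgroup.mem_centralizer_singleton_iff]; exact Iff.rfl
  have hX : ⁅D, D⁆ ≠ ⊥ := fun e => hne (commutatorElement_eq_one_iff_mul_comm.1
    (Subgroup.mem_bot.1 (e ▸ Subgroup.commutator_mem_commutator (hDmem.2 ⟨hx, hxu⟩) (hDmem.2 ⟨hy, hyu⟩))))
  have hXD : ⁅D, D⁆ ≤ D := (Subgroup.commutator_le).2 fun a ha b hb => by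
    rw [commutatorElement_def]
    exact D.mul_mem (D.mul_mem (D.mul_mem ha hb) (D.inv_mem ha)) (D.inv_mem hb)
  refine c.not_le fun g hg => c.norm_le _ hX (hXD.trans hD.le) (mem_norm_of_conj fun z hz => ?_)
  have hmap : ⁅D, D⁆.map (MulAut.conj g).toMonoidHom ≤ ⁅D, D⁆ := by
    rw [Subgroup.map_commutator, Subgroup.commutator_le]
    rintro _ ⟨a, ha, rfl⟩ _ ⟨b, hb, rfl⟩
    have hdec : ∀ e ∈ D, ∃ σ ∈ lay N ⊓ O, ∃ e' ∈ D, g * e * g⁻¹ = σ * e' := fun e he => by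
      have he' := (hDmem.1 he)
      obtain ⟨σ, -, hσT, -, heF, heu, -⟩ := c.split_q ((Fq).mul_mem ((Fq).mul_mem hg he'.1) ((Fq).inv_mem hg))
        (hAn g hg e he'.1 (c.fq_N he'.1 he'.2))
      exact ⟨σ, hσT, _, hDmem.2 ⟨heF, heu⟩, (mul_inv_cancel_left σ _).symm⟩
    obtain ⟨σ, hσ, a', ha', ea⟩ := hdec a ha
    obtain ⟨τ, hτ, b', hb', eb⟩ := hdec b hb
    show ⁅g * a * g⁻¹, g * b * g⁻¹⁆ ∈ _
    have hD' : ∀ {r e : G}, r ∈ lay N ⊓ O → e ∈ D → Commute r e := fun hr he =>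
      c.torus_D hr (hDmem.1 he).1 (hDmem.1 he).2
    have hστ : Commute σ τ := by
      haveI := c.torus_cyclic
      exact congrArg Subtype.val
        (IsCyclic.commGroup.mul_comm (⟨σ, hσ⟩ : ↥(lay N ⊓ O)) ⟨τ, hτ⟩)
    rw [ea, eb, show ⁅σ * a', τ * b'⁆ = ⁅a', b'⁆ by
      rw [commutatorElement_def, commutatorElement_def, mul_inv_rev, mul_inv_rev]
      calc σ * a' * (τ * b') * (a'⁻¹ * σ⁻¹) * (b'⁻¹ * τ⁻¹)
          = σ * (a' * τ) * b' * a'⁻¹ * σ⁻¹ * b'⁻¹ * τ⁻¹ := by group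
        _ = σ * τ * (a' * b' * a'⁻¹) * σ⁻¹ * b'⁻¹ * τ⁻¹ := by rw [(hD' hτ ha').symm.eq]; group
        _ = σ * τ * σ⁻¹ * (a' * b' * a'⁻¹) * b'⁻¹ * τ⁻¹ := by
            rw [mul_assoc (σ * τ), ← ((hD' hσ (D.mul_mem (D.mul_mem ha' hb') (D.inv_mem ha'))).inv_left).eq]; group
        _ = τ * (a' * b' * a'⁻¹ * b'⁻¹) * τ⁻¹ := by rw [hστ.eq, mul_inv_cancel_right]; group
        _ = _ := by
            rw [(hD' hτ (D.mul_mem (D.mul_mem (D.mul_mem ha' hb') (D.inv_mem ha')) (D.inv_mem hb'))).eq,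
              mul_inv_cancel_right]]
    exact Subgroup.commutator_mem_commutator ha' hb'
  exact hmap ⟨z, hz, rfl⟩

/-- **`D` is cyclic, of order dividing that of the torus part of `O_q(C)`** -/
theorem RotCfg.D_cyclic (c : RotCfg t u O P q N ρ) :
    IsCyclic ↥(Fq ⊓ Subgroup.centralizer ({u} : Set G)) ∧
      Nat.card ↥(Fq ⊓ Subgroup.centralizer ({u} : Set G)) ∣ Nat.card ↥(Fq ⊓ (lay N ⊓ O)) := by
  obtain ⟨d, hd⟩ := c.exists_second
  obtain ⟨-, -, hAn, -, -, -⟩ := c.commMap hd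
  obtain ⟨g, hg, hgN⟩ : ∃ g ∈ Fq, g ∉ N := by
    by_contra! h
    exact c.not_le h
  obtain ⟨D, hD⟩ : ∃ D, D = Fq ⊓ Subgroup.centralizer ({u} : Set G) := ⟨_, rfl⟩
  rw [← hD]
  have hDmem : ∀ z : ↥D, (z : G) ∈ Fq ∧ Commute (z : G) u := fun z =>
    ⟨(hD.le z.2).1, Subgroup.mem_centralizer_singleton_iff.1 (hD.le z.2).2⟩
  have hy : ∀ z : ↥D, g * z * g⁻¹ ∈ Fq ∧ g * z * g⁻¹ ∈ N := fun z =>
    ⟨(Fq).mul_mem ((Fq).mul_mem hg (hDmem z).1) ((Fq).inv_mem hg),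
      hAn g hg _ (hDmem z).1 (c.fq_N (hDmem z).1 (hDmem z).2)⟩
  have hA : ∀ {a b : G}, a ∈ Fq → a ∈ N → b ∈ Fq → b ∈ N → Commute a b := by
    intro a b ha haN hb hbN
    obtain ⟨σ, -, hσT, -, hsF, hsu, -⟩ := c.split_q ha haN
    obtain ⟨τ, -, hτT, -, htF, htu, -⟩ := c.split_q hb hbN
    have h1 : Commute σ τ := by
      haveI := c.torus_cyclic
      exact congrArg Subtype.val (IsCyclic.commGroup.mul_comm (⟨σ, hσT⟩ : ↥(lay N ⊓ O)) ⟨τ, hτT⟩)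
    have := (h1.mul_right (c.torus_D hσT htF htu)).mul_left
      (((c.torus_D hτT hsF hsu).symm).mul_right (c.D_comm hsF htF hsu htu))
    rwa [mul_inv_cancel_left, mul_inv_cancel_left] at this
  have hsym : ∀ {a : G}, a ∈ Fq → a ∈ N → a * (u * a⁻¹ * u⁻¹) ∈ Fq ⊓ (lay N ⊓ O) := fun {a} ha haN =>
    ⟨(Fq).mul_mem ha (conj_fq c.prime c.hyp.uC ((Fq).inv_mem ha)), by
      rw [show a * (u * a⁻¹ * u⁻¹) = (a * u * a⁻¹) * u⁻¹ by group]
      exact (lay N).mul_mem ((Subgroup.mem_normalizer_iff.1 (lay_norm N haN) u).1 (c.P_lay c.hyp.uP))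
        ((lay N).inv_mem (c.P_lay c.hyp.uP)),
      O.mul_mem (c.fq_core ha) (c.conj_u_mem (O.inv_mem (c.fq_core ha)))⟩
  have huN : u ∈ N := lay_le N (c.P_lay c.hyp.uP)
  have hfun : ∀ a b : G, a ∈ Fq → a ∈ N → b ∈ Fq → b ∈ N →
      a * b * (u * (a * b)⁻¹ * u⁻¹) = (a * (u * a⁻¹ * u⁻¹)) * (b * (u * b⁻¹ * u⁻¹)) := by
    intro a b ha haN hb hbN
    have hc := hA (conj_fq c.prime c.hyp.uC ((Fq).inv_mem ha))
      (N.mul_mem (N.mul_mem huN (N.inv_mem haN)) (N.inv_mem huN))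
      ((Fq).mul_mem hb (conj_fq c.prime c.hyp.uC ((Fq).inv_mem hb)))
      (N.mul_mem hbN (N.mul_mem (N.mul_mem huN (N.inv_mem hbN)) (N.inv_mem huN)))
    rw [show a * b * (u * (a * b)⁻¹ * u⁻¹) = a * ((b * (u * b⁻¹ * u⁻¹)) * (u * a⁻¹ * u⁻¹)) by group, ← hc.eq]
    group
  let ξ : ↥D →* ↥(Fq ⊓ (lay N ⊓ O)) := MonoidHom.mk'
    (fun z => ⟨(g * z * g⁻¹) * (u * (g * z * g⁻¹)⁻¹ * u⁻¹), hsym (hy z).1 (hy z).2⟩) fun a b => Subtype.ext (by
      show (g * ((a : G) * b) * g⁻¹) * (u * (g * ((a : G) * b) * g⁻¹)⁻¹ * u⁻¹) =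
        ((g * a * g⁻¹) * (u * (g * a * g⁻¹)⁻¹ * u⁻¹)) * ((g * b * g⁻¹) * (u * (g * b * g⁻¹)⁻¹ * u⁻¹))
      rw [show g * ((a : G) * b) * g⁻¹ = (g * a * g⁻¹) * (g * b * g⁻¹) by group]
      exact hfun _ _ (hy a).1 (hy a).2 (hy b).1 (hy b).2)
  have hinj : Function.Injective ξ := by
    rw [injective_iff_map_eq_one]
    intro z hz
    by_contra hz1
    refine hgN (c.ti (hDmem z).1 (hDmem z).2 (fun e => hz1 (Subtype.ext e)) (hy z).1 ?_)
    have h1 : (g * z * g⁻¹) * (u * (g * z * g⁻¹)⁻¹ * u⁻¹) = 1 := congrArg Subtype.val hz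
    rw [show (g * z * g⁻¹) * (u * (g * z * g⁻¹)⁻¹ * u⁻¹) =
      (g * z * g⁻¹ * u) * (u * (g * z * g⁻¹))⁻¹ by group] at h1
    exact mul_inv_eq_one.1 h1
  haveI : IsCyclic ↥(Fq ⊓ (lay N ⊓ O)) :=
    haveI := c.torus_cyclic
    isCyclic_of_injective _ (Subgroup.inclusion_injective inf_le_right)
  exact ⟨isCyclic_of_injective ξ hinj, Subgroup.card_dvd_of_injective ξ hinj⟩

end Cfsg.Agent.GW
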