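import Cfsg.Agent.Lib.GW.RotationFalse

/-!
# The rotation case: the torus of the layer

`L` is the layer of `N`, `H = ⟨t⟩ × T` with `T = L ∩ O`.  An element carrying a nontrivial element of `H` into `H`
normalises a nontrivial subgroup of `T` or centralises `t`, so lies in `C_L(t) = T P`; an element of `L ∖ 1` is hit
by at most `|C_L(t)| = 4 |T|` pairs.
-/

set_option autoImplicit false
set_option linter.unusedSectionVars false
set_option linter.style.haveILetI false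

namespace Cfsg.Agent.GW

open Cfsg Cfsg.Agent
open scoped commutatorElement

universe w

variable {G : Type w} [Group G] [Finite G] [IsSimpleGroup G] {t u : G} {O N : Subgroup G} {P : Sylow 2 G} {q : ℕ}
  {ρ : G} {d x : G}

set_option quotPrecheck false in
local notation "Cz" => Subgroup.centralizer ({t} : Set G)

/-- `|C_L(t)| ≤ 4 |L ∩ O|` -/
theorem RotCfg.card_layCent_t (c : RotCfg t u O P q N ρ) :
    Nat.card ↥(lay N ⊓ Cz) ≤ 4 * Nat.card ↥(lay N ⊓ O) := by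
  obtain ⟨f, hf⟩ : ∃ f : ↥(P : Subgroup G) × ↥(lay N ⊓ O) → ↥(lay N ⊓ Cz), ∀ a, (f a : G) = (a.2 : G) * a.1 :=
    ⟨fun a => ⟨(a.2 : G) * a.1, (lay N).mul_mem a.2.2.1 (c.P_lay a.1.2),
      mul_mem (c.hyp.mc.core_le a.2.2.2) (c.hyp.P_le a.1.2)⟩, fun _ => rfl⟩
  refine (Nat.card_le_card_of_surjective f fun g => ?_).trans_eq ?_
  · obtain ⟨o, ho, p, hp, e⟩ := c.hyp.decomp g.2.2
    refine ⟨(⟨p, hp⟩, ⟨o, ?_, ho⟩), Subtype.ext ?_⟩
    · rw [show o = (g : G) * p⁻¹ by rw [e, mul_inv_cancel_right]]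
      exact (lay N).mul_mem g.2.1 ((lay N).inv_mem (c.P_lay hp))
    · rw [hf]; exact e.symm
  · rw [Nat.card_prod, show Nat.card ↥(P : Subgroup G) = 4 from c.hyp.card]

/-- elements conjugating nontrivial elements of `⟨t⟩ T` into it centralise `t` -/
theorem RotCfg.torus_control (c : RotCfg t u O P q N ρ) {h h' m : G} (hm : m ∈ lay N)
    (hh : ∃ a ∈ Subgroup.zpowers t, ∃ τ ∈ lay N ⊓ O, h = a * τ)
    (hh' : ∃ a ∈ Subgroup.zpowers t, ∃ τ ∈ lay N ⊓ O, h' = a * τ) (h1 : h ≠ 1) (he : m * h * m⁻¹ = h') :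
    m ∈ Cz := by
  have ht2 : t * t = 1 := c.hyp.mc.sq
  have htwo : ∀ a ∈ Subgroup.zpowers t, a = 1 ∨ a = t := fun a ha => by
    obtain ⟨i, rfl⟩ := Subgroup.mem_zpowers_iff.1 ha
    rcases Int.even_or_odd' i with ⟨j, rfl | rfl⟩
    · left; rw [zpow_mul, zpow_two, ht2, one_zpow]
    · right; rw [zpow_add, zpow_mul, zpow_two, ht2, one_zpow, zpow_one, one_mul]
  have hsquare : ∀ {y : G}, (∃ a ∈ Subgroup.zpowers t, ∃ τ ∈ lay N ⊓ O, y = a * τ) →
      y * y ∈ lay N ⊓ O ∧ (y * y = 1 → y = 1 ∨ y = t) := by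
    rintro y ⟨a, ha, τ, hτ, rfl⟩
    have haτ : Commute a τ := by
      rcases htwo a ha with rfl | rfl
      exacts [Commute.one_left τ, (c.hyp.mc.core_commute hτ.2).symm]
    have e : a * τ * (a * τ) = τ * τ := by
      rw [show a * τ * (a * τ) = a * (τ * a) * τ by group, ← haτ.eq, show a * (a * τ) * τ = a * a * (τ * τ) by group]
      rcases htwo a ha with rfl | rfl
      · rw [one_mul, one_mul]
      · rw [ht2, one_mul]
    refine ⟨e ▸ (lay N ⊓ O).mul_mem hτ hτ, fun h => ?_⟩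
    rw [e] at h
    rw [show τ = 1 from orderOf_eq_one_iff.1 (Nat.eq_one_of_dvd_coprimes
      (c.hyp.mc.core_orderOf hτ.2).coprime_two_left (orderOf_dvd_of_pow_eq_one (by rw [pow_two]; exact h)) dvd_rfl),
      mul_one]
    exact htwo a ha
  obtain ⟨hT, hone⟩ := hsquare hh
  obtain ⟨hT', hone'⟩ := hsquare hh'
  have heq : m * (h * h) * m⁻¹ = h' * h' := by rw [← he]; group
  by_cases h2 : h * h = 1
  · have ht : h = t := (hone h2).resolve_left h1
    rw [h2, mul_one, mul_inv_cancel] at heq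
    have ht' : h' = t := (hone' heq.symm).resolve_left fun e => h1 (conj_eq_one_iff.1 (he.trans e))
    rw [ht, ht'] at he
    exact Subgroup.mem_centralizer_singleton_iff.2 (mul_inv_eq_iff_eq_mul.1 he)
  obtain ⟨X, hX⟩ : ∃ X, X = Subgroup.zpowers (h * h) := ⟨_, rfl⟩
  have hmem : h' * h' ∈ X := by
    obtain ⟨i, hi⟩ := Subgroup.mem_zpowers_iff.1 (mem_zpowers_of_isCyclic (H := ↥(lay N ⊓ O)) c.torus_cyclic
      (d := ⟨h * h, hT⟩) (e := ⟨h' * h', hT'⟩) (q := orderOf (h * h)) (Subgroup.orderOf_mk _ _)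
      (Subtype.ext (by
        show (h' * h') ^ orderOf (h * h) = 1
        rw [← heq, conj_pow, pow_orderOf_eq_one, mul_one, mul_inv_cancel])))
    exact hX ▸ Subgroup.mem_zpowers_iff.2 ⟨i, congrArg Subtype.val hi⟩
  have hn : m ∈ Subgroup.normalizer (X : Set G) := mem_norm_of_conj fun y hy => by
    obtain ⟨i, rfl⟩ := Subgroup.mem_zpowers_iff.1 (hX ▸ hy)
    rw [← conj_zpow, heq]
    exact X.zpow_mem hmem i
  exact c.torus_norm X (hX ▸ Subgroup.zpowers_le.2 hT) (hX ▸ fun e => h2 (Subgroup.zpowers_eq_bot.1 e))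
    ⟨lay_le N hm, hn⟩

/-- **the torus data** -/
theorem RotCfg.torusData (c : RotCfg t u O P q N ρ) (s : Shape q t u O N d x) :
    TorusData t (Subgroup.zpowers (x * d * x⁻¹ * d⁻¹)) q := by
  haveI := Fact.mk c.prime
  obtain ⟨-, -, -, hT, hqT, -⟩ := c.commMap s.second
  have hzT : Subgroup.zpowers (x * d * x⁻¹ * d⁻¹) ≤ lay N ⊓ O := Subgroup.zpowers_le.2 (hT x s.x_mem)
  have ht2 : t * t = 1 := c.hyp.mc.sq
  have htL : t ∈ lay N := c.P_lay c.hyp.tP
  have huL : u ∈ lay N := c.P_lay c.hyp.uP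
  have hzpow : ∀ a ∈ Subgroup.zpowers t, ∀ τ ∈ lay N ⊓ O, Commute a τ := fun a ha τ hτ => by
    obtain ⟨i, rfl⟩ := Subgroup.mem_zpowers_iff.1 ha
    exact (c.hyp.mc.core_commute hτ.2).symm.zpow_left i
  have hmeet : ∀ a ∈ Subgroup.zpowers t, a ∈ lay N ⊓ O → a = 1 := fun a ha haT =>
    orderOf_eq_one_iff.1 (Nat.eq_one_of_dvd_coprimes (c.hyp.mc.core_orderOf haT.2).coprime_two_left
      ((orderOf_dvd_of_mem_zpowers ha).trans (orderOf_dvd_of_pow_eq_one (by rw [pow_two]; exact ht2))) dvd_rfl)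
  obtain ⟨H, htH, hTH, hmemH, hcH, hcmH, -, -⟩ := exists_prod (Subgroup.zpowers t) (lay N ⊓ O) hzpow hmeet
  have hHL : H ≤ lay N := fun y hy => by
    obtain ⟨a, ha, τ, hτ, rfl⟩ := (hmemH y).1 hy
    exact (lay N).mul_mem (Subgroup.zpowers_le.2 htL ha) hτ.1
  have hlayne : lay N ≠ ⊥ := fun e => c.hyp.mc.ne (Subgroup.mem_bot.1 (e ▸ htL))
  obtain ⟨v, T, f⟩ := c.hyp.layer N c.coatom (lay_le N htL) fun e => hlayne (by rw [lay, e, Subgroup.map_bot])
  refine ⟨lay N, ⟨t, htL⟩, (P : Subgroup G).subgroupOf (lay N), H.subgroupOf (lay N), Nat.card ↥(lay N ⊓ O), rfl,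
    hzT.trans inf_le_left, fun φ => ?_, fun K hK htK => ?_, ?_, fun a b => ?_, fun a ha => ?_, fun a b => ?_, ?_,
    hqT, fun y hy => hTH (hzT hy), fun y hy => ?_, fun y hy => ?_⟩
  · refine MonoidHom.ext fun y => Abelianization.commutator_subset_ker φ ?_
    have h : (y : G) ∈ (commutator ↥(lay N)).map (lay N).subtype := by
      rw [Subgroup.map_subtype_commutator, lay_perfect]; exact y.2
    obtain ⟨y', hy', e⟩ := h
    rwa [(Subtype.ext e.symm : y = y')]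
  · haveI := hK
    have hle : lay N ≤ K.map (lay N).subtype := f.gen _ (Subgroup.map_subtype_le K)
      (fun l hl => mem_norm_of_conj fun y hy => by
        obtain ⟨y', hy', rfl⟩ := hy
        exact ⟨⟨l, hl⟩ * y' * ⟨l, hl⟩⁻¹, hK.conj_mem y' hy' _, rfl⟩)
      fun hle => c.hyp.u_ne_t (by
        have hρ : ρ * t = t * ρ := Subgroup.mem_centralizer_iff.1 (hle ⟨_, htK, rfl⟩) ρ c.rho_mem
        rw [← c.rho_t, hρ]
        exact mul_inv_cancel_right _ _)
    refine (Subgroup.eq_top_iff' K).2 fun y => ?_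
    obtain ⟨y', hy', e⟩ := hle y.2
    rwa [(Subtype.ext e.symm : y = y')]
  · rw [Nat.card_congr (Subgroup.subgroupOfEquivOfLe c.P_lay).toEquiv]; exact c.hyp.card
  · exact Subtype.ext (Subtype.ext (c.hyp.comm a.2 b.2).eq)
  · obtain ⟨r1, r2, -, -⟩ := rho_sq c.hyp.uu c.hyp.tu c.rho_t c.rho_u
    rcases c.hyp.mem_cases (show ((a : ↥(lay N)) : G) ∈ (P : Subgroup G) from a.2) with e | e | e | e
    · exact absurd (Subtype.ext (Subtype.ext e)) ha
    · rw [show (a : ↥(lay N)) = ⟨t, htL⟩ from Subtype.ext e]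
    · exact isConj_iff.2 ⟨⟨ρ, c.rho_mem⟩, Subtype.ext (c.rho_t.trans e.symm)⟩
    · exact isConj_iff.2 ⟨⟨ρ * ρ, (lay N).mul_mem c.rho_mem c.rho_mem⟩, Subtype.ext (r2.trans e.symm)⟩
  · have h := hcmH (fun a ha a' ha' => by
      obtain ⟨i, rfl⟩ := Subgroup.mem_zpowers_iff.1 ha
      obtain ⟨j, rfl⟩ := Subgroup.mem_zpowers_iff.1 ha'
      exact Commute.zpow_zpow_self t i j) (fun a ha a' ha' => by
      haveI := c.torus_cyclic
      exact congrArg Subtype.val (IsCyclic.commGroup.mul_comm (⟨a, ha⟩ : ↥(lay N ⊓ O)) ⟨a', ha'⟩))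
      ⟨_, a.2⟩ ⟨_, b.2⟩
    have h' := congrArg Subtype.val h
    exact Subtype.ext (Subtype.ext h')
  · rw [Nat.card_congr (Subgroup.subgroupOfEquivOfLe hHL).toEquiv, hcH, Nat.card_zpowers,
      orderOf_eq_prime (p := 2) (by rw [pow_two]; exact ht2) c.hyp.mc.ne]
  · -- the fibres
    obtain ⟨S, hS⟩ : ∃ S, S = {p : ↥(H.subgroupOf (lay N)) × ↥(lay N) // p.2 * p.1 * p.2⁻¹ = y} := ⟨_, rfl⟩
    rw [← hS]
    rcases isEmpty_or_nonempty S with he | hne
    · rw [Nat.card_of_isEmpty]; exact Nat.zero_le _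
    subst hS
    obtain ⟨⟨⟨h₀, p₀⟩, e₀⟩⟩ := hne
    refine le_trans ?_ c.card_layCent_t
    have hmem : ∀ p : {p : ↥(H.subgroupOf (lay N)) × ↥(lay N) // p.2 * p.1 * p.2⁻¹ = y},
        ((p.1.2⁻¹ * p₀ : ↥(lay N)) : G) ∈ lay N ⊓ Cz := fun p => by
      refine ⟨SetLike.coe_mem _, c.torus_control (h := ((h₀ : ↥(lay N)) : G)) (h' := ((p.1.1 : ↥(lay N)) : G))
        (SetLike.coe_mem _) ((hmemH _).1 h₀.2) ((hmemH _).1 p.1.1.2) (fun e => hy ?_) ?_⟩
      · rw [← e₀, show (h₀ : ↥(lay N)) = 1 from Subtype.ext e, mul_one, mul_inv_cancel]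
      · rw [← Subgroup.coe_inv, ← Subgroup.coe_mul, ← Subgroup.coe_mul]
        refine congrArg Subtype.val ?_
        calc p.1.2⁻¹ * p₀ * (h₀ : ↥(lay N)) * (p.1.2⁻¹ * p₀)⁻¹
            = p.1.2⁻¹ * (p₀ * h₀ * p₀⁻¹) * p.1.2 := by group
          _ = p.1.2⁻¹ * (p.1.2 * p.1.1 * p.1.2⁻¹) * p.1.2 := by rw [e₀, p.2]
          _ = p.1.1 := by group
    refine Nat.card_le_card_of_injective (fun p => (⟨_, hmem p⟩ : ↥(lay N ⊓ Cz))) fun p p' e => ?_
    have e' := congrArg Subtype.val e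
    have e1 : p.1.2⁻¹ * p₀ = p'.1.2⁻¹ * p₀ := Subtype.ext e'
    have e2 : p.1.2 = p'.1.2 := inv_injective (mul_right_cancel e1)
    refine Subtype.ext (Prod.ext (Subtype.ext ?_) e2)
    have h := p.2.trans p'.2.symm
    rw [e2] at h
    exact mul_left_cancel (mul_right_cancel h)
  · refine isConj_iff.2 ⟨⟨u, huL⟩, Subtype.ext ?_⟩
    exact c.torus_inv u c.hyp.uP c.hyp.u_ne c.hyp.u_ne_t y (hzT hy)

end Cfsg.Agent.GW
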