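import Cfsg.Agent.Lib.GW.SolvLayerFix

/-!
# A maximal subgroup over `C(t)` with a layer is solvable for `|S| ≥ 8`

`PglData.false`: the tori of `u` and `t u` commute elementwise.  `solv_layer`: there is no such maximal subgroup.
-/

set_option autoImplicit false
set_option linter.style.haveILetI false
set_option linter.unusedSectionVars false

namespace Cfsg.Agent.GW

open Cfsg Cfsg.Agent Cfsg.Agent.GW.Reduced DihedralGroup

universe u

variable {G : Type u} [Group G] [Finite G]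

namespace PglData

variable {Φ : Frame G} {M W E D : Subgroup G} {q r s : ℕ}

/-- every outer reflection inverts the core -/
theorem core_inverted (h : PglData Φ M W E D q r s) (hG : Minimal G) (hk : 2 ≤ Φ.k) {i : ZMod (2 ^ Φ.k)}
    (hi : Φ.refl i ∉ D) {w : G} (hw : w ∈ W) : Φ.refl i * w * (Φ.refl i)⁻¹ = w⁻¹ :=
  haveI := hG.simple
  inverts (Φ.uu i) (norm_of_conj fun x hx => h.W_norm _ (h.refl_mem_M i) x hx)
    (fun _ hx hc => h.no_fixed hG hk hi hx hc) w hw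

/-- the core is commutative -/
theorem core_comm (h : PglData Φ M W E D q r s) (hG : Minimal G) (hk : 2 ≤ Φ.k) {x y : G} (hx : x ∈ W) (hy : y ∈ W) :
    Commute x y := by
  obtain ⟨i, hi⟩ := h.outer
  have h1 := h.core_inverted hG hk hi (mul_mem hx hy)
  rw [show Φ.refl i * (x * y) * (Φ.refl i)⁻¹ = Φ.refl i * x * (Φ.refl i)⁻¹ * (Φ.refl i * y * (Φ.refl i)⁻¹) by group,
    h.core_inverted hG hk hi hx, h.core_inverted hG hk hi hy, ← mul_inv_rev, inv_inj] at h1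
  exact h1.symm

/-- an element of `D` commutes with the core -/
theorem D_comm (h : PglData Φ M W E D q r s) (hG : Minimal G) (hk : 2 ≤ Φ.k) {b w : G} (hb : b ∈ D) (hw : w ∈ W) :
    Commute b w := by
  obtain ⟨e, he, w', hw', rfl⟩ := h.split b hb
  exact (h.EW e he w hw).mul_left (h.core_comm hG hk hw' hw)

/-- the conjugate torus lies in the core, the conjugate core in `M` -/
theorem conj_torus (h : PglData Φ M W E D q r s) (hG : Minimal G) (hk : 2 ≤ Φ.k) {i j : ZMod (2 ^ Φ.k)}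
    (hi : Φ.refl i ∉ D) (hj : Φ.refl j = Φ.t * Φ.refl i) {ρ : G} (hρt : ρ * Φ.t * ρ⁻¹ = Φ.refl i)
    (hρj : ρ * Φ.refl j * ρ⁻¹ = Φ.t) :
    ∃ R ≤ E, (∀ x ∈ R, Commute x (Φ.refl i)) ∧ (∀ x ∈ R, Φ.t * x * Φ.t⁻¹ = x⁻¹) ∧ Odd (Nat.card ↥R) ∧
      R ⊓ W = ⊥ ∧ Nat.card ↥R = r ∧ (∀ x ∈ R, ρ⁻¹ * x * ρ ∈ W) ∧ ∀ w ∈ W, ρ⁻¹ * w * ρ ∈ M := by
  classical
  haveI := hG.simple
  obtain ⟨R, hRE, hRodd, hRu, hRall, hRinv, hRr, hRcard⟩ := h.torus i hi
  have hRW : R ⊓ W = ⊥ := (Subgroup.eq_bot_iff_forall _).2 fun x hx => h.no_fixed hG hk hi hx.2 (hRu x hx.1)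
  have hcard : Nat.card ↥R = r := by rw [← hRcard, hRW, Subgroup.card_bot, mul_one]
  have hord : ∀ x ∈ R, Odd (orderOf x) := fun x hx => hRodd.of_dvd_nat (Subgroup.orderOf_dvd_natCard R hx)
  have hnormR : ∀ g : G, g ∈ M → Commute g (Φ.refl i) → ∀ x ∈ R, g * x * g⁻¹ ∈ R := fun g hg hgu x hx =>
    hRall _ (h.E_norm g hg x (hRE hx))
      (by
        have := (Commute.conj_iff g).2 (hRu x hx)
        rwa [mul_inv_eq_iff_eq_mul.2 hgu.eq] at this)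
      (by
        rw [show orderOf (g * x * g⁻¹) = orderOf x from
          orderOf_injective (MulAut.conj g).toMonoidHom (MulAut.conj g).injective x]
        exact hord x hx)
  have hinv : ∀ x ∈ R, Φ.t * x * Φ.t⁻¹ = x⁻¹ := by
    intro x hx
    have hy : Φ.t * x * Φ.t⁻¹ * x ∈ R :=
      mul_mem (hnormR _ (h.cent_mem (Commute.refl _)) (Φ.commute i) x hx) hx
    exact eq_inv_of_mul_eq_one_left (Subgroup.mem_bot.1 (hRW ▸ ⟨hy, hRinv x hx⟩))
  have hin : ∀ x ∈ R, ρ⁻¹ * x * ρ ∈ W := by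
    intro x hx
    have h1 := h.pull (g := ρ⁻¹) (i := i) (by rw [inv_inv, ← hρt]; group) (hRu x hx) (hord x hx) (hinv x hx)
    rw [inv_inv] at h1
    have h2 : (ρ⁻¹ * x * ρ) ^ r = 1 := by
      have h3 : x ^ r = 1 := Subgroup.mem_bot.1 (hRW ▸ ⟨pow_mem hx r, hRr x hx⟩)
      rw [show ρ⁻¹ * x * ρ = ρ⁻¹ * x * (ρ⁻¹)⁻¹ by rw [inv_inv], conj_pow, h3, mul_one, mul_inv_cancel]
    refine mem_of_coprime_pow (h.cop.coprime_dvd_right (dvd_mul_left s q)) (by rw [h2]; exact one_mem _) ?_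
    rwa [show ρ⁻¹ * x * ρ = ρ⁻¹ * x * (ρ⁻¹)⁻¹ by rw [inv_inv], conj_pow, inv_inv]
  obtain ⟨Y, hY⟩ : ∃ Y, Y = R.map (MulAut.conj ρ⁻¹).toMonoidHom := ⟨_, rfl⟩
  have hYmem : ∀ y ∈ Y, ∃ x ∈ R, y = ρ⁻¹ * x * ρ := by
    intro y hy
    rw [hY] at hy
    obtain ⟨x, hx, rfl⟩ := hy
    exact ⟨x, hx, by show ρ⁻¹ * x * ρ⁻¹⁻¹ = _; rw [inv_inv]⟩
  have hmemY : ∀ x ∈ R, ρ⁻¹ * x * ρ ∈ Y := fun x hx => hY ▸ ⟨x, hx, by show ρ⁻¹ * x * ρ⁻¹⁻¹ = _; rw [inv_inv]⟩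
  have hYW : Y ≤ W := fun y hy => by
    obtain ⟨x, hx, rfl⟩ := hYmem y hy
    exact hin x hx
  have hjD : Φ.refl j ∉ D := fun hm => hi (by
    have := mul_mem (h.E_le h.t_mem) hm
    rwa [hj, ← mul_assoc, Φ.tt, one_mul] at this)
  have hcentr : ∀ g : G, (∀ w ∈ W, Commute g w) → g ∈ Subgroup.normalizer (Y : Set G) := fun g hg =>
    Subgroup.centralizer_le_normalizer _ (Subgroup.mem_centralizer_iff.2 fun y hy => (hg y (hYW hy)).eq.symm)
  have hu : Φ.refl j ∈ Subgroup.normalizer (Y : Set G) := norm_of_conj fun y hy => by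
    rw [h.core_inverted hG hk hjD (hYW hy)]
    exact inv_mem hy
  have hfix : ∀ c : G, Commute c Φ.t → Commute c (Φ.refl j) → c ∈ Subgroup.normalizer (Y : Set G) := by
    intro c hct hcj
    refine norm_of_conj fun y hy => ?_
    obtain ⟨x, hx, rfl⟩ := hYmem y hy
    rw [show c * (ρ⁻¹ * x * ρ) * c⁻¹ = ρ⁻¹ * ((ρ * c * ρ⁻¹) * x * (ρ * c * ρ⁻¹)⁻¹) * ρ by group]
    refine hmemY _ (hnormR _ (h.cent_mem ?_) ?_ x hx)
    · rw [← hρj]; exact (Commute.conj_iff ρ).2 hcj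
    · rw [← hρt]; exact (Commute.conj_iff ρ).2 hct
  have hCY : Subgroup.centralizer ({Φ.t} : Set G) ≤ Subgroup.normalizer (Y : Set G) := by
    rw [← Φ.O_sup]
    refine sup_le (fun o ho => ?_) fun b hb => ?_
    · have hot : Commute o Φ.t := Subgroup.mem_centralizer_singleton_iff.1 (Φ.O_le ho)
      obtain ⟨z, hz⟩ : ∃ z, z = o⁻¹ * (Φ.refl j * o * (Φ.refl j)⁻¹) := ⟨_, rfl⟩
      have hzO : z ∈ Φ.O := hz ▸ mul_mem (inv_mem ho) (Φ.O_norm _ (Φ.S_le (Φ.refl_mem j)) o ho)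
      have hzi : Φ.refl j * z * (Φ.refl j)⁻¹ = z⁻¹ := by
        rw [hz]
        calc Φ.refl j * (o⁻¹ * (Φ.refl j * o * (Φ.refl j)⁻¹)) * (Φ.refl j)⁻¹
            = Φ.refl j * o⁻¹ * (Φ.refl j)⁻¹ * ((Φ.refl j * Φ.refl j) * o * (Φ.refl j * Φ.refl j)⁻¹) := by group
          _ = _ := by rw [Φ.uu]; group
      obtain ⟨m, hm⟩ := (Φ.O_odd.of_dvd_nat (Subgroup.orderOf_dvd_natCard _ hzO) : Odd (orderOf z))
      obtain ⟨f, hf⟩ : ∃ f, f = z ^ (m + 1) := ⟨_, rfl⟩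
      have hff : f * f = z := by
        rw [hf, ← pow_add, show m + 1 + (m + 1) = orderOf z + 1 by omega, pow_succ, pow_orderOf_eq_one, one_mul]
      have hfO : f ∈ Φ.O := hf ▸ pow_mem hzO _
      have hfi : Φ.refl j * f * (Φ.refl j)⁻¹ = f⁻¹ := by rw [hf, ← conj_pow, hzi, inv_pow]
      have hft : Commute f Φ.t := Subgroup.mem_centralizer_singleton_iff.1 (Φ.O_le hfO)
      have hfD : f ∈ D := h.inverted_mem (h.refl_mem_M j) (h.cent_mem hft)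
        (Φ.O_odd.of_dvd_nat (Subgroup.orderOf_dvd_natCard _ hfO)) hfi
      have hfixed : Φ.refl j * (o * f) * (Φ.refl j)⁻¹ = o * f := by
        calc Φ.refl j * (o * f) * (Φ.refl j)⁻¹
            = o * (o⁻¹ * (Φ.refl j * o * (Φ.refl j)⁻¹)) * (Φ.refl j * f * (Φ.refl j)⁻¹) := by group
          _ = o * (f * f) * f⁻¹ := by rw [← hz, hfi, hff]
          _ = _ := by group
      rw [show o = o * f * f⁻¹ by group]
      exact mul_mem (hfix _ (hot.mul_left hft) (mul_inv_eq_iff_eq_mul.1 hfixed).symm)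
        (inv_mem (hcentr f fun w hw => h.D_comm hG hk hfD hw))
    · by_cases hbD : b ∈ D
      · exact hcentr b fun w hw => h.D_comm hG hk hbD hw
      · rw [show b = b * Φ.refl j * Φ.refl j by rw [mul_assoc, Φ.uu, mul_one]]
        exact mul_mem (hcentr _ fun w hw =>
          h.D_comm hG hk (h.index_two b hb _ (Φ.refl_mem j) hbD hjD) hw) hu
  have hYne : Y ≠ ⊥ := by
    rw [hY, ne_eq, Subgroup.map_eq_bot_iff_of_injective _ (MulAut.conj ρ⁻¹).injective]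
    intro e
    rw [e, Subgroup.card_bot] at hcard
    have := h.three
    omega
  have hnorm := h.core Y hYne hYW hCY
  refine ⟨R, hRE, hRu, hinv, hRodd, hRW, hcard, hin, fun w hw => ?_⟩
  rw [← hnorm]
  refine Subgroup.centralizer_le_normalizer _ (Subgroup.mem_centralizer_iff.2 fun y hy => ?_)
  obtain ⟨x, hx, rfl⟩ := hYmem y hy
  have := (Commute.conj_iff ρ⁻¹).2 (h.EW x (hRE hx) w hw)
  rw [inv_inv] at this
  exact this.eq

/-- **the configuration is impossible** -/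
protected theorem false (h : PglData Φ M W E D q r s) (hG : Minimal G) (hk : 2 ≤ Φ.k) : False := by
  classical
  obtain ⟨i, hi⟩ := h.outer
  obtain ⟨ρ, hρt, hρu⟩ := hG.exists_rho Φ i
  obtain ⟨j, hj⟩ := Φ.t_mul_refl i
  have hjD : Φ.refl j ∉ D := fun hm => hi (by
    have := mul_mem (h.E_le h.t_mem) hm
    rwa [hj, ← mul_assoc, Φ.tt, one_mul] at this)
  have hρtu : ρ * Φ.refl j * ρ⁻¹ = Φ.t := by
    rw [hj]
    calc ρ * (Φ.t * Φ.refl i) * ρ⁻¹ = (ρ * Φ.t * ρ⁻¹) * (ρ * Φ.refl i * ρ⁻¹) := by group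
      _ = Φ.t := by rw [hρt, hρu, ← mul_assoc, ← (Φ.commute i).eq, mul_assoc, Φ.uu, mul_one]
  have hρit : ρ⁻¹ * Φ.t * ρ = Φ.refl j := by rw [← hρtu]; group
  obtain ⟨R, hRE, hRu, hRi, hRodd, hRW, hRc, hRin, -⟩ := h.conj_torus hG hk hi hj hρt hρtu
  obtain ⟨R', hR'E, hR'u, hR'i, hR'odd, hR'W, hR'c, hR'in, hM'⟩ := h.conj_torus hG hk hjD (j := i)
    (by rw [hj, ← mul_assoc, Φ.tt, one_mul]) (ρ := ρ⁻¹) (by rw [inv_inv]; exact hρit)
    (by rw [inv_inv, ← hρt]; group)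
  simp only [inv_inv] at hR'in hM'
  -- the two tori commute
  have hcomm : ∀ x : R, ∀ z : R', Commute (x : G) (z : G) := by
    rintro ⟨x, hx⟩ ⟨z, hz⟩
    obtain ⟨w, hw⟩ : ∃ w, w = ρ * z * ρ⁻¹ := ⟨_, rfl⟩
    have hwW : w ∈ W := hw ▸ hR'in z hz
    obtain ⟨c, hc⟩ : ∃ c, c = (ρ * ρ * ρ)⁻¹ := ⟨_, rfl⟩
    have hct : Commute c Φ.t := by
      rw [hc]
      refine Commute.inv_left (mul_inv_eq_iff_eq_mul.1 ?_)
      calc ρ * ρ * ρ * Φ.t * (ρ * ρ * ρ)⁻¹ = ρ * (ρ * (ρ * Φ.t * ρ⁻¹) * ρ⁻¹) * ρ⁻¹ := by group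
        _ = Φ.t := by rw [hρt, hρu, ← hj, hρtu]
    obtain ⟨w', hw'⟩ : ∃ w', w' = c * w * c⁻¹ := ⟨_, rfl⟩
    have hw'W : w' ∈ W := hw' ▸ h.W_norm c (h.cent_mem hct) w hwW
    have hz₀ : ρ⁻¹ * z * ρ = ρ * w' * ρ⁻¹ := by rw [hw', hw, hc]; group
    have hD : ρ⁻¹ * z * ρ ∈ D := by
      rw [hz₀]
      refine h.inverted_mem (a := Φ.t) (h.cent_mem (Commute.refl _)) (hM' w' hw'W) ?_ ?_
      · rw [show orderOf (ρ * w' * ρ⁻¹) = orderOf w' from
          orderOf_injective (MulAut.conj ρ).toMonoidHom (MulAut.conj ρ).injective w']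
        exact h.W_odd.of_dvd_nat (Subgroup.orderOf_dvd_natCard W hw'W)
      · have h1 := h.core_inverted hG hk hjD hw'W
        calc Φ.t * (ρ * w' * ρ⁻¹) * Φ.t⁻¹
            = (ρ * Φ.refl j * ρ⁻¹) * (ρ * w' * ρ⁻¹) * (ρ * Φ.refl j * ρ⁻¹)⁻¹ := by rw [hρtu]
          _ = ρ * (Φ.refl j * w' * (Φ.refl j)⁻¹) * ρ⁻¹ := by group
          _ = _ := by rw [h1]; group
    have h2 := (Commute.conj_iff ρ).2 (h.D_comm hG hk hD (hRin x hx)).symm
    rwa [show ρ * (ρ⁻¹ * x * ρ) * ρ⁻¹ = x by group, show ρ * (ρ⁻¹ * z * ρ) * ρ⁻¹ = z by group] at h2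
  have hsq : ∀ {a : G}, Odd (orderOf a) → a = a⁻¹ → a = 1 := fun {a} ho e => eq_one_of_inverted a ho e
  have hmeet : ∀ x ∈ R, x ∈ R' → x = 1 := fun x hx hx' => by
    have hc : Commute x Φ.t := by
      have := (hR'u x hx').mul_right (hRu x hx)
      rwa [hj, mul_assoc, Φ.uu, mul_one] at this
    have hi' := hRi x hx
    rw [← hc.eq, mul_inv_cancel_right] at hi'
    exact hsq (hRodd.of_dvd_nat (Subgroup.orderOf_dvd_natCard R hx)) hi'
  let f : ↥R × ↥R' →* G := MonoidHom.noncommCoprod R.subtype R'.subtype hcomm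
  have hf : Function.Injective f := by
    rw [injective_iff_map_eq_one]
    rintro ⟨⟨x, hx⟩, ⟨z, hz⟩⟩ hxz
    have hxz : x * z = 1 := hxz
    have h1 : x = 1 := hmeet x hx (by rw [eq_inv_of_mul_eq_one_left hxz]; exact inv_mem hz)
    rw [h1, one_mul] at hxz
    exact Prod.ext (Subtype.ext h1) (Subtype.ext hxz)
  have hdvd := h.lag f.range
    (by
      rintro _ ⟨p, rfl⟩
      exact mul_mem (h.E_le (hRE p.1.2)) (h.E_le (hR'E p.2.2)))
    (by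
      refine (Subgroup.eq_bot_iff_forall _).2 ?_
      rintro _ ⟨⟨⟨⟨x, hx⟩, ⟨z, hz⟩⟩, rfl⟩, hW⟩
      have hW : x * z ∈ W := hW
      refine hsq (h.W_odd.of_dvd_nat (Subgroup.orderOf_dvd_natCard W hW)) ?_
      show x * z = (x * z)⁻¹
      have hc : Commute (x * z) Φ.t := Subgroup.mem_centralizer_singleton_iff.1 (h.W_cent hW)
      calc x * z = Φ.t * (x * z) * Φ.t⁻¹ := by rw [← hc.eq, mul_inv_cancel_right]
        _ = (Φ.t * x * Φ.t⁻¹) * (Φ.t * z * Φ.t⁻¹) := by group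
        _ = x⁻¹ * z⁻¹ := by rw [hRi x hx, hR'i z hz]
        _ = _ := by rw [mul_inv_rev, ((hcomm ⟨x, hx⟩ ⟨z, hz⟩).inv_inv).eq])
  rw [← Nat.card_congr (MonoidHom.ofInjective hf).toEquiv, Nat.card_prod, hRc, hR'c] at hdvd
  have h3 := h.three
  have h1 : r ∣ q * s := Nat.dvd_of_mul_dvd_mul_right (by omega) hdvd
  have := Nat.eq_one_of_dvd_coprimes h.cop dvd_rfl h1
  omega

end PglData

/-- For `|S| ≥ 8` a maximal subgroup over `C(t)` with a layer is solvable (so there is none). -/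
theorem solv_layer (hG : Minimal G) (Φ : Frame G) (hk : 2 ≤ Φ.k) (M : Subgroup G) (hM : IsCoatom M)
    (hC : Subgroup.centralizer ({Φ.t} : Set G) ≤ M) (hE : Cfsg.layer ↥M ≠ ⊥) : Group.IsSolvable M := by
  by_contra hns
  obtain ⟨W, E, D, q, r, s, h⟩ := exists_pglData hG Φ hk M hM hC hE hns
  exact h.false hG hk

end Cfsg.Agent.GW
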