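import Cfsg.Agent.Lib.GW.SolvModel
import Cfsg.Agent.Lib.GW.SolvPslFacts
import Cfsg.Agent.Lib.GW.MaxLayerTop
import Cfsg.Agent.Lib.GW.MaxLayerProof

/-!
# The data of a layered maximal subgroup of `PGL₂` type over `C(t)`

`PglData`: the layer `E`, the core `W`, `D = E W`, and the two odd tori, inside the whole group.
-/

set_option autoImplicit false
set_option linter.style.haveILetI false
set_option linter.unusedSectionVars false

namespace Cfsg.Agent.GW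

open Cfsg Cfsg.Agent Cfsg.Agent.GW.Reduced DihedralGroup
open scoped commutatorElement

universe u

/-- two commuting distinct involutions: the second inverts the odd torus of the first -/
theorem torus_inverted {X : Type u} [Group X] [Finite X] {F : Type} [Field F] [Fintype F] (h2 : (2 : F) ≠ 0)
    (h5 : 5 ≤ Fintype.card F) {L : Subgroup X} [L.Normal] (i : L ≃* Matrix.ProjectiveSpecialLinearGroup (Fin 2) F)
    (hC : Subgroup.centralizer (L : Set X) = ⊥)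
    (hS : ∀ P : Sylow 2 X, ∃ m, 2 ≤ m ∧ Nonempty ((P : Subgroup X) ≃* DihedralGroup m))
    {a z : X} (ha : a * a = 1) (ha1 : a ≠ 1) (hz : z * z = 1) (hz1 : z ≠ 1) (hza : z ≠ a) (hzc : Commute z a)
    {x : X} (hx : x ∈ L) (hxa : Commute x a) (hxo : Odd (orderOf x)) : z * x * z⁻¹ * x = 1 := by
  obtain ⟨v, R, f⟩ := torus_psl h2 h5 i hC hS ha ha1
  haveI := f.R_cyclic
  obtain ⟨w, hw⟩ : ∃ w, w = z * x * z⁻¹ := ⟨_, rfl⟩
  have hwa : Commute w a := by
    have := (Commute.conj_iff z).2 hxa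
    rwa [mul_inv_eq_iff_eq_mul.2 hzc.eq, ← hw] at this
  have hxR := f.R_all x hx hxa hxo
  have hwR : w ∈ R := f.R_all w (hw ▸ (inferInstance : L.Normal).conj_mem x hx z) hwa (by
    rw [hw, show orderOf (z * x * z⁻¹) = orderOf x from
      orderOf_injective (MulAut.conj z).toMonoidHom (MulAut.conj z).injective x]
    exact hxo)
  have hcomm : w * x = x * w :=
    congrArg Subtype.val ((IsCyclic.commGroup (α := R)).mul_comm ⟨w, hwR⟩ ⟨x, hxR⟩)
  have hyR : w * x ∈ R := mul_mem hwR hxR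
  rw [← hw]
  refine odd_two_invols h2 h5 i hC hS hz hz1 ha ha1 hza (f.R_le hyR)
    (f.R_odd.of_dvd_nat (Subgroup.orderOf_dvd_natCard R hyR)) ?_ (f.R_comm _ hyR)
  show w * x * z = z * (w * x)
  nth_rewrite 2 [hcomm]
  rw [hw]
  have hzi : z⁻¹ = z := inv_eq_of_mul_eq_one_right hz
  calc z * x * z⁻¹ * x * z = z * x * (z⁻¹ * x * z) := by group
    _ = z * x * (z * x * z⁻¹) := by rw [hzi]
    _ = z * (x * (z * x * z⁻¹)) := by group

variable {G : Type u} [Group G] [Finite G]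

/-- what is used about a layered maximal subgroup over `C(t)` with an outer reflection -/
structure PglData (Φ : Frame G) (M W E D : Subgroup G) (q r s : ℕ) : Prop where
  coatom : IsCoatom M
  cent_le : Subgroup.centralizer ({Φ.t} : Set G) ≤ M
  core : ∀ Y : Subgroup G, Y ≠ ⊥ → Y ≤ W →
    Subgroup.centralizer ({Φ.t} : Set G) ≤ Subgroup.normalizer (Y : Set G) → Subgroup.normalizer (Y : Set G) = M
  E_norm : ∀ g ∈ M, ∀ e ∈ E, g * e * g⁻¹ ∈ E
  W_norm : ∀ g ∈ M, ∀ w ∈ W, g * w * g⁻¹ ∈ W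
  W_odd : Odd (Nat.card ↥W)
  W_cent : W ≤ Subgroup.centralizer ({Φ.t} : Set G)
  EW : ∀ e ∈ E, ∀ w ∈ W, Commute e w
  t_mem : Φ.t ∈ E
  E_le : E ≤ D
  W_le : W ≤ D
  D_le : D ≤ M
  split : ∀ b ∈ D, ∃ e ∈ E, ∃ w ∈ W, b = e * w
  comm : ∀ a ∈ M, ∀ b ∈ M, a * b * a⁻¹ * b⁻¹ ∈ D
  perfect : ⁅E, E⁆ = E
  small : ∀ N : Subgroup G, N ≤ E → E ≤ Subgroup.normalizer (N : Set G) → Group.IsSolvable ↥N → N ≤ W
  idx : 60 ≤ W.relIndex E ∧ W.relIndex E ≠ 72
  outer : ∃ i, Φ.refl i ∉ D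
  inner : ∃ j, Φ.refl j ∈ D
  index_two : ∀ a ∈ (Φ.S : Subgroup G), ∀ b ∈ (Φ.S : Subgroup G), a ∉ D → b ∉ D → a * b ∈ D
  three : 3 ≤ r
  cop : Nat.Coprime r (q * s)
  pow_t : ∀ b ∈ D, Commute b Φ.t → b ^ s ∈ W
  inv_t : ∀ b ∈ D, Commute b Φ.t → Odd (orderOf b) → ∀ i, Φ.refl i * b * (Φ.refl i)⁻¹ * b ∈ W
  torus : ∀ i, Φ.refl i ∉ D → ∃ R ≤ E, Odd (Nat.card ↥R) ∧ (∀ x ∈ R, Commute x (Φ.refl i)) ∧
    (∀ x ∈ E, Commute x (Φ.refl i) → Odd (orderOf x) → x ∈ R) ∧ (∀ x ∈ R, Φ.t * x * Φ.t⁻¹ * x ∈ W) ∧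
    (∀ x ∈ R, x ^ r ∈ W) ∧ r * Nat.card ↥(R ⊓ W : Subgroup G) = Nat.card ↥R
  lag : ∀ H : Subgroup G, H ≤ D → H ⊓ W = ⊥ → Nat.card ↥H ∣ q * s * r

/-- a maximal subgroup with layer over `C(t)` gives the data -/
theorem exists_pglData (hG : Minimal G) (Φ : Frame G) (hk : 2 ≤ Φ.k) (M : Subgroup G) (hM : IsCoatom M)
    (hC : Subgroup.centralizer ({Φ.t} : Set G) ≤ M) (hE : Cfsg.layer ↥M ≠ ⊥) (hns : ¬ Group.IsSolvable M) :
    ∃ (W E D : Subgroup G) (q r s : ℕ), PglData Φ M W E D q r s := by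
  classical
  haveI := hG.simple
  haveI : Fact (Nat.Prime 2) := ⟨Nat.prime_two⟩
  haveI hOn : (Cfsg.oddCore ↥M).Normal := Solv.pPrimeCore_normal 2
  haveI : NeZero (2 ^ Φ.k) := ⟨by positivity⟩
  obtain ⟨L, hLn, hCL, F, hF, hFt, hFodd, h3, ⟨iL⟩⟩ := exists_psl_model hG Φ hk M hM hC hns
  haveI := hLn
  have hmod : IsModel L := Or.inl ⟨F, hF, hFt, hFodd, h3, ⟨iL⟩⟩
  obtain ⟨hsimp, hnab⟩ := hmod.simple
  haveI := hsimp
  haveI : Group.IsPerfect L := perfect_of_simple hnab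
  have h2F : (2 : F) ≠ 0 := by
    obtain ⟨p, hp⟩ := CharP.exists F
    obtain ⟨d, hpp, hd⟩ := FiniteField.card F p
    intro h
    haveI : CharP F 2 := CharTwo.of_one_ne_zero_of_two_eq_zero one_ne_zero h
    have := CharP.eq F hp (inferInstance : CharP F 2)
    rw [hd, this] at hFodd
    exact Nat.not_even_iff_odd.2 hFodd (Nat.even_pow.2 ⟨even_two, d.ne_zero⟩)
  have h5 : 5 ≤ Fintype.card F := by obtain ⟨j, hj⟩ := hFodd; omega
  have hSM : (Φ.S : Subgroup G) ≤ M := Φ.S_le.trans hC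
  have hodd : Odd (Nat.card (Cfsg.oddCore ↥M)) := Nat.coprime_two_right.1 (Fusion.card_pPrimeCore_coprime 2 ↥M)
  haveI : Group.IsSolvable ↥(Cfsg.oddCore ↥M) := Solv.Partition.odd_solvable hodd
  haveI : Group.IsPerfect ↥(Cfsg.layer ↥M) := S1247.layer_perfect'
  set π := QuotientGroup.mk' (Cfsg.oddCore ↥M) with hπ
  have hπ1 : ∀ x : ↥M, π x = 1 ↔ x ∈ Cfsg.oddCore ↥M := fun x => QuotientGroup.eq_one_iff x
  let T : Sylow 2 M := Φ.S.subtype hSM
  let T' := T.mapSurjective (QuotientGroup.mk'_surjective (Cfsg.oddCore ↥M))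
  obtain ⟨sq⟩ := sylow_quotient (Cfsg.oddCore ↥M) hodd T
  let eT : (T' : Subgroup (↥M ⧸ Cfsg.oddCore ↥M)) ≃* DihedralGroup (2 ^ Φ.k) :=
    sq.symm.trans ((Subgroup.subgroupOfEquivOfLe hSM).trans Φ.ι.symm)
  have hn2 : 2 ≤ 2 ^ Φ.k := Nat.one_lt_two_pow (by have := Φ.hk; omega)
  have hSq : ∀ P : Sylow 2 (↥M ⧸ Cfsg.oddCore ↥M),
      ∃ m, 2 ≤ m ∧ Nonempty ((P : Subgroup (↥M ⧸ Cfsg.oddCore ↥M)) ≃* DihedralGroup m) :=
    fun P => ⟨_, hn2, ⟨(P.equiv T').trans eT⟩⟩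
  let eS : DihedralGroup (2 ^ Φ.k) →* ↥M := Φ.hom.codRestrict M fun d => hSM (Φ.hom_range ▸ ⟨d, rfl⟩)
  let ψ := π.comp eS
  have hSψ : ∀ x ∈ (Φ.S : Subgroup G), ∀ hx : x ∈ M, ∃ d, π ⟨x, hx⟩ = ψ d ∧ Φ.hom d = x := by
    intro x hx hxM
    obtain ⟨d, hd⟩ := (Φ.hom_range ▸ hx : x ∈ Φ.hom.range)
    exact ⟨d, congrArg π (Subtype.ext hd.symm), hd⟩
  have hrange : ψ.range = (T' : Subgroup (↥M ⧸ Cfsg.oddCore ↥M)) := by
    refine le_antisymm ?_ ?_
    · rintro _ ⟨d, rfl⟩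
      exact ⟨eS d, show Φ.hom d ∈ (Φ.S : Subgroup G) from Φ.hom_range ▸ ⟨d, rfl⟩, rfl⟩
    · rintro _ ⟨x, hx, rfl⟩
      obtain ⟨d, hd⟩ := (Φ.hom_range ▸ (hx : (x : G) ∈ (Φ.S : Subgroup G)) : (x : G) ∈ Φ.hom.range)
      exact ⟨d, congrArg π (Subtype.ext hd)⟩
  -- the trace of `L` on the Sylow subgroup is not cyclic
  have hncyc : ¬ IsCyclic ↥((T' : Subgroup (↥M ⧸ Cfsg.oddCore ↥M)) ⊓ L) := by
    intro hcyc
    obtain ⟨TL⟩ := (inferInstance : Nonempty (Sylow 2 L))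
    obtain ⟨R, hR⟩ := (TL.isPGroup'.map L.subtype).exists_le_sylow
    obtain ⟨g, hg⟩ := MulAction.exists_smul_eq (↥M ⧸ Cfsg.oddCore ↥M) R T'
    let j : (TL : Subgroup L) →* ↥((T' : Subgroup (↥M ⧸ Cfsg.oddCore ↥M)) ⊓ L) :=
      ((MulAut.conj g).toMonoidHom.comp (L.subtype.comp (TL : Subgroup L).subtype)).codRestrict _ fun x =>
        ⟨by
          rw [← hg, Sylow.coe_subgroup_smul]
          exact ⟨_, hR ⟨x, x.2, rfl⟩, rfl⟩,
        hLn.conj_mem _ (x : L).2 g⟩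
    refine not_cyclic_of_perfect TL (even_of_simple hnab) (isCyclic_of_injective j fun x y h => ?_)
    exact Subtype.ext (Subtype.ext ((MulAut.conj g).injective (congrArg Subtype.val h)))
  have hne : L.comap ψ ≠ ⊥ := by
    intro h
    refine hncyc ?_
    rw [show (T' : Subgroup (↥M ⧸ Cfsg.oddCore ↥M)) ⊓ L = ⊥ from (Subgroup.eq_bot_iff_forall _).2 fun x hx => by
      obtain ⟨d, rfl⟩ : x ∈ ψ.range := hrange ▸ hx.1
      rw [show d = 1 from (Subgroup.eq_bot_iff_forall _).1 h d hx.2, map_one]]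
    infer_instance
  obtain ⟨j₀, hj₀⟩ : ∃ j, ψ (sr j) ∈ L := by
    by_contra hno
    push Not at hno
    refine hncyc ?_
    have hle : (T' : Subgroup (↥M ⧸ Cfsg.oddCore ↥M)) ⊓ L ≤ Subgroup.zpowers (ψ (r 1)) := by
      intro x hx
      obtain ⟨d, rfl⟩ : x ∈ ψ.range := hrange ▸ hx.1
      rcases d with i | i
      · exact ⟨(i.val : ℤ), show ψ (r 1) ^ ((i.val : ℕ) : ℤ) = _ by
          rw [zpow_natCast, ← map_pow, r_one_pow, ZMod.natCast_rightInverse]⟩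
      · exact absurd hx.2 (hno i)
    exact isCyclic_of_injective (Subgroup.inclusion hle) (Subgroup.inclusion_injective hle)
  let tM : ↥M := ⟨Φ.t, hSM Φ.t_mem⟩
  have htt : tM * tM = 1 := Subtype.ext Φ.tt
  set a := π tM with ha_def
  have haL : a ∈ L := half_mem_of_normal hk (L.comap ψ) (hLn.comap ψ) hne
  have hker1 : ∀ c : ↥M, c * c = 1 → π c = 1 → c = 1 := fun c hc h =>
    orderOf_eq_one_iff.1 (Nat.eq_one_of_dvd_coprimes hodd.coprime_two_left
      (orderOf_dvd_of_pow_eq_one (by rw [pow_two, hc])) (Subgroup.orderOf_dvd_natCard _ ((hπ1 c).1 h)))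
  have ha : a * a = 1 := by rw [ha_def, ← map_mul, htt, map_one]
  have ha1 : a ≠ 1 := fun h => Φ.t_ne (congrArg Subtype.val (hker1 tM htt h))
  let uM : ZMod (2 ^ Φ.k) → ↥M := fun i => ⟨Φ.refl i, hSM (Φ.refl_mem i)⟩
  have huu : ∀ i, uM i * uM i = 1 := fun i => Subtype.ext (Φ.uu i)
  have huψ : ∀ i, π (uM i) = ψ (sr i) := fun i => congrArg π (Subtype.ext rfl)
  have hut : ∀ i, Commute (uM i) tM := fun i => Subtype.ext (Φ.commute i).symm.eq
  have hu1 : ∀ i, π (uM i) ≠ 1 := fun i h => Φ.refl_ne_one i (congrArg Subtype.val (hker1 _ (huu i) h))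
  have hua : ∀ i, π (uM i) ≠ a := fun i h => by
    have h1 : uM i * tM = 1 := hker1 _ (by rw [(hut i).symm.mul_mul_mul_comm, huu i, htt, one_mul])
      (by rw [map_mul, h, ← ha_def, ha])
    exact Φ.refl_ne i (congrArg (fun x : ↥M => (x : G)) ((eq_inv_of_mul_eq_one_left h1).trans (inv_eq_of_mul_eq_one_right htt)))
  -- `L` and the layer
  obtain ⟨v₁, R₁, f₁⟩ := torus_psl h2F h5 iL hCL hSq ha ha1
  have hEn : (Cfsg.layer ↥M).Normal := Local.layer_normal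
  have hp : ⁅Cfsg.layer ↥M, Cfsg.layer ↥M⁆ = Cfsg.layer ↥M := by
    rw [← Subgroup.map_subtype_commutator, (inferInstance : Group.IsPerfect ↥(Cfsg.layer ↥M)).commutator_eq_top,
      ← MonoidHom.range_eq_map, Subgroup.range_subtype]
  have hLE := model_le_layer hmod hCL hE
  have hπE : (Cfsg.layer ↥M).map π = L := by
    refine le_antisymm ?_ hLE
    rw [← hp, Subgroup.map_commutator, Subgroup.commutator_le]
    intro x _ y _
    rw [commutatorElement_def]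
    exact f₁.comm x y
  have hO : ⁅Cfsg.layer ↥M, Cfsg.oddCore ↥M⁆ = ⊥ :=
    Solv.layer_commutator_solvable (Solv.pPrimeCore_normal 2).isSubnormal inferInstance
  obtain ⟨W, hW⟩ : ∃ W, W = (Cfsg.oddCore ↥M).map M.subtype := ⟨_, rfl⟩
  obtain ⟨D, hD⟩ : ∃ D, D = (L.comap π).map M.subtype := ⟨_, rfl⟩
  have hmW : ∀ x : ↥M, (x : G) ∈ W ↔ x ∈ Cfsg.oddCore ↥M := fun x => hW ▸ Subgroup.mem_map_iff_mem M.subtype_injective
  have hmD : ∀ x : ↥M, (x : G) ∈ D ↔ π x ∈ L := fun x => hD ▸ Subgroup.mem_map_iff_mem M.subtype_injective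
  have hmE : ∀ x : ↥M, (x : G) ∈ lay M ↔ x ∈ Cfsg.layer ↥M := fun x => Subgroup.mem_map_iff_mem M.subtype_injective
  have hWM : W ≤ M := hW ▸ Subgroup.map_subtype_le _
  have hDM : D ≤ M := hD ▸ Subgroup.map_subtype_le _
  have hEM : lay M ≤ M := Subgroup.map_subtype_le _
  have htE : Φ.t ∈ lay M := mem_layer_of_involution hLE htt haL
  obtain ⟨i₀, hi₀⟩ : ∃ i, ψ (sr i) ∉ L := by
    by_contra hno
    push Not at hno
    refine exists_outer hG Φ hk M hM hC L hmod (show (T' : Subgroup (↥M ⧸ Cfsg.oddCore ↥M)) ≤ L from ?_)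
    rw [← hrange]
    rintro _ ⟨d, rfl⟩
    rcases d with j | j
    · rw [show (r j : DihedralGroup (2 ^ Φ.k)) = sr 0 * sr j by rw [sr_mul_sr, sub_zero], map_mul]
      exact L.mul_mem (hno 0) (hno j)
    · exact hno j
  obtain ⟨r, s, hr, hr3, hrs, hLcard, hs, -, -⟩ :=
    psl_pgl h2F h5 iL hCL hSq ha ha1 haL (w := π (uM i₀)) (by rw [← map_mul, huu, map_one]) (hu1 i₀)
      (huψ i₀ ▸ hi₀)
  obtain ⟨q, hq⟩ : ∃ q, q = Fintype.card F := ⟨_, rfl⟩
  have hidx : W.relIndex (lay M) = Nat.card L := by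
    rw [hW, lay, Subgroup.relIndex_map_map_of_injective _ _ M.subtype_injective, ← hπE, ← Subgroup.relIndex_ker, hπ,
      QuotientGroup.ker_mk']
  refine ⟨W, lay M, D, q, r, s,
    { coatom := hM, cent_le := hC
      core := fun Y hY hYW hCY => normalizer_core_part hG Φ hk M hM hC hE hY (hW ▸ hYW) hCY
      E_norm := ?_, W_norm := ?_, W_odd := ?_, W_cent := hW ▸ core_le_centralizer htE, EW := ?_, t_mem := htE
      E_le := ?_, W_le := ?_, D_le := hDM, split := ?_, comm := ?_, perfect := ?_, small := ?_, idx := ?_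
      outer := ⟨i₀, fun h => hi₀ (huψ i₀ ▸ (hmD (uM i₀)).1 h)⟩
      inner := ⟨j₀, (hmD (uM j₀)).2 (huψ j₀ ▸ hj₀)⟩
      index_two := ?_, three := hr3, cop := ?_, pow_t := ?_, inv_t := ?_, torus := ?_, lag := ?_ }⟩
  · rintro g hg _ ⟨e, he, rfl⟩
    exact ⟨⟨g, hg⟩ * e * ⟨g, hg⟩⁻¹, hEn.conj_mem e he _, rfl⟩
  · rintro g hg w hw
    exact (hmW (⟨g, hg⟩ * ⟨w, hWM hw⟩ * ⟨g, hg⟩⁻¹)).2 (hOn.conj_mem _ ((hmW ⟨w, hWM hw⟩).1 hw) _)
  · rw [hW, Subgroup.card_map_of_injective M.subtype_injective]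
    exact hodd
  · rintro _ ⟨e, he, rfl⟩ w hw
    have h : e * ⟨w, hWM hw⟩ = ⟨w, hWM hw⟩ * e := commutatorElement_eq_one_iff_mul_comm.1 (Subgroup.mem_bot.1
      (hO ▸ Subgroup.commutator_mem_commutator he ((hmW ⟨w, hWM hw⟩).1 hw)))
    exact congrArg (fun x : ↥M => (x : G)) h
  · rintro _ ⟨e, he, rfl⟩
    exact (hmD e).2 (hπE ▸ Subgroup.mem_map_of_mem π he)
  · intro w hw
    exact (hmD ⟨w, hWM hw⟩).2 (by rw [(hπ1 _).2 ((hmW ⟨w, hWM hw⟩).1 hw)]; exact one_mem _)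
  · intro b hb
    obtain ⟨e, he, hee⟩ := hπE.ge ((hmD ⟨b, hDM hb⟩).1 hb)
    refine ⟨(e : G), (hmE e).2 he, ((e⁻¹ * ⟨b, hDM hb⟩ : ↥M) : G), (hmW _).2 ((hπ1 _).1 ?_), ?_⟩
    · rw [map_mul, map_inv, hee, inv_mul_cancel]
    · simp
  · intro x hx y hy
    refine (hmD (⟨x, hx⟩ * ⟨y, hy⟩ * ⟨x, hx⟩⁻¹ * ⟨y, hy⟩⁻¹)).2 ?_
    rw [map_mul, map_mul, map_mul, map_inv, map_inv]
    exact f₁.comm _ _
  · rw [lay, ← Subgroup.map_commutator, hp]
  · intro N hNE hNn hNs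
    haveI := hNs
    haveI hn' : (((N.subgroupOf M).map π).subgroupOf L).Normal := by
      refine ⟨fun x hx g => ?_⟩
      rw [Subgroup.mem_subgroupOf] at hx ⊢
      obtain ⟨y, hy, hy'⟩ := hx
      obtain ⟨e, he, he'⟩ := hπE.ge g.2
      refine ⟨e * y * e⁻¹, (Subgroup.mem_normalizer_iff.1 (hNn ((hmE e).2 he)) _).1 hy, ?_⟩
      rw [map_mul, map_mul, map_inv, hy', he']
      rfl
    haveI hsol : Group.IsSolvable ↥((N.subgroupOf M).map π) :=
      haveI : Group.IsSolvable ↥(N.subgroupOf M) := Group.isSolvable_of_isSolvable_injective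
        (f := (Subgroup.subgroupOfEquivOfLe (hNE.trans hEM)).toMonoidHom) (MulEquiv.injective _)
      Group.isSolvable_of_surjective (f := π.subgroupMap (N.subgroupOf M)) (π.subgroupMap_surjective _)
    intro x hx
    refine (hmW ⟨x, hEM (hNE hx)⟩).2 ((hπ1 _).1 ?_)
    have hxm : π ⟨x, hEM (hNE hx)⟩ ∈ (N.subgroupOf M).map π := ⟨_, hx, rfl⟩
    have hxL : π ⟨x, hEM (hNE hx)⟩ ∈ L := hπE ▸ Subgroup.mem_map_of_mem π ((hmE _).1 (hNE hx))
    rcases hn'.eq_bot_or_eq_top with h | h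
    · exact congrArg Subtype.val ((Subgroup.eq_bot_iff_forall _).1 h ⟨_, hxL⟩ hxm)
    · exfalso
      have hle : L ≤ (N.subgroupOf M).map π := Subgroup.subgroupOf_eq_top.1 h
      haveI : Group.IsSolvable ↥L := Group.isSolvable_of_isSolvable_injective (Subgroup.inclusion_injective hle)
      haveI : Nontrivial ↥L := hsimp.toNontrivial
      exact (Group.IsSolvable.commutator_lt_top_of_nontrivial ↥L).ne Group.IsPerfect.commutator_eq_top
  · rw [hidx]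
    have hc := Classical.Dickson.card_psl F
    rw [Psl.gcd_two h2F, ← Nat.card_congr iL.toEquiv] at hc
    rcases (show Fintype.card F = 5 ∨ 7 ≤ Fintype.card F by obtain ⟨j, hj⟩ := hFodd; omega) with h | h
    · rw [h] at hc
      norm_num at hc
      omega
    · have h48 : 48 ≤ Fintype.card F ^ 2 - 1 := by
        have := Nat.pow_le_pow_left h 2
        omega
      have := Nat.mul_le_mul h h48
      omega
  · intro x hx y hy hxD hyD
    obtain ⟨d, hd, hd'⟩ := hSψ x hx (hSM hx)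
    obtain ⟨e, he, he'⟩ := hSψ y hy (hSM hy)
    have hxy : π ⟨x * y, mul_mem (hSM hx) (hSM hy)⟩ = ψ (d * e) := by
      rw [show (⟨x * y, mul_mem (hSM hx) (hSM hy)⟩ : ↥M) = ⟨x, hSM hx⟩ * ⟨y, hSM hy⟩ from rfl, map_mul, map_mul, hd, he]
    haveI : (L.comap ψ).Normal := hLn.comap ψ
    have hnc : ¬ IsCyclic ↥(L.comap ψ) := fun hcyc => hncyc (by
      haveI := hcyc
      let j : ↥(L.comap ψ) →* ↥((T' : Subgroup (↥M ⧸ Cfsg.oddCore ↥M)) ⊓ L) :=
        (ψ.comp (L.comap ψ).subtype).codRestrict _ fun z => ⟨hrange.le ⟨(z : DihedralGroup (2 ^ Φ.k)), rfl⟩, z.2⟩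
      exact isCyclic_of_surjective j fun z => by
        obtain ⟨w, hw⟩ : (z : ↥M ⧸ Cfsg.oddCore ↥M) ∈ ψ.range := hrange.ge z.2.1
        exact ⟨⟨w, show ψ w ∈ L by rw [hw]; exact z.2.2⟩, Subtype.ext hw⟩)
    have := dihedral_normal_index (L.comap ψ) hnc d e (fun h => hxD ((hmD ⟨x, hSM hx⟩).2 (show π ⟨x, hSM hx⟩ ∈ L by rw [hd]; exact h)))
      (fun h => hyD ((hmD ⟨y, hSM hy⟩).2 (show π ⟨y, hSM hy⟩ ∈ L by rw [he]; exact h)))
    exact (hmD ⟨x * y, mul_mem (hSM hx) (hSM hy)⟩).2 (hxy ▸ this)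
  · refine Nat.Coprime.mul_right ?_ ?_
    · refine Nat.coprime_of_dvd fun c hc hcr hcq => ?_
      rw [hq] at hcq
      have h1 : c ∣ 1 := by
        rcases hrs with ⟨e, -⟩ | ⟨e, -⟩
        · have := Nat.dvd_sub (hcr.mul_left 2) hcq
          rwa [show 2 * r - Fintype.card F = 1 by omega] at this
        · have := Nat.dvd_sub hcq (hcr.mul_left 2)
          rwa [show Fintype.card F - 2 * r = 1 by omega] at this
      exact hc.one_lt.ne' (Nat.dvd_one.1 h1)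
    · refine Nat.coprime_of_dvd fun c hc hcr hcs => ?_
      have h1 : c ∣ 2 := by
        rcases hrs with ⟨e, e'⟩ | ⟨e, e'⟩
        · have := Nat.dvd_sub (hcr.mul_left 2) hcs
          rwa [show 2 * r - s = 2 by omega] at this
        · have := Nat.dvd_sub hcs (hcr.mul_left 2)
          rwa [show s - 2 * r = 2 by omega] at this
      rw [(Nat.prime_dvd_prime_iff_eq hc Nat.prime_two).1 h1] at hcr
      exact Nat.not_even_iff_odd.2 hr (even_iff_two_dvd.2 hcr)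
  · intro b hb hbt
    have hmem : π ⟨b, hDM hb⟩ ∈ Subgroup.centralizer ({a} : Set (↥M ⧸ Cfsg.oddCore ↥M)) ⊓ L :=
      ⟨Subgroup.mem_centralizer_singleton_iff.2
        ((Commute.map (Subtype.ext hbt.eq : Commute (⟨b, hDM hb⟩ : ↥M) tM) π).eq), (hmD _).1 hb⟩
    have h1 : π (⟨b, hDM hb⟩ ^ s) = 1 := by
      rw [map_pow, ← hs]
      exact congrArg Subtype.val (pow_card_eq_one' (x := (⟨_, hmem⟩ :
        ↥(Subgroup.centralizer ({a} : Set (↥M ⧸ Cfsg.oddCore ↥M)) ⊓ L))))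
    exact (hmW (⟨b, hDM hb⟩ ^ s)).2 ((hπ1 _).1 h1)
  · intro b hb hbt hbo i
    refine (hmW (uM i * ⟨b, hDM hb⟩ * (uM i)⁻¹ * ⟨b, hDM hb⟩)).2 ((hπ1 _).1 ?_)
    rw [map_mul, map_mul, map_mul, map_inv]
    exact torus_inverted h2F h5 iL hCL hSq ha ha1 (by rw [← map_mul, huu, map_one]) (hu1 i) (hua i) ((hut i).map π)
      ((hmD _).1 hb) (Commute.map (Subtype.ext hbt.eq : Commute (⟨b, hDM hb⟩ : ↥M) tM) π)
      (hbo.of_dvd_nat ((orderOf_map_dvd π _).trans (by rw [Subgroup.orderOf_mk])))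
  · intro i hi
    set z := π (uM i) with hz_def
    have hzL : z ∉ L := fun h => hi ((hmD (uM i)).2 h)
    have hz : z * z = 1 := by rw [hz_def, ← map_mul, huu, map_one]
    obtain ⟨r', s', hr', -, -, hL', hs', hcw, y, hyL, hyz, hyo⟩ :=
      psl_pgl h2F h5 iL hCL hSq ha ha1 haL hz (hu1 i) hzL
    have hrr : r' = r := by
      rw [hs'.symm.trans hs] at hL'
      have hs0 : 0 < Fintype.card F * s := Nat.mul_pos (by omega) (by rcases hrs with h | h <;> omega)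
      exact Nat.eq_of_mul_eq_mul_left hs0 (hL'.symm.trans hLcard)
    subst hrr
    obtain ⟨v, R₀, f⟩ := torus_psl h2F h5 iL hCL hSq hz (hu1 i)
    have hR₀ : Nat.card R₀ = r' := by
      refine Nat.dvd_antisymm ?_ ?_
      · have h := Subgroup.card_dvd_of_le (show R₀ ≤ Subgroup.centralizer ({z} : Set _) ⊓ L from fun x hx =>
          ⟨Subgroup.mem_centralizer_singleton_iff.2 (f.R_comm x hx).eq, f.R_le hx⟩)
        rw [hcw] at h
        exact (Nat.coprime_two_right.2 f.R_odd).dvd_of_dvd_mul_left h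
      · rw [← hyo]
        exact Subgroup.orderOf_dvd_natCard _ (f.R_all y hyL hyz (hyo ▸ hr'))
    obtain ⟨R', hR'⟩ : ∃ R' : Subgroup ↥M,
        R' = Cfsg.layer ↥M ⊓ Subgroup.centralizer ({uM i} : Set ↥M) ⊓ R₀.comap π := ⟨_, rfl⟩
    have hmap : R'.map π = R₀ := by
      refine le_antisymm (by rintro _ ⟨x, hx, rfl⟩; rw [hR'] at hx; exact hx.2) fun c hc => ?_
      obtain ⟨e, he, rfl⟩ := hπE.ge (f.R_le hc)
      haveI : (Cfsg.layer ↥M ⊓ Cfsg.oddCore ↥M).Normal := inferInstance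
      have hct := f.R_comm _ hc
      obtain ⟨d, hd, hn⟩ := Solv.exists_fixed_in_coset (Subgroup.zpowers (uM i))
        (Cfsg.layer ↥M ⊓ Cfsg.oddCore ↥M)
        (fun g _ => by rw [Subgroup.normalizer_eq_top_iff.2 inferInstance]; trivial)
        (by
          rw [Nat.card_zpowers]
          exact Nat.Coprime.coprime_dvd_left (orderOf_dvd_of_pow_eq_one (by rw [pow_two, huu]))
            ((hodd.of_dvd_nat (Subgroup.card_dvd_of_le inf_le_right)).coprime_two_left))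
        (Or.inl (Group.isSolvable_of_comm fun a b =>
          (inferInstance : IsMulCommutative (Subgroup.zpowers (uM i))).is_comm.comm a b))
        (x := e) (fun g hg => by
          obtain ⟨l, rfl⟩ := hg
          refine ⟨(Cfsg.layer ↥M).mul_mem ((Cfsg.layer ↥M).inv_mem he) (hEn.conj_mem e he _), (hπ1 _).1 ?_⟩
          rw [map_mul, map_mul, map_mul, map_inv, map_inv, map_zpow, ← (hct.zpow_right l).eq, mul_inv_cancel_right,
            inv_mul_cancel])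
      have hπd : π (e * d) = π e := by rw [map_mul, (hπ1 d).2 hd.2, mul_one]
      have hcm : Commute (e * d) (uM i) := by
        obtain ⟨l, hl⟩ := (Subgroup.mem_normalizer_iff.1 hn (uM i)).1 (Subgroup.mem_zpowers _)
        have hl : uM i ^ l = e * d * uM i * (e * d)⁻¹ := hl
        rcases Int.even_or_odd' l with ⟨j, rfl | rfl⟩
        · rw [zpow_mul, zpow_two, huu, one_zpow, eq_comm, conj_eq_one_iff] at hl
          exact absurd (congrArg Subtype.val hl) (Φ.refl_ne_one i)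
        · rw [zpow_add_one, zpow_mul, zpow_two, huu, one_zpow, one_mul] at hl
          exact mul_inv_eq_iff_eq_mul.1 hl.symm
      refine ⟨e * d, ?_, hπd⟩
      rw [hR']
      exact ⟨⟨mul_mem he hd.1, Subgroup.mem_centralizer_singleton_iff.2 hcm.eq⟩, by
        show π (e * d) ∈ R₀; rw [hπd]; exact hc⟩
    have hcard : r' * Nat.card ↥(R' ⊓ Cfsg.oddCore ↥M) = Nat.card ↥R' := by
      rw [← hR₀, ← hmap, ← Subgroup.relIndex_ker, hπ, QuotientGroup.ker_mk', ← Subgroup.inf_relIndex_left, mul_comm,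
        Subgroup.relIndex, ← Nat.card_congr (Subgroup.subgroupOfEquivOfLe
          (inf_le_left : R' ⊓ Cfsg.oddCore ↥M ≤ R')).toEquiv]
      exact Subgroup.card_mul_index _
    have hoddR : Odd (Nat.card ↥R') :=
      hcard ▸ hr'.mul (hodd.of_dvd_nat (Subgroup.card_dvd_of_le inf_le_right))
    have hmem : ∀ x : ↥M, x ∈ R' → x ∈ Cfsg.layer ↥M ∧ Commute x (uM i) ∧ π x ∈ R₀ := fun x hx => by
      rw [hR'] at hx
      exact ⟨hx.1.1, Subgroup.mem_centralizer_singleton_iff.1 hx.1.2, hx.2⟩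
    refine ⟨R'.map M.subtype, ?_, ?_, ?_, ?_, ?_, ?_, ?_⟩
    · rintro _ ⟨x, hx, rfl⟩; exact (hmE x).2 (hmem x hx).1
    · rw [Subgroup.card_map_of_injective M.subtype_injective]; exact hoddR
    · rintro _ ⟨x, hx, rfl⟩; exact congrArg Subtype.val (hmem x hx).2.1.eq
    · intro x hx hxu hxo
      have hxc : Commute (⟨x, hEM hx⟩ : ↥M) (uM i) := Subtype.ext hxu.eq
      refine ⟨⟨x, hEM hx⟩, ?_, rfl⟩
      rw [hR']
      exact ⟨⟨(hmE _).1 hx, Subgroup.mem_centralizer_singleton_iff.2 hxc.eq⟩,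
        f.R_all _ (hπE ▸ Subgroup.mem_map_of_mem π ((hmE _).1 hx)) (hxc.map π)
          (hxo.of_dvd_nat ((orderOf_map_dvd π _).trans (by rw [Subgroup.orderOf_mk])))⟩
    · rintro _ ⟨x, hx, rfl⟩
      refine (hmW (tM * x * tM⁻¹ * x)).2 ((hπ1 _).1 ?_)
      rw [map_mul, map_mul, map_mul, map_inv]
      exact torus_inverted h2F h5 iL hCL hSq hz (hu1 i) ha ha1 (hua i).symm ((hut i).symm.map π)
        (f.R_le (hmem x hx).2.2) (f.R_comm _ (hmem x hx).2.2)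
        (f.R_odd.of_dvd_nat (Subgroup.orderOf_dvd_natCard _ (hmem x hx).2.2))
    · rintro _ ⟨x, hx, rfl⟩
      refine (hmW (x ^ r')).2 ((hπ1 _).1 ?_)
      rw [map_pow, ← hR₀]
      exact congrArg Subtype.val (pow_card_eq_one' (x := (⟨_, (hmem x hx).2.2⟩ : ↥R₀)))
    · rw [hW, ← Subgroup.map_inf _ _ _ M.subtype_injective, Subgroup.card_map_of_injective M.subtype_injective,
        Subgroup.card_map_of_injective M.subtype_injective]
      exact hcard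
  · intro H hH hHW
    rw [hq, ← hLcard]
    let f : ↥H →* ↥L := (π.comp (Subgroup.inclusion (hH.trans hDM))).codRestrict L fun x =>
      (hmD (Subgroup.inclusion (hH.trans hDM) x)).1 (hH x.2)
    refine Subgroup.card_dvd_of_injective f ((injective_iff_map_eq_one f).2 fun x hx => Subtype.ext ?_)
    exact Subgroup.mem_bot.1 (hHW ▸ (⟨x.2, (hmW (Subgroup.inclusion (hH.trans hDM) x)).2
      ((hπ1 _).1 (congrArg Subtype.val hx))⟩ : (x : G) ∈ H ⊓ W))

end Cfsg.Agent.GW
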