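import Mathlib.Tactic
import Mathlib.GroupTheory.Perm.Centralizer
import Mathlib.GroupTheory.Perm.Cycle.Type
import Mathlib.GroupTheory.SpecificGroups.Alternating

/-!
# A subgroup of `A₇` centralising a nontrivial element of odd order is small
-/

set_option autoImplicit false

namespace Cfsg.Agent.GW

open Equiv

/-- its order divides one of `72`, `18`, `10`, `7` -/
theorem alt_seven_cent_small {H : Subgroup (alternatingGroup (Fin 7))} {y : alternatingGroup (Fin 7)}
    (hodd : Odd (orderOf y)) (hy : y ≠ 1) (hc : ∀ h ∈ H, Commute h y) : Nat.card H ≤ 72 ∧ (60 ≤ Nat.card H → Nat.card H = 72) := by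
  obtain ⟨l, hl, hld⟩ := Nat.exists_prime_and_dvd (mt orderOf_eq_one_iff.1 hy)
  obtain ⟨z, hz⟩ : ∃ z, z = y ^ (orderOf y / l) := ⟨_, rfl⟩
  have hzo : orderOf (z : Perm (Fin 7)) = l := by
    rw [Subgroup.orderOf_coe, hz, orderOf_pow_of_dvd (Nat.div_pos (Nat.le_of_dvd (orderOf_pos y) hld) hl.pos).ne'
      (Nat.div_dvd_of_dvd hld), Nat.div_div_self hld (orderOf_pos y).ne']
  have hl2 : l ≠ 2 := fun h => Nat.not_even_iff_odd.2 hodd (even_iff_two_dvd.2 (h ▸ hld))
  obtain ⟨n, hn⟩ := Equiv.Perm.cycleType_prime_order (σ := (z : Perm (Fin 7))) (hzo ▸ hl)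
  rw [hzo] at hn
  have hsum : (n + 1) * l ≤ 7 := by
    have h := Equiv.Perm.sum_cycleType (z : Perm (Fin 7))
    rw [hn, Multiset.sum_replicate, smul_eq_mul] at h
    rw [h]
    exact (Finset.card_le_univ _).trans (by simp)
  have hle : H.map (alternatingGroup (Fin 7)).subtype ≤ Subgroup.centralizer {(z : Perm (Fin 7))} := by
    rintro _ ⟨h, hh, rfl⟩
    exact Subgroup.mem_centralizer_singleton_iff.2
      (congrArg Subtype.val (hz ▸ (hc h hh).pow_right (orderOf y / l)).eq)
  have hd := Subgroup.card_dvd_of_le hle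
  rw [Subgroup.card_map_of_injective (alternatingGroup (Fin 7)).subtype_injective, Equiv.Perm.nat_card_centralizer,
    hn] at hd
  have h3 : 3 ≤ l := by have := hl.two_le; omega
  have hn1 : n ≤ 1 := by nlinarith
  have hl7 : l ≤ 7 := by nlinarith
  rcases (show n = 0 ∨ n = 1 by omega) with rfl | rfl
  · interval_cases l
    all_goals (try (norm_num at hl))
    all_goals norm_num [Nat.factorial] at hd
    all_goals
      have hle' := Nat.le_of_dvd (by norm_num) hd
      refine ⟨by omega, fun h => ?_⟩
      rcases (show Nat.card H = 72 ∨ Nat.card H ≤ 71 by omega) with e | e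
      · exact e
      · exfalso
        obtain ⟨c, hc⟩ := hd
        rcases (show c = 0 ∨ c = 1 ∨ 2 ≤ c by omega) with rfl | rfl | hc2 <;> first | omega | nlinarith
  · have : l = 3 := by omega
    subst this
    norm_num [Nat.factorial] at hd
    have := Nat.le_of_dvd (by norm_num) hd
    exact ⟨by omega, fun h => by omega⟩

end Cfsg.Agent.GW
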