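import Cfsg.Agent.Lib.GW.SolvLayerData
import Cfsg.Agent.Lib.GW.SolvSevenFacts

/-!
# The outer reflections have no fixed point in the core

`PglData.no_fixed`: the centraliser of a fixed element would conjugate an outer reflection to `t`.
-/

set_option autoImplicit false
set_option linter.style.haveILetI false
set_option linter.unusedSectionVars false

namespace Cfsg.Agent.GW

open Cfsg Cfsg.Agent Cfsg.Agent.GW.Reduced DihedralGroup
open scoped Pointwise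

universe u

/-- two coprime powers in a subgroup -/
theorem mem_of_coprime_pow {X : Type u} [Group X] {H : Subgroup X} {y : X} {a b : ℕ} (hab : Nat.Coprime a b)
    (ha : y ^ a ∈ H) (hb : y ^ b ∈ H) : y ∈ H := by
  have h := Nat.gcd_eq_gcd_ab a b
  rw [hab.gcd_eq_one] at h
  rw [← zpow_one y, show (1 : ℤ) = (a : ℤ) * Nat.gcdA a b + (b : ℤ) * Nat.gcdB a b by simpa using h, zpow_add,
    zpow_mul, zpow_mul, zpow_natCast, zpow_natCast]
  exact mul_mem (H.zpow_mem ha _) (H.zpow_mem hb _)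

variable {G : Type u} [Group G] [Finite G]

/-- only `1` and `t` are central in the Sylow subgroup -/
theorem Frame.central_cases (Φ : Frame G) (hk : 2 ≤ Φ.k) {a : G} (ha : a ∈ (Φ.S : Subgroup G))
    (h : ∀ b ∈ (Φ.S : Subgroup G), Commute a b) : a = 1 ∨ a = Φ.t := by
  obtain ⟨d, rfl⟩ := (Φ.hom_range ▸ ha : a ∈ Φ.hom.range)
  have hc : ∀ e, d * e = e * d := fun e => Φ.hom_inj (by
    rw [map_mul, map_mul]
    exact (h _ (Φ.hom_range ▸ ⟨e, rfl⟩)).eq)
  rcases d with j | j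
  · have h1 := hc (sr 0)
    rw [r_mul_sr, sr_mul_r] at h1
    have h2 : j + j = 0 := by linear_combination -(DihedralGroup.sr.inj h1)
    rcases Fusion.zmod_double_eq_zero h2 with rfl | rfl
    · exact Or.inl (by rw [← DihedralGroup.one_def, map_one])
    · exact Or.inr Φ.hom_half
  · exfalso
    have h1 := hc (r 1)
    rw [r_mul_sr, sr_mul_r] at h1
    have h20 : ((2 : ℕ) : ZMod (2 ^ Φ.k)) = 0 := by push_cast; linear_combination DihedralGroup.sr.inj h1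
    rw [ZMod.natCast_eq_zero_iff] at h20
    have := Nat.le_of_dvd two_pos h20
    have := Nat.pow_le_pow_right two_pos hk
    omega

/-- `t u` is a reflection -/
theorem Frame.t_mul_refl (Φ : Frame G) (i : ZMod (2 ^ Φ.k)) : ∃ j, Φ.refl j = Φ.t * Φ.refl i :=
  ⟨i - ((2 ^ Φ.k / 2 : ℕ) : ZMod (2 ^ Φ.k)), by
    rw [← Φ.hom_sr, ← Φ.hom_sr, ← Φ.hom_half, ← map_mul, r_mul_sr]⟩

namespace PglData

variable {Φ : Frame G} {M W E D : Subgroup G} {q r s : ℕ}

theorem W_le_M (h : PglData Φ M W E D q r s) : W ≤ M := h.W_le.trans h.D_le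

theorem E_le_M (h : PglData Φ M W E D q r s) : E ≤ M := h.E_le.trans h.D_le

theorem refl_mem_M (h : PglData Φ M W E D q r s) (i : ZMod (2 ^ Φ.k)) : Φ.refl i ∈ M :=
  h.cent_le (Φ.S_le (Φ.refl_mem i))

theorem cent_mem (h : PglData Φ M W E D q r s) {x : G} (hx : Commute x Φ.t) : x ∈ M :=
  h.cent_le (Subgroup.mem_centralizer_singleton_iff.2 hx.eq)

/-- two-elements of `D` lie in the layer -/
theorem two_mem (h : PglData Φ M W E D q r s) {b : G} (hb : b ∈ D) {n : ℕ} (hn : b ^ 2 ^ n = 1) : b ∈ E := by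
  obtain ⟨e, he, w, hw, rfl⟩ := h.split b hb
  have hpow : (e * w) ^ Nat.card ↥W ∈ E := by
    rw [(h.EW e he w hw).mul_pow,
      show w ^ Nat.card ↥W = 1 from congrArg Subtype.val (pow_card_eq_one' (x := (⟨w, hw⟩ : ↥W))), mul_one]
    exact pow_mem he _
  exact mem_of_coprime_pow (h.W_odd.coprime_two_left.pow_left n).symm hpow (by rw [hn]; exact one_mem _)

theorem refl_mem_E (h : PglData Φ M W E D q r s) {j : ZMod (2 ^ Φ.k)} (hj : Φ.refl j ∈ D) : Φ.refl j ∈ E :=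
  h.two_mem hj (n := 1) (by rw [pow_one, pow_two]; exact Φ.uu j)

/-- an odd element of `M` inverted by an element of `M` lies in `D` -/
theorem inverted_mem (h : PglData Φ M W E D q r s) {a b : G} (ha : a ∈ M) (hb : b ∈ M) (ho : Odd (orderOf b))
    (hi : a * b * a⁻¹ = b⁻¹) : b ∈ D := by
  have h2 := h.comm b hb a ha
  rw [show b * a * b⁻¹ * a⁻¹ = b * (a * b * a⁻¹)⁻¹ by group, hi, inv_inv] at h2
  obtain ⟨j, hj⟩ := exists_pow_eq_self_of_coprime ho.coprime_two_left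
  rw [← hj, pow_two]
  exact pow_mem h2 j

/-- the image under `g` of an inverted element of the outer torus -/
theorem pull (h : PglData Φ M W E D q r s) {i : ZMod (2 ^ Φ.k)} {g y : G} (hg : g * Φ.refl i * g⁻¹ = Φ.t)
    (hyu : Commute y (Φ.refl i)) (hyo : Odd (orderOf y)) (hyi : Φ.t * y * Φ.t⁻¹ = y⁻¹) :
    g * y ^ s * g⁻¹ ∈ W := by
  obtain ⟨b, hb⟩ : ∃ b, b = g * y * g⁻¹ := ⟨_, rfl⟩
  have hbt : Commute b Φ.t := by rw [hb, ← hg]; exact (Commute.conj_iff g).2 hyu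
  have hat : Commute (g * Φ.t * g⁻¹) Φ.t := by
    nth_rw 2 [← hg]; exact (Commute.conj_iff g).2 (Φ.commute i)
  have hbD : b ∈ D := h.inverted_mem (h.cent_mem hat) (h.cent_mem hbt)
    (by rw [hb, show orderOf (g * y * g⁻¹) = orderOf y from
      orderOf_injective (MulAut.conj g).toMonoidHom (MulAut.conj g).injective y]; exact hyo)
    (by rw [hb]; calc g * Φ.t * g⁻¹ * (g * y * g⁻¹) * (g * Φ.t * g⁻¹)⁻¹ = g * (Φ.t * y * Φ.t⁻¹) * g⁻¹ := by group
      _ = _ := by rw [hyi]; group)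
  rw [← conj_pow, ← hb]
  exact h.pow_t b hbD hbt

/-- an element of the outer torus inverted by `t`, outside the core -/
theorem exists_inverted (h : PglData Φ M W E D q r s) {i : ZMod (2 ^ Φ.k)} (hi : Φ.refl i ∉ D) :
    ∃ y ∈ E, Commute y (Φ.refl i) ∧ Odd (orderOf y) ∧ Φ.t * y * Φ.t⁻¹ = y⁻¹ ∧ y ^ s ∉ W := by
  obtain ⟨R, hRE, hRodd, hRu, hRall, hRinv, hRr, hRcard⟩ := h.torus i hi
  have hodd : ∀ y ∈ R, Odd (orderOf y) := fun y hy => hRodd.of_dvd_nat (Subgroup.orderOf_dvd_natCard R hy)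
  obtain ⟨y₀, hy₀, hy₀W⟩ : ∃ y, y ∈ R ∧ y ∉ W := by
    by_contra hno
    push Not at hno
    rw [inf_eq_left.2 hno] at hRcard
    have := h.three
    have hpos : 0 < Nat.card ↥R := Nat.card_pos
    nlinarith
  obtain ⟨y₁, hy₁⟩ : ∃ y₁, y₁ = y₀ * (Φ.t * y₀ * Φ.t⁻¹)⁻¹ := ⟨_, rfl⟩
  have hty : Φ.t * y₀ * Φ.t⁻¹ ∈ R := hRall _ (h.E_norm _ (h.E_le_M h.t_mem) _ (hRE hy₀))
    (by
      have := (Commute.conj_iff Φ.t).2 (hRu y₀ hy₀)
      rwa [mul_inv_eq_iff_eq_mul.2 (Φ.commute i).eq] at this)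
    (by
      rw [show orderOf (Φ.t * y₀ * Φ.t⁻¹) = orderOf y₀ from
        orderOf_injective (MulAut.conj Φ.t).toMonoidHom (MulAut.conj Φ.t).injective y₀]
      exact hodd _ hy₀)
  have hy₁R : y₁ ∈ R := hy₁ ▸ mul_mem hy₀ (inv_mem hty)
  refine ⟨y₁, hRE hy₁R, hRu _ hy₁R, hodd _ hy₁R, ?_, fun hs => hy₀W ?_⟩
  · rw [hy₁]
    calc Φ.t * (y₀ * (Φ.t * y₀ * Φ.t⁻¹)⁻¹) * Φ.t⁻¹
        = Φ.t * y₀ * Φ.t⁻¹ * ((Φ.t * Φ.t) * y₀⁻¹ * (Φ.t * Φ.t)⁻¹) := by group
      _ = _ := by rw [Φ.tt]; group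
  · have h1 : y₁ ∈ W := mem_of_coprime_pow (h.cop.coprime_dvd_right (dvd_mul_left s q)) (hRr _ hy₁R) hs
    have h2 : y₀ * y₀ ∈ W := by
      have := mul_mem h1 (hRinv y₀ hy₀)
      rwa [hy₁, show y₀ * (Φ.t * y₀ * Φ.t⁻¹)⁻¹ * (Φ.t * y₀ * Φ.t⁻¹ * y₀) = y₀ * y₀ by group] at this
    obtain ⟨j, hj⟩ := exists_pow_eq_self_of_coprime (hodd _ hy₀).coprime_two_left
    rw [← hj, pow_two]
    exact pow_mem h2 j

/-- an odd element of `C(t)` fixed by an outer reflection centralises the Sylow subgroup -/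
theorem cent_sylow (h : PglData Φ M W E D q r s) {i : ZMod (2 ^ Φ.k)} (hi : Φ.refl i ∉ D) {x : G}
    (hxt : Commute x Φ.t) (hxo : Odd (orderOf x)) (hxu : Commute x (Φ.refl i)) :
    ∀ b ∈ (Φ.S : Subgroup G), Commute x b := by
  haveI : Fact (Nat.Prime 2) := ⟨Nat.prime_two⟩
  have hxM : x ∈ M := h.cent_mem hxt
  have hxO : x ∈ Φ.O := Φ.mem_O_of_odd hxt hxo
  have key : ∀ j, Φ.refl j ∈ D → Commute x (Φ.refl j) := by
    intro j hj
    obtain ⟨c, hc⟩ : ∃ c, c = x * Φ.refl j * x⁻¹ * (Φ.refl j)⁻¹ := ⟨_, rfl⟩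
    have hcD : c ∈ D := hc ▸ h.comm x hxM _ (h.refl_mem_M j)
    have hcO : c ∈ Φ.O := by
      rw [hc, show x * Φ.refl j * x⁻¹ * (Φ.refl j)⁻¹ = x * (Φ.refl j * x⁻¹ * (Φ.refl j)⁻¹) by group]
      exact mul_mem hxO (Φ.O_norm _ (Φ.S_le (Φ.refl_mem j)) _ (inv_mem hxO))
    have hct : Commute c Φ.t := Subgroup.mem_centralizer_singleton_iff.1 (Φ.O_le hcO)
    have hco : Odd (orderOf c) := Φ.O_odd.of_dvd_nat (Subgroup.orderOf_dvd_natCard _ hcO)
    obtain ⟨g, hg⟩ : ∃ g, g = Φ.refl j * Φ.refl i := ⟨_, rfl⟩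
    have hgS : g ∈ (Φ.S : Subgroup G) := hg ▸ mul_mem (Φ.refl_mem j) (Φ.refl_mem i)
    have hgM : g ∈ M := h.cent_le (Φ.S_le hgS)
    have hcg : g * c * g⁻¹ * c⁻¹ ∈ W := by
      obtain ⟨w₁, hw₁⟩ : ∃ w, w = Φ.refl i * c * (Φ.refl i)⁻¹ * c := ⟨_, rfl⟩
      obtain ⟨w₂, hw₂⟩ : ∃ w, w = Φ.refl j * c * (Φ.refl j)⁻¹ * c := ⟨_, rfl⟩
      have h1 : w₁ ∈ W := hw₁ ▸ h.inv_t c hcD hct hco i
      have h2 : w₂ ∈ W := hw₂ ▸ h.inv_t c hcD hct hco j
      rw [show g * c * g⁻¹ * c⁻¹ = (Φ.refl j * w₁ * (Φ.refl j)⁻¹) * (c * w₂⁻¹ * c⁻¹) by rw [hg, hw₁, hw₂]; group]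
      exact mul_mem (h.W_norm _ (h.refl_mem_M j) _ h1) (h.W_norm _ (h.D_le hcD) _ (inv_mem h2))
    have hcx : x * g * x⁻¹ = c * g := by
      rw [hc, hg]
      calc x * (Φ.refl j * Φ.refl i) * x⁻¹ = x * Φ.refl j * (Φ.refl i * x⁻¹) := by group
        _ = x * Φ.refl j * (x⁻¹ * Φ.refl i) := by rw [hxu.inv_left.eq]
        _ = _ := by group
    have hcW : c ∈ W := by
      obtain ⟨n, hn⟩ := IsPGroup.iff_orderOf.1 Φ.S.isPGroup' ⟨g, hgS⟩
      rw [Subgroup.orderOf_mk] at hn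
      haveI : (W.subgroupOf M).Normal := ⟨fun w hw y => h.W_norm _ y.2 _ hw⟩
      let c' : ↥M := ⟨c, h.D_le hcD⟩
      let g' : ↥M := ⟨g, hgM⟩
      set π := QuotientGroup.mk' (W.subgroupOf M)
      have hcomm : Commute (π g') (π c') := by
        refine mul_inv_eq_iff_eq_mul.1 ?_
        rw [← map_inv, ← map_mul, ← map_mul]
        refine (QuotientGroup.eq.2 ?_).symm
        show c⁻¹ * (g * c * g⁻¹) ∈ W
        have := h.W_norm _ (inv_mem (h.D_le hcD)) _ hcg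
        rwa [show c⁻¹ * (g * c * g⁻¹ * c⁻¹) * c⁻¹⁻¹ = c⁻¹ * (g * c * g⁻¹) by group] at this
      have hg1 : π g' ^ 2 ^ n = 1 := by
        rw [← map_pow, show g' ^ 2 ^ n = 1 from Subtype.ext (by rw [← hn]; exact pow_orderOf_eq_one g), map_one]
      have hcg1 : (π c' * π g') ^ 2 ^ n = 1 := by
        rw [← map_mul, ← map_pow, show (c' * g') ^ 2 ^ n = 1 from Subtype.ext (by
          show (c * g) ^ 2 ^ n = 1
          rw [← hcx, conj_pow, ← hn, pow_orderOf_eq_one, mul_one, mul_inv_cancel]), map_one]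
      rw [hcomm.symm.mul_pow, hg1, mul_one] at hcg1
      have h1 : π c' = 1 := orderOf_eq_one_iff.1 (Nat.eq_one_of_dvd_coprimes (hco.coprime_two_left.pow_left n)
        (orderOf_dvd_of_pow_eq_one hcg1) ((orderOf_map_dvd π c').trans (by rw [Subgroup.orderOf_mk])))
      exact (QuotientGroup.eq_one_iff c').1 h1
    have hvc : Commute (Φ.refl j) c := h.EW _ (h.refl_mem_E hj) _ hcW
    have hxv : x * Φ.refl j * x⁻¹ = c * Φ.refl j := by rw [hc, inv_mul_cancel_right]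
    have h2 : c * c = 1 := by
      calc c * c = c * c * (Φ.refl j * Φ.refl j) := by rw [Φ.uu, mul_one]
        _ = c * Φ.refl j * (c * Φ.refl j) := (hvc.mul_mul_mul_comm c (Φ.refl j)).symm
        _ = x * (Φ.refl j * Φ.refl j) * x⁻¹ := by rw [← hxv]; group
        _ = 1 := by rw [Φ.uu, mul_one, mul_inv_cancel]
    have hc1 : c = 1 := orderOf_eq_one_iff.1 (Nat.eq_one_of_dvd_coprimes hco.coprime_two_left
      (orderOf_dvd_of_pow_eq_one (by rw [pow_two, h2])) dvd_rfl)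
    rw [hc1, one_mul] at hxv
    exact mul_inv_eq_iff_eq_mul.1 hxv
  obtain ⟨j₀, hj₀⟩ := h.inner
  have hrot : ∀ m, Φ.hom (DihedralGroup.r m) ∈ D → Commute x (Φ.hom (DihedralGroup.r m)) := by
    intro m hm
    have e : Φ.hom (DihedralGroup.r m) = Φ.refl j₀ * Φ.refl (j₀ + m) := by
      rw [← Φ.hom_sr, ← Φ.hom_sr, ← map_mul, sr_mul_sr, add_sub_cancel_left]
    have hmem : Φ.refl (j₀ + m) ∈ D := by
      rw [← inv_mul_cancel_left (Φ.refl j₀) (Φ.refl (j₀ + m)), ← e]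
      exact mul_mem (inv_mem hj₀) hm
    rw [e]
    exact (key _ hj₀).mul_right (key _ hmem)
  have hrefl : ∀ l, Commute x (Φ.refl l) := by
    intro l
    by_cases hl : Φ.refl l ∈ D
    · exact key l hl
    have e : Φ.refl l * Φ.refl i = Φ.hom (DihedralGroup.r (i - l)) := by
      rw [← Φ.hom_sr, ← Φ.hom_sr, ← map_mul, sr_mul_sr]
    have hc := hrot _ (e ▸ h.index_two _ (Φ.refl_mem l) _ (Φ.refl_mem i) hl hi)
    rw [← e] at hc
    have := hc.mul_right hxu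
    rwa [mul_assoc, Φ.uu, mul_one] at this
  intro b hb
  obtain ⟨d, rfl⟩ := (Φ.hom_range ▸ hb : b ∈ Φ.hom.range)
  rcases d with m | m
  · rw [show (DihedralGroup.r m : DihedralGroup (2 ^ Φ.k)) = sr 0 * sr m by rw [sr_mul_sr, sub_zero], map_mul]
    exact (hrefl 0).mul_right (hrefl m)
  · exact hrefl m

/-- **no fixed points** -/
theorem no_fixed (h : PglData Φ M W E D q r s) (hG : Minimal G) (hk : 2 ≤ Φ.k) {i : ZMod (2 ^ Φ.k)}
    (hi : Φ.refl i ∉ D) {x : G} (hxW : x ∈ W) (hxu : Commute x (Φ.refl i)) : x = 1 := by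
  classical
  haveI := hG.simple
  haveI : Fact (Nat.Prime 2) := ⟨Nat.prime_two⟩
  by_contra hx1
  obtain ⟨ρ, hρt, hρu⟩ := hG.exists_rho Φ i
  have hxt : Commute x Φ.t := Subgroup.mem_centralizer_singleton_iff.1 (h.W_cent hxW)
  have hxo : Odd (orderOf x) := h.W_odd.of_dvd_nat (Subgroup.orderOf_dvd_natCard W hxW)
  obtain ⟨X, hX⟩ : ∃ X, X = Subgroup.centralizer ({x} : Set G) := ⟨_, rfl⟩
  have hXmem : ∀ {g : G}, Commute x g → g ∈ X := fun hg => hX ▸ Subgroup.mem_centralizer_singleton_iff.2 hg.eq.symm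
  have hSX : (Φ.S : Subgroup G) ≤ X := fun b hb => hXmem (h.cent_sylow hi hxt hxo hxu b hb)
  -- the conjugate Sylow subgroup
  obtain ⟨x', hx'⟩ : ∃ x', x' = ρ⁻¹ * x * ρ := ⟨_, rfl⟩
  obtain ⟨j, hj⟩ := Φ.t_mul_refl i
  have hjD : Φ.refl j ∉ D := fun hm => hi (by
    have := mul_mem (h.E_le h.t_mem) hm
    rwa [hj, ← mul_assoc, Φ.tt, one_mul] at this)
  have hρtu : ρ * (Φ.t * Φ.refl i) * ρ⁻¹ = Φ.t :=
    calc ρ * (Φ.t * Φ.refl i) * ρ⁻¹ = (ρ * Φ.t * ρ⁻¹) * (ρ * Φ.refl i * ρ⁻¹) := by group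
      _ = Φ.t := by
        rw [hρt, hρu, ← mul_assoc, ← (Φ.commute i).eq, mul_assoc, Φ.uu, mul_one]
  have hconj : ∀ b : G, Commute x' b → Commute x (ρ * b * ρ⁻¹) := fun b hb => by
    have := (Commute.conj_iff ρ).2 hb
    rwa [hx', show ρ * (ρ⁻¹ * x * ρ) * ρ⁻¹ = x by group] at this
  have hback : ∀ b : G, Commute x (ρ * b * ρ⁻¹) → Commute x' b := fun b hb => by
    have := (Commute.conj_iff ρ⁻¹).2 hb
    rwa [inv_inv, ← hx', show ρ⁻¹ * (ρ * b * ρ⁻¹) * ρ = b by group] at this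
  have hρSX : ∀ b ∈ (Φ.S : Subgroup G), ρ * b * ρ⁻¹ ∈ X := fun b hb => hXmem (hconj b
    (h.cent_sylow hjD (hback _ (hρt ▸ hxu)) (by
      rw [hx', show orderOf (ρ⁻¹ * x * ρ) = orderOf x by
        have := orderOf_injective (MulAut.conj ρ⁻¹).toMonoidHom (MulAut.conj ρ⁻¹).injective x
        simpa using this]
      exact hxo)
      (hback _ (by rw [hj, hρtu]; exact hxt)) b hb))
  let SX : Sylow 2 ↥X := Φ.S.subtype hSX
  let PX : Sylow 2 ↥X := (ρ • Φ.S).subtype (by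
    rw [Sylow.coe_subgroup_smul]
    rintro _ ⟨b, hb, rfl⟩
    exact hρSX b hb)
  obtain ⟨g, hg⟩ := MulAction.exists_smul_eq ↥X PX SX
  have hgS : ∀ b ∈ (Φ.S : Subgroup G), (g : G) * (ρ * b * ρ⁻¹) * (g : G)⁻¹ ∈ (Φ.S : Subgroup G) := fun b hb => by
    have hb' : ρ * b * ρ⁻¹ ∈ ((ρ • Φ.S : Sylow 2 G) : Subgroup G) := by
      rw [Sylow.coe_subgroup_smul]; exact ⟨b, hb, rfl⟩
    have : g * ⟨ρ * b * ρ⁻¹, hρSX b hb⟩ * g⁻¹ ∈ (SX : Subgroup ↥X) := by
      rw [← hg, Sylow.coe_subgroup_smul]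
      exact ⟨_, hb', rfl⟩
    exact this
  have hSsurj : ∀ b ∈ (Φ.S : Subgroup G), ∃ b' ∈ (Φ.S : Subgroup G), (g : G) * (ρ * b' * ρ⁻¹) * (g : G)⁻¹ = b := by
    have heq : (Φ.S : Subgroup G).map (MulAut.conj ((g : G) * ρ)).toMonoidHom = (Φ.S : Subgroup G) :=
      Subgroup.eq_of_le_of_card_ge (by
        rintro _ ⟨b, hb, rfl⟩
        show (g : G) * ρ * b * ((g : G) * ρ)⁻¹ ∈ (Φ.S : Subgroup G)
        rw [show (g : G) * ρ * b * ((g : G) * ρ)⁻¹ = (g : G) * (ρ * b * ρ⁻¹) * (g : G)⁻¹ by group]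
        exact hgS b hb)
        (Subgroup.card_map_of_injective (MulAut.conj ((g : G) * ρ)).injective).ge
    intro b hb
    obtain ⟨b', hb', rfl⟩ := heq.ge hb
    exact ⟨b', hb', show _ = (g : G) * ρ * b' * ((g : G) * ρ)⁻¹ by group⟩
  have hgu : (g : G) * Φ.refl i * (g : G)⁻¹ = Φ.t := by
    refine (Φ.central_cases hk (a := (g : G) * Φ.refl i * (g : G)⁻¹)
      (by rw [← hρt]; exact hgS _ Φ.t_mem) fun b hb => ?_).resolve_left fun e => Φ.refl_ne_one i (conj_eq_one_iff.1 e)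
    obtain ⟨b', hb', rfl⟩ := hSsurj b hb
    rw [← hρt]
    exact (Commute.conj_iff (g : G)).2 ((Commute.conj_iff ρ).2 (Φ.t_central b' hb').symm)
  -- the model of the centraliser
  have hXne : X ≠ ⊤ := fun e => by
    have hxc : x ∈ Subgroup.center G := Subgroup.mem_center_iff.2 fun a =>
      Subgroup.mem_centralizer_singleton_iff.1 (hX ▸ e ▸ Subgroup.mem_top a)
    rcases (inferInstance : (Subgroup.center G).Normal).eq_bot_or_eq_top with h' | h'
    · exact hx1 (Subgroup.mem_bot.1 (h' ▸ hxc))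
    · exact hG.nonab ⟨⟨fun a b => (Subgroup.mem_center_iff.1 (h' ▸ Subgroup.mem_top b) a)⟩⟩
  have hEX : E ≤ X := fun e he => hXmem (h.EW e he x hxW).symm
  have hE1 : ¬ Group.IsSolvable ↥E := fun hs => by
    haveI := hs
    have h1 : 1 < W.relIndex E := lt_of_lt_of_le (by norm_num) h.idx.1
    haveI : Nontrivial ↥E := (Subgroup.nontrivial_iff_ne_bot _).2 fun e => by
      rw [e, Subgroup.relIndex_bot_right] at h1; omega
    haveI : Group.IsPerfect ↥E := ⟨by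
      rw [← Subgroup.map_subtype_inj, Subgroup.map_subtype_commutator, ← MonoidHom.range_eq_map,
        Subgroup.range_subtype]
      exact h.perfect⟩
    exact (Group.IsSolvable.commutator_lt_top_of_nontrivial ↥E).ne Group.IsPerfect.commutator_eq_top
  have hXns : ¬ Group.IsSolvable ↥X := fun hs =>
    haveI := hs
    hE1 (Group.isSolvable_of_isSolvable_injective (Subgroup.inclusion_injective hEX))
  haveI : (Cfsg.oddCore ↥X).Normal := Solv.pPrimeCore_normal 2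
  have hXodd : Odd (Nat.card (Cfsg.oddCore ↥X)) := Nat.coprime_two_right.1 (Fusion.card_pPrimeCore_coprime 2 ↥X)
  haveI : Group.IsSolvable ↥(Cfsg.oddCore ↥X) := Solv.Partition.odd_solvable hXodd
  set π := QuotientGroup.mk' (Cfsg.oddCore ↥X)
  let T' := SX.mapSurjective (QuotientGroup.mk'_surjective (Cfsg.oddCore ↥X))
  obtain ⟨sq⟩ := sylow_quotient (Cfsg.oddCore ↥X) hXodd SX
  have hn2 : 2 ≤ 2 ^ Φ.k := Nat.one_lt_two_pow (by have := Φ.hk; omega)
  let eT : (T' : Subgroup (↥X ⧸ Cfsg.oddCore ↥X)) ≃* DihedralGroup (2 ^ Φ.k) :=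
    sq.symm.trans ((Subgroup.subgroupOfEquivOfLe hSX).trans Φ.ι.symm)
  have hlt : Nat.card X < Nat.card G :=
    lt_of_le_of_ne X.card_le_card_group fun e => hXne (Subgroup.card_eq_iff_eq_top X |>.1 e)
  obtain ⟨L, hLn, hmod, hCL⟩ := nonsolvable_model_of
    (fun L _ SL j hj hd => hG.below L SL j (lt_of_le_of_lt (L.card_le_card_group.trans
      (Nat.card_le_card_of_surjective _ (QuotientGroup.mk'_surjective _))) hlt) hj hd)
    Fusion.pPrimeCore_quotient_eq_bot T' hn2 eT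
    (fun hs => hXns (Group.isSolvable_of_ker_le_range (Cfsg.oddCore ↥X).subtype π
      (by rw [QuotientGroup.ker_mk', Subgroup.range_subtype])))
  haveI := hLn
  have hSq : ∀ P : Sylow 2 (↥X ⧸ Cfsg.oddCore ↥X),
      ∃ m, 2 ≤ m ∧ Nonempty ((P : Subgroup (↥X ⧸ Cfsg.oddCore ↥X)) ≃* DihedralGroup m) :=
    fun P => ⟨_, hn2, ⟨(P.equiv T').trans eT⟩⟩
  obtain ⟨j₀, hj₀⟩ := h.inner
  let tX : ↥X := ⟨Φ.t, hSX Φ.t_mem⟩
  let vX : ↥X := ⟨Φ.refl j₀, hSX (Φ.refl_mem j₀)⟩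
  have hker1 : ∀ c : ↥X, c * c = 1 → π c = 1 → c = 1 := fun c hc hp =>
    orderOf_eq_one_iff.1 (Nat.eq_one_of_dvd_coprimes hXodd.coprime_two_left
      (orderOf_dvd_of_pow_eq_one (by rw [pow_two, hc]))
      (Subgroup.orderOf_dvd_natCard _ ((QuotientGroup.eq_one_iff c).1 hp)))
  have htt : tX * tX = 1 := Subtype.ext Φ.tt
  have hvv : vX * vX = 1 := Subtype.ext (Φ.uu j₀)
  have ha1 : π tX ≠ 1 := fun e => Φ.t_ne (congrArg Subtype.val (hker1 _ htt e))
  have hv1 : π vX ≠ 1 := fun e => Φ.refl_ne_one j₀ (congrArg Subtype.val (hker1 _ hvv e))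
  have hat : π tX ≠ π vX := fun e => Φ.refl_ne j₀ (congrArg (fun z : ↥X => (z : G)) (by
    have hc : Commute tX vX := Subtype.ext (Φ.commute j₀).eq
    have h1 : tX * vX = 1 := hker1 _ (by rw [hc.symm.mul_mul_mul_comm, htt, hvv, one_mul])
      (by rw [map_mul, e, ← map_mul, hvv, map_one])
    exact ((eq_inv_of_mul_eq_one_left h1).trans (inv_eq_of_mul_eq_one_right hvv)).symm))
  obtain ⟨v', R', f⟩ := torus_model hmod hCL hSq (a := π tX) (by rw [← map_mul, htt, map_one]) ha1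
  have hp : ⁅E.subgroupOf X, E.subgroupOf X⁆ = E.subgroupOf X := by
    refine Subgroup.map_injective X.subtype_injective ?_
    rw [Subgroup.map_commutator, Subgroup.map_subgroupOf_eq_of_le hEX]
    exact h.perfect
  have hEL : (E.subgroupOf X).map π ≤ L := by
    rw [← hp, Subgroup.map_commutator, Subgroup.commutator_le]
    intro a _ b _
    rw [commutatorElement_def]
    exact f.comm a b
  -- the element of the torus moved into the core
  obtain ⟨y, hyE, hyu, hyo, hyi, hys⟩ := h.exists_inverted hi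
  have hb : (g : G) * y ^ s * (g : G)⁻¹ ∈ W := h.pull hgu hyu hyo hyi
  let y' : ↥X := ⟨y ^ s, hEX (pow_mem hyE s)⟩
  let b : ↥X := g * y' * g⁻¹
  have hbW : (b : G) ∈ W := hb
  have hbL : π b ∈ L := by
    show π (g * y' * g⁻¹) ∈ L
    rw [map_mul, map_mul, map_inv]
    exact hLn.conj_mem _ (hEL (Subgroup.mem_map_of_mem π (pow_mem hyE s : y ^ s ∈ E))) _
  have hbo : Odd (orderOf (π b)) := h.W_odd.of_dvd_nat ((orderOf_map_dvd π b).trans (by
    rw [← Subgroup.orderOf_coe]; exact Subgroup.orderOf_dvd_natCard W hbW))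
  have hbE : ∀ e : ↥X, (e : G) ∈ E → Commute (π b) (π e) := fun e he =>
    (show Commute b e from Subtype.ext (h.EW _ he _ hbW).eq.symm).map π
  have hN : ∀ z ∈ E, ∀ hz : z ∈ X, π ⟨z, hz⟩ = 1 → z ∈ W := by
    intro z hz hzX hz1
    obtain ⟨N, hNdef⟩ : ∃ N, N = E ⊓ (Cfsg.oddCore ↥X).map X.subtype := ⟨_, rfl⟩
    haveI : Group.IsSolvable ↥N := Solv.Partition.odd_solvable (hXodd.of_dvd_nat (by
      rw [← Subgroup.card_map_of_injective (K := Cfsg.oddCore ↥X) X.subtype_injective, hNdef]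
      exact Subgroup.card_dvd_of_le inf_le_right))
    refine h.small N (hNdef ▸ inf_le_left) (fun e he => norm_of_conj ?_) inferInstance
      (hNdef ▸ ⟨hz, ⟨z, hzX⟩, (QuotientGroup.eq_one_iff _).1 hz1, rfl⟩)
    rw [hNdef]
    rintro _ ⟨hwE, w, hw, rfl⟩
    exact ⟨E.mul_mem (E.mul_mem he hwE) (E.inv_mem he), ⟨e, hEX he⟩ * w * ⟨e, hEX he⟩⁻¹,
      (inferInstance : (Cfsg.oddCore ↥X).Normal).conj_mem w hw _, rfl⟩
  have hb1 : π b = 1 := by
    rcases hmod with ⟨F, hF, hFt, ho, h3, ⟨iF⟩⟩ | ⟨⟨iA⟩⟩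
    · have h2F : (2 : F) ≠ 0 := by
        obtain ⟨p, hp⟩ := CharP.exists F
        obtain ⟨d, hpp, hd⟩ := FiniteField.card F p
        intro e
        haveI : CharP F 2 := CharTwo.of_one_ne_zero_of_two_eq_zero one_ne_zero e
        have := CharP.eq F hp (inferInstance : CharP F 2)
        rw [hd, this] at ho
        exact Nat.not_even_iff_odd.2 ho (Nat.even_pow.2 ⟨even_two, d.ne_zero⟩)
      exact odd_two_invols h2F (by obtain ⟨l, hl⟩ := ho; omega) iF hCL hSq (by rw [← map_mul, htt, map_one]) ha1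
        (by rw [← map_mul, hvv, map_one]) hv1 hat hbL hbo (hbE tX h.t_mem) (hbE vX (h.refl_mem_E hj₀))
    · by_contra hne
      obtain ⟨H, hH⟩ : ∃ H, H = (((E.subgroupOf X).map π).subgroupOf L).map iA.toMonoidHom := ⟨_, rfl⟩
      have hdvd : W.relIndex E ∣ Nat.card ↥H := by
        rw [hH, Subgroup.card_map_of_injective (f := iA.toMonoidHom) iA.injective,
          Nat.card_congr (Subgroup.subgroupOfEquivOfLe hEL).toEquiv, ← Subgroup.relIndex_ker, QuotientGroup.ker_mk',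
          ← Subgroup.relIndex_map_map_of_injective _ _ X.subtype_injective, Subgroup.map_subgroupOf_eq_of_le hEX,
          ← Subgroup.inf_relIndex_right ((Cfsg.oddCore ↥X).map X.subtype), ← Subgroup.inf_relIndex_right W]
        refine Subgroup.relIndex_dvd_of_le_left E ?_
        rintro _ ⟨⟨z, hz, rfl⟩, hzE⟩
        exact ⟨hN _ hzE z.2 ((QuotientGroup.eq_one_iff _).2 hz), hzE⟩
      obtain ⟨hle, h72⟩ := alt_seven_cent_small (H := H) (y := iA ⟨π b, hbL⟩)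
        (by rw [MulEquiv.orderOf_eq, Subgroup.orderOf_mk]; exact hbo)
        (fun e => hne (congrArg Subtype.val ((EmbeddingLike.map_eq_one_iff (f := iA)).1 e)))
        (by
          rw [hH]
          rintro _ ⟨z, hz, rfl⟩
          obtain ⟨e, he, he'⟩ := hz
          refine (Commute.map (Subtype.ext ?_ : Commute z ⟨π b, hbL⟩) iA.toMonoidHom)
          show (z : ↥X ⧸ Cfsg.oddCore ↥X) * π b = π b * z
          have he'' : π e = (z : ↥X ⧸ Cfsg.oddCore ↥X) := he'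
          rw [← he'']
          exact (hbE e he).eq.symm)
      have hpos := Nat.le_of_dvd Nat.card_pos hdvd
      have h60 := h.idx.1
      rw [h72 (h60.trans hpos)] at hdvd
      obtain ⟨c, hc⟩ := hdvd
      rcases (show c = 0 ∨ c = 1 ∨ 2 ≤ c by omega) with rfl | rfl | h2
      · omega
      · exact h.idx.2 (by omega)
      · nlinarith
  refine hys (hN _ (pow_mem hyE s) (hEX (pow_mem hyE s)) ?_)
  have h1 : π g * π y' * (π g)⁻¹ = 1 := by rw [← map_mul, ← map_inv, ← map_mul]; exact hb1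
  exact conj_eq_one_iff.1 h1

end PglData

end Cfsg.Agent.GW
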