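import Cfsg.Agent.Lib.GW.AltSevenTop
import Cfsg.Agent.Lib.GW.MaxInner

/-!
# A nonsolvable maximal subgroup over `C(t)` is of type `L₂(q)`
-/

set_option autoImplicit false
set_option linter.style.haveILetI false
set_option linter.unusedSectionVars false

namespace Cfsg.Agent.GW

open Cfsg Cfsg.Agent Cfsg.Agent.GW.Reduced DihedralGroup

universe u

variable {G : Type u} [Group G] [Finite G]

/-- For `|S| ≥ 8` the model of a nonsolvable maximal subgroup over `C(t)` is some `L₂(q)`. -/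
theorem exists_psl_model (hG : Minimal G) (Φ : Frame G) (hk : 2 ≤ Φ.k) (M : Subgroup G) (hM : IsCoatom M)
    (hC : Subgroup.centralizer ({Φ.t} : Set G) ≤ M) (hns : ¬ Group.IsSolvable M) :
    haveI : (Cfsg.oddCore ↥M).Normal := Solv.pPrimeCore_normal 2
    ∃ L : Subgroup (↥M ⧸ Cfsg.oddCore ↥M), L.Normal ∧
      Subgroup.centralizer (L : Set (↥M ⧸ Cfsg.oddCore ↥M)) = ⊥ ∧
      ∃ (F : Type) (_ : Field F) (_ : Fintype F), Odd (Fintype.card F) ∧ 3 < Fintype.card F ∧
        Nonempty (L ≃* Matrix.ProjectiveSpecialLinearGroup (Fin 2) F) := by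
  classical
  haveI : (Cfsg.oddCore ↥M).Normal := Solv.pPrimeCore_normal 2
  haveI : Fact (Nat.Prime 2) := ⟨Nat.prime_two⟩
  haveI : NeZero (2 ^ Φ.k) := ⟨by positivity⟩
  have hSM : (Φ.S : Subgroup G) ≤ M := Φ.S_le.trans hC
  have hodd : Odd (Nat.card (Cfsg.oddCore M)) := Nat.coprime_two_right.1 (Fusion.card_pPrimeCore_coprime 2 M)
  haveI : Group.IsSolvable ↥(Cfsg.oddCore M) := Solv.Partition.odd_solvable hodd
  let T : Sylow 2 M := Φ.S.subtype hSM
  set π := QuotientGroup.mk' (Cfsg.oddCore M)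
  let T' := T.mapSurjective (QuotientGroup.mk'_surjective (Cfsg.oddCore M))
  obtain ⟨sq⟩ := sylow_quotient (Cfsg.oddCore M) hodd T
  let eS : (T : Subgroup M) ≃* DihedralGroup (2 ^ Φ.k) := (Subgroup.subgroupOfEquivOfLe hSM).trans Φ.ι.symm
  have hlt : Nat.card M < Nat.card G :=
    lt_of_le_of_ne M.card_le_card_group fun h => hM.1 (Subgroup.card_eq_iff_eq_top M |>.1 h)
  obtain ⟨L, hLn, hmod, hCL⟩ := nonsolvable_model_of (X := M ⧸ Cfsg.oddCore M)
    (fun L _ SL j hj hd => hG.below L SL j (lt_of_le_of_lt (L.card_le_card_group.trans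
      (Nat.card_le_card_of_surjective _ (QuotientGroup.mk'_surjective _))) hlt) hj hd)
    Fusion.pPrimeCore_quotient_eq_bot T' (Nat.one_lt_two_pow (by have := Φ.hk; omega)) (sq.symm.trans eS)
    (fun hs => hns (Group.isSolvable_of_ker_le_range (Cfsg.oddCore M).subtype π
      (by rw [QuotientGroup.ker_mk', Subgroup.range_subtype])))
  haveI := hLn
  refine ⟨L, hLn, hCL, ?_⟩
  have houter := exists_outer hG Φ hk M hM hC L hmod
  rcases hmod with h | ⟨⟨i⟩⟩
  · exact h
  · exfalso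
    have htop := eq_top_of_alt hCL i T' (sq.symm.trans eS)
    exact houter (htop ▸ le_top)

end Cfsg.Agent.GW
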