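import Cfsg.Agent.Lib.GW.ProperStructure
import Cfsg.Agent.Lib.GW.Centralizer
import Cfsg.Agent.Lib.GW.TorusArith

/-!
# Towards the trivial core case of solvability

`dvd_centralizer_of_fixed`: a subgroup centralised by any involution has order dividing `|C(t)|`.
`false_of_tori`: the arithmetic conclusion.
-/

set_option autoImplicit false
set_option linter.style.haveILetI false
set_option linter.unusedSectionVars false

namespace Cfsg.Agent.GW

open Cfsg Cfsg.Agent

universe u

variable {G : Type u} [Group G] [Finite G]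

/-- One class: a subgroup centralising some involution has order dividing `|C(t)|`. -/
theorem dvd_centralizer_of_fixed (hG : Minimal G) (Φ : Frame G) {a : G} (ha : orderOf a = 2) {H : Subgroup G}
    (hH : ∀ h ∈ H, Commute h a) : Nat.card H ∣ Nat.card ↥(Subgroup.centralizer ({Φ.t} : Set G)) := by
  obtain ⟨g, hg⟩ := isConj_iff.1 (hG.oneClass a Φ.t ha Φ.t_order)
  let f : H →* Subgroup.centralizer ({Φ.t} : Set G) :=
    ((MulAut.conj g).toMonoidHom.comp H.subtype).codRestrict _ fun h => Subgroup.mem_centralizer_singleton_iff.2 (by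
      show g * (h : G) * g⁻¹ * Φ.t = Φ.t * (g * (h : G) * g⁻¹)
      rw [← hg]
      exact ((Commute.conj_iff g).2 (hH h h.2)).eq)
  exact Subgroup.card_dvd_of_injective f fun x y h =>
    Subtype.ext ((MulAut.conj g).injective (congrArg Subtype.val h))

/-- If some involution centralises a subgroup of odd order the half of one torus while `|C(t)|` divides twice the other
torus times a divisor of `f`, there is a contradiction. -/
theorem false_of_tori (hG : Minimal G) (Φ : Frame G) {a : G} (ha : orderOf a = 2) {H : Subgroup G}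
    (hH : ∀ h ∈ H, Commute h a) {p f s φ : ℕ} (hp : 3 ≤ p) (hf : 1 ≤ f) (h5 : 5 ≤ p ^ f) (hr : Odd (Nat.card H))
    (hrs : (2 * Nat.card H = p ^ f + 1 ∧ s = p ^ f - 1) ∨ (2 * Nat.card H = p ^ f - 1 ∧ s = p ^ f + 1))
    (hφ : φ ∣ f) (hC : Nat.card ↥(Subgroup.centralizer ({Φ.t} : Set G)) ∣ 2 * s * φ) : False :=
  torus_not_dvd hp hf h5 hr hrs hφ ((dvd_centralizer_of_fixed hG Φ ha hH).trans hC)

end Cfsg.Agent.GW
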