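import Cfsg.Agent.Lib.GW.SolvModel
import Cfsg.Agent.Lib.GW.MaxOuter
import Cfsg.Agent.Lib.GW.OuterTorus
import Cfsg.Agent.Lib.GW.OutIndex
import Cfsg.Agent.Lib.GW.SolvTrivialCore
import Cfsg.Agent.Lib.GW.PslTorus

/-!
# A maximal subgroup over `C(t)` with trivial odd core is solvable
-/

set_option autoImplicit false
set_option linter.style.haveILetI false
set_option linter.unusedSectionVars false

namespace Cfsg.Agent.GW

open Cfsg Cfsg.Agent Cfsg.Agent.GW.Reduced Cfsg.Agent.Small DihedralGroup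

universe u

/-- A normal subgroup of order divisible by four meets a Sylow two-subgroup in order divisible by four. -/
theorem four_dvd_meet {X : Type u} [Group X] [Finite X] (S : Sylow 2 X) (L : Subgroup X) [hL : L.Normal]
    (h4 : 4 ∣ Nat.card L) : 4 ∣ Nat.card ↥((S : Subgroup X) ⊓ L) := by
  haveI : Fact (Nat.Prime 2) := ⟨Nat.prime_two⟩
  obtain ⟨P, hP⟩ := Sylow.exists_subgroup_card_pow_prime 2 (G := L) (n := 2) (by simpa using h4)
  have hP' : IsPGroup 2 (P.map L.subtype) := (IsPGroup.of_card (n := 2) hP).map _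
  obtain ⟨R, hR⟩ := hP'.exists_le_sylow
  obtain ⟨g, rfl⟩ := MulAction.exists_smul_eq X R S
  have hle : (P.map L.subtype).map (MulAut.conj g).toMonoidHom ≤ ((g • R : Sylow 2 X) : Subgroup X) ⊓ L := by
    refine le_inf ?_ ?_
    · rw [Sylow.coe_subgroup_smul]
      exact Subgroup.map_mono hR
    · rintro _ ⟨_, ⟨x, -, rfl⟩, rfl⟩
      exact hL.conj_mem _ x.2 g
  have := Subgroup.card_dvd_of_le hle
  rwa [Subgroup.card_map_of_injective (MulAut.conj g).injective,
    Subgroup.card_map_of_injective L.subtype_injective, hP] at this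

theorem two_ne_zero_of_odd_card {F : Type*} [Field F] [Fintype F] (ho : Odd (Fintype.card F)) : (2 : F) ≠ 0 := by
  obtain ⟨p, hp⟩ := CharP.exists F
  obtain ⟨d, hpp, hd⟩ := FiniteField.card F p
  intro h
  haveI : CharP F 2 := CharTwo.of_one_ne_zero_of_two_eq_zero one_ne_zero h
  have := CharP.eq F hp (inferInstance : CharP F 2)
  rw [hd, this] at ho
  exact Nat.not_even_iff_odd.2 ho (Nat.even_pow.2 ⟨even_two, d.ne_zero⟩)

/-- Fixed points of a nontrivial inner involution: order `q ± 1`. -/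
theorem card_fixed_inner {F : Type} [Field F] [Fintype F] (h2 : (2 : F) ≠ 0) (h5 : 5 ≤ Fintype.card F)
    {g : Matrix.ProjectiveSpecialLinearGroup (Fin 2) F} (hg : g * g = 1) (hne : MulAut.conj g ≠ 1) :
    ∃ k : ℕ, (2 * k = Fintype.card F - 1 ∨ 2 * k = Fintype.card F + 1) ∧
      Nat.card ↥(Subgroup.centralizer ({g} : Set (Matrix.ProjectiveSpecialLinearGroup (Fin 2) F))) = 2 * k := by
  obtain ⟨A, rfl⟩ := PSL2.pr_surjective g
  obtain ⟨D, k, -, hk, ⟨e⟩, hD⟩ := Psl.fix_group h2 h5 (h := Matrix.SpecialLinearGroup.toGL A)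
    (by rwa [PSL2.conjP_toGL]) (by rw [PSL2.conjP_toGL, ← map_mul, hg, map_one])
  refine ⟨k, hk, ?_⟩
  rw [← DihedralGroup.nat_card, ← Nat.card_congr e.toEquiv]
  congr 2
  ext x
  rw [← hD, PSL2.conjP_toGL, MulAut.conj_apply, mul_inv_eq_iff_eq_mul, Subgroup.mem_centralizer_singleton_iff, eq_comm]

theorem solv_trivial_core {G : Type u} [Group G] [Finite G] (hG : Minimal G) (Φ : Frame G) (hk : 2 ≤ Φ.k)
    (M : Subgroup G) (hM : IsCoatom M) (hC : Subgroup.centralizer ({Φ.t} : Set G) ≤ M)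
    (hO : Cfsg.oddCore ↥M = ⊥) : Group.IsSolvable M := by
  classical
  by_contra hns
  haveI : Fact (Nat.Prime 2) := ⟨Nat.prime_two⟩
  haveI : (Cfsg.oddCore ↥M).Normal := Solv.pPrimeCore_normal 2
  haveI : NeZero (2 ^ Φ.k) := ⟨by positivity⟩
  obtain ⟨L, hLn, hCL, F, hF, hFt, hodd, h3, ⟨iL⟩⟩ := exists_psl_model hG Φ hk M hM hC hns
  haveI := hLn
  have hmod : IsModel L := Or.inl ⟨F, hF, hFt, hodd, h3, ⟨iL⟩⟩
  obtain ⟨hsimp, hnab⟩ := hmod.simple
  have h2F : (2 : F) ≠ 0 := two_ne_zero_of_odd_card hodd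
  obtain ⟨j0, hj0⟩ := hodd
  have h5 : 5 ≤ Fintype.card F := by omega
  have hSM : (Φ.S : Subgroup G) ≤ M := Φ.S_le.trans hC
  set π := QuotientGroup.mk' (Cfsg.oddCore M) with hπ
  have hπs : Function.Surjective π := QuotientGroup.mk'_surjective _
  have hπi : Function.Injective π := (MonoidHom.ker_eq_bot_iff π).1 (by rw [hπ, QuotientGroup.ker_mk', hO])
  let T : Sylow 2 M := Φ.S.subtype hSM
  let T' := T.mapSurjective hπs
  let eS : (T : Subgroup M) ≃* DihedralGroup (2 ^ Φ.k) := (Subgroup.subgroupOfEquivOfLe hSM).trans Φ.ι.symm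
  let eT : (T' : Subgroup (M ⧸ Cfsg.oddCore M)) ≃* DihedralGroup (2 ^ Φ.k) :=
    ((T : Subgroup M).equivMapOfInjective π hπi).symm.trans eS
  let ψ : DihedralGroup (2 ^ Φ.k) →* M ⧸ Cfsg.oddCore M := π.comp ((T : Subgroup M).subtype.comp eS.symm.toMonoidHom)
  have hrange : ψ.range = (T' : Subgroup (M ⧸ Cfsg.oddCore M)) := by
    refine le_antisymm ?_ ?_
    · rintro _ ⟨d, rfl⟩
      exact ⟨_, (eS.symm d).2, rfl⟩
    · rintro _ ⟨x, hx, rfl⟩
      exact ⟨eS ⟨x, hx⟩, by simp [ψ, π]⟩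
  -- the order of `L₂(q)`
  have hcardL : Nat.card L * 2 = Fintype.card F * (Fintype.card F ^ 2 - 1) := by
    have h := Classical.Dickson.card_psl F
    rwa [Nat.gcd_eq_left (show 2 ∣ Fintype.card F - 1 by omega), ← Nat.card_congr iL.toEquiv] at h
  have h4L : 4 ∣ Nat.card L := by
    have h8 : 8 ∣ Fintype.card F ^ 2 - 1 := by
      rcases Nat.even_or_odd j0 with ⟨l, hl⟩ | ⟨l, hl⟩
      · exact ⟨l * (2 * l + 1), by rw [hj0, hl]; ring_nf; omega⟩
      · exact ⟨(2 * l + 1) * (l + 1), by rw [hj0, hl]; ring_nf; omega⟩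
    have h : 4 * 2 ∣ Nat.card L * 2 := hcardL ▸ dvd_mul_of_dvd_right h8 _
    exact (Nat.mul_dvd_mul_iff_right two_pos).1 h
  have hmeet := four_dvd_meet T' L h4L
  have hne : L.comap ψ ≠ ⊥ := by
    intro h
    have hb : (T' : Subgroup (M ⧸ Cfsg.oddCore M)) ⊓ L = ⊥ := by
      refine (Subgroup.eq_bot_iff_forall _).2 fun x hx => ?_
      obtain ⟨d, rfl⟩ : x ∈ ψ.range := hrange ▸ hx.1
      rw [show d = 1 from (Subgroup.eq_bot_iff_forall _).1 h d hx.2, map_one]
    rw [hb, Subgroup.card_bot] at hmeet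
    omega
  set t' : M ⧸ Cfsg.oddCore M := π ⟨Φ.t, hSM Φ.t_mem⟩ with ht'
  have hat : t' = ψ (r ((2 ^ Φ.k / 2 : ℕ) : ZMod (2 ^ Φ.k))) := congrArg π (Subtype.ext rfl)
  have htL : t' ∈ L := hat ▸ half_mem_of_normal hk (L.comap ψ) (hLn.comap ψ) hne
  have hT'L : ¬ (T' : Subgroup (M ⧸ Cfsg.oddCore M)) ≤ L := exists_outer hG Φ hk M hM hC L hmod
  obtain ⟨i, hi⟩ : ∃ i, ψ (sr i) ∉ L := by
    by_contra hno
    push Not at hno
    refine hT'L ?_
    rw [← hrange]
    rintro _ ⟨d, rfl⟩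
    rcases d with j | j
    · rw [show (r j : DihedralGroup (2 ^ Φ.k)) = sr 0 * sr j by rw [sr_mul_sr, sub_zero], map_mul]
      exact L.mul_mem (hno 0) (hno j)
    · exact hno j
  set a := ψ (sr i) with ha
  have hau : π ⟨Φ.refl i, hSM (Φ.refl_mem i)⟩ = a := congrArg π (Subtype.ext rfl)
  have haa : a * a = 1 := by rw [ha, ← map_mul, sr_mul_sr, sub_self, ← DihedralGroup.one_def, map_one]
  -- the automorphism induced by the outer involution
  set α : MulAut (Matrix.ProjectiveSpecialLinearGroup (Fin 2) F) := MulAut.congr iL (MulAut.conjNormal a) with hα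
  have happ : ∀ x : L, α (iL x) = iL x → ((x : M ⧸ Cfsg.oddCore M)) * a = a * x := by
    intro x hx
    rw [hα] at hx
    simp only [MulAut.congr, MulEquiv.coe_mk, Equiv.coe_fn_mk, MulEquiv.trans_apply, MulEquiv.symm_apply_apply] at hx
    have h := congrArg Subtype.val (iL.injective hx)
    simp only [MulAut.conjNormal_apply] at h
    exact (mul_inv_eq_iff_eq_mul.1 h).symm
  have hαα : α * α = 1 := by rw [hα, ← map_mul, ← map_mul, haa, map_one, map_one]
  rcases Psl.inndiag_or_four h2F hαα with ⟨h, hh⟩ | ⟨m₁, m₂, hm1, hm2, hn1, hn2, hn12, hcm, hf1, hf2⟩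
  swap
  · -- a centralised four group
    have h1 := happ (iL.symm m₁) (by rwa [MulEquiv.apply_symm_apply])
    have h2 := happ (iL.symm m₂) (by rwa [MulEquiv.apply_symm_apply])
    let f : Matrix.ProjectiveSpecialLinearGroup (Fin 2) F →* M ⧸ Cfsg.oddCore M := L.subtype.comp iL.symm.toMonoidHom
    have hfi : Function.Injective f := L.subtype_injective.comp iL.symm.injective
    have hV := klein_pair (t := f m₁) (u := f m₂) (by rw [← map_mul, hm1, map_one]) (by rw [← map_mul, hm2, map_one])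
      (hcm.map f) (fun h => hn1 (hfi (h.trans (map_one f).symm))) (fun h => hn2 (hfi (h.trans (map_one f).symm)))
      (fun h => hn12 (hfi h).symm)
    obtain ⟨v, hv, hva⟩ := not_klein_centralized T' eT haa hi hV ((Subgroup.closure_le L).2 (by
      rintro x (rfl | rfl)
      · exact (iL.symm m₁).2
      · exact (iL.symm m₂).2))
    have hle : Subgroup.closure ({f m₁, f m₂} : Set (M ⧸ Cfsg.oddCore M)) ≤ Subgroup.centralizer {a} :=
      (Subgroup.closure_le _).2 (by
        rintro x (rfl | rfl)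
        · exact Subgroup.mem_centralizer_singleton_iff.2 h1
        · exact Subgroup.mem_centralizer_singleton_iff.2 h2)
    exact hva (Subgroup.mem_centralizer_singleton_iff.1 (hle hv))
  -- the inner-diagonal case
  have hα1 : α ≠ 1 := by
    intro h1
    refine hi ?_
    have hmem : a ∈ Subgroup.centralizer (L : Set (M ⧸ Cfsg.oddCore M)) := Subgroup.mem_centralizer_iff.2 fun x hx =>
      happ ⟨x, hx⟩ (by rw [h1]; rfl)
    rw [hCL, Subgroup.mem_bot] at hmem
    rw [hmem]
    exact L.one_mem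
  obtain ⟨D, k, hk2, hkq, ⟨e⟩, hD⟩ := Psl.fix_group h2F h5 (hh ▸ hα1) (by rw [← hh, hαα])
  haveI : NeZero k := ⟨by omega⟩
  let f : D →* M ⧸ Cfsg.oddCore M := L.subtype.comp (iL.symm.toMonoidHom.comp D.subtype)
  have hfi : Function.Injective f := L.subtype_injective.comp (iL.symm.injective.comp D.subtype_injective)
  have hfix : ∀ d : D, f d * a = a * f d := fun d => happ (iL.symm d) (by
    rw [MulEquiv.apply_symm_apply, hh]; exact (hD d).2 d.2)
  have hkodd : Odd k := odd_of_dihedral_centralized T' eT haa hi (D := f.range)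
    (by rintro _ ⟨d, rfl⟩; exact (iL.symm (d : Matrix.ProjectiveSpecialLinearGroup (Fin 2) F)).2)
    (by rintro _ ⟨d, rfl⟩; exact hfix d) ((MonoidHom.ofInjective hfi).symm.trans e)
  obtain ⟨g, hg⟩ := hπs (f (e.symm (r 1)))
  have hgo : orderOf (g : G) = k := by
    rw [Subgroup.orderOf_coe, ← orderOf_injective π hπi, hg, orderOf_injective f hfi, MulEquiv.orderOf_eq,
      DihedralGroup.orderOf_r_one]
  have hgc : ∀ x ∈ Subgroup.zpowers (g : G), Commute x (Φ.refl i) := by
    intro x hx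
    obtain ⟨n, rfl⟩ := Subgroup.mem_zpowers_iff.1 hx
    refine Commute.zpow_left ?_ n
    refine congrArg Subtype.val (hπi (show π (g * ⟨Φ.refl i, hSM (Φ.refl_mem i)⟩) =
      π (⟨Φ.refl i, hSM (Φ.refl_mem i)⟩ * g) from ?_))
    rw [map_mul, map_mul, hg, hau, hfix]
  -- the centraliser of `t`
  have htn : t' ≠ 1 := fun h => by
    have h1 := hπi (h.trans (map_one π).symm)
    have h2 := Φ.t_order
    rw [show Φ.t = 1 from congrArg Subtype.val h1, orderOf_one] at h2
    omega
  have htt : t' * t' = 1 := by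
    rw [ht', ← map_mul, show (⟨Φ.t, hSM Φ.t_mem⟩ : M) * ⟨Φ.t, hSM Φ.t_mem⟩ = 1 from Subtype.ext Φ.tt, map_one]
  obtain ⟨kt, hkt, hcard⟩ := card_fixed_inner h2F h5 (g := iL ⟨t', htL⟩)
    (by rw [← map_mul, show (⟨t', htL⟩ : L) * ⟨t', htL⟩ = 1 from Subtype.ext htt, map_one])
    (fun h1 => htn (by
      have hmem : t' ∈ Subgroup.centralizer (L : Set (M ⧸ Cfsg.oddCore M)) := Subgroup.mem_centralizer_iff.2 fun x hx => by
        have := DFunLike.congr_fun h1 (iL ⟨x, hx⟩)
        rw [MulAut.conj_apply, MulAut.one_apply, mul_inv_eq_iff_eq_mul, ← map_mul, ← map_mul] at this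
        exact (congrArg Subtype.val (iL.injective this)).symm
      rwa [hCL, Subgroup.mem_bot] at hmem))
  set Z := Subgroup.centralizer ({t'} : Set (M ⧸ Cfsg.oddCore M)) with hZ
  have hZL : Nat.card ↥(Z ⊓ L) = 2 * kt := by
    rw [← hcard]
    refine Nat.card_congr
      { toFun := fun x => ⟨iL ⟨x.1, x.2.2⟩, Subgroup.mem_centralizer_singleton_iff.2 (by
          rw [← map_mul, ← map_mul]
          exact congrArg iL (Subtype.ext (Subgroup.mem_centralizer_singleton_iff.1 x.2.1)))⟩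
        invFun := fun y => ⟨(iL.symm y.1 : L), Subgroup.mem_centralizer_singleton_iff.2 (by
          have h := congrArg iL.symm (Subgroup.mem_centralizer_singleton_iff.1 y.2)
          simp only [map_mul, MulEquiv.symm_apply_apply] at h
          exact congrArg Subtype.val h), (iL.symm y.1).2⟩
        left_inv := fun x => Subtype.ext (by simp)
        right_inv := fun y => Subtype.ext (by simp) }
  have hkte : Even kt := by
    have hle : (T' : Subgroup (M ⧸ Cfsg.oddCore M)) ⊓ L ≤ Z ⊓ L := fun x hx => by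
      refine ⟨Subgroup.mem_centralizer_singleton_iff.2 ?_, hx.2⟩
      obtain ⟨d, rfl⟩ : x ∈ ψ.range := hrange ▸ hx.1
      rw [hat, ← map_mul, ← map_mul, Fusion.DihedralFours.center_r_half Φ.two_dvd]
    have h := hmeet.trans (Subgroup.card_dvd_of_le hle)
    rw [hZL] at h
    obtain ⟨c, hc⟩ := h
    exact ⟨c, by omega⟩
  -- `|C(t)|` divides `2 kt · 2 f`
  obtain ⟨p, hp⟩ := CharP.exists F
  obtain ⟨n, hpp, hn⟩ := FiniteField.card F p
  haveI := Fact.mk hpp
  have hp3 : 3 ≤ p := by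
    rcases hpp.two_le.eq_or_lt with h | h
    · exfalso
      have : 2 ∣ Fintype.card F := by rw [hn, ← h]; exact dvd_pow_self 2 n.ne_zero
      omega
    · omega
  have hidx : L.index ∣ 2 * (n : ℕ) := index_dvd_out hCL n.pos hn h3 iL
  have hCt : Nat.card ↥(Subgroup.centralizer ({Φ.t} : Set G)) ∣ 2 * (2 * kt) * n := by
    have h1 : Nat.card ↥(Subgroup.centralizer ({Φ.t} : Set G)) ∣ Nat.card Z := by
      refine Subgroup.card_dvd_of_injective ((π.comp (Subgroup.inclusion hC)).codRestrict Z fun x =>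
        Subgroup.mem_centralizer_singleton_iff.2 ?_) fun x y h => Subgroup.inclusion_injective hC (hπi (congrArg Subtype.val h))
      show π (Subgroup.inclusion hC x) * t' = t' * π (Subgroup.inclusion hC x)
      rw [ht', ← map_mul, ← map_mul]
      exact congrArg π (Subtype.ext (Subgroup.mem_centralizer_singleton_iff.1 x.2))
    have h2 : Nat.card Z = Nat.card ↥(Z ⊓ L) * L.relIndex Z := by
      rw [← Subgroup.inf_relIndex_left]
      exact (Subgroup.card_mul_index ((Z ⊓ L).subgroupOf Z) ▸ by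
        rw [Nat.card_congr (Subgroup.subgroupOfEquivOfLe inf_le_left).toEquiv]; rfl)
    refine h1.trans ?_
    rw [h2, hZL, show 2 * (2 * kt) * (n : ℕ) = 2 * kt * (2 * n) by ring]
    exact Nat.mul_dvd_mul_left _ ((Subgroup.relIndex_dvd_index_of_normal L Z).trans hidx)
  refine false_of_tori hG Φ (Φ.refl_order i) hgc hp3 n.pos (hn ▸ h5)
    (by rw [Nat.card_zpowers, hgo]; exact hkodd) (s := 2 * kt) ?_ (φ := n) dvd_rfl hCt
  obtain ⟨c, hc⟩ := hkte
  obtain ⟨d, hd⟩ := hkodd
  rw [Nat.card_zpowers, hgo, ← hn]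
  omega

end Cfsg.Agent.GW
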