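import Cfsg.Agent.Lib.GW.MaxShape

/-!
# The data of an unfused four group without solvability

For `|S| ≥ 8` a conjugation of `t` to the reflection `u` inside a subgroup over `C(t)` already gives a three-cycle on
`⟨t, u⟩`.
-/

set_option autoImplicit false
set_option linter.style.haveILetI false
set_option linter.unusedSectionVars false

namespace Cfsg.Agent.GW

open Cfsg Cfsg.Agent Cfsg.Agent.GW.Reduced DihedralGroup

universe u

variable {G : Type u} [Group G] [Finite G]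

theorem refl_add_half (Φ : Frame G) (i : ZMod (2 ^ Φ.k)) :
    Φ.refl (i + ((2 ^ Φ.k / 2 : ℕ) : ZMod (2 ^ Φ.k))) = Φ.t * Φ.refl i := by
  rw [← Φ.hom_half, ← Φ.hom_sr, ← Φ.hom_sr, ← map_mul, r_mul_sr, sub_eq_add_neg,
    ← eq_neg_of_add_eq_zero_left Φ.half_add]

/-- A rotation exchanges `u` and `t u`. -/
theorem exists_mover (Φ : Frame G) (hk : 2 ≤ Φ.k) (i : ZMod (2 ^ Φ.k)) :
    ∃ a ∈ (Φ.S : Subgroup G), a * Φ.refl i * a⁻¹ = Φ.t * Φ.refl i := by
  obtain ⟨m, hm⟩ : 4 ∣ 2 ^ Φ.k := (show 2 ^ 2 ∣ 2 ^ Φ.k from pow_dvd_pow 2 hk)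
  refine ⟨Φ.hom (r (m : ZMod (2 ^ Φ.k))), Φ.hom_range ▸ ⟨_, rfl⟩, ?_⟩
  rw [← refl_add_half, ← Φ.hom_sr, ← Φ.hom_sr, ← map_inv, ← map_mul, ← map_mul, inv_r, r_mul_sr, sr_mul_r]
  congr 2
  have h : ((2 ^ Φ.k / 2 : ℕ) : ZMod (2 ^ Φ.k)) = (m : ZMod (2 ^ Φ.k)) + m := by
    rw [← Nat.cast_add]; congr 1; omega
  linear_combination h - Φ.half_add

/-- An involution of `C(t)` other than `t` is a reflection up to conjugation there. -/
theorem conj_to_refl (Φ : Frame G) {c : G} (hc : c * c = 1) (hc1 : c ≠ 1) (hct : c ≠ Φ.t) (hcomm : Commute c Φ.t) :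
    ∃ o, Commute o Φ.t ∧ ∃ j, o * c * o⁻¹ = Φ.refl j := by
  haveI : Fact (Nat.Prime 2) := ⟨Nat.prime_two⟩
  haveI : NeZero (2 ^ Φ.k) := ⟨by positivity⟩
  set C := Subgroup.centralizer ({Φ.t} : Set G)
  let c' : C := ⟨c, Subgroup.mem_centralizer_singleton_iff.2 hcomm.eq⟩
  obtain ⟨R, hR⟩ := (IsPGroup.of_card (p := 2) (n := 1) (G := Subgroup.zpowers c') (by
    rw [Nat.card_zpowers, pow_one]
    exact orderOf_eq_prime (by rw [pow_two]; exact Subtype.ext hc) fun h => hc1 (congrArg Subtype.val h))).exists_le_sylow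
  obtain ⟨o, ho⟩ := MulAction.exists_smul_eq C R (Φ.S.subtype Φ.S_le)
  have hmem : o * c' * o⁻¹ ∈ ((Φ.S.subtype Φ.S_le : Sylow 2 C) : Subgroup C) := by
    rw [← ho, Sylow.coe_subgroup_smul]
    exact ⟨c', hR (Subgroup.mem_zpowers c'), rfl⟩
  have hoc : Commute (o : G) Φ.t := Subgroup.mem_centralizer_singleton_iff.1 o.2
  refine ⟨o, hoc, ?_⟩
  have hS : (o : G) * c * (o : G)⁻¹ ∈ Φ.hom.range := Φ.hom_range ▸ hmem
  obtain ⟨d, hd⟩ := hS
  rcases d with j | j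
  · exfalso
    have hd2 : (r j : DihedralGroup (2 ^ Φ.k)) * r j = 1 := Φ.hom_inj (by
      rw [map_mul, hd, map_one]
      calc (o : G) * c * (o : G)⁻¹ * ((o : G) * c * (o : G)⁻¹) = (o : G) * (c * c) * (o : G)⁻¹ := by group
        _ = 1 := by rw [hc, mul_one, mul_inv_cancel])
    rw [r_mul_r, DihedralGroup.one_def] at hd2
    rcases Fusion.zmod_double_eq_zero (DihedralGroup.r.inj hd2) with h | h
    · rw [h, ← DihedralGroup.one_def, map_one] at hd
      exact hc1 (conj_eq_one_iff.1 hd.symm)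
    · rw [h, Φ.hom_half] at hd
      refine hct ?_
      calc c = (o : G)⁻¹ * ((o : G) * c * (o : G)⁻¹) * (o : G) := by group
        _ = Φ.t := by rw [← hd, mul_assoc, ← hoc.eq, inv_mul_cancel_left]
  · exact ⟨j, hd.symm⟩

/-- For `|S| ≥ 8` fusion of `t` to `u` in a subgroup over `C(t)` gives a three-cycle. -/
theorem fused_of_conj (Φ : Frame G) (hk : 2 ≤ Φ.k) {M : Subgroup G} (hC : Subgroup.centralizer ({Φ.t} : Set G) ≤ M)
    (i : ZMod (2 ^ Φ.k)) {g : G} (hg : g ∈ M) (hgt : g * Φ.t * g⁻¹ = Φ.refl i) : Fused Φ.t (Φ.refl i) M := by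
  obtain ⟨a, ha, hau⟩ := exists_mover Φ hk i
  have hat : a * Φ.t * a⁻¹ = Φ.t := by rw [Φ.t_central a ha, mul_inv_cancel_right]
  obtain ⟨c, hc⟩ : ∃ c, c = g⁻¹ * Φ.t * g := ⟨_, rfl⟩
  have hgc : g * c * g⁻¹ = Φ.t := by rw [hc]; group
  have hcc : c * c = 1 := by
    rw [hc, show g⁻¹ * Φ.t * g * (g⁻¹ * Φ.t * g) = g⁻¹ * (Φ.t * Φ.t) * g by group, Φ.tt, mul_one, inv_mul_cancel]
  have hc1 : c ≠ 1 := fun h => Φ.t_ne (by rw [← hgc, h, mul_one, mul_inv_cancel])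
  have hct : c ≠ Φ.t := fun h => Φ.refl_ne i (by rw [← hgt, ← h]; exact hgc.trans h.symm)
  have hcomm : Commute c Φ.t := (Commute.conj_iff g).1 (by rw [hgc, hgt]; exact Φ.commute i)
  obtain ⟨o, ho, j, hoj⟩ := conj_to_refl Φ hcc hc1 hct hcomm
  obtain ⟨a', ha', hau'⟩ := exists_mover Φ hk j
  obtain ⟨b, hb⟩ : ∃ b, b = g * o⁻¹ * a' * o * g⁻¹ := ⟨_, rfl⟩
  have hbM : b ∈ M := hb ▸ M.mul_mem (M.mul_mem (M.mul_mem (M.mul_mem hg
    (M.inv_mem (hC (Subgroup.mem_centralizer_singleton_iff.2 ho.eq)))) (hC (Φ.S_le ha')))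
    (hC (Subgroup.mem_centralizer_singleton_iff.2 ho.eq))) (M.inv_mem hg)
  have hot : o * Φ.t * o⁻¹ = Φ.t := by rw [ho.eq, mul_inv_cancel_right]
  have hot' : o⁻¹ * Φ.t * o = Φ.t := by rw [ho.inv_left.eq, inv_mul_cancel_right]
  have hat' : a' * Φ.t * a'⁻¹ = Φ.t := by rw [Φ.t_central a' ha', mul_inv_cancel_right]
  have hbu : b * Φ.refl i * b⁻¹ = Φ.refl i := by
    rw [hb]
    calc g * o⁻¹ * a' * o * g⁻¹ * Φ.refl i * (g * o⁻¹ * a' * o * g⁻¹)⁻¹
        = g * (o⁻¹ * (a' * (o * (g⁻¹ * Φ.refl i * g) * o⁻¹) * a'⁻¹) * o) * g⁻¹ := by group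
      _ = Φ.refl i := by
        rw [show g⁻¹ * Φ.refl i * g = Φ.t by rw [← hgt]; group, hot, hat', hot', hgt]
  have hbt : b * Φ.t * b⁻¹ = Φ.t * Φ.refl i := by
    rw [hb]
    calc g * o⁻¹ * a' * o * g⁻¹ * Φ.t * (g * o⁻¹ * a' * o * g⁻¹)⁻¹
        = g * (o⁻¹ * (a' * (o * c * o⁻¹) * a'⁻¹) * o) * g⁻¹ := by rw [hc]; group
      _ = g * (Φ.t * c) * g⁻¹ := by
        rw [hoj, hau', ← hoj, show o⁻¹ * (Φ.t * (o * c * o⁻¹)) * o = o⁻¹ * Φ.t * o * c by group, hot']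
      _ = g * Φ.t * g⁻¹ * (g * c * g⁻¹) := by group
      _ = Φ.t * Φ.refl i := by rw [hgt, hgc, (Φ.commute i).eq]
  refine ⟨a * b, M.mul_mem (hC (Φ.S_le ha)) hbM, ?_, ?_⟩
  · rw [show a * b * Φ.t * (a * b)⁻¹ = a * (b * Φ.t * b⁻¹) * a⁻¹ by group, hbt,
      show a * (Φ.t * Φ.refl i) * a⁻¹ = a * Φ.t * a⁻¹ * (a * Φ.refl i * a⁻¹) by group, hat, hau, ← mul_assoc, Φ.tt,
      one_mul]
  · rw [show a * b * Φ.refl i * (a * b)⁻¹ = a * (b * Φ.refl i * b⁻¹) * a⁻¹ by group, hbu, hau]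

theorem unfused_of_not_fused (Φ : Frame G) (hk : 2 ≤ Φ.k) (i : ZMod (2 ^ Φ.k)) (M : Subgroup G)
    (hC : Subgroup.centralizer ({Φ.t} : Set G) ≤ M) (hodd : Odd (Nat.card (Cfsg.fittingSubgroup M)))
    (hnf : ¬ Fused Φ.t (Φ.refl i) M) : Unfused Φ.t (Φ.refl i) M := by
  classical
  haveI : Fact (Nat.Prime 2) := ⟨Nat.prime_two⟩
  haveI : NeZero (2 ^ Φ.k) := ⟨by positivity⟩
  have hSM : (Φ.S : Subgroup G) ≤ M := Φ.S_le.trans hC
  let T : Sylow 2 M := Φ.S.subtype hSM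
  have hns0 : ∀ g ∈ M, g * Φ.t * g⁻¹ ≠ Φ.refl i := fun g hg e => hnf (fused_of_conj Φ hk hC i hg e)
  have hns0' : ∀ g ∈ M, g * Φ.t * g⁻¹ ≠ Φ.t * Φ.refl i := fun g hg e => by
    rw [← refl_add_half] at e
    obtain ⟨h, hh, e1, e2⟩ := fused_of_conj Φ hk hC _ hg e
    rw [refl_add_half] at e1 e2
    rw [show Φ.t * (Φ.t * Φ.refl i) = Φ.refl i by rw [← mul_assoc, Φ.tt, one_mul]] at e2
    have e3 : h * Φ.refl i * h⁻¹ = Φ.t := by
      calc h * Φ.refl i * h⁻¹ = (h * Φ.t * h⁻¹)⁻¹ * (h * (Φ.t * Φ.refl i) * h⁻¹) := by group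
        _ = Φ.t := by
          rw [e1, e2, mul_inv_rev, inv_eq_of_mul_eq_one_right Φ.tt, inv_eq_of_mul_eq_one_right (Φ.uu i),
            (Φ.commute i).symm.eq, mul_assoc, Φ.uu, mul_one]
    refine hnf ⟨h * h, M.mul_mem hh hh, ?_, ?_⟩
    · rw [show h * h * Φ.t * (h * h)⁻¹ = h * (h * Φ.t * h⁻¹) * h⁻¹ by group, e1, e2]
    · rw [show h * h * Φ.refl i * (h * h)⁻¹ = h * (h * Φ.refl i * h⁻¹) * h⁻¹ by group, e3, e1]
  -- involutions centralising a reflection of the four group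
  have syl : ∀ a o : G, a ∈ (Φ.S : Subgroup G) → o ∈ (Φ.S : Subgroup G) → a * a = 1 → a ≠ 1 → a ≠ Φ.t → o = Φ.t * a →
      (∀ g ∈ M, g * Φ.t * g⁻¹ ≠ a) → ∀ z ∈ M, z * z = 1 → Commute z a → z ≠ 1 → z ≠ a →
        ∃ h ∈ M, h * a * h⁻¹ = a ∧ (h * z * h⁻¹ = Φ.t ∨ h * z * h⁻¹ = o) := by
    intro a o ha _ haa ha1 hat ho hnsa z hzM hzz hza hz1 hz2
    have hta : Commute Φ.t a := (Φ.t_central a ha).symm
    haveI : IsKleinFour ↥(Subgroup.closure ({Φ.t, a} : Set G)) :=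
      klein_pair Φ.tt haa hta Φ.t_ne ha1 hat
    set U := Subgroup.closure ({Φ.t, a} : Set G)
    have htU : Φ.t ∈ U := Subgroup.subset_closure (Or.inl rfl)
    have haU : a ∈ U := Subgroup.subset_closure (Or.inr rfl)
    let H : Subgroup G := M ⊓ Subgroup.centralizer ({a} : Set G)
    have haH : ∀ g ∈ H, Commute g a := fun g hg => Subgroup.mem_centralizer_singleton_iff.1 hg.2
    have hUH : U ≤ H := by
      rw [Subgroup.closure_le]
      rintro x (rfl | rfl)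
      · exact ⟨hSM Φ.t_mem, Subgroup.mem_centralizer_singleton_iff.2 hta.eq⟩
      · exact ⟨hSM ha, Subgroup.mem_centralizer_singleton_iff.2 rfl⟩
    obtain ⟨R, hR⟩ := ((IsPGroup.of_card (p := 2) (n := 2) (G := U) (by rw [IsKleinFour.card_four]; norm_num)).comap_of_injective
      H.subtype H.subtype_injective).exists_le_sylow
    obtain ⟨R', hR'⟩ := ((R.isPGroup'.map (Subgroup.inclusion (inf_le_left : H ≤ M)))).exists_le_sylow
    obtain ⟨g, hg⟩ := MulAction.exists_smul_eq M R' T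
    have hgS : ∀ x ∈ (R : Subgroup H), (g : G) * (x : G) * (g : G)⁻¹ ∈ (Φ.S : Subgroup G) := fun x hx => by
      have : g * Subgroup.inclusion (inf_le_left : H ≤ M) x * g⁻¹ ∈ (T : Subgroup M) := by
        rw [← hg, Sylow.coe_subgroup_smul]
        exact ⟨_, hR' ⟨x, hx, rfl⟩, rfl⟩
      exact this
    have haR : (⟨a, hUH haU⟩ : H) ∈ (R : Subgroup H) := hR haU
    obtain ⟨b, hb⟩ : ∃ b, b = (g : G) * a * (g : G)⁻¹ := ⟨_, rfl⟩
    have hbS : b ∈ (Φ.S : Subgroup G) := hb ▸ hgS _ haR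
    have hbt : b ≠ Φ.t := fun h => hnsa ((g⁻¹ : M) : G) (g⁻¹).2 (by rw [← h, hb]; push_cast; group)
    obtain ⟨d, hd⟩ := (Φ.hom_range ▸ hbS : b ∈ Φ.hom.range)
    have hd2 : d * d = 1 := Φ.hom_inj (by rw [map_mul, hd, map_one, hb]; calc
      (g : G) * a * (g : G)⁻¹ * ((g : G) * a * (g : G)⁻¹) = (g : G) * (a * a) * (g : G)⁻¹ := by group
      _ = 1 := by rw [haa, mul_one, mul_inv_cancel])
    obtain ⟨j, rfl⟩ : ∃ j, d = sr j := by
      rcases d with j | j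
      · exfalso
        rw [r_mul_r, DihedralGroup.one_def] at hd2
        rcases Fusion.zmod_double_eq_zero (DihedralGroup.r.inj hd2) with h | h
        · rw [h, ← DihedralGroup.one_def, map_one, hb] at hd
          exact ha1 (conj_eq_one_iff.1 hd.symm)
        · rw [h, Φ.hom_half] at hd
          exact hbt hd.symm
      · exact ⟨j, rfl⟩
    -- so the Sylow subgroup of the centraliser is the four group
    have hcard4 : Nat.card (R : Subgroup H) ≤ 4 := by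
      let W : Finset G := {1, Φ.t, b, Φ.t * b}
      have hW : ∀ x ∈ (R : Subgroup H), (g : G) * (x : G) * (g : G)⁻¹ ∈ W := by
        intro x hx
        have hxb : Commute ((g : G) * (x : G) * (g : G)⁻¹) b := hb ▸ (Commute.conj_iff (g : G)).2 (haH x x.2)
        obtain ⟨e, he⟩ := (Φ.hom_range ▸ hgS x hx : (g : G) * (x : G) * (g : G)⁻¹ ∈ Φ.hom.range)
        rw [← he, ← hd] at hxb
        have heq : e * sr j = sr j * e := Φ.hom_inj (by rw [map_mul, map_mul]; exact hxb.eq)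
        rw [← he]
        rcases e with l | l
        · rw [r_mul_sr, sr_mul_r] at heq
          have h2 : l + l = 0 := by linear_combination -(DihedralGroup.sr.inj heq)
          rcases Fusion.zmod_double_eq_zero h2 with h | h
          · simp [W, h, ← DihedralGroup.one_def]
          · simp [W, h, Φ.hom_half]
        · rw [sr_mul_sr, sr_mul_sr] at heq
          have h2 : (l - j) + (l - j) = 0 := by linear_combination -(DihedralGroup.r.inj heq)
          rcases Fusion.zmod_double_eq_zero h2 with h | h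
          · simp [W, sub_eq_zero.1 h, hd]
          · have e' : (sr l : DihedralGroup (2 ^ Φ.k)) = r ((2 ^ Φ.k / 2 : ℕ) : ZMod (2 ^ Φ.k)) * sr j := by
              rw [r_mul_sr]; congr 1
              linear_combination h + Φ.half_add
            have hl : Φ.hom (sr l) = Φ.t * b := by rw [e', map_mul, hd, Φ.hom_half]
            simp [W, hl]
      let f : ↥(R : Subgroup H) → W := fun x => ⟨_, hW x x.2⟩
      have hf : Function.Injective f := fun x y h => Subtype.ext (Subtype.ext ((MulAut.conj (g : G)).injective (congrArg Subtype.val h)))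
      refine (Nat.card_le_card_of_injective f hf).trans ?_
      rw [Nat.card_eq_finsetCard]
      exact Finset.card_le_four
    have hRU : ∀ x ∈ (R : Subgroup H), (x : G) ∈ U := by
      have heq : U.comap H.subtype = (R : Subgroup H) := Subgroup.eq_of_le_of_card_ge hR (by
        have e4 : Nat.card (U.comap H.subtype : Subgroup H) = 4 :=
          (Nat.card_congr (Subgroup.subgroupOfEquivOfLe hUH).toEquiv).trans IsKleinFour.card_four
        omega)
      exact fun x hx => (heq ▸ hx : x ∈ U.comap H.subtype)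
    let z' : H := ⟨z, hzM, Subgroup.mem_centralizer_singleton_iff.2 hza.eq⟩
    obtain ⟨R₂, hR₂⟩ := (IsPGroup.of_card (p := 2) (n := 1) (G := Subgroup.zpowers z') (by
      rw [Nat.card_zpowers, pow_one]
      exact orderOf_eq_prime (by rw [pow_two]; exact Subtype.ext hzz) fun h => hz1 (congrArg Subtype.val h))).exists_le_sylow
    obtain ⟨h, hh⟩ := MulAction.exists_smul_eq H R₂ R
    have hmem : h * z' * h⁻¹ ∈ (R : Subgroup H) := by
      rw [← hh, Sylow.coe_subgroup_smul]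
      exact ⟨z', hR₂ (Subgroup.mem_zpowers z'), rfl⟩
    have hha : (h : G) * a * (h : G)⁻¹ = a := by rw [(haH h h.2).eq, mul_inv_cancel_right]
    refine ⟨h, h.2.1, hha, ?_⟩
    rcases four_closure htU haU Φ.t_ne ha1 hat.symm (hRU _ hmem) with e | e | e | e
    · exact absurd (conj_eq_one_iff.1 e) hz1
    · exact Or.inl e
    · exact absurd ((MulAut.conj (h : G)).injective (e.trans hha.symm)) hz2
    · exact Or.inr (e.trans ho.symm)
  have htu2 : Φ.t * Φ.refl i * (Φ.t * Φ.refl i) = 1 := by rw [(Φ.commute i).symm.mul_mul_mul_comm, Φ.tt, Φ.uu, one_mul]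
  refine ⟨hodd, hns0, hns0', syl (Φ.refl i) _ (Φ.refl_mem i) (mul_mem Φ.t_mem (Φ.refl_mem i)) (Φ.uu i)
    (Φ.refl_ne_one i) (Φ.refl_ne i) rfl hns0, syl (Φ.t * Φ.refl i) _ (mul_mem Φ.t_mem (Φ.refl_mem i)) (Φ.refl_mem i)
    htu2 (fun h => Φ.refl_ne i (by rw [← one_mul (Φ.refl i), ← Φ.tt, mul_assoc, h, mul_one]))
    (fun h => Φ.refl_ne_one i (mul_eq_left.1 h)) (by rw [← mul_assoc, Φ.tt, one_mul]) hns0'⟩

end Cfsg.Agent.GW
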